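/-
Helper library (helper52): basic facts on fppf sheaves over a scheme and representable morphisms.
-/
import Groth.Prelude.Def_AlgSp4

set_option autoImplicit false
universe u
open CategoryTheory CategoryTheory.Limits AlgebraicGeometry Opposite

namespace Groth.Agent.H52

variable {S : Scheme.{u}}

/-- Morphisms of sheaves are determined by their composites with maps from representables. -/
theorem sp_hom_ext {F G : AlgSp.Sp S} {a b : F ⟶ G}
    (h : ∀ (U : Over S) (x : (AlgSp.yon S).obj U ⟶ F), x ≫ a = x ≫ b) : a = b := by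
  apply ObjectProperty.hom_ext
  ext ⟨U⟩ s
  have := h U ((AlgSp.J S).uliftYonedaEquiv.symm s)
  have h2 := congrArg (AlgSp.J S).uliftYonedaEquiv this
  simpa [GrothendieckTopology.uliftYonedaEquiv_comp] using h2

/-- The functor `yon S` preserves monomorphisms. -/
theorem mono_yon_map {U V : Over S} (g : U ⟶ V) [Mono g] : Mono ((AlgSp.yon S).map g) :=
  inferInstance

/-- A morphism `g` in `Over S` whose underlying morphism of schemes is a mono is a mono. -/
theorem mono_over_of_mono_left {U V : Over S} (g : U ⟶ V) [Mono g.left] : Mono g :=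
  (Over.forget S).mono_of_mono_map ‹_›

/-- A morphism of sheaves representable by monomorphisms of schemes is a monomorphism. -/
theorem mono_of_repWith {F G : AlgSp.Sp S} (f : F ⟶ G) (P : MorphismProperty Scheme.{u})
    (hP : ∀ ⦃X Y : Scheme.{u}⦄ (g : X ⟶ Y), P g → Mono g) (hf : AlgSp.RepWith P f) : Mono f := by
  constructor
  intro T a b hab
  apply sp_hom_ext
  intro U x
  have hrep := hf.rep
  let ξ : (AlgSp.yon S).obj U ⟶ G := x ≫ a ≫ f
  have hmono : Mono (hrep.snd ξ).left := hP _ (hf.property_snd ξ)
  have : Mono (hrep.snd ξ) := mono_over_of_mono_left _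
  have : Mono ((AlgSp.yon S).map (hrep.snd ξ)) := mono_yon_map _
  have sq := hrep.isPullback ξ
  let s₁ := sq.lift (x ≫ a) (𝟙 _) (by simp [ξ])
  let s₂ := sq.lift (x ≫ b) (𝟙 _) (by simp [ξ, hab])
  have h12 : s₁ = s₂ := by
    rw [← cancel_mono ((AlgSp.yon S).map (hrep.snd ξ))]
    simp [s₁, s₂]
  have e₁ : s₁ ≫ hrep.fst ξ = x ≫ a := sq.lift_fst _ _ _
  have e₂ : s₂ ≫ hrep.fst ξ = x ≫ b := sq.lift_fst _ _ _
  rw [← e₁, ← e₂, h12]

/-- Isomorphisms are representable with property `P`, if `P` contains identities. -/
theorem repWith_of_isIso (P : MorphismProperty Scheme.{u}) [P.IsStableUnderBaseChange]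
    [P.IsMultiplicative] {F G : AlgSp.Sp S} (f : F ⟶ G) [IsIso f] : AlgSp.RepWith P f :=
  MorphismProperty.of_isIso (AlgSp.RepWith (S := S) P) f

/-- A morphism representable by closed immersions is separated. -/
theorem isSeparatedMor_of_repWith_mono {F G : AlgSp.Sp S} (f : F ⟶ G) [Mono f] :
    AlgSp.IsSeparatedMor f := by
  have : IsIso (pullback.diagonal f) := (pullback.isIso_diagonal_iff f).mpr inferInstance
  exact repWith_of_isIso _ _

/-- A morphism representable by quasi-compact morphisms is quasi-compact in the sense of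
base change to quasi-compact spaces. -/
theorem isQuasiCompactMor_of_repWith_quasiCompact {F G : AlgSp.Sp S} (f : F ⟶ G)
    (hf : AlgSp.RepWith @QuasiCompact f) : AlgSp.IsQuasiCompactMor f := by
  intro Z Z' _ hZqc g fst snd sq
  obtain ⟨W, p, hpe, hps, hW⟩ := hZqc
  have hsnd : AlgSp.RepWith @QuasiCompact snd :=
    MorphismProperty.of_isPullback sq hf
  have hrep := hsnd.rep
  have sq' := hrep.isPullback p
  have hqc : QuasiCompact (hrep.snd p).left := hsnd.property_snd p
  have : CompactSpace ↥W.left := hW
  refine ⟨hrep.pullback p, hrep.fst p, ?_, ?_, ?_⟩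
  · exact MorphismProperty.of_isPullback sq'.flip hpe
  · exact MorphismProperty.of_isPullback sq'.flip hps
  · exact QuasiCompact.compactSpace_of_compactSpace (hrep.snd p).left

end Groth.Agent.H52
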