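/-
Helper library (helper52): fibre products of algebraic spaces are algebraic spaces.
-/
import Groth.Agent.H52.Basic

set_option autoImplicit false
universe u v w
open CategoryTheory CategoryTheory.Limits AlgebraicGeometry Opposite

namespace Groth.Agent.H52

section Cat

variable {D : Type w} [Category.{v} D]

/-- Two-step computation of a fibre product over an object `P` with a jointly monic pair
`fst : P ⟶ X`, `snd : P ⟶ Z`: first take the fibre product over `X`, then equalize over `Z`. -/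
theorem isPullback_two_step [HasBinaryProducts D] {X Z P T T' A C : D} {fst : P ⟶ X} {snd : P ⟶ Z}
    (hjm : ∀ {W : D} (a b : W ⟶ P), a ≫ fst = b ≫ fst → a ≫ snd = b ≫ snd → a = b)
    (g : T ⟶ P) (g' : T' ⟶ P) {a₁ : A ⟶ T} {a₂ : A ⟶ T'}
    (sqA : IsPullback a₁ a₂ (g ≫ fst) (g' ≫ fst))
    {c₁ : C ⟶ A} {c₂ : C ⟶ Z}
    (sqC : IsPullback c₁ c₂ (prod.lift (a₁ ≫ g ≫ snd) (a₂ ≫ g' ≫ snd)) (Limits.diag Z)) :
    IsPullback (c₁ ≫ a₁) (c₁ ≫ a₂) g g' := by
  have h1 : c₁ ≫ a₁ ≫ g ≫ snd = c₂ := by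
    have := congrArg (· ≫ prod.fst) sqC.w
    simp only [Category.assoc, prod.lift_fst, Limits.diag, Category.comp_id] at this
    exact this
  have h2 : c₁ ≫ a₂ ≫ g' ≫ snd = c₂ := by
    have := congrArg (· ≫ prod.snd) sqC.w
    simp only [Category.assoc, prod.lift_snd, Limits.diag, Category.comp_id] at this
    exact this
  have hw : (c₁ ≫ a₁) ≫ g = (c₁ ≫ a₂) ≫ g' := by
    apply hjm
    · have := sqA.w
      simp only [Category.assoc] at this ⊢
      rw [this]
    · simp only [Category.assoc]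
      rw [h1, h2]
  refine ⟨⟨hw⟩, ⟨PullbackCone.IsLimit.mk _ ?_ ?_ ?_ ?_⟩⟩
  · intro s
    refine sqC.lift (sqA.lift s.fst s.snd ?_) (s.fst ≫ g ≫ snd) ?_
    · have := s.condition
      simp only [← Category.assoc]
      rw [this]
    · have hc := s.condition
      apply Limits.prod.hom_ext
      · simp only [Category.assoc, prod.lift_fst, IsPullback.lift_fst_assoc, Limits.diag,
          Category.comp_id]
      · simp only [Category.assoc, prod.lift_snd, IsPullback.lift_snd_assoc, Limits.diag,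
          Category.comp_id]
        simp only [← Category.assoc]
        rw [hc]
  · intro s
    simp only [IsPullback.lift_fst_assoc, IsPullback.lift_fst]
  · intro s
    simp only [IsPullback.lift_fst_assoc, IsPullback.lift_snd]
  · intro s m hm1 hm2
    apply sqC.hom_ext
    · apply sqA.hom_ext
      · simpa only [Category.assoc, IsPullback.lift_fst] using hm1
      · simpa only [Category.assoc, IsPullback.lift_fst, IsPullback.lift_snd] using hm2
    · rw [IsPullback.lift_snd, ← h1, ← hm1]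
      simp only [Category.assoc]

end Cat

open AlgSp

variable {S : Scheme.{u}}

/-- If all maps from schemes to `X` are representable and the diagonal of `Z` is representable,
then all maps from schemes to a fibre product `X ×_Y Z` are representable. -/
theorem representable_from_yon_of_isPullback {X Y Z P : Sp S} {f : X ⟶ Y} {g : Z ⟶ Y}
    {fst : P ⟶ X} {snd : P ⟶ Z} (sq : IsPullback fst snd f g)
    (hX : ∀ ⦃T : Over S⦄ (a : (yon S).obj T ⟶ X), Representable a)
    (hZ : Representable (Limits.diag Z)) ⦃T : Over S⦄ (a : (yon S).obj T ⟶ P) :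
    Representable a := by
  intro T' a'
  have hA := hX (a ≫ fst)
  have sqA := hA.isPullback (a' ≫ fst)
  have sqC := hZ.isPullback (prod.lift ((yon S).map (hA.snd (a' ≫ fst)) ≫ a' ≫ snd)
      (hA.fst (a' ≫ fst) ≫ a ≫ snd))
  have key := isPullback_two_step (fun {W} u v h1 h2 => sq.hom_ext h1 h2) a' a sqA.flip sqC.flip
  obtain ⟨φ, hφ⟩ := (yon S).map_surjective
    ((yon S).map (hZ.snd (prod.lift ((yon S).map (hA.snd (a' ≫ fst)) ≫ a' ≫ snd)
      (hA.fst (a' ≫ fst) ≫ a ≫ snd))) ≫ (yon S).map (hA.snd (a' ≫ fst)))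
  refine ⟨_, φ, (yon S).map (hZ.snd (prod.lift ((yon S).map (hA.snd (a' ≫ fst)) ≫ a' ≫ snd)
      (hA.fst (a' ≫ fst) ≫ a ≫ snd))) ≫ hA.fst (a' ≫ fst), ?_⟩
  rw [hφ]
  exact key.flip

/-- The fibre product of algebraic spaces has representable diagonal. -/
theorem representable_diag_of_isPullback {X Y Z P : Sp S} {f : X ⟶ Y} {g : Z ⟶ Y}
    {fst : P ⟶ X} {snd : P ⟶ Z} (sq : IsPullback fst snd f g)
    (hX : Representable (Limits.diag X)) (hZ : Representable (Limits.diag Z)) :
    Representable (Limits.diag P) :=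
  Functor.relativelyRepresentable.diag_iff.2
    (representable_from_yon_of_isPullback sq (fun _ a => Functor.relativelyRepresentable.of_diag hX a) hZ)

/-- Charts of `X` and `Z` induce a chart of `X ×_Y Z`, when maps from schemes to `Y` are
representable. -/
theorem exists_chart_of_isPullback {X Y Z P : Sp S} {f : X ⟶ Y} {g : Z ⟶ Y}
    {fst : P ⟶ X} {snd : P ⟶ Z} (sq : IsPullback fst snd f g)
    (hY : ∀ ⦃T : Over S⦄ (a : (yon S).obj T ⟶ Y), Representable a)
    {U W : Over S} (pX : (yon S).obj U ⟶ X) (pZ : (yon S).obj W ⟶ Z) :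
    ∃ (V : Over S) (q : (yon S).obj V ⟶ P) (a : V ⟶ U) (b : V ⟶ W),
      q ≫ fst = (yon S).map a ≫ pX ∧ q ≫ snd = (yon S).map b ≫ pZ ∧
      IsPullback ((yon S).map a) ((yon S).map b) (pX ≫ f) (pZ ≫ g) ∧
      ∀ (Q : MorphismProperty Scheme.{u}) [Q.IsStableUnderBaseChange] [Q.IsStableUnderComposition],
        RepWith Q pX → RepWith Q pZ → RepWith Q q := by
  have hrep := hY (pX ≫ f)
  have sqQ := hrep.isPullback (pZ ≫ g)
  obtain ⟨a, ha⟩ := (yon S).map_surjective (hrep.fst (pZ ≫ g))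
  rw [← ha] at sqQ
  -- the intermediate object `M = P ×_Z h_W`
  have sqM := IsPullback.of_hasPullback snd pZ
  have sqMX : IsPullback (pullback.snd snd pZ) (pullback.fst snd pZ ≫ fst) (pZ ≫ g) f :=
    IsPullback.paste_vert sqM.flip sq.flip
  let l : (yon S).obj (hrep.pullback (pZ ≫ g)) ⟶ pullback snd pZ :=
    sqMX.lift ((yon S).map (hrep.snd (pZ ≫ g))) ((yon S).map a ≫ pX)
      (by rw [Category.assoc]; exact sqQ.w.symm)
  have hl1 : l ≫ pullback.snd snd pZ = (yon S).map (hrep.snd (pZ ≫ g)) := sqMX.lift_fst _ _ _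
  have hl2 : l ≫ pullback.fst snd pZ ≫ fst = (yon S).map a ≫ pX := sqMX.lift_snd _ _ _
  have sqL : IsPullback l ((yon S).map a) (pullback.fst snd pZ ≫ fst) pX := by
    refine IsPullback.of_right (h₁₂ := pullback.snd snd pZ) (h₂₂ := f) (v₁₃ := pZ ≫ g) ?_ hl2 sqMX
    rw [hl1]
    exact sqQ.flip
  refine ⟨hrep.pullback (pZ ≫ g), l ≫ pullback.fst snd pZ, a, hrep.snd (pZ ≫ g), ?_, ?_, sqQ, ?_⟩
  · rw [Category.assoc, hl2]
  · rw [Category.assoc, sqM.w, ← Category.assoc, hl1]
  · intro Q _ _ hQX hQZ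
    have h1 : RepWith Q l := MorphismProperty.of_isPullback sqL.flip hQX
    have h2 : RepWith Q (pullback.fst snd pZ) := MorphismProperty.of_isPullback sqM.flip hQZ
    exact (RepWith (S := S) Q).comp_mem _ _ h1 h2

/-- A fibre product of algebraic spaces (in fppf sheaves) is an algebraic space. -/
theorem isAlgSpace_of_isPullback {X Y Z P : Sp S} {f : X ⟶ Y} {g : Z ⟶ Y}
    {fst : P ⟶ X} {snd : P ⟶ Z} (sq : IsPullback fst snd f g)
    (hX : IsAlgSpace X) (hY : IsAlgSpace Y) (hZ : IsAlgSpace Z) : IsAlgSpace P := by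
  refine ⟨representable_diag_of_isPullback sq hX.diag hZ.diag, ?_⟩
  obtain ⟨U, pX, hXe, hXs⟩ := hX.atlas
  obtain ⟨W, pZ, hZe, hZs⟩ := hZ.atlas
  obtain ⟨V, q, a, b, -, -, -, hq⟩ :=
    exists_chart_of_isPullback sq (fun _ a => hY.representable_from_yon a) pX pZ
  exact ⟨V, q, hq @Etale hXe hZe, hq @Surjective hXs hZs⟩

end Groth.Agent.H52
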