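/-
Helper library (helper52): points of fppf sheaves / algebraic spaces.
-/
import Groth.Agent.H52.Basic

set_option autoImplicit false
universe u
open CategoryTheory CategoryTheory.Limits AlgebraicGeometry Opposite

namespace Groth.Agent.H52

open AlgSp

variable {S : Scheme.{u}}

/-- The field valued point attached to a morphism `h_{Spec K} ⟶ F`. -/
noncomputable def fieldPtOfHom {F : Sp S} {K : Type u} [Field K] (str : Spec (CommRingCat.of K) ⟶ S)
    (a : (yon S).obj (Over.mk str) ⟶ F) : FieldPt F :=
  ⟨K, str, (J S).uliftYonedaEquiv a⟩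

/-- The morphism `h_{Spec K} ⟶ F` attached to a field valued point. -/
noncomputable def fieldPtToHom {F : Sp S} (p : FieldPt F) : (yon S).obj p.pt ⟶ F :=
  (J S).uliftYonedaEquiv.symm p.val

theorem fieldPtOfHom_toHom {F : Sp S} (p : FieldPt F) : fieldPtOfHom p.str (fieldPtToHom p) = p := by
  cases p
  simp only [fieldPtOfHom, fieldPtToHom, Equiv.apply_symm_apply]

theorem fieldPtOfHom_map {F G : Sp S} (f : F ⟶ G) {K : Type u} [Field K]
    (str : Spec (CommRingCat.of K) ⟶ S) (a : (yon S).obj (Over.mk str) ⟶ F) :
    (fieldPtOfHom str a).map f = fieldPtOfHom str (a ≫ f) := by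
  simp only [fieldPtOfHom, FieldPt.map, GrothendieckTopology.uliftYonedaEquiv_comp]
  rfl

theorem points_map_mk_ofHom {F G : Sp S} (f : F ⟶ G) {K : Type u} [Field K]
    (str : Spec (CommRingCat.of K) ⟶ S) (a : (yon S).obj (Over.mk str) ⟶ F) :
    Points.map f (Points.mk (fieldPtOfHom str a)) = Points.mk (fieldPtOfHom str (a ≫ f)) := by
  rw [Points.map_mk, fieldPtOfHom_map]

/-- Restricting a field valued point along a field extension does not change the point. -/
theorem points_mk_comp {F : Sp S} {K L : Type u} [Field K] [Field L]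
    (strK : Spec (CommRingCat.of K) ⟶ S) (strL : Spec (CommRingCat.of L) ⟶ S)
    (e : Over.mk strL ⟶ Over.mk strK) (a : (yon S).obj (Over.mk strK) ⟶ F) :
    Points.mk (fieldPtOfHom strL ((yon S).map e ≫ a)) = Points.mk (fieldPtOfHom strK a) := by
  apply Points.sound
  refine ⟨L, inferInstance, strL, 𝟙 _, e, ?_⟩
  change F.obj.map (𝟙 (Over.mk strL)).op ((J S).uliftYonedaEquiv ((yon S).map e ≫ a)) =
    F.obj.map e.op ((J S).uliftYonedaEquiv a)
  rw [op_id, Functor.map_id_apply]
  exact ((J S).uliftYonedaEquiv_naturality a e).symm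

/-- Two field valued points are related iff they agree after restriction to a common field. -/
theorem fieldPt_rel_iff {F : Sp S} (p q : FieldPt F) :
    FieldPt.Rel p q ↔ ∃ (Ω : Type u) (_ : Field Ω) (w : Spec (CommRingCat.of Ω) ⟶ S)
      (a : Over.mk w ⟶ p.pt) (b : Over.mk w ⟶ q.pt),
      (yon S).map a ≫ fieldPtToHom p = (yon S).map b ≫ fieldPtToHom q := by
  constructor
  · rintro ⟨Ω, _, w, a, b, h⟩
    refine ⟨Ω, inferInstance, w, a, b, ?_⟩
    apply (J S).uliftYonedaEquiv.injective
    simp only [fieldPtToHom]
    rw [← GrothendieckTopology.uliftYonedaEquiv_naturality,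
      ← GrothendieckTopology.uliftYonedaEquiv_naturality]
    simpa using h
  · rintro ⟨Ω, _, w, a, b, h⟩
    refine ⟨Ω, inferInstance, w, a, b, ?_⟩
    have := congrArg (J S).uliftYonedaEquiv h
    simp only [fieldPtToHom] at this
    rw [← GrothendieckTopology.uliftYonedaEquiv_naturality,
      ← GrothendieckTopology.uliftYonedaEquiv_naturality] at this
    simpa using this

theorem fieldPtToHom_map {F G : Sp S} (f : F ⟶ G) (p : FieldPt F) :
    fieldPtToHom (p.map f) = fieldPtToHom p ≫ f := by
  exact ((J S).uliftYonedaEquiv_symm_naturality_right p.pt f p.val).symm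

/-- Points of a fibre product surject onto the fibre product of points. -/
theorem exists_point_of_isPullback {X Y Z P : Sp S} {f : X ⟶ Y} {g : Z ⟶ Y} {fst : P ⟶ X}
    {snd : P ⟶ Z} (sq : IsPullback fst snd f g) (x : Points X) (z : Points Z)
    (h : Points.map f x = Points.map g z) :
    ∃ p : Points P, Points.map fst p = x ∧ Points.map snd p = z := by
  induction x using Points.ind with | h p =>
  induction z using Points.ind with | h q =>
  rw [Points.map_mk, Points.map_mk, Points.mk_eq_mk_iff] at h
  obtain ⟨Ω, _, w, a', b', hab'⟩ := (fieldPt_rel_iff _ _).1 h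
  let a : Over.mk w ⟶ p.pt := a'
  let b : Over.mk w ⟶ q.pt := b'
  have hab : ((yon S).map a ≫ fieldPtToHom p) ≫ f = ((yon S).map b ≫ fieldPtToHom q) ≫ g := by
    rw [Category.assoc, Category.assoc, ← fieldPtToHom_map, ← fieldPtToHom_map]
    exact hab'
  let l : (yon S).obj (Over.mk w) ⟶ P :=
    sq.lift ((yon S).map a ≫ fieldPtToHom p) ((yon S).map b ≫ fieldPtToHom q) hab
  refine ⟨Points.mk (fieldPtOfHom w l), ?_, ?_⟩
  · rw [points_map_mk_ofHom]
    have : l ≫ fst = (yon S).map a ≫ fieldPtToHom p := sq.lift_fst _ _ _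
    rw [this]
    have := points_mk_comp (F := X) p.str w a (fieldPtToHom p)
    rw [fieldPtOfHom_toHom] at this
    exact this
  · rw [points_map_mk_ofHom]
    have : l ≫ snd = (yon S).map b ≫ fieldPtToHom q := sq.lift_snd _ _ _
    rw [this]
    have := points_mk_comp (F := Z) q.str w b (fieldPtToHom q)
    rw [fieldPtOfHom_toHom] at this
    exact this

/-- The tautological point of `h_{Spec K}`. -/
noncomputable def tautPt {K : Type u} [Field K] (str : Spec (CommRingCat.of K) ⟶ S) :
    Points ((yon S).obj (Over.mk str)) :=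
  Points.mk (fieldPtOfHom str (𝟙 _))

theorem points_mk_eq_map_tautPt {F : Sp S} (q : FieldPt F) :
    Points.mk q = Points.map (fieldPtToHom q) (tautPt q.str) := by
  rw [tautPt, points_map_mk_ofHom, Category.id_comp, fieldPtOfHom_toHom]

instance subsingleton_points_spec_field {K : Type u} [Field K] (str : Spec (CommRingCat.of K) ⟶ S) :
    Subsingleton (Points ((yon S).obj (Over.mk str))) :=
  have : Subsingleton ↥(Over.mk str).left :=
    inferInstanceAs (Subsingleton ↥(Spec (CommRingCat.of K)))
  (Points.schemeEquiv (Over.mk str)).symm.subsingleton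

/-- A point of `F` in the image of `ofPt`. -/
theorem points_map_ofScheme {T T' : Over S} (φ : T ⟶ T') (t : ↥T.left) :
    Points.map ((yon S).map φ) (Points.ofScheme T t) = Points.ofScheme T' (φ.left t) :=
  Points.map_yon_map_apply φ t

/-- A representable surjective morphism is surjective on points. -/
theorem surjective_points_of_repWith_surjective {F G : Sp S} (f : F ⟶ G)
    (hf : RepWith @Surjective f) : Function.Surjective (Points.map f) := by
  intro y
  induction y using Points.ind with | h q =>
  have hrep := hf.rep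
  let b := fieldPtToHom q
  have hsurj : Surjective (hrep.snd b).left := hf.property_snd b
  obtain ⟨v, hv⟩ := hsurj.surj (IsLocalRing.closedPoint q.K)
  refine ⟨Points.ofPt (hrep.fst b) v, ?_⟩
  rw [Points.map_ofPt, hrep.w b, ← Points.map_ofPt, Points.ofPt_eq_map_ofScheme, points_map_ofScheme,
    points_mk_eq_map_tautPt]
  congr 1
  exact Subsingleton.elim _ _

/-- A representable morphism which is surjective on points is representable-surjective. -/
theorem repWith_surjective_of_surjective_points {F G : Sp S} (f : F ⟶ G)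
    (hf : Representable f) (h : Function.Surjective (Points.map f)) : RepWith @Surjective f := by
  refine ⟨hf, fun U V g fst snd sq => ⟨fun (t : ↥U.left) => ?_⟩⟩
  change ∃ a : ↥V.left, snd.left a = t
  obtain ⟨x, hx⟩ := h (Points.ofPt g t)
  rw [Points.ofPt_eq_map_ofScheme] at hx
  obtain ⟨p, -, hp⟩ := exists_point_of_isPullback sq x (Points.ofScheme U t) hx
  obtain ⟨v, rfl⟩ := (Points.schemeEquiv V).surjective p
  refine ⟨v, ?_⟩
  apply (Points.schemeEquiv U).injective
  exact (points_map_ofScheme snd v).symm.trans hp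

end Groth.Agent.H52
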