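/-
Helper library (helper52): quasi-compactness for sheaves / algebraic spaces.
-/
import Groth.Agent.H52.Points

set_option autoImplicit false
universe u
open CategoryTheory CategoryTheory.Limits AlgebraicGeometry Opposite

namespace Groth.Agent.H52

open AlgSp

variable {S : Scheme.{u}}

/-- A representable sheaf `h_T` with `T` quasi-compact is a quasi-compact sheaf. -/
theorem isQuasiCompactSp_yon (T : Over S) [CompactSpace ↥T.left] :
    IsQuasiCompactSp ((yon S).obj T) :=
  ⟨T, 𝟙 _, repWith_id (@Etale : MorphismProperty Scheme.{u}) T,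
    repWith_id (@Surjective : MorphismProperty Scheme.{u}) T, inferInstance⟩

/-- If `h_T` is a quasi-compact sheaf then `T` is quasi-compact. -/
theorem compactSpace_of_isQuasiCompactSp_yon (T : Over S) (h : IsQuasiCompactSp ((yon S).obj T)) :
    CompactSpace ↥T.left := by
  obtain ⟨W, p, -, hps, hW⟩ := h
  obtain ⟨φ, rfl⟩ := (yon S).map_surjective p
  have hsurj : Surjective φ.left := (repWith_yon_map_iff _ _).1 hps
  have : CompactSpace ↥W.left := hW
  constructor
  rw [← hsurj.surj.range_eq]
  exact isCompact_range φ.left.continuous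

/-- Points of a pullback of representables: if `h_V' = h_V ×_{h_T} h_T'` then `V'` surjects onto
the fibre product of the underlying sets. -/
theorem exists_preimage_of_isPullback_yon {V T T' V' : Over S} {snd : V ⟶ T} {ι : T' ⟶ T}
    {ψ : V' ⟶ V} {snd' : V' ⟶ T'}
    (sq : IsPullback ((yon S).map ψ) ((yon S).map snd') ((yon S).map snd) ((yon S).map ι))
    (v : ↥V.left) (t' : ↥T'.left) (h : snd.left v = ι.left t') :
    ∃ v' : ↥V'.left, ψ.left v' = v ∧ snd'.left v' = t' := by
  obtain ⟨p, hp1, hp2⟩ := exists_point_of_isPullback sq (Points.ofScheme V v) (Points.ofScheme T' t')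
    (by rw [points_map_ofScheme, points_map_ofScheme, h])
  obtain ⟨v', rfl⟩ := (Points.schemeEquiv V').surjective p
  refine ⟨v', ?_, ?_⟩
  · apply (Points.schemeEquiv V).injective
    exact (points_map_ofScheme ψ v').symm.trans hp1
  · apply (Points.schemeEquiv T').injective
    exact (points_map_ofScheme snd' v').symm.trans hp2

/-- A representable morphism which is quasi-compact in the sense of base change to quasi-compact
spaces is representable-quasi-compact. -/
theorem repWith_quasiCompact_of_isQuasiCompactMor {F G : Sp S} (f : F ⟶ G)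
    (hf : Representable f) (h : IsQuasiCompactMor f) : RepWith @QuasiCompact f := by
  refine ⟨hf, fun T V g fst snd sq => ?_⟩
  change QuasiCompact snd.left
  rw [quasiCompact_iff_forall_isAffineOpen]
  intro U hU
  let Ti : Over S := Over.mk (U.ι ≫ T.hom)
  let ι : Ti ⟶ T := Over.homMk U.ι rfl
  have sqi := hf.isPullback ((yon S).map ι ≫ g)
  have : CompactSpace ↥Ti.left := by
    change CompactSpace ↥(U : Scheme)
    exact isCompact_iff_compactSpace.mp hU.isCompact
  have hVi : IsQuasiCompactSp ((yon S).obj (hf.pullback ((yon S).map ι ≫ g))) :=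
    h (IsAlgSpace.yon_obj Ti) (isQuasiCompactSp_yon Ti) _ _ _ sqi
  have hc : CompactSpace ↥(hf.pullback ((yon S).map ι ≫ g)).left :=
    compactSpace_of_isQuasiCompactSp_yon _ hVi
  -- the comparison map
  let l : (yon S).obj (hf.pullback ((yon S).map ι ≫ g)) ⟶ (yon S).obj V :=
    sq.lift (hf.fst ((yon S).map ι ≫ g)) ((yon S).map (hf.snd ((yon S).map ι ≫ g)) ≫ (yon S).map ι)
      (by rw [Category.assoc]; exact sqi.w)
  obtain ⟨ψ, hψ⟩ := (yon S).map_surjective l
  have hl1 : (yon S).map ψ ≫ fst = hf.fst ((yon S).map ι ≫ g) := by rw [hψ]; exact sq.lift_fst _ _ _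
  have hl2 : (yon S).map ψ ≫ (yon S).map snd =
      (yon S).map (hf.snd ((yon S).map ι ≫ g)) ≫ (yon S).map ι := by
    rw [hψ]; exact sq.lift_snd _ _ _
  have sq' : IsPullback ((yon S).map ψ) ((yon S).map (hf.snd ((yon S).map ι ≫ g)))
      ((yon S).map snd) ((yon S).map ι) := by
    apply IsPullback.of_right (t := sq) _ hl2
    rw [hl1]
    exact sqi
  have hcomm : ψ ≫ snd = hf.snd ((yon S).map ι ≫ g) ≫ ι :=
    (yon S).map_injective (by simpa using hl2)
  have hrange : (snd.left ⁻¹ᵁ U : Set ↥V.left) = Set.range ψ.left := by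
    ext v
    constructor
    · intro hv
      obtain ⟨v', hv', -⟩ := exists_preimage_of_isPullback_yon sq' v ⟨snd.left v, hv⟩ rfl
      exact ⟨v', hv'⟩
    · rintro ⟨v', rfl⟩
      have := congrArg (fun φ => φ.left v') hcomm
      simp only [Over.comp_left, Scheme.Hom.comp_apply] at this
      change snd.left (ψ.left v') ∈ U
      rw [this]
      exact ((hf.snd ((yon S).map ι ≫ g)).left v').2
  rw [hrange]
  exact isCompact_range ψ.left.continuous

/-- The open subscheme `V'` of `V`, as a scheme over `S`. -/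
noncomputable abbrev overOpen (V : Over S) (V' : V.left.Opens) : Over S := Over.mk (V'.ι ≫ V.hom)

/-- The inclusion `V' ⟶ V` over `S`. -/
noncomputable abbrev overOpenι (V : Over S) (V' : V.left.Opens) : overOpen V V' ⟶ V :=
  Over.homMk V'.ι rfl

theorem repWith_etale_overOpenι (V : Over S) (V' : V.left.Opens) :
    RepWith @Etale ((yon S).map (overOpenι V V')) := by
  rw [repWith_yon_map_iff]
  change Etale V'.ι
  infer_instance

theorem isQuasiCompactSp_of_surjective_aux {X Y : Sp S} (f : X ⟶ Y)
    (hf : Function.Surjective (Points.map f)) {U V W : Over S} (p : (yon S).obj U ⟶ X)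
    (hps : RepWith @Surjective p) (q : (yon S).obj V ⟶ Y) (hqe : RepWith @Etale q)
    (φ : W ⟶ V) (π : W ⟶ U) (sq : IsPullback ((yon S).map φ) ((yon S).map π) q (p ≫ f))
    (hπe : Etale π.left) (hπs : Surjective π.left) [CompactSpace ↥U.left] :
    IsQuasiCompactSp Y := by
  have hopen : IsOpenMap π.left := π.left.isOpenMap
  -- choose preimages and affine neighbourhoods
  choose w hw using fun u : ↥U.left => hπs.surj u
  have : ∀ u : ↥U.left, ∃ O : V.left.Opens, IsAffineOpen O ∧ φ.left (w u) ∈ O := fun u => by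
    obtain ⟨O, hO, hmem, -⟩ := exists_isAffineOpen_mem_and_subset (x := φ.left (w u)) (U := ⊤) trivial
    exact ⟨O, hO, hmem⟩
  choose O hOaff hOmem using this
  obtain ⟨t, ht⟩ := isCompact_univ.elim_finite_subcover
    (fun u : ↥U.left => π.left '' (φ.left ⁻¹' (O u : Set ↥V.left)))
    (fun u => hopen _ ((O u).isOpen.preimage φ.left.continuous))
    (fun u _ => Set.mem_iUnion.2 ⟨u, w u, hOmem u, hw u⟩)
  let V' : V.left.Opens := ⨆ u ∈ t, O u
  have hV'c : CompactSpace ↥(overOpen V V').left := by
    change CompactSpace ↥(V' : Scheme)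
    apply isCompact_iff_compactSpace.mp
    simp only [V', TopologicalSpace.Opens.iSup_mk, TopologicalSpace.Opens.carrier_eq_coe,
      TopologicalSpace.Opens.coe_mk]
    exact t.finite_toSet.isCompact_biUnion fun u _ => (hOaff u).isCompact
  have hq'e : RepWith @Etale ((yon S).map (overOpenι V V') ≫ q) :=
    (RepWith (S := S) @Etale).comp_mem _ _ (repWith_etale_overOpenι V V') hqe
  refine ⟨overOpen V V', (yon S).map (overOpenι V V') ≫ q, hq'e, ?_, hV'c⟩
  apply repWith_surjective_of_surjective_points _ hq'e.rep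
  intro y
  obtain ⟨x, rfl⟩ := hf y
  obtain ⟨u', rfl⟩ := surjective_points_of_repWith_surjective p hps x
  obtain ⟨u, rfl⟩ := (Points.schemeEquiv U).surjective u'
  obtain ⟨u0, hu0, w0, hw0O, hw0⟩ : ∃ u0 ∈ t, ∃ w0 : ↥W.left, φ.left w0 ∈ O u0 ∧ π.left w0 = u := by
    have := ht (Set.mem_univ u)
    simp only [Set.mem_iUnion, exists_prop] at this
    exact this
  have hv : φ.left w0 ∈ V' := by
    simp only [V', TopologicalSpace.Opens.mem_iSup]
    exact ⟨u0, hu0, hw0O⟩
  refine ⟨Points.ofScheme (overOpen V V') ⟨φ.left w0, hv⟩, ?_⟩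
  change _ = Points.map f (Points.map p (Points.ofScheme U u))
  rw [Points.map_comp, points_map_ofScheme]
  have e1 : (overOpenι V V').left ⟨φ.left w0, hv⟩ = φ.left w0 := rfl
  rw [e1, ← points_map_ofScheme φ w0, ← Points.map_comp, sq.w, Points.map_comp, Points.map_comp,
    points_map_ofScheme, hw0]

/-- The image of a quasi-compact sheaf under a map which is surjective on points, with target an
algebraic space, is quasi-compact. -/
theorem isQuasiCompactSp_of_surjective {X Y : Sp S} (hY : IsAlgSpace Y) (f : X ⟶ Y)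
    (hf : Function.Surjective (Points.map f)) (hX : IsQuasiCompactSp X) : IsQuasiCompactSp Y := by
  obtain ⟨U, p, hpe, hps, hU⟩ := hX
  obtain ⟨V, q, hqe, hqs⟩ := hY.atlas
  have : CompactSpace ↥U.left := hU
  have hrep := hqe.rep
  have sq := hrep.isPullback (p ≫ f)
  have hπe : Etale (hrep.snd (p ≫ f)).left := hqe.property_snd (p ≫ f)
  have hπs : Surjective (hrep.snd (p ≫ f)).left := hqs.property_snd (p ≫ f)
  obtain ⟨φ, hφ⟩ := (yon S).map_surjective (hrep.fst (p ≫ f))
  rw [← hφ] at sq
  exact isQuasiCompactSp_of_surjective_aux f hf p hps q hqe φ _ sq hπe hπs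

end Groth.Agent.H52
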