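/-
Helper library (helper52): quasi-compact morphisms of algebraic spaces, part 2.
-/
import Groth.Agent.H52.QC
import Groth.Agent.H52.FibreProd

set_option autoImplicit false
universe u
open CategoryTheory CategoryTheory.Limits AlgebraicGeometry Opposite

namespace Groth.Agent.H52

open AlgSp

variable {S : Scheme.{u}}

/-- Surjectivity on points is stable under base change. -/
theorem surjective_points_of_isPullback {X Y Y' P : Sp S} {f : X ⟶ Y} {g : Y' ⟶ Y}
    {fst : P ⟶ X} {snd : P ⟶ Y'} (sq : IsPullback fst snd f g)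
    (hf : Function.Surjective (Points.map f)) : Function.Surjective (Points.map snd) := by
  intro z
  obtain ⟨x, hx⟩ := hf (Points.map g z)
  obtain ⟨p, -, hp⟩ := exists_point_of_isPullback sq x z hx
  exact ⟨p, hp⟩

/-- In a commutative triangle with `f : X ⟶ Y` surjective, if `X ⟶ Z` is quasi-compact then so is
`Y ⟶ Z`. -/
theorem isQuasiCompactMor_of_surjective_triangle {X Y Z : Sp S} (hY : IsAlgSpace Y)
    (hZ : IsAlgSpace Z) (f : X ⟶ Y) (q : Y ⟶ Z) (hf : Function.Surjective (Points.map f))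
    (hp : IsQuasiCompactMor (f ≫ q)) : IsQuasiCompactMor q := by
  intro Z' P hZ' hZ'qc g fst snd sq
  have hPX : IsQuasiCompactSp (pullback (f ≫ q) g) :=
    hp hZ' hZ'qc g _ _ (IsPullback.of_hasPullback (f ≫ q) g)
  let l : pullback (f ≫ q) g ⟶ P :=
    sq.lift (pullback.fst (f ≫ q) g ≫ f) (pullback.snd (f ≫ q) g)
      (by rw [Category.assoc]; exact pullback.condition)
  have hl1 : l ≫ fst = pullback.fst (f ≫ q) g ≫ f := sq.lift_fst _ _ _
  have hl2 : l ≫ snd = pullback.snd (f ≫ q) g := sq.lift_snd _ _ _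
  have sqL : IsPullback (pullback.fst (f ≫ q) g) l f fst := by
    refine IsPullback.of_bot (v₂₁ := snd) (v₂₂ := q) (h₃₁ := g) ?_ hl1.symm sq
    rw [hl2]
    exact IsPullback.of_hasPullback (f ≫ q) g
  have hP : IsAlgSpace P := isAlgSpace_of_isPullback sq hY hZ hZ'
  exact isQuasiCompactSp_of_surjective hP l (surjective_points_of_isPullback sqL hf) hPX

/-- An algebraic space which is covered (on points) by finitely many quasi-compact schemes is
quasi-compact. -/
theorem isQuasiCompactSp_of_finite_family {Y : Sp S} (hY : IsAlgSpace Y) {ι : Type*} [Finite ι]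
    (U : ι → Over S) [∀ i, CompactSpace ↥(U i).left] (a : ∀ i, (yon S).obj (U i) ⟶ Y)
    (hsurj : ∀ y : Points Y, ∃ (i : ι) (u : ↥(U i).left), Points.ofPt (a i) u = y) :
    IsQuasiCompactSp Y := by
  obtain ⟨V, q, hqe, hqs⟩ := hY.atlas
  have hrep := hqe.rep
  have sq := fun i => hrep.isPullback (a i)
  have hπe : ∀ i, Etale (hrep.snd (a i)).left := fun i => hqe.property_snd (a i)
  have hπs : ∀ i, Surjective (hrep.snd (a i)).left := fun i => hqs.property_snd (a i)
  choose φ hφ using fun i => (yon S).map_surjective (hrep.fst (a i))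
  have hopen : ∀ i, IsOpenMap (hrep.snd (a i)).left := fun i => (hrep.snd (a i)).left.isOpenMap
  choose w hw using fun (i : ι) (u : ↥(U i).left) => (hπs i).surj u
  have : ∀ (i : ι) (u : ↥(U i).left), ∃ O : V.left.Opens, IsAffineOpen O ∧ (φ i).left (w i u) ∈ O :=
    fun i u => by
      obtain ⟨O, hO, hmem, -⟩ :=
        exists_isAffineOpen_mem_and_subset (x := (φ i).left (w i u)) (U := ⊤) trivial
      exact ⟨O, hO, hmem⟩
  choose O hOaff hOmem using this
  have : ∀ i : ι, ∃ t : Finset ↥(U i).left, Set.univ ⊆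
      ⋃ u ∈ t, (hrep.snd (a i)).left '' ((φ i).left ⁻¹' (O i u : Set ↥V.left)) := fun i =>
    isCompact_univ.elim_finite_subcover
      (fun u : ↥(U i).left => (hrep.snd (a i)).left '' ((φ i).left ⁻¹' (O i u : Set ↥V.left)))
      (fun u => hopen i _ ((O i u).isOpen.preimage (φ i).left.continuous))
      (fun u _ => Set.mem_iUnion.2 ⟨u, w i u, hOmem i u, hw i u⟩)
  choose t ht using this
  let V' : V.left.Opens := ⨆ i, ⨆ u ∈ t i, O i u
  have hV'c : CompactSpace ↥(overOpen V V').left := by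
    change CompactSpace ↥(V' : Scheme)
    apply isCompact_iff_compactSpace.mp
    simp only [V', TopologicalSpace.Opens.iSup_mk, TopologicalSpace.Opens.carrier_eq_coe,
      TopologicalSpace.Opens.coe_mk]
    exact isCompact_iUnion fun i => (t i).finite_toSet.isCompact_biUnion fun u _ => (hOaff i u).isCompact
  have hq'e : RepWith @Etale ((yon S).map (overOpenι V V') ≫ q) :=
    (RepWith (S := S) @Etale).comp_mem _ _ (repWith_etale_overOpenι V V') hqe
  refine ⟨overOpen V V', (yon S).map (overOpenι V V') ≫ q, hq'e, ?_, hV'c⟩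
  apply repWith_surjective_of_surjective_points _ hq'e.rep
  intro y
  obtain ⟨i, u, rfl⟩ := hsurj y
  obtain ⟨u0, hu0, w0, hw0O, hw0⟩ : ∃ u0 ∈ t i, ∃ w0 : ↥(hrep.pullback (a i)).left,
      (φ i).left w0 ∈ O i u0 ∧ (hrep.snd (a i)).left w0 = u := by
    have := ht i (Set.mem_univ u)
    simp only [Set.mem_iUnion, exists_prop] at this
    exact this
  have hv : (φ i).left w0 ∈ V' := by
    simp only [V', TopologicalSpace.Opens.mem_iSup]
    exact ⟨i, u0, hu0, hw0O⟩
  refine ⟨Points.ofScheme (overOpen V V') ⟨(φ i).left w0, hv⟩, ?_⟩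
  rw [Points.map_comp, points_map_ofScheme]
  have e1 : (overOpenι V V').left ⟨(φ i).left w0, hv⟩ = (φ i).left w0 := rfl
  have sqi := sq i
  rw [← hφ i] at sqi
  rw [e1, ← points_map_ofScheme (φ i) w0, ← Points.map_comp, sqi.w, Points.map_comp,
    points_map_ofScheme, hw0, Points.ofPt_eq_map_ofScheme]

/-- A morphism of algebraic spaces is quasi-compact as soon as its base changes to affine
schemes are quasi-compact. -/
theorem isQuasiCompactMor_of_affine {X Y : Sp S} (hX : IsAlgSpace X) (hY : IsAlgSpace Y) (f : X ⟶ Y)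
    (h : ∀ (Z : Over S), IsAffine Z.left → ∀ (g : (yon S).obj Z ⟶ Y) (P : Sp S)
      (fst : P ⟶ X) (snd : P ⟶ (yon S).obj Z), IsPullback fst snd f g → IsQuasiCompactSp P) :
    IsQuasiCompactMor f := by
  intro Z' P' hZ' hZ'qc g fst snd sq
  obtain ⟨W, p, hpe, hps, hW⟩ := hZ'qc
  have : CompactSpace ↥W.left := hW
  obtain ⟨s, hs, hcov⟩ := (isCompact_iff_finite_and_eq_biUnion_affineOpens (U := (⊤ : W.left.Opens))).mp
    isCompact_univ
  have : Finite s := hs.to_subtype
  -- the affine pieces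
  let a : ∀ i : s, (yon S).obj (overOpen W i.1.1) ⟶ Z' := fun i =>
    (yon S).map (overOpenι W i.1.1) ≫ p
  have haff : ∀ i : s, IsAffine (overOpen W i.1.1).left := fun i => i.1.2
  have hqc : ∀ i : s, IsQuasiCompactSp (pullback f (a i ≫ g)) := fun i =>
    h _ (haff i) (a i ≫ g) _ _ _ (IsPullback.of_hasPullback f (a i ≫ g))
  choose U b hbe hbs hUc using hqc
  let l : ∀ i : s, pullback f (a i ≫ g) ⟶ P' := fun i =>
    sq.lift (pullback.fst f (a i ≫ g)) (pullback.snd f (a i ≫ g) ≫ a i)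
      (pullback.condition.trans (Category.assoc _ _ _).symm)
  have hl1 : ∀ i, l i ≫ fst = pullback.fst f (a i ≫ g) := fun i => sq.lift_fst _ _ _
  have hl2 : ∀ i, l i ≫ snd = pullback.snd f (a i ≫ g) ≫ a i := fun i => sq.lift_snd _ _ _
  have sqL : ∀ i, IsPullback (l i) (pullback.snd f (a i ≫ g)) snd (a i) := fun i => by
    refine IsPullback.of_right (h₁₂ := fst) (h₂₂ := g) (v₁₃ := f) ?_ (hl2 i) sq
    rw [hl1]
    exact IsPullback.of_hasPullback f (a i ≫ g)
  have hP' : IsAlgSpace P' := isAlgSpace_of_isPullback sq hX hY hZ'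
  have : ∀ i : s, CompactSpace ↥(U i).left := hUc
  refine isQuasiCompactSp_of_finite_family hP' U (fun i => b i ≫ l i) ?_
  intro y
  obtain ⟨w', hw'⟩ := surjective_points_of_repWith_surjective p hps (Points.map snd y)
  obtain ⟨w, rfl⟩ := (Points.schemeEquiv W).surjective w'
  have hwmem : w ∈ (⊤ : W.left.Opens) := trivial
  rw [hcov] at hwmem
  simp only [TopologicalSpace.Opens.mem_iSup] at hwmem
  obtain ⟨i, hi, hwi⟩ := hwmem
  obtain ⟨pt, -, hpt1⟩ := exists_point_of_isPullback (sqL ⟨i, hi⟩).flip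
    (Points.ofScheme (overOpen W i.1) ⟨w, hwi⟩) y (by
      change Points.map ((yon S).map (overOpenι W i.1) ≫ p) _ = _
      rw [Points.map_comp, points_map_ofScheme]
      exact hw')
  obtain ⟨u', hu'⟩ := surjective_points_of_repWith_surjective (b ⟨i, hi⟩) (hbs ⟨i, hi⟩) pt
  obtain ⟨u, rfl⟩ := (Points.schemeEquiv (U ⟨i, hi⟩)).surjective u'
  refine ⟨⟨i, hi⟩, u, ?_⟩
  rw [Points.ofPt_eq_map_ofScheme, Points.map_comp]
  change Points.map (l ⟨i, hi⟩) (Points.map (b ⟨i, hi⟩) (Points.ofScheme _ u)) = y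
  have hu'' : Points.map (b ⟨i, hi⟩) (Points.ofScheme _ u) = pt := hu'
  rw [hu'']
  exact hpt1

end Groth.Agent.H52
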