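/-
Helper library (helper52): quasi-compact morphisms of algebraic spaces, part 3 (descent).
-/
import Groth.Agent.H52.QC2

set_option autoImplicit false
universe u
open CategoryTheory CategoryTheory.Limits AlgebraicGeometry Opposite

namespace Groth.Agent.H52

open AlgSp

variable {S : Scheme.{u}}

/-- An open surjective map onto a quasi-compact scheme is already surjective on a finite union
of affine opens. -/
theorem exists_finite_affineOpens_of_isOpenMap_surjective {T Z : Scheme.{u}} (π : T ⟶ Z)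
    (hopen : IsOpenMap π) (hsurj : Function.Surjective π) [CompactSpace ↥Z] :
    ∃ s : Finset T.Opens, (∀ O ∈ s, IsAffineOpen O) ∧ ∀ z : ↥Z, ∃ O ∈ s, ∃ t : ↥T, t ∈ O ∧ π t = z := by
  classical
  choose w hw using hsurj
  have : ∀ z : ↥Z, ∃ O : T.Opens, IsAffineOpen O ∧ w z ∈ O := fun z => by
    obtain ⟨O, hO, hmem, -⟩ := exists_isAffineOpen_mem_and_subset (x := w z) (U := ⊤) trivial
    exact ⟨O, hO, hmem⟩
  choose O hOaff hOmem using this
  obtain ⟨t, ht⟩ := isCompact_univ.elim_finite_subcover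
    (fun z : ↥Z => π '' (O z : Set ↥T)) (fun z => hopen _ (O z).isOpen)
    (fun z _ => Set.mem_iUnion.2 ⟨z, w z, hOmem z, hw z⟩)
  refine ⟨t.image O, ?_, ?_⟩
  · intro O' hO'
    obtain ⟨z, -, rfl⟩ := Finset.mem_image.1 hO'
    exact hOaff z
  · intro z
    have := ht (Set.mem_univ z)
    simp only [Set.mem_iUnion, exists_prop] at this
    obtain ⟨z0, hz0, t0, ht0, ht0z⟩ := this
    exact ⟨O z0, Finset.mem_image.2 ⟨z0, hz0, rfl⟩, t0, ht0, ht0z⟩

/-- Descent of quasi-compactness of a space along a finite family of maps from the base. Let `P`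
be an algebraic space over a sheaf `B`, and `(c_j : h_{T_j} ⟶ B)` a finite family of maps from
quasi-compact... -/
theorem isQuasiCompactSp_of_finite_family_pullback {P B : Sp S} (hP : IsAlgSpace P) (r : P ⟶ B)
    {ι : Type*} [Finite ι] (T : ι → Sp S) (c : ∀ j, T j ⟶ B)
    (hsurj : ∀ y : Points B, ∃ (j : ι) (t : Points (T j)), Points.map (c j) t = y)
    (Q : ι → Sp S) (l : ∀ j, Q j ⟶ P) (m : ∀ j, Q j ⟶ T j)
    (sq : ∀ j, IsPullback (l j) (m j) r (c j)) (hQ : ∀ j, IsQuasiCompactSp (Q j)) :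
    IsQuasiCompactSp P := by
  choose U b hbe hbs hUc using hQ
  have : ∀ j, CompactSpace ↥(U j).left := hUc
  refine isQuasiCompactSp_of_finite_family hP U (fun j => b j ≫ l j) ?_
  intro y
  obtain ⟨j, t, ht⟩ := hsurj (Points.map r y)
  obtain ⟨pt, hpt, -⟩ := exists_point_of_isPullback (sq j) y t ht.symm
  obtain ⟨u', hu'⟩ := surjective_points_of_repWith_surjective (b j) (hbs j) pt
  obtain ⟨u, rfl⟩ := (Points.schemeEquiv (U j)).surjective u'
  refine ⟨j, u, ?_⟩
  rw [Points.ofPt_eq_map_ofScheme, Points.map_comp]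
  have hu'' : Points.map (b j) (Points.ofScheme _ u) = pt := hu'
  rw [hu'']
  exact hpt

/-- Quasi-compactness of a morphism of algebraic spaces descends along an etale surjective
base change. -/
theorem isQuasiCompactMor_of_etale_surjective_base_change {X Y Y' X' : Sp S}
    (hX : IsAlgSpace X) (hY : IsAlgSpace Y) (hY' : IsAlgSpace Y')
    (f : X ⟶ Y) (g : Y' ⟶ Y) (fst : X' ⟶ X) (f' : X' ⟶ Y') (sq : IsPullback fst f' f g)
    (hg : IsEtaleMor g) (hgs : Function.Surjective (Points.map g)) (hf' : IsQuasiCompactMor f') :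
    IsQuasiCompactMor f := by
  classical
  apply isQuasiCompactMor_of_affine hX hY f
  intro Z hZ a P pfst psnd sqP
  have : IsAffine Z.left := hZ
  obtain ⟨V', q, hqe, hqs⟩ := hY'.atlas
  have hqge : RepWith @Etale (q ≫ g) := hg q hqe
  have hqgs : RepWith @Surjective (q ≫ g) :=
    repWith_surjective_of_surjective_points _ hqge.rep (by
      intro y
      obtain ⟨y', rfl⟩ := hgs y
      obtain ⟨v, rfl⟩ := surjective_points_of_repWith_surjective q hqs y'
      exact ⟨v, Points.map_comp _ _ _⟩)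
  have hrep := hqge.rep
  have sqT := hrep.isPullback a
  have hπe : Etale (hrep.snd a).left := hqge.property_snd a
  have hπs : Surjective (hrep.snd a).left := hqgs.property_snd a
  obtain ⟨s, hsaff, hscov⟩ := exists_finite_affineOpens_of_isOpenMap_surjective (hrep.snd a).left
    (hrep.snd a).left.isOpenMap hπs.surj
  -- the family
  let Tj : s → Over S := fun j => overOpen (hrep.pullback a) j.1
  let c : ∀ j : s, (yon S).obj (Tj j) ⟶ (yon S).obj Z := fun j =>
    (yon S).map (overOpenι (hrep.pullback a) j.1) ≫ (yon S).map (hrep.snd a)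
  let d : ∀ j : s, (yon S).obj (Tj j) ⟶ Y' := fun j =>
    (yon S).map (overOpenι (hrep.pullback a) j.1) ≫ hrep.fst a ≫ q
  have hdc : ∀ j, d j ≫ g = c j ≫ a := fun j => by
    simp only [d, c, Category.assoc]
    rw [sqT.w]
  have hP : IsAlgSpace P := isAlgSpace_of_isPullback sqP hX hY (IsAlgSpace.yon_obj Z)
  have hwl : ∀ j : s, (pullback.fst f' (d j) ≫ fst) ≫ f = (pullback.snd f' (d j) ≫ c j) ≫ a := by
    intro j
    rw [Category.assoc, sq.w, ← Category.assoc, pullback.condition, Category.assoc, hdc]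
    simp only [c, Category.assoc]
  let l : ∀ j : s, pullback f' (d j) ⟶ P := fun j =>
    sqP.lift (pullback.fst f' (d j) ≫ fst) (pullback.snd f' (d j) ≫ c j) (hwl j)
  have hl1 : ∀ j, l j ≫ pfst = pullback.fst f' (d j) ≫ fst := fun j => sqP.lift_fst _ _ _
  have hl2 : ∀ j, l j ≫ psnd = pullback.snd f' (d j) ≫ c j := fun j => sqP.lift_snd _ _ _
  have sqL : ∀ j, IsPullback (l j) (pullback.snd f' (d j)) psnd (c j) := fun j => by
    refine IsPullback.of_right (h₁₂ := pfst) (h₂₂ := a) (v₁₃ := f) ?_ (hl2 j) sqP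
    rw [hl1, ← hdc]
    exact IsPullback.paste_horiz (IsPullback.of_hasPullback f' (d j)) sq
  refine isQuasiCompactSp_of_finite_family_pullback hP psnd (fun j : s => (yon S).obj (Tj j)) c ?_
    (fun j => pullback f' (d j)) l (fun j => pullback.snd f' (d j)) sqL ?_
  · intro y
    obtain ⟨z, rfl⟩ := (Points.schemeEquiv Z).surjective y
    obtain ⟨O, hO, t, htO, htz⟩ := hscov z
    refine ⟨⟨O, hO⟩, Points.ofScheme (Tj ⟨O, hO⟩) ⟨t, htO⟩, ?_⟩
    change Points.map ((yon S).map _ ≫ (yon S).map _) _ = Points.ofScheme Z z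
    rw [Points.map_comp, points_map_ofScheme, points_map_ofScheme]
    congr 1
  · intro j
    have : IsAffine (Tj j).left := hsaff j.1 j.2
    exact hf' (IsAlgSpace.yon_obj (Tj j)) (isQuasiCompactSp_yon (Tj j)) (d j) _ _
      (IsPullback.of_hasPullback f' (d j))

end Groth.Agent.H52
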