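/-
Helper library (helper52): topology on the points of sheaves; open, closed, submersive maps.
-/
import Groth.Agent.H52.Points
import Groth.Prelude.Def_SGA1

set_option autoImplicit false
universe u
open CategoryTheory CategoryTheory.Limits AlgebraicGeometry Opposite Topology

namespace Groth.Agent.H52

open AlgSp

variable {S : Scheme.{u}}

theorem preimage_image_eq_of_isPullback {X Y Z P : Sp S} {f : X ⟶ Y} {g : Z ⟶ Y} {fst : P ⟶ X}
    {snd : P ⟶ Z} (sq : IsPullback fst snd f g) (W : Set (Points X)) :
    Points.map g ⁻¹' (Points.map f '' W) = Points.map snd '' (Points.map fst ⁻¹' W) := by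
  ext z
  constructor
  · rintro ⟨x, hxW, hx⟩
    obtain ⟨p, hp1, hp2⟩ := exists_point_of_isPullback sq x z hx
    exact ⟨p, by simpa [hp1] using hxW, hp2⟩
  · rintro ⟨p, hp, rfl⟩
    refine ⟨Points.map fst p, hp, ?_⟩
    rw [← Points.map_comp, ← Points.map_comp, sq.w]

theorem ofPt_preimage_image {X Y : Sp S} {f : X ⟶ Y} {T V : Over S} {g : (yon S).obj T ⟶ Y}
    {fst : (yon S).obj V ⟶ X} {snd : V ⟶ T} (sq : IsPullback fst ((yon S).map snd) f g)
    (W : Set (Points X)) :
    Points.ofPt g ⁻¹' (Points.map f '' W) = snd.left '' (Points.ofPt fst ⁻¹' W) := by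
  ext t
  have key := preimage_image_eq_of_isPullback sq W
  have h1 : t ∈ Points.ofPt g ⁻¹' (Points.map f '' W) ↔
      Points.ofScheme T t ∈ Points.map g ⁻¹' (Points.map f '' W) := by
    rw [Set.mem_preimage, Set.mem_preimage, Points.ofPt_eq_map_ofScheme]
  rw [h1, key]
  constructor
  · rintro ⟨p, hp, hpt⟩
    obtain ⟨v, rfl⟩ := (Points.schemeEquiv V).surjective p
    refine ⟨v, ?_, ?_⟩
    · rw [Set.mem_preimage, Points.ofPt_eq_map_ofScheme]
      exact hp
    · apply (Points.schemeEquiv T).injective
      exact (points_map_ofScheme snd v).symm.trans hpt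
  · rintro ⟨v, hv, rfl⟩
    refine ⟨Points.ofScheme V v, ?_, points_map_ofScheme snd v⟩
    rw [Set.mem_preimage, Points.ofPt_eq_map_ofScheme] at hv
    exact hv

/-- A morphism representable by universally open morphisms is open on points. -/
theorem isOpenMap_points_of_repWith {X Y : Sp S} (f : X ⟶ Y) (P : MorphismProperty Scheme.{u})
    (hP : ∀ ⦃A B : Scheme.{u}⦄ (φ : A ⟶ B), P φ → IsOpenMap φ) (hf : RepWith P f) :
    IsOpenMap (Points.map f) := by
  intro W hW
  rw [Points.isOpen_iff]
  intro T g
  have hrep := hf.rep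
  rw [ofPt_preimage_image (hrep.isPullback g)]
  exact hP _ (hf.property_snd g) _ (hW.preimage (Points.continuous_ofPt _))

/-- A morphism representable by universally closed morphisms is closed on points. -/
theorem isClosedMap_points_of_repWith {X Y : Sp S} (f : X ⟶ Y) (P : MorphismProperty Scheme.{u})
    (hP : ∀ ⦃A B : Scheme.{u}⦄ (φ : A ⟶ B), P φ → IsClosedMap φ) (hf : RepWith P f) :
    IsClosedMap (Points.map f) := by
  intro W hW
  rw [← isOpen_compl_iff, Points.isOpen_iff]
  intro T g
  have hrep := hf.rep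
  rw [Set.preimage_compl, isOpen_compl_iff, ofPt_preimage_image (hrep.isPullback g)]
  exact hP _ (hf.property_snd g) _ (hW.preimage (Points.continuous_ofPt _))

/-- A morphism representable by submersive morphisms is a quotient map on points. -/
theorem isQuotientMap_points_of_repWith {X Y : Sp S} (f : X ⟶ Y) (P : MorphismProperty Scheme.{u})
    (hP : ∀ ⦃A B : Scheme.{u}⦄ (φ : A ⟶ B), P φ → IsQuotientMap φ) (hf : RepWith P f) :
    IsQuotientMap (Points.map f) := by
  have hrep := hf.rep
  have hsurj : Function.Surjective (Points.map f) := by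
    apply surjective_points_of_repWith_surjective
    refine ⟨hrep, fun T V g fst snd sq => ⟨?_⟩⟩
    exact (hP _ (hf.property g fst snd sq)).surjective
  refine ⟨isCoinducing_iff.2 fun W =>
    ⟨fun hW => ?_, fun hW => hW.preimage (Points.continuous_map f)⟩, hsurj⟩
  rw [Points.isOpen_iff]
  intro T g
  have hq : IsQuotientMap (hrep.snd g).left := hP _ (hf.property_snd g)
  rw [← hq.isCoinducing.isOpen_preimage]
  have : (hrep.snd g).left ⁻¹' (Points.ofPt g ⁻¹' W) =
      Points.ofPt (hrep.fst g) ⁻¹' (Points.map f ⁻¹' W) := by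
    ext v
    simp only [Set.mem_preimage]
    have e : Points.map f (Points.ofPt (hrep.fst g) v) = Points.ofPt g ((hrep.snd g).left v) := by
      rw [Points.map_ofPt, hrep.w g, ← Points.map_ofPt,
        Points.ofPt_eq_map_ofScheme ((yon S).map (hrep.snd g)), points_map_ofScheme,
        ← Points.ofPt_eq_map_ofScheme]
    rw [e]
  rw [this]
  exact hW.preimage (Points.continuous_ofPt _)

theorem over_w_of_isPullback_left {T V : Over S} (snd : V ⟶ T) {X' Y' : Scheme.{u}}
    (i₁ : X' ⟶ V.left) (i₂ : Y' ⟶ T.left) (f' : X' ⟶ Y') (hpb : IsPullback f' i₁ i₂ snd.left) :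
    f' ≫ i₂ ≫ T.hom = i₁ ≫ V.hom := by
  have h1 : f' ≫ i₂ = i₁ ≫ snd.left := hpb.w
  rw [← Category.assoc, h1, Category.assoc, Over.w snd]

/-- A pullback square of schemes lifts to a pullback square in `Over S`. -/
theorem isPullback_over_of_left {T V : Over S} (snd : V ⟶ T) {X' Y' : Scheme.{u}}
    (i₁ : X' ⟶ V.left) (i₂ : Y' ⟶ T.left) (f' : X' ⟶ Y') (hpb : IsPullback f' i₁ i₂ snd.left) :
    IsPullback (Over.homMk f' (over_w_of_isPullback_left snd i₁ i₂ f' hpb) :
        Over.mk (i₁ ≫ V.hom) ⟶ Over.mk (i₂ ≫ T.hom))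
      (Over.homMk i₁ rfl : Over.mk (i₁ ≫ V.hom) ⟶ V)
      (Over.homMk i₂ rfl : Over.mk (i₂ ≫ T.hom) ⟶ T) snd :=
  IsPullback.of_map (Over.forget S) (by ext; exact hpb.w) hpb

/-- If `f` is representable and every base change of `f` to an algebraic space satisfies `Q₁`,
where `Q₁` on maps between representables implies the topological property `Q₀` of the underlying
map of schemes, then `f` is representable by morphisms universally satisfying `Q₀`. -/
theorem repWith_universally_of_univSp
    (Q₀ : ∀ {α β : Type u} [TopologicalSpace α] [TopologicalSpace β], (α → β) → Prop)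
    (Q₁ : MorphismProperty (Sp S))
    (hQ : ∀ {T T' : Over S} (φ : T ⟶ T'), Q₁ ((yon S).map φ) → topologically Q₀ φ.left)
    {X Y : Sp S} (f : X ⟶ Y) (hf : Representable f) (h : UnivSp Q₁ f) :
    RepWith (MorphismProperty.universally (topologically Q₀)) f := by
  refine ⟨hf, fun T V g fst snd sq => ?_⟩
  intro X' Y' i₁ i₂ f' hpb
  have hpb' : IsPullback f' (i₁ : X' ⟶ V.left) (i₂ : Y' ⟶ T.left) snd.left := hpb
  have sq' := isPullback_over_of_left snd _ _ f' hpb'
  have sq'' := sq'.map (yon S)
  have big := IsPullback.paste_horiz sq''.flip sq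
  exact hQ _ (h (IsAlgSpace.yon_obj _) _ _ _ big)

theorem isOpenMap_left_of_points {T T' : Over S} (φ : T ⟶ T')
    (h : IsOpenMap (Points.map ((yon S).map φ))) : IsOpenMap φ.left := by
  rw [Points.map_yon_map_eq] at h
  have := ((Points.schemeHomeo T').symm.isOpenMap.comp h).comp (Points.schemeHomeo T).isOpenMap
  convert this using 1
  ext t
  simp

theorem isClosedMap_left_of_points {T T' : Over S} (φ : T ⟶ T')
    (h : IsClosedMap (Points.map ((yon S).map φ))) : IsClosedMap φ.left := by
  rw [Points.map_yon_map_eq] at h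
  have := ((Points.schemeHomeo T').symm.isClosedMap.comp h).comp (Points.schemeHomeo T).isClosedMap
  convert this using 1
  ext t
  simp

theorem isQuotientMap_left_of_points {T T' : Over S} (φ : T ⟶ T')
    (h : IsQuotientMap (Points.map ((yon S).map φ))) : IsQuotientMap φ.left := by
  rw [Points.map_yon_map_eq] at h
  have := ((Points.schemeHomeo T').symm.isQuotientMap.comp h).comp (Points.schemeHomeo T).isQuotientMap
  convert this using 1
  ext t
  simp

end Groth.Agent.H52
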