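/-
Helper library (helper52): topology on points, descent of open/closed maps along charts.
-/
import Groth.Agent.H52.Top
import Groth.Agent.H52.QC
import Groth.Agent.H52.FibreProd

set_option autoImplicit false
universe u
open CategoryTheory CategoryTheory.Limits AlgebraicGeometry Opposite Topology

namespace Groth.Agent.H52

open AlgSp

variable {S : Scheme.{u}}

theorem repWith_inf {P Q : MorphismProperty Scheme.{u}} {X Y : Sp S} {f : X ⟶ Y}
    (hP : RepWith P f) (hQ : RepWith Q f) : RepWith (P ⊓ Q) f :=
  ⟨hP.rep, fun _ _ g fst snd sq => ⟨hP.property g fst snd sq, hQ.property g fst snd sq⟩⟩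

/-- An etale surjective chart induces a quotient map on points. -/
theorem isQuotientMap_points_of_etale_surjective {X Y : Sp S} (p : X ⟶ Y)
    (hpe : RepWith @Etale p) (hps : RepWith @Surjective p) : IsQuotientMap (Points.map p) := by
  refine isQuotientMap_points_of_repWith p (@Etale ⊓ @Surjective) ?_ (repWith_inf hpe hps)
  rintro A B φ ⟨h1, h2⟩
  have : Etale φ := h1
  have : Surjective φ := h2
  exact φ.isOpenMap.isQuotientMap φ.continuous φ.surjective

/-- An etale chart induces an open map on points. -/
theorem isOpenMap_points_of_etale {X Y : Sp S} (p : X ⟶ Y) (hpe : RepWith @Etale p) :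
    IsOpenMap (Points.map p) :=
  isOpenMap_points_of_repWith p @Etale (fun _ _ φ hφ => by
    have : Etale φ := hφ
    exact φ.isOpenMap) hpe

theorem isOpenMap_points_of_isPullback_of_isQuotientMap {Z Z' W W' : Sp S} {snd : Z' ⟶ Z}
    {p : W ⟶ Z} {fst' : W' ⟶ Z'} {snd' : W' ⟶ W} (sq : IsPullback fst' snd' snd p)
    (hp : IsQuotientMap (Points.map p)) (h : IsOpenMap (Points.map snd')) :
    IsOpenMap (Points.map snd) := by
  intro O hO
  rw [← hp.isCoinducing.isOpen_preimage, preimage_image_eq_of_isPullback sq]
  exact h _ (hO.preimage (Points.continuous_map fst'))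

theorem isClosedMap_points_of_isPullback_of_isQuotientMap {Z Z' W W' : Sp S} {snd : Z' ⟶ Z}
    {p : W ⟶ Z} {fst' : W' ⟶ Z'} {snd' : W' ⟶ W} (sq : IsPullback fst' snd' snd p)
    (hp : IsQuotientMap (Points.map p)) (h : IsClosedMap (Points.map snd')) :
    IsClosedMap (Points.map snd) := by
  intro O hO
  rw [← hp.isCoinducing.isClosed_preimage, preimage_image_eq_of_isPullback sq]
  exact h _ (hO.preimage (Points.continuous_map fst'))

/-- Openness of a map to a representable sheaf can be checked on an open cover of the target. -/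
theorem isOpenMap_points_of_openCover {W : Over S} {W' : Sp S} (snd' : W' ⟶ (yon S).obj W)
    {ι : Type*} (O : ι → W.left.Opens) (hO : TopologicalSpace.IsOpenCover O)
    (h : ∀ i, ∀ (P : Sp S) (a : P ⟶ W') (b : P ⟶ (yon S).obj (overOpen W (O i))),
      IsPullback a b snd' ((yon S).map (overOpenι W (O i))) → IsOpenMap (Points.map b)) :
    IsOpenMap (Points.map snd') := by
  intro A hA
  rw [← (Points.schemeHomeo W).isOpen_preimage, hO.isOpen_iff_coe_preimage]
  intro i
  have sq := IsPullback.of_hasPullback snd' ((yon S).map (overOpenι W (O i)))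
  have key := preimage_image_eq_of_isPullback sq A
  have hop := h i _ _ _ sq _ (hA.preimage (Points.continuous_map (pullback.fst snd' _)))
  rw [← key] at hop
  have := hop.preimage (Points.schemeHomeo (overOpen W (O i))).continuous
  have heq : (Points.schemeHomeo (overOpen W (O i)) ⁻¹'
      (Points.map ((yon S).map (overOpenι W (O i))) ⁻¹' (Points.map snd' '' A)) :
        Set ↥(overOpen W (O i)).left) =
      ((fun t : ↥(overOpen W (O i)).left => (overOpenι W (O i)).left t) ⁻¹'
        (Points.schemeHomeo W ⁻¹' (Points.map snd' '' A))) := by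
    ext t
    simp only [Set.mem_preimage]
    change Points.map _ (Points.ofScheme _ t) ∈ _ ↔ Points.ofScheme W _ ∈ _
    rw [points_map_ofScheme]
  rw [heq] at this
  exact this

/-- Closedness of a map to a representable sheaf can be checked on an open cover of the target. -/
theorem isClosedMap_points_of_openCover {W : Over S} {W' : Sp S} (snd' : W' ⟶ (yon S).obj W)
    {ι : Type*} (O : ι → W.left.Opens) (hO : TopologicalSpace.IsOpenCover O)
    (h : ∀ i, ∀ (P : Sp S) (a : P ⟶ W') (b : P ⟶ (yon S).obj (overOpen W (O i))),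
      IsPullback a b snd' ((yon S).map (overOpenι W (O i))) → IsClosedMap (Points.map b)) :
    IsClosedMap (Points.map snd') := by
  intro A hA
  rw [← (Points.schemeHomeo W).isClosed_preimage, hO.isClosed_iff_coe_preimage]
  intro i
  have sq := IsPullback.of_hasPullback snd' ((yon S).map (overOpenι W (O i)))
  have key := preimage_image_eq_of_isPullback sq A
  have hop := h i _ _ _ sq _ (hA.preimage (Points.continuous_map (pullback.fst snd' _)))
  rw [← key] at hop
  have := hop.preimage (Points.schemeHomeo (overOpen W (O i))).continuous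
  have heq : (Points.schemeHomeo (overOpen W (O i)) ⁻¹'
      (Points.map ((yon S).map (overOpenι W (O i))) ⁻¹' (Points.map snd' '' A)) :
        Set ↥(overOpen W (O i)).left) =
      ((fun t : ↥(overOpen W (O i)).left => (overOpenι W (O i)).left t) ⁻¹'
        (Points.schemeHomeo W ⁻¹' (Points.map snd' '' A))) := by
    ext t
    simp only [Set.mem_preimage]
    change Points.map _ (Points.ofScheme _ t) ∈ _ ↔ Points.ofScheme W _ ∈ _
    rw [points_map_ofScheme]
  rw [heq] at this
  exact this

/-- Openness on points of a map to an algebraic space can be checked after base change to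
affine schemes (etale over the target). -/
theorem isOpenMap_points_of_affine_charts {Z Z' : Sp S} (hZ : IsAlgSpace Z) (snd : Z' ⟶ Z)
    (h : ∀ (T : Over S), IsAffine T.left → ∀ (a : (yon S).obj T ⟶ Z), RepWith @Etale a →
      ∀ (P : Sp S) (fst' : P ⟶ Z') (snd' : P ⟶ (yon S).obj T),
      IsPullback fst' snd' snd a → IsOpenMap (Points.map snd')) :
    IsOpenMap (Points.map snd) := by
  obtain ⟨W, p, hpe, hps⟩ := hZ.atlas
  have sq := IsPullback.of_hasPullback snd p
  refine isOpenMap_points_of_isPullback_of_isQuotientMap sq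
    (isQuotientMap_points_of_etale_surjective p hpe hps) ?_
  refine isOpenMap_points_of_openCover _ (fun i : W.left.affineOpens => i.1)
    (TopologicalSpace.IsOpenCover.mk (iSup_affineOpens_eq_top W.left)) ?_
  intro i P a b sqP
  exact h (overOpen W i.1) i.2 _
    ((RepWith (S := S) @Etale).comp_mem _ _ (repWith_etale_overOpenι W i.1) hpe) P _ b
    (IsPullback.paste_horiz sqP sq)

/-- Closedness on points of a map to an algebraic space can be checked after base change to
affine schemes (etale over the target). -/
theorem isClosedMap_points_of_affine_charts {Z Z' : Sp S} (hZ : IsAlgSpace Z) (snd : Z' ⟶ Z)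
    (h : ∀ (T : Over S), IsAffine T.left → ∀ (a : (yon S).obj T ⟶ Z), RepWith @Etale a →
      ∀ (P : Sp S) (fst' : P ⟶ Z') (snd' : P ⟶ (yon S).obj T),
      IsPullback fst' snd' snd a → IsClosedMap (Points.map snd')) :
    IsClosedMap (Points.map snd) := by
  obtain ⟨W, p, hpe, hps⟩ := hZ.atlas
  have sq := IsPullback.of_hasPullback snd p
  refine isClosedMap_points_of_isPullback_of_isQuotientMap sq
    (isQuotientMap_points_of_etale_surjective p hpe hps) ?_
  refine isClosedMap_points_of_openCover _ (fun i : W.left.affineOpens => i.1)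
    (TopologicalSpace.IsOpenCover.mk (iSup_affineOpens_eq_top W.left)) ?_
  intro i P a b sqP
  exact h (overOpen W i.1) i.2 _
    ((RepWith (S := S) @Etale).comp_mem _ _ (repWith_etale_overOpenι W i.1) hpe) P _ b
    (IsPullback.paste_horiz sqP sq)

/-- `UnivSp Q` can be checked on affine schemes, when `Q` can be checked on affine etale charts. -/
theorem univSp_of_affine (Q : MorphismProperty (Sp S))
    (hQ : ∀ {Z Z' : Sp S} (_ : IsAlgSpace Z) (snd : Z' ⟶ Z),
      (∀ (T : Over S), IsAffine T.left → ∀ (a : (yon S).obj T ⟶ Z), RepWith @Etale a →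
        ∀ (P : Sp S) (fst' : P ⟶ Z') (snd' : P ⟶ (yon S).obj T),
        IsPullback fst' snd' snd a → Q snd') → Q snd)
    {X Y : Sp S} (f : X ⟶ Y)
    (h : ∀ (Z : Over S), IsAffine Z.left → ∀ (g : (yon S).obj Z ⟶ Y) (P : Sp S)
      (fst : P ⟶ X) (snd : P ⟶ (yon S).obj Z), IsPullback fst snd f g → Q snd) :
    UnivSp Q f := by
  intro Z Z' hZ g fst snd sq
  apply hQ hZ snd
  intro T hT a _ P fst' snd' sqP
  exact h T hT (a ≫ g) P (fst' ≫ fst) snd' (IsPullback.paste_horiz sqP sq)

/-- `UnivSp Q` descends along an etale surjective cover of the target, when `Q` descends along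
quotient maps. -/
theorem univSp_of_etale_cover (Q : MorphismProperty (Sp S))
    (hQ : ∀ {Z Z' W W' : Sp S} {snd : Z' ⟶ Z} {p : W ⟶ Z} {fst' : W' ⟶ Z'} {snd' : W' ⟶ W}
      (_ : IsPullback fst' snd' snd p), IsQuotientMap (Points.map p) → Q snd' → Q snd)
    {X Y : Sp S} (hY : IsAlgSpace Y) (f : X ⟶ Y) {V : Sp S} (hV : IsAlgSpace V) (p : V ⟶ Y)
    (hpe : RepWith @Etale p) (hps : RepWith @Surjective p) {P : Sp S} (fst : P ⟶ X)
    (snd : P ⟶ V) (sq : IsPullback fst snd f p) (h : UnivSp Q snd) :
    UnivSp Q f := by
  intro Z Z' hZ g fst' snd' sq'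
  -- Z_V = Z ×_Y V
  have sqZV := IsPullback.of_hasPullback g p
  have hZV : IsAlgSpace (pullback g p) := isAlgSpace_of_isPullback sqZV hZ hY hV
  have hpr1e : RepWith @Etale (pullback.fst g p) := MorphismProperty.of_isPullback sqZV.flip hpe
  have hpr1s : RepWith @Surjective (pullback.fst g p) := MorphismProperty.of_isPullback sqZV.flip hps
  -- Z'_V = Z' ×_Z Z_V
  have sq'' := IsPullback.of_hasPullback snd' (pullback.fst g p)
  have outer : IsPullback (pullback.fst snd' (pullback.fst g p) ≫ fst')
      (pullback.snd snd' (pullback.fst g p)) f (pullback.snd g p ≫ p) := by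
    rw [← pullback.condition]
    exact IsPullback.paste_horiz sq'' sq'
  let l : pullback snd' (pullback.fst g p) ⟶ P :=
    sq.lift (pullback.fst snd' (pullback.fst g p) ≫ fst')
      (pullback.snd snd' (pullback.fst g p) ≫ pullback.snd g p) (by
        rw [Category.assoc]; exact outer.w)
  have hl1 : l ≫ fst = pullback.fst snd' (pullback.fst g p) ≫ fst' := sq.lift_fst _ _ _
  have hl2 : l ≫ snd = pullback.snd snd' (pullback.fst g p) ≫ pullback.snd g p := sq.lift_snd _ _ _
  have sqL : IsPullback l (pullback.snd snd' (pullback.fst g p)) snd (pullback.snd g p) := by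
    refine IsPullback.of_right (h₁₂ := fst) (h₂₂ := p) (v₁₃ := f) ?_ hl2 sq
    rw [hl1]
    exact outer
  have hq2 : Q (pullback.snd snd' (pullback.fst g p)) := h hZV _ _ _ sqL
  exact hQ sq'' (isQuotientMap_points_of_etale_surjective _ hpr1e hpr1s) hq2

end Groth.Agent.H52
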