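/-
Helper library (helper52): quasi-compact morphisms of algebraic spaces, part 4.
-/
import Groth.Agent.H52.QC3
import Groth.Agent.H52.Top2

set_option autoImplicit false
universe u
open CategoryTheory CategoryTheory.Limits AlgebraicGeometry Opposite

namespace Groth.Agent.H52

open AlgSp

variable {S : Scheme.{u}}

/-- Core of the descent of quasi-compactness: `X' = X ×_Y Y'`, `f'` quasi-compact, `Z` a
quasi-compact scheme mapping to `Y`, and `T ⟶ Z` an open surjective morphism of schemes through
which `Z ⟶ Y` lifts to `Y'`. Then `Z ×_Y X` is quasi-compact. -/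
theorem isQuasiCompactSp_of_open_surjective_lift {X Y Y' X' : Sp S}
    (f : X ⟶ Y) (g : Y' ⟶ Y) (fst : X' ⟶ X) (f' : X' ⟶ Y') (sq : IsPullback fst f' f g)
    (hf' : IsQuasiCompactMor f') {Z : Over S} [CompactSpace ↥Z.left] (a : (yon S).obj Z ⟶ Y)
    {P : Sp S} (pfst : P ⟶ X) (psnd : P ⟶ (yon S).obj Z) (sqP : IsPullback pfst psnd f a)
    (hP : IsAlgSpace P) {T : Over S} (π : T ⟶ Z) (hπo : IsOpenMap π.left)
    (hπs : Function.Surjective π.left) (d0 : (yon S).obj T ⟶ Y')
    (hd0 : d0 ≫ g = (yon S).map π ≫ a) : IsQuasiCompactSp P := by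
  classical
  obtain ⟨s, hsaff, hscov⟩ := exists_finite_affineOpens_of_isOpenMap_surjective π.left hπo hπs
  let Tj : s → Over S := fun j => overOpen T j.1
  let c : ∀ j : s, (yon S).obj (Tj j) ⟶ (yon S).obj Z := fun j =>
    (yon S).map (overOpenι T j.1) ≫ (yon S).map π
  let d : ∀ j : s, (yon S).obj (Tj j) ⟶ Y' := fun j =>
    (yon S).map (overOpenι T j.1) ≫ d0
  have hdc : ∀ j, d j ≫ g = c j ≫ a := fun j => by
    simp only [d, c, Category.assoc]
    rw [hd0]
  have hwl : ∀ j : s, (pullback.fst f' (d j) ≫ fst) ≫ f = (pullback.snd f' (d j) ≫ c j) ≫ a := by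
    intro j
    rw [Category.assoc, sq.w, ← Category.assoc, pullback.condition, Category.assoc, hdc]
    simp only [c, Category.assoc]
  let l : ∀ j : s, pullback f' (d j) ⟶ P := fun j =>
    sqP.lift (pullback.fst f' (d j) ≫ fst) (pullback.snd f' (d j) ≫ c j) (hwl j)
  have hl1 : ∀ j, l j ≫ pfst = pullback.fst f' (d j) ≫ fst := fun j => sqP.lift_fst _ _ _
  have hl2 : ∀ j, l j ≫ psnd = pullback.snd f' (d j) ≫ c j := fun j => sqP.lift_snd _ _ _
  have sqL : ∀ j, IsPullback (l j) (pullback.snd f' (d j)) psnd (c j) := fun j => by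
    refine IsPullback.of_right (h₁₂ := pfst) (h₂₂ := a) (v₁₃ := f) ?_ (hl2 j) sqP
    rw [hl1, ← hdc]
    exact IsPullback.paste_horiz (IsPullback.of_hasPullback f' (d j)) sq
  refine isQuasiCompactSp_of_finite_family_pullback hP psnd (fun j : s => (yon S).obj (Tj j)) c ?_
    (fun j => pullback f' (d j)) l (fun j => pullback.snd f' (d j)) sqL ?_
  · intro y
    obtain ⟨z, rfl⟩ := (Points.schemeEquiv Z).surjective y
    obtain ⟨O, hO, t, htO, htz⟩ := hscov z
    refine ⟨⟨O, hO⟩, Points.ofScheme (Tj ⟨O, hO⟩) ⟨t, htO⟩, ?_⟩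
    change Points.map ((yon S).map _ ≫ (yon S).map _) _ = Points.ofScheme Z z
    rw [Points.map_comp, points_map_ofScheme, points_map_ofScheme]
    congr 1
  · intro j
    have : IsAffine (Tj j).left := hsaff j.1 j.2
    exact hf' (IsAlgSpace.yon_obj (Tj j)) (isQuasiCompactSp_yon (Tj j)) (d j) _ _
      (IsPullback.of_hasPullback f' (d j))

/-- Quasi-compactness of a morphism of algebraic spaces descends along a universally open
surjective base change. -/
theorem isQuasiCompactMor_of_univOpen_surjective_base_change {X Y Y' X' : Sp S}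
    (hX : IsAlgSpace X) (hY : IsAlgSpace Y) (hY' : IsAlgSpace Y')
    (f : X ⟶ Y) (g : Y' ⟶ Y) (fst : X' ⟶ X) (f' : X' ⟶ Y') (sq : IsPullback fst f' f g)
    (hg : IsUnivOpenMor g) (hgs : Function.Surjective (Points.map g)) (hf' : IsQuasiCompactMor f') :
    IsQuasiCompactMor f := by
  apply isQuasiCompactMor_of_affine hX hY f
  intro Z hZ a P pfst psnd sqP
  have : IsAffine Z.left := hZ
  have hP : IsAlgSpace P := isAlgSpace_of_isPullback sqP hX hY (IsAlgSpace.yon_obj Z)
  -- Z_{Y'} = Z ×_Y Y'
  have sqZ := IsPullback.of_hasPullback a g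
  have hZY' : IsAlgSpace (pullback a g) := isAlgSpace_of_isPullback sqZ (IsAlgSpace.yon_obj Z) hY hY'
  have hopen : IsOpenMap (Points.map (pullback.fst a g)) := hg (IsAlgSpace.yon_obj Z) a _ _ sqZ.flip
  have hsurj : Function.Surjective (Points.map (pullback.fst a g)) :=
    surjective_points_of_isPullback sqZ.flip hgs
  obtain ⟨W, p, hpe, hps⟩ := hZY'.atlas
  obtain ⟨π, hπ⟩ := (yon S).map_surjective (p ≫ pullback.fst a g)
  have hπo' : IsOpenMap (Points.map ((yon S).map π)) := by
    rw [hπ]
    have : Points.map (p ≫ pullback.fst a g) = Points.map (pullback.fst a g) ∘ Points.map p :=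
      funext fun x => Points.map_comp _ _ x
    rw [this]
    exact hopen.comp (isOpenMap_points_of_etale p hpe)
  have hπs' : Function.Surjective (Points.map ((yon S).map π)) := by
    rw [hπ]
    have : Points.map (p ≫ pullback.fst a g) = Points.map (pullback.fst a g) ∘ Points.map p :=
      funext fun x => Points.map_comp _ _ x
    rw [this]
    exact hsurj.comp (surjective_points_of_repWith_surjective p hps)
  have hπs : Function.Surjective π.left := by
    intro z
    obtain ⟨w', hw'⟩ := hπs' (Points.ofScheme Z z)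
    obtain ⟨w, rfl⟩ := (Points.schemeEquiv W).surjective w'
    refine ⟨w, (Points.schemeEquiv Z).injective ?_⟩
    exact (points_map_ofScheme π w).symm.trans hw'
  refine isQuasiCompactSp_of_open_surjective_lift f g fst f' sq hf' a pfst psnd sqP hP π
    (isOpenMap_left_of_points π hπo') hπs (p ≫ pullback.snd a g) ?_
  rw [Category.assoc, ← pullback.condition, ← Category.assoc, ← hπ]

end Groth.Agent.H52
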