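/-
Helper library (helper52): permanence of quasi-compact morphisms (base change, composition,
cancellation) and quasi-compactness over a quasi-separated base.
-/
import Groth.Agent.H52.QC4

set_option autoImplicit false
universe u
open CategoryTheory CategoryTheory.Limits AlgebraicGeometry Opposite Topology
open AlgSp

namespace Groth.Agent.H52

variable {S : Scheme.{u}}

/-- Quasi-compact morphisms are stable under base change. -/
theorem isQuasiCompactMor_of_isPullback {X Y X' Y' : Sp S} {f : X ⟶ Y} {g : Y' ⟶ Y}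
    {fst : X' ⟶ X} {f' : X' ⟶ Y'} (sq : IsPullback fst f' f g) (hf : IsQuasiCompactMor f) :
    IsQuasiCompactMor f' := by
  intro Z Z' hZ hZqc h a b sq'
  exact hf hZ hZqc (h ≫ g) (a ≫ fst) b (sq'.paste_horiz sq)

/-- Quasi-compact morphisms of algebraic spaces are stable under composition. -/
theorem isQuasiCompactMor_comp {X Y Z : Sp S} (hY : IsAlgSpace Y) (hZ : IsAlgSpace Z)
    (f : X ⟶ Y) (g : Y ⟶ Z) (hf : IsQuasiCompactMor f) (hg : IsQuasiCompactMor g) :
    IsQuasiCompactMor (f ≫ g) := by
  intro Z' P hZ' hZ'qc h a b sq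
  have sqY := IsPullback.of_hasPullback g h
  have hPY : IsAlgSpace (pullback g h) := isAlgSpace_of_isPullback sqY hY hZ hZ'
  have hPYqc : IsQuasiCompactSp (pullback g h) := hg hZ' hZ'qc h _ _ sqY
  let l : P ⟶ pullback g h := pullback.lift (a ≫ f) b (by rw [Category.assoc]; exact sq.w)
  have h1 : l ≫ pullback.fst g h = a ≫ f := pullback.lift_fst _ _ _
  have h2 : l ≫ pullback.snd g h = b := pullback.lift_snd _ _ _
  have top : IsPullback a l f (pullback.fst g h) := by
    refine IsPullback.of_bot ?_ h1.symm sqY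
    rw [h2]
    exact sq
  exact hf hPY hPYqc _ _ _ top

/-- If `f ≫ g` is quasi-compact and the diagonal of `g` is quasi-compact, then `f` is
quasi-compact. -/
theorem isQuasiCompactMor_of_comp {X Y Z : Sp S} (hX : IsAlgSpace X) (hY : IsAlgSpace Y)
    (hZ : IsAlgSpace Z) (f : X ⟶ Y) (g : Y ⟶ Z) (hgf : IsQuasiCompactMor (f ≫ g))
    (hg : IsQuasiSeparatedMor g) : IsQuasiCompactMor f := by
  have sq1 := pullback_lift_diagonal_isPullback f g
  have hΓ : RepWith @QuasiCompact (pullback.lift (𝟙 X) f (by simp) : X ⟶ pullback (f ≫ g) g) :=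
    MorphismProperty.of_isPullback sq1 hg
  have hΓ' := isQuasiCompactMor_of_repWith_quasiCompact _ hΓ
  have sq2 := IsPullback.of_hasPullback (f ≫ g) g
  have hpr : IsQuasiCompactMor (pullback.snd (f ≫ g) g) := isQuasiCompactMor_of_isPullback sq2 hgf
  have hP : IsAlgSpace (pullback (f ≫ g) g) := isAlgSpace_of_isPullback sq2 hX hZ hY
  have := isQuasiCompactMor_comp hP hY _ _ hΓ' hpr
  rwa [pullback.lift_snd] at this

/-- A quasi-compact sheaf is quasi-compact over a representable sheaf with quasi-separated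
underlying space. -/
theorem isQuasiCompactMor_to_yon {X : Sp S} (hX : IsQuasiCompactSp X) (B : Over S)
    [QuasiSeparatedSpace ↥B.left] (t : X ⟶ (yon S).obj B) : IsQuasiCompactMor t := by
  intro Z' P hZ' hZ'qc h a b sq
  obtain ⟨U, pX, hXe, hXs, hU⟩ := hX
  obtain ⟨W, pZ, hZe, hZs, hW⟩ := hZ'qc
  have : CompactSpace ↥U.left := hU
  have : CompactSpace ↥W.left := hW
  obtain ⟨V, q, c, d, -, -, sqV, hq⟩ :=
    exists_chart_of_isPullback sq (fun _ x => (IsAlgSpace.yon_obj B).representable_from_yon x) pX pZ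
  refine ⟨V, q, hq @Etale hXe hZe, hq @Surjective hXs hZs, ?_⟩
  obtain ⟨w, hw⟩ := (yon S).map_surjective (pZ ≫ h)
  have hwqc : QuasiCompact w.left := inferInstance
  have hrw : RepWith @QuasiCompact ((yon S).map w) := (repWith_yon_map_iff _ _).2 hwqc
  have sqV' : IsPullback ((yon S).map d) ((yon S).map c) ((yon S).map w) (pX ≫ t) := by
    rw [hw]; exact sqV.flip
  have : QuasiCompact c.left := hrw.2 _ _ _ sqV'
  exact QuasiCompact.compactSpace_of_compactSpace c.left

end Groth.Agent.H52

namespace Groth.Agent.H52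

variable {S : Scheme.{u}}

/-- The sheaf represented by the base scheme is terminal. -/
noncomputable def yonBaseIsTerminal (S : Scheme.{u}) :
    IsTerminal ((yon S).obj (Over.mk (𝟙 S))) :=
  IsTerminal.isTerminalObj (yon S) _ Over.mkIdTerminal

/-- The graph of `f : X ⟶ Y` is a base change of the diagonal of `Y`. -/
theorem isPullback_graph {D : Type*} [Category D] [HasBinaryProducts D] {X Y : D} (f : X ⟶ Y) :
    IsPullback f (prod.lift (𝟙 X) f) (Limits.diag Y) (prod.map f (𝟙 Y)) := by
  refine ⟨⟨by ext <;> simp⟩, ⟨PullbackCone.IsLimit.mk _ (fun s => s.snd ≫ prod.fst) ?_ ?_ ?_⟩⟩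
  · intro s
    have h1 := congrArg (· ≫ prod.fst) s.condition
    simp only [Category.assoc, prod.lift_fst, prod.map_fst, Limits.diag] at h1
    simpa using h1.symm
  · intro s
    have h1 := congrArg (· ≫ prod.fst) s.condition
    have h2 := congrArg (· ≫ prod.snd) s.condition
    simp only [Category.assoc, prod.lift_fst, prod.lift_snd, prod.map_fst, prod.map_snd,
      Limits.diag, Category.comp_id] at h1 h2
    ext
    · rw [Category.assoc, prod.lift_fst, Category.comp_id]
    · rw [Category.assoc, prod.lift_snd, Category.assoc, ← h1, h2]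
  · intro s m _ hm
    rw [← hm, Category.assoc, prod.lift_fst, Category.comp_id]

/-- Over a base with quasi-separated underlying space, every morphism from a quasi-compact
algebraic space to an algebraic space quasi-separated over the base is quasi-compact. -/
theorem isQuasiCompactMor_of_isQuasiSeparatedSp [QuasiSeparatedSpace ↥S] {X Y : Sp S}
    (hX : IsAlgSpace X) (hY : IsAlgSpace Y) (f : X ⟶ Y) (hXqc : IsQuasiCompactSp X)
    (hYqs : IsQuasiSeparatedSp Y) : IsQuasiCompactMor f := by
  have tB := yonBaseIsTerminal S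
  have hB : IsAlgSpace ((yon S).obj (Over.mk (𝟙 S))) := IsAlgSpace.yon_obj _
  have : QuasiSeparatedSpace ↥(Over.mk (𝟙 S)).left := ‹_›
  have hXB : IsQuasiCompactMor (tB.from X) := isQuasiCompactMor_to_yon hXqc _ _
  have sqP : IsPullback (prod.fst : X ⨯ Y ⟶ X) prod.snd (tB.from X) (tB.from Y) :=
    IsPullback.of_is_product (limit.isLimit (pair X Y)) tB
  have hpr : IsQuasiCompactMor (prod.snd : X ⨯ Y ⟶ Y) := isQuasiCompactMor_of_isPullback sqP hXB
  have hP : IsAlgSpace (X ⨯ Y) := isAlgSpace_of_isPullback sqP hX hB hY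
  have hΓ : RepWith @QuasiCompact (prod.lift (𝟙 X) f) :=
    MorphismProperty.of_isPullback (isPullback_graph f) hYqs
  have hΓ' := isQuasiCompactMor_of_repWith_quasiCompact _ hΓ
  have := isQuasiCompactMor_comp hP hY _ _ hΓ' hpr
  rwa [prod.lift_snd] at this

end Groth.Agent.H52
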