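/-
Helper library (helper52): separation conditions over the base versus relative diagonals.
-/
import Groth.Agent.H52.QC5

set_option autoImplicit false
universe u
open CategoryTheory CategoryTheory.Limits AlgebraicGeometry Opposite Topology
open AlgSp

namespace Groth.Agent.H52

variable {S : Scheme.{u}}

/-- If `f ≫ g` has a diagonal with property `P` (stable under base change) then so does `f`. -/
theorem diagonal_of_comp {D : Type*} [Category D] [HasPullbacks D] (P : MorphismProperty D)
    [P.IsStableUnderBaseChange] {X Y Z : D} (f : X ⟶ Y) (g : Y ⟶ Z) (h : P.diagonal (f ≫ g)) :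
    P.diagonal f := by
  rw [MorphismProperty.diagonal_iff, pullback.diagonal_comp] at h
  refine MorphismProperty.of_postcomp (W := P) (W' := MorphismProperty.monomorphisms D) _ _ ?_ h
  rw [MorphismProperty.monomorphisms.iff]
  infer_instance

/-- The diagonal of a sheaf `F` over the base has `Q` iff the relative diagonal of the map to the
terminal sheaf `h_S` has `Q`. -/
theorem repWith_diag_iff_diagonal_from (Q : MorphismProperty Scheme.{u}) (F : Sp S) :
    RepWith Q (Limits.diag F) ↔ RepWith Q (pullback.diagonal ((yonBaseIsTerminal S).from F)) := by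
  have tB := yonBaseIsTerminal S
  have sqP : IsPullback (prod.fst : F ⨯ F ⟶ F) prod.snd ((yonBaseIsTerminal S).from F)
      ((yonBaseIsTerminal S).from F) :=
    IsPullback.of_is_product (limit.isLimit (pair F F)) (yonBaseIsTerminal S)
  let e : F ⨯ F ≅ pullback ((yonBaseIsTerminal S).from F) ((yonBaseIsTerminal S).from F) :=
    sqP.isoPullback
  have he : Limits.diag F ≫ e.hom = pullback.diagonal ((yonBaseIsTerminal S).from F) := by
    apply pullback.hom_ext
    · simp only [e, Category.assoc, IsPullback.isoPullback_hom_fst, pullback.diagonal_fst]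
      exact prod.lift_fst _ _
    · simp only [e, Category.assoc, IsPullback.isoPullback_hom_snd, pullback.diagonal_snd]
      exact prod.lift_snd _ _
  rw [← he]
  exact (MorphismProperty.cancel_right_of_respectsIso (RepWith (S := S) Q) _ _).symm

/-- The relative diagonal property is stable under base change. -/
theorem repWith_diagonal_of_isPullback (Q : MorphismProperty Scheme.{u})
    {X Y X' Y' : Sp S} {f : X ⟶ Y} {g : Y' ⟶ Y} {fst : X' ⟶ X} {f' : X' ⟶ Y'}
    (sq : IsPullback fst f' f g) (hf : RepWith Q (pullback.diagonal f)) :
    RepWith Q (pullback.diagonal f') := by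
  have : (RepWith (S := S) Q).diagonal f := hf
  exact MorphismProperty.of_isPullback (P := (RepWith (S := S) Q).diagonal) sq this

/-- The relative diagonal property is stable under composition. -/
theorem repWith_diagonal_comp (Q : MorphismProperty Scheme.{u}) [Q.IsStableUnderBaseChange]
    [Q.IsMultiplicative] {X Y Z : Sp S} (f : X ⟶ Y) (g : Y ⟶ Z)
    (hf : RepWith Q (pullback.diagonal f)) (hg : RepWith Q (pullback.diagonal g)) :
    RepWith Q (pullback.diagonal (f ≫ g)) :=
  (RepWith (S := S) Q).diagonal.comp_mem f g hf hg

/-- A fibre product of sheaves whose diagonals over the base have `Q` has the same property. -/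
theorem repWith_diag_of_isPullback (Q : MorphismProperty Scheme.{u}) [Q.IsStableUnderBaseChange]
    [Q.IsMultiplicative] {X Y Z P : Sp S} {f : X ⟶ Y} {g : Z ⟶ Y} {fst : P ⟶ X} {snd : P ⟶ Z}
    (sq : IsPullback fst snd f g) (hX : RepWith Q (Limits.diag X)) (hZ : RepWith Q (Limits.diag Z)) :
    RepWith Q (Limits.diag P) := by
  rw [repWith_diag_iff_diagonal_from] at hX hZ ⊢
  have hany : ∀ {A : Sp S} (t t' : A ⟶ (yon S).obj (Over.mk (𝟙 S))),
      RepWith Q (pullback.diagonal t) → RepWith Q (pullback.diagonal t') := by
    intro A t t' h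
    obtain rfl : t = t' := (yonBaseIsTerminal S).hom_ext _ _
    exact h
  have h1 : (RepWith (S := S) Q).diagonal (f ≫ (yonBaseIsTerminal S).from Y) := hany _ _ hX
  have hf : RepWith Q (pullback.diagonal f) := diagonal_of_comp _ f _ h1
  have hsnd : RepWith Q (pullback.diagonal snd) := repWith_diagonal_of_isPullback Q sq hf
  exact hany _ _ (repWith_diagonal_comp Q snd ((yonBaseIsTerminal S).from Z) hsnd hZ)

end Groth.Agent.H52
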