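/-
Helper library (helper52): relative diagonals of morphisms of sheaves; checking `RepWith` on
base changes to representables.
-/
import Groth.Agent.H52.QS

set_option autoImplicit false
universe u
open CategoryTheory CategoryTheory.Limits AlgebraicGeometry Opposite Topology
open AlgSp

namespace Groth.Agent.H52

variable {S : Scheme.{u}}

set_option backward.isDefEq.respectTransparency false in
/-- The diagonal of a base change is the base change of the diagonal. -/
theorem isPullback_diagonal_of_isPullback {D : Type*} [Category D] [HasPullbacks D]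
    {X' X T Y : D} {p : X' ⟶ X} {f' : X' ⟶ T} {f : X ⟶ Y} {y : T ⟶ Y}
    (sq : IsPullback p f' f y) :
    IsPullback p (pullback.diagonal f') (pullback.diagonal f)
      (pullback.map f' f' f f p p y sq.w.symm sq.w.symm) := by
  refine ⟨⟨by apply pullback.hom_ext <;> simp [pullback.map]⟩,
    ⟨PullbackCone.IsLimit.mk _ (fun s => s.snd ≫ pullback.fst f' f') ?_ ?_ ?_⟩⟩
  · intro s
    have h1 := congrArg (· ≫ pullback.fst f f) s.condition
    simp only [pullback.map, Category.assoc, pullback.diagonal_fst, pullback.lift_fst,
      Category.comp_id] at h1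
    rw [Category.assoc]
    exact h1.symm
  · intro s
    have h1 := congrArg (· ≫ pullback.fst f f) s.condition
    have h2 := congrArg (· ≫ pullback.snd f f) s.condition
    simp only [pullback.map, Category.assoc, pullback.diagonal_fst, pullback.diagonal_snd,
      pullback.lift_fst, pullback.lift_snd, Category.comp_id] at h1 h2
    apply pullback.hom_ext
    · rw [Category.assoc, pullback.diagonal_fst, Category.comp_id]
    · rw [Category.assoc, pullback.diagonal_snd, Category.comp_id]
      apply sq.hom_ext
      · rw [Category.assoc, Category.assoc, ← h1, h2]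
      · rw [Category.assoc, Category.assoc, pullback.condition]
  · intro s m _ hm
    rw [← hm, Category.assoc, pullback.diagonal_fst, Category.comp_id]

/-- `RepWith Q` can be checked after base change to every representable sheaf. -/
theorem repWith_of_forall_base_change (Q : MorphismProperty Scheme.{u}) [Q.IsStableUnderBaseChange]
    {F G : Sp S} (g : F ⟶ G)
    (h : ∀ ⦃U : Over S⦄ (y : (yon S).obj U ⟶ G), ∃ (F' : Sp S) (p : F' ⟶ F)
      (g' : F' ⟶ (yon S).obj U), IsPullback p g' g y ∧ RepWith Q g') : RepWith Q g := by
  apply MorphismProperty.relative.of_exists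
  intro U y
  obtain ⟨F', p, g', sq, hg'⟩ := h y
  have hrep := hg'.rep
  have sq' := hrep.isPullback (𝟙 _)
  have hQ : Q (hrep.snd (𝟙 ((yon S).obj U))).left := hg'.property_snd _
  refine ⟨hrep.pullback (𝟙 _), hrep.fst (𝟙 _) ≫ p, hrep.snd (𝟙 _), ?_, hQ⟩
  have := sq'.paste_horiz sq
  rwa [Category.id_comp] at this

set_option backward.isDefEq.respectTransparency false in
/-- The relative diagonal of `f` has `Q` as soon as the relative diagonals of all base changes of
`f` to representable sheaves do. -/
theorem repWith_diagonal_of_forall_base_change (Q : MorphismProperty Scheme.{u})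
    [Q.IsStableUnderBaseChange] {F G : Sp S} (f : F ⟶ G)
    (h : ∀ ⦃U : Over S⦄ (y : (yon S).obj U ⟶ G), ∃ (F' : Sp S) (p : F' ⟶ F)
      (f' : F' ⟶ (yon S).obj U), IsPullback p f' f y ∧ RepWith Q (pullback.diagonal f')) :
    RepWith Q (pullback.diagonal f) := by
  apply repWith_of_forall_base_change
  intro T x
  obtain ⟨F', p, f', sq, hf'⟩ := h (x ≫ pullback.fst f f ≫ f)
  have sqΔ := isPullback_diagonal_of_isPullback sq
  -- the point `x` lifts to `F' ×_T F'`
  let x1 : (yon S).obj T ⟶ F' := sq.lift (x ≫ pullback.fst f f) (𝟙 _) (by simp)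
  let x2 : (yon S).obj T ⟶ F' := sq.lift (x ≫ pullback.snd f f) (𝟙 _)
    (by simp [pullback.condition])
  have e1 : x1 ≫ p = x ≫ pullback.fst f f := sq.lift_fst _ _ _
  have e2 : x2 ≫ p = x ≫ pullback.snd f f := sq.lift_fst _ _ _
  have e1' : x1 ≫ f' = 𝟙 _ := sq.lift_snd _ _ _
  have e2' : x2 ≫ f' = 𝟙 _ := sq.lift_snd _ _ _
  let x' : (yon S).obj T ⟶ pullback f' f' := pullback.lift x1 x2 (by rw [e1', e2'])
  have hx' : x' ≫ pullback.map f' f' f f p p _ sq.w.symm sq.w.symm = x := by
    apply pullback.hom_ext
    · simp [pullback.map, x', e1]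
    · simp [pullback.map, x', e2]
  have sqx := IsPullback.of_hasPullback (pullback.diagonal f') x'
  refine ⟨pullback (pullback.diagonal f') x', pullback.fst _ _ ≫ p, pullback.snd _ _, ?_,
    MorphismProperty.of_isPullback sqx hf'⟩
  have := sqx.flip.paste_vert sqΔ.flip
  rw [hx'] at this
  exact this.flip

end Groth.Agent.H52
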