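/-
Helper library (helper52): descent of `RepWith Q` along etale surjective base change.
-/
import Groth.Agent.H52.Diag
import Mathlib.AlgebraicGeometry.Morphisms.LocalFlatDescent

set_option autoImplicit false
universe u
open CategoryTheory CategoryTheory.Limits AlgebraicGeometry Opposite Topology
open AlgSp

namespace Groth.Agent.H52

variable {S : Scheme.{u}}

/-- A pullback square of representable sheaves comes from a pullback square of schemes. -/
theorem isPullback_left_of_isPullback_yon {A B C D : Over S} {a : A ⟶ B} {b : A ⟶ C} {c : B ⟶ D}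
    {d : C ⟶ D}
    (sq : IsPullback ((yon S).map a) ((yon S).map b) ((yon S).map c) ((yon S).map d)) :
    IsPullback a.left b.left c.left d.left := by
  have h : IsPullback a b c d := IsPullback.of_map (yon S)
    (by apply (yon S).map_injective; rw [Functor.map_comp, Functor.map_comp]; exact sq.w) sq
  exact h.map (Over.forget S)

/-- Descent of `RepWith Q` along an etale surjective base change, for a representable morphism. -/
theorem repWith_of_etale_surjective_base_change (Q : MorphismProperty Scheme.{u})
    [Q.IsStableUnderBaseChange]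
    [Q.DescendsAlong (@Surjective ⊓ @Flat ⊓ @LocallyOfFinitePresentation)]
    {F G F' G' : Sp S} {g : F ⟶ G} {c : G' ⟶ G} {p : F' ⟶ F} {g' : F' ⟶ G'}
    (sq : IsPullback p g' g c) (hg : Representable g) (hce : RepWith @Etale c)
    (hcs : RepWith @Surjective c) (hg' : RepWith Q g') : RepWith Q g := by
  apply MorphismProperty.relative_of_snd hg
  intro T y
  have sqE := hg.isPullback y
  have hcrep := hce.rep
  have sqT := hcrep.isPullback y
  have h1 : Etale (hcrep.snd y).left := hce.property_snd y
  have h2 : Surjective (hcrep.snd y).left := hcs.2 y _ _ sqT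
  have hg'rep := hg'.rep
  have sq'' := hg'rep.isPullback (hcrep.fst y)
  have hQ : Q (hg'rep.snd (hcrep.fst y)).left := hg'.property_snd _
  have big := sq''.paste_horiz sq
  rw [sqT.w] at big
  obtain ⟨e, he⟩ := (yon S).map_surjective (sqE.lift (hg'rep.fst (hcrep.fst y) ≫ p)
    ((yon S).map (hg'rep.snd (hcrep.fst y)) ≫ (yon S).map (hcrep.snd y)) (by
      rw [Category.assoc]; exact big.w))
  have he1 : (yon S).map e ≫ hg.fst y = hg'rep.fst (hcrep.fst y) ≫ p := by
    rw [he, sqE.lift_fst]
  have he2 : (yon S).map e ≫ (yon S).map (hg.snd y) =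
      (yon S).map (hg'rep.snd (hcrep.fst y)) ≫ (yon S).map (hcrep.snd y) := by
    rw [he, sqE.lift_snd]
  have left : IsPullback ((yon S).map e) ((yon S).map (hg'rep.snd (hcrep.fst y)))
      ((yon S).map (hg.snd y)) ((yon S).map (hcrep.snd y)) := by
    refine IsPullback.of_right ?_ he2 sqE
    rw [he1]
    exact big
  have sch := isPullback_left_of_isPullback_yon left
  refine MorphismProperty.of_isPullback_of_descendsAlong
    (Q := @Surjective ⊓ @Flat ⊓ @LocallyOfFinitePresentation) sch.flip ⟨⟨h2, ?_⟩, ?_⟩ hQ
  · exact (inferInstance : Flat (hcrep.snd y).left)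
  · exact (inferInstance : LocallyOfFinitePresentation (hcrep.snd y).left)

end Groth.Agent.H52
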