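/-
Helper library (helper52): the calculus of `AlgSp.LocP` (properties etale local on source and target).
-/
import Groth.Agent.H52.FibreProd

set_option autoImplicit false
universe u
open CategoryTheory CategoryTheory.Limits AlgebraicGeometry Opposite

namespace Groth.Agent.H52

variable {S : Scheme.{u}}

/-- A morphism between two schemes etale over a sheaf `F` is etale. -/
theorem etale_of_triangle {F : AlgSp.Sp S} {U W : Over S} (a : (AlgSp.yon S).obj U ⟶ F)
    (c : (AlgSp.yon S).obj W ⟶ F) (j : U ⟶ W) (ha : AlgSp.RepWith @Etale a)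
    (hc : AlgSp.RepWith @Etale c) (hj : (AlgSp.yon S).map j ≫ c = a) : Etale j.left := by
  have hrep := ha.rep
  have sq := hrep.isPullback c
  -- the second projection `P ⟶ W` is etale
  have h2 : Etale (hrep.snd c).left := ha.property_snd c
  -- the first projection `h_P ⟶ h_U` is `h` of an etale morphism
  obtain ⟨p1, hp1⟩ := (AlgSp.yon S).map_surjective (hrep.fst c)
  have sq' : IsPullback ((AlgSp.yon S).map (hrep.snd c)) ((AlgSp.yon S).map p1) c a := by
    rw [hp1]; exact sq.flip
  have h1 : Etale p1.left := hc.2 a _ _ sq'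
  -- the graph of `j`
  obtain ⟨γ, hγ⟩ := (AlgSp.yon S).map_surjective
    (sq.lift (𝟙 _) ((AlgSp.yon S).map j) (by rw [Category.id_comp, hj]))
  have e1 : γ ≫ p1 = 𝟙 U := by
    apply (AlgSp.yon S).map_injective
    rw [Functor.map_comp, hγ, hp1, sq.lift_fst]
    exact ((AlgSp.yon S).map_id U).symm
  have e2 : γ ≫ hrep.snd c = j := by
    apply (AlgSp.yon S).map_injective
    rw [Functor.map_comp, hγ, sq.lift_snd]
  have e1' : γ.left ≫ p1.left = 𝟙 U.left := by
    rw [← Over.comp_left, e1]; rfl
  have : Etale (γ.left ≫ p1.left) := by rw [e1']; infer_instance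
  have hγe : Etale γ.left := Etale.of_comp γ.left p1.left
  rw [← e2, Over.comp_left]
  infer_instance

/-- If `P` contains etale morphisms and is stable under composition, a morphism representable with
property `P` has `P` etale locally on source and target. -/
theorem locP_of_repWith {F G : AlgSp.Sp S} (f : F ⟶ G) (P : MorphismProperty Scheme.{u})
    [P.IsStableUnderComposition] (hP : ∀ ⦃A B : Scheme.{u}⦄ (φ : A ⟶ B), Etale φ → P φ)
    (hf : AlgSp.RepWith P f) : AlgSp.LocP P f := by
  intro U V a b h ha hb comm
  have hrep := hf.rep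
  have sq := hrep.isPullback b
  have hi : P (hrep.snd b).left := hf.property_snd b
  have hfst : AlgSp.RepWith @Etale (hrep.fst b) := MorphismProperty.of_isPullback sq.flip hb
  obtain ⟨j, hj⟩ := (AlgSp.yon S).map_surjective (sq.lift a ((AlgSp.yon S).map h) comm)
  have e1 : (AlgSp.yon S).map j ≫ hrep.fst b = a := by rw [hj, sq.lift_fst]
  have e2 : j ≫ hrep.snd b = h := by
    apply (AlgSp.yon S).map_injective
    rw [Functor.map_comp, hj, sq.lift_snd]
  have hje : Etale j.left := etale_of_triangle a (hrep.fst b) j ha hfst e1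
  rw [← e2, Over.comp_left]
  exact P.comp_mem _ _ (hP _ hje) hi

end Groth.Agent.H52
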