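/-
Helper library (helper52): the calculus of `AlgSp.LocP P` for properties `P` of morphisms of schemes
that are etale local on the source-and-target.
-/
import Groth.Agent.H52.LocP
import Groth.Agent.H52.Descent
import Groth.Agent.H53.SourceLocal

set_option autoImplicit false
universe u
open CategoryTheory CategoryTheory.Limits AlgebraicGeometry Opposite
open AlgSp

namespace Groth.Agent.H52

/-- `P` is etale local on the source-and-target. -/
structure IsEtLocal (P : MorphismProperty Scheme.{u}) : Prop where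
  baseChange : P.IsStableUnderBaseChange
  precomp : ∀ ⦃X Y Z : Scheme.{u}⦄ (k : X ⟶ Y) (f : Y ⟶ Z), Etale k → P f → P (k ≫ f)
  postcomp : ∀ ⦃X Y Z : Scheme.{u}⦄ (f : X ⟶ Y) (e : Y ⟶ Z), Etale e → P f → P (f ≫ e)
  source : ∀ ⦃V' V T : Scheme.{u}⦄ (g : V' ⟶ V) (f : V ⟶ T), Etale g → Surjective g →
    P (g ≫ f) → P f

namespace IsEtLocal

variable {P : MorphismProperty Scheme.{u}} (hP : IsEtLocal P)
include hP

theorem respectsIso : P.RespectsIso :=
  have := hP.baseChange
  MorphismProperty.IsStableUnderBaseChange.respectsIso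

/-- Cancellation of an etale morphism on the right. -/
theorem cancel {W Z V : Scheme.{u}} (k : W ⟶ Z) (e : Z ⟶ V) (he : Etale e) (h : P (k ≫ e)) :
    P k := by
  have := hP.baseChange
  have hsnd : P (pullback.snd (k ≫ e) e) := P.pullback_snd _ _ h
  let s : W ⟶ pullback (k ≫ e) e := pullback.lift (𝟙 _) k (by simp)
  have hs1 : s ≫ pullback.fst (k ≫ e) e = 𝟙 _ := pullback.lift_fst _ _ _
  have hs2 : s ≫ pullback.snd (k ≫ e) e = k := pullback.lift_snd _ _ _
  have : Etale (s ≫ pullback.fst (k ≫ e) e) := by rw [hs1]; infer_instance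
  have hse : Etale s := Etale.of_comp s (pullback.fst (k ≫ e) e)
  rw [← hs2]
  exact hP.precomp _ _ hse hsnd

/-- Descent on the target along etale surjective morphisms. -/
theorem target {X X' T T' : Scheme.{u}} {fst : X' ⟶ X} {snd : X' ⟶ T'} {f : X ⟶ T} {h : T' ⟶ T}
    (sq : IsPullback fst snd f h) (he : Etale h) (hs : Surjective h) (hsnd : P snd) : P f := by
  have h1 : Etale fst := MorphismProperty.of_isPullback sq.flip he
  have h2 : Surjective fst := MorphismProperty.of_isPullback sq.flip hs
  apply hP.source fst f h1 h2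
  rw [sq.w]
  exact hP.postcomp _ _ he hsnd

variable {S : Scheme.{u}}

/-- If one chart diagram with surjective etale source chart has top arrow in `P`, every chart
diagram does. -/
theorem locP_of_chart {F G : Sp S} (f : F ⟶ G) {U V : Over S}
    (a : (yon S).obj U ⟶ F) (b : (yon S).obj V ⟶ G) (h : U ⟶ V) (ha : RepWith @Etale a)
    (has : RepWith @Surjective a) (hb : RepWith @Etale b)
    (comm : a ≫ f = (yon S).map h ≫ b) (hh : P h.left) : LocP P f := by
  intro U' V' a' b' h' ha' hb' comm'
  have hrepa := ha.rep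
  have sqW := hrepa.isPullback a'
  have hW2e : Etale (hrepa.snd a').left := ha.property_snd a'
  have hW2s : Surjective (hrepa.snd a').left := has.2 a' _ _ sqW
  obtain ⟨w1, hw1⟩ := (yon S).map_surjective (hrepa.fst a')
  have sqW' : IsPullback ((yon S).map (hrepa.snd a')) ((yon S).map w1) a' a := by
    rw [hw1]; exact sqW.flip
  have hW1e : Etale w1.left := ha'.2 a _ _ sqW'
  have hrepb := hb.rep
  have sqZ := hrepb.isPullback b'
  have hZ2e : Etale (hrepb.snd b').left := hb.property_snd b'
  obtain ⟨z1, hz1⟩ := (yon S).map_surjective (hrepb.fst b')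
  have sqZ' : IsPullback ((yon S).map (hrepb.snd b')) ((yon S).map z1) b' b := by
    rw [hz1]; exact sqZ.flip
  have hZ1e : Etale z1.left := hb'.2 b _ _ sqZ'
  obtain ⟨k, hk⟩ := (yon S).map_surjective
    (sqZ.lift ((yon S).map (w1 ≫ h)) ((yon S).map (hrepa.snd a' ≫ h')) (by
      rw [Functor.map_comp, Functor.map_comp, Category.assoc, Category.assoc, ← comm, ← comm',
        hw1, ← Category.assoc, ← Category.assoc, sqW.w]))
  have hk1 : k ≫ z1 = w1 ≫ h := by
    apply (yon S).map_injective
    rw [Functor.map_comp, hk, hz1, sqZ.lift_fst]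
  have hk2 : k ≫ hrepb.snd b' = hrepa.snd a' ≫ h' := by
    apply (yon S).map_injective
    rw [Functor.map_comp, hk, sqZ.lift_snd]
  have h1 : P (w1 ≫ h).left := by
    rw [Over.comp_left]; exact hP.precomp _ _ hW1e hh
  rw [← hk1, Over.comp_left] at h1
  have h2 : P k.left := hP.cancel _ _ hZ1e h1
  have h3 : P (k ≫ hrepb.snd b').left := by
    rw [Over.comp_left]; exact hP.postcomp _ _ hZ2e h2
  rw [hk2, Over.comp_left] at h3
  exact hP.source _ _ hW2e hW2s h3

end IsEtLocal

end Groth.Agent.H52
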