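/-
Helper library (helper52): instances of `IsEtLocal`.
-/
import Groth.Agent.H52.LocPCalc

set_option autoImplicit false
universe u
open CategoryTheory CategoryTheory.Limits AlgebraicGeometry Opposite
open AlgSp

namespace Groth.Agent.H52

theorem isEtLocal_lft : IsEtLocal.{u} @LocallyOfFiniteType where
  baseChange := inferInstance
  precomp _ _ _ k f hk hf := by
    have : Etale k := hk
    have : LocallyOfFiniteType f := hf
    exact (inferInstance : LocallyOfFiniteType (k ≫ f))
  postcomp _ _ _ f e he hf := by
    have : Etale e := he
    have : LocallyOfFiniteType f := hf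
    exact (inferInstance : LocallyOfFiniteType (f ≫ e))
  source _ _ _ g f hg hs h := by
    have : Etale g := hg
    have : Surjective g := hs
    exact H53.locallyOfFiniteType_of_comp_etale_surjective g f h

theorem isEtLocal_lfp : IsEtLocal.{u} @LocallyOfFinitePresentation where
  baseChange := inferInstance
  precomp _ _ _ k f hk hf := by
    have : Etale k := hk
    have : LocallyOfFinitePresentation f := hf
    exact (inferInstance : LocallyOfFinitePresentation (k ≫ f))
  postcomp _ _ _ f e he hf := by
    have : Etale e := he
    have : LocallyOfFinitePresentation f := hf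
    exact (inferInstance : LocallyOfFinitePresentation (f ≫ e))
  source _ _ _ g f hg hs h := by
    have : Etale g := hg
    have : Surjective g := hs
    exact H53.locallyOfFinitePresentation_of_comp_etale_surjective g f h

theorem isEtLocal_flat : IsEtLocal.{u} @Flat where
  baseChange := inferInstance
  precomp _ _ _ k f hk hf := by
    have : Etale k := hk
    have : Flat f := hf
    exact (inferInstance : Flat (k ≫ f))
  postcomp _ _ _ f e he hf := by
    have : Etale e := he
    have : Flat f := hf
    exact (inferInstance : Flat (f ≫ e))
  source _ _ _ g f hg hs h := by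
    have : Etale g := hg
    have : Surjective g := hs
    exact H53.flat_of_comp_etale_surjective g f h

theorem isEtLocal_etale : IsEtLocal.{u} @Etale where
  baseChange := inferInstance
  precomp _ _ _ k f hk hf := by
    have : Etale k := hk
    have : Etale f := hf
    exact (inferInstance : Etale (k ≫ f))
  postcomp _ _ _ f e he hf := by
    have : Etale e := he
    have : Etale f := hf
    exact (inferInstance : Etale (f ≫ e))
  source _ _ _ g f hg hs h := by
    have : Etale g := hg
    have : Surjective g := hs
    exact H53.etale_of_comp_etale_surjective g f h

theorem isEtLocal_formallyUnramified : IsEtLocal.{u} @FormallyUnramified where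
  baseChange := inferInstance
  precomp _ _ _ k f hk hf := by
    have : Etale k := hk
    have : FormallyUnramified f := hf
    exact MorphismProperty.comp_mem _ k f (inferInstance : FormallyUnramified k) hf
  postcomp _ _ _ f e he hf := by
    have : Etale e := he
    have : FormallyUnramified f := hf
    exact MorphismProperty.comp_mem _ f e hf (inferInstance : FormallyUnramified e)
  source _ _ _ g f hg hs h := by
    have : Etale g := hg
    have : Surjective g := hs
    exact H53.formallyUnramified_of_comp_etale_surjective g f h

/-- Intersections of etale local properties are etale local. -/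
theorem IsEtLocal.inf {P Q : MorphismProperty Scheme.{u}} (hP : IsEtLocal P) (hQ : IsEtLocal Q) :
    IsEtLocal (P ⊓ Q) where
  baseChange :=
    have := hP.baseChange
    have := hQ.baseChange
    inferInstance
  precomp _ _ _ k f hk hf := ⟨hP.precomp k f hk hf.1, hQ.precomp k f hk hf.2⟩
  postcomp _ _ _ f e he hf := ⟨hP.postcomp f e he hf.1, hQ.postcomp f e he hf.2⟩
  source _ _ _ g f hg hs h := ⟨hP.source g f hg hs h.1, hQ.source g f hg hs h.2⟩

theorem IsEtLocal.of_iff {P Q : MorphismProperty Scheme.{u}} (hP : IsEtLocal P)
    (h : ∀ ⦃A B : Scheme.{u}⦄ (g : A ⟶ B), Q g ↔ P g) : IsEtLocal Q := by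
  have : Q = P := by
    ext A B g
    exact h g
  rw [this]; exact hP

theorem isEtLocal_unramified : IsEtLocal.{u} (@LocallyOfFiniteType ⊓ @FormallyUnramified) :=
  isEtLocal_lft.inf isEtLocal_formallyUnramified

end Groth.Agent.H52
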