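/-
Helper library (helper52): more calculus of `AlgSp.LocP P` for etale local `P`.
-/
import Groth.Agent.H52.LocPInst

set_option autoImplicit false
universe u
open CategoryTheory CategoryTheory.Limits AlgebraicGeometry Opposite
open AlgSp

namespace Groth.Agent.H52

namespace IsEtLocal

variable {P : MorphismProperty Scheme.{u}} (hP : IsEtLocal P) {S : Scheme.{u}}
include hP

/-- `LocP P` descends along a surjective etale base change from a scheme. -/
theorem locP_of_target_cover {X Y : Sp S} (hX : IsAlgSpace X) (hY : IsAlgSpace Y) (f : X ⟶ Y)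
    (V : Over S) (p : (yon S).obj V ⟶ Y) (hp : RepWith @Etale p) (hps : RepWith @Surjective p)
    {P' : Sp S} (fst : P' ⟶ X) (snd : P' ⟶ (yon S).obj V) (sq : IsPullback fst snd f p)
    (h : LocP P snd) : LocP P f := by
  obtain ⟨U, a, hae, has⟩ := hX.atlas
  obtain ⟨V', q, a', b', h1, h2, sq', hq⟩ :=
    exists_chart_of_isPullback sq (fun _ a => hY.representable_from_yon a) a (𝟙 ((yon S).obj V))
  have hide : RepWith @Etale (𝟙 ((yon S).obj V)) := repWith_id _ V
  have hids : RepWith @Surjective (𝟙 ((yon S).obj V)) := repWith_id _ V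
  have hqe : RepWith @Etale q := hq @Etale hae hide
  have hb' : P b'.left := h q (𝟙 _) b' hqe hide h2
  rw [Category.id_comp] at sq'
  have ha'e : RepWith @Etale ((yon S).map a') := MorphismProperty.of_isPullback sq'.flip hp
  have ha's : RepWith @Surjective ((yon S).map a') := MorphismProperty.of_isPullback sq'.flip hps
  refine hP.locP_of_chart f ((yon S).map a' ≫ a) p b'
    ((RepWith (S := S) @Etale).comp_mem _ _ ha'e hae)
    ((RepWith (S := S) @Surjective).comp_mem _ _ ha's has) hp ?_ hb'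
  rw [Category.assoc]
  exact sq'.w

/-- `LocP P` can be checked after precomposing with a surjective etale chart of the source. -/
theorem locP_of_source_cover {X Y : Sp S} (hY : IsAlgSpace Y) (f : X ⟶ Y)
    (U : Over S) (φ : (yon S).obj U ⟶ X) (hφ : RepWith @Etale φ) (hφs : RepWith @Surjective φ)
    (h : LocP P (φ ≫ f)) : LocP P f := by
  obtain ⟨V, b, hbe, hbs⟩ := hY.atlas
  have hrep := hbe.rep
  have sq := hrep.isPullback (φ ≫ f)
  have h2e : Etale (hrep.snd (φ ≫ f)).left := hbe.property_snd _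
  have h2s : Surjective (hrep.snd (φ ≫ f)).left := hbs.2 _ _ _ sq
  obtain ⟨w1, hw1⟩ := (yon S).map_surjective (hrep.fst (φ ≫ f))
  have e1 : RepWith @Etale ((yon S).map (hrep.snd (φ ≫ f))) := (repWith_yon_map_iff _ _).2 h2e
  have s1 : RepWith @Surjective ((yon S).map (hrep.snd (φ ≫ f))) :=
    (repWith_yon_map_iff _ _).2 h2s
  have comm : ((yon S).map (hrep.snd (φ ≫ f)) ≫ φ) ≫ f = (yon S).map w1 ≫ b := by
    rw [hw1, Category.assoc]; exact sq.w.symm
  have hw : P w1.left := h ((yon S).map (hrep.snd (φ ≫ f))) b w1 e1 hbe (by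
    rw [← Category.assoc]; exact comm)
  exact hP.locP_of_chart f ((yon S).map (hrep.snd (φ ≫ f)) ≫ φ) b w1
    ((RepWith (S := S) @Etale).comp_mem _ _ e1 hφ)
    ((RepWith (S := S) @Surjective).comp_mem _ _ s1 hφs) hbe comm hw

/-- If `P` can be cancelled on the right for schemes, `LocP P` can be cancelled on the right. -/
theorem locP_of_comp (hc : ∀ ⦃A B C : Scheme.{u}⦄ (f : A ⟶ B) (g : B ⟶ C), P (f ≫ g) → P f)
    {X Y Z : Sp S} (hZ : IsAlgSpace Z) (f : X ⟶ Y) (g : Y ⟶ Z)
    (h : LocP P (f ≫ g)) : LocP P f := by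
  intro U V a b h0 ha hb comm
  obtain ⟨W, c, hce, hcs⟩ := hZ.atlas
  have hrepc := hce.rep
  have sq1 := hrepc.isPullback (b ≫ g)
  have hve : Etale (hrepc.snd (b ≫ g)).left := hce.property_snd _
  have hvs : Surjective (hrepc.snd (b ≫ g)).left := hcs.2 _ _ _ sq1
  obtain ⟨v1, hv1⟩ := (yon S).map_surjective (hrepc.fst (b ≫ g))
  have hv := representable_yon_map (S := S) (hrepc.snd (b ≫ g))
  have sq2 := hv.isPullback ((yon S).map h0)
  obtain ⟨h1, hh1⟩ := (yon S).map_surjective (hv.fst ((yon S).map h0))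
  rw [← hh1] at sq2
  have sch := isPullback_left_of_isPullback_yon sq2
  have hue : Etale (hv.snd ((yon S).map h0)).left := MorphismProperty.of_isPullback sch hve
  have e1 : RepWith @Etale ((yon S).map (hv.snd ((yon S).map h0))) :=
    (repWith_yon_map_iff _ _).2 hue
  have comm' : ((yon S).map (hv.snd ((yon S).map h0)) ≫ a) ≫ f ≫ g =
      (yon S).map (h1 ≫ v1) ≫ c := by
    rw [Category.assoc, ← Category.assoc a, comm, Category.assoc, ← Category.assoc,
      ← sq2.w, Category.assoc, Functor.map_comp, Category.assoc, hv1, ← sq1.w]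
  have hP1 : P (h1 ≫ v1).left := h _ c (h1 ≫ v1)
    ((RepWith (S := S) @Etale).comp_mem _ _ e1 ha) hce comm'
  rw [Over.comp_left] at hP1
  exact hP.target sch.flip hve hvs (hc _ _ hP1)

end IsEtLocal

end Groth.Agent.H52
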