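/-
Helper library (helper52): more calculus of `AlgSp.LocP P` for etale local `P` (two-property
cancellation, locally of finite presentation).
-/
import Groth.Agent.H52.LocPCalc2

set_option autoImplicit false
universe u
open CategoryTheory CategoryTheory.Limits AlgebraicGeometry Opposite MorphismProperty
open AlgSp

namespace Groth.Agent.H52

/-- If `f ≫ g` is locally of finite presentation and `g` is locally of finite type, then `f` is
locally of finite presentation. -/
theorem lfp_of_comp_of_lft {X Y Z : Scheme.{u}} {f : X ⟶ Y} {g : Y ⟶ Z}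
    (h : LocallyOfFinitePresentation (f ≫ g)) (hg : LocallyOfFiniteType g) :
    LocallyOfFinitePresentation f := by
  wlog hZ : IsAffine Z generalizing X Y Z
  · rw [IsZariskiLocalAtTarget.iff_of_iSup_eq_top (P := @LocallyOfFinitePresentation) _
      (g.iSup_preimage_eq_top (iSup_affineOpens_eq_top Z))]
    intro U
    have H := IsZariskiLocalAtTarget.restrict h U.1
    rw [morphismRestrict_comp] at H
    exact this H (IsZariskiLocalAtTarget.restrict hg U.1) U.2
  wlog hY : IsAffine Y generalizing X Y
  · rw [IsZariskiLocalAtTarget.iff_of_iSup_eq_top (P := @LocallyOfFinitePresentation) _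
      (iSup_affineOpens_eq_top Y)]
    intro U
    have H := HasRingHomProperty.comp_of_isOpenImmersion @LocallyOfFinitePresentation
      (f ⁻¹ᵁ U.1).ι (f ≫ g) h
    rw [← morphismRestrict_ι_assoc] at H
    exact this H (inferInstance : LocallyOfFiniteType (U.1.ι ≫ g)) U.2
  wlog hX : IsAffine X generalizing X
  · rw [IsZariskiLocalAtSource.iff_of_iSup_eq_top (P := @LocallyOfFinitePresentation) _
      (iSup_affineOpens_eq_top X)]
    intro U
    have H := HasRingHomProperty.comp_of_isOpenImmersion @LocallyOfFinitePresentation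
      U.1.ι (f ≫ g) h
    rw [← Category.assoc] at H
    exact this H U.2
  rw [HasRingHomProperty.iff_of_isAffine (P := @LocallyOfFinitePresentation)] at h ⊢
  rw [HasRingHomProperty.iff_of_isAffine (P := @LocallyOfFiniteType)] at hg
  rw [Scheme.Hom.comp_appTop, CommRingCat.hom_comp] at h
  exact RingHom.FinitePresentation.of_comp_finiteType _ h hg

namespace IsEtLocal

variable {P : MorphismProperty Scheme.{u}} (hP : IsEtLocal P) {S : Scheme.{u}}
include hP

/-- Two-property cancellation for `LocP`. -/
theorem locP_of_comp' {Q : MorphismProperty Scheme.{u}}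
    (hc : ∀ ⦃A B C : Scheme.{u}⦄ (f : A ⟶ B) (g : B ⟶ C), P (f ≫ g) → Q g → P f)
    {X Y Z : Sp S} (hZ : IsAlgSpace Z) (f : X ⟶ Y) (g : Y ⟶ Z)
    (h : LocP P (f ≫ g)) (hg : LocP Q g) : LocP P f := by
  intro U V a b h0 ha hb comm
  obtain ⟨W, c, hce, hcs⟩ := hZ.atlas
  have hrepc := hce.rep
  have sq1 := hrepc.isPullback (b ≫ g)
  have hve : Etale (hrepc.snd (b ≫ g)).left := hce.property_snd _
  have hvs : Surjective (hrepc.snd (b ≫ g)).left := hcs.2 _ _ _ sq1
  obtain ⟨v1, hv1⟩ := (yon S).map_surjective (hrepc.fst (b ≫ g))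
  have ev : RepWith @Etale ((yon S).map (hrepc.snd (b ≫ g))) := (repWith_yon_map_iff _ _).2 hve
  have hQ : Q v1.left := hg ((yon S).map (hrepc.snd (b ≫ g)) ≫ b) c v1
    ((RepWith (S := S) @Etale).comp_mem _ _ ev hb) hce (by
      rw [Category.assoc, hv1]; exact sq1.w.symm)
  have hv := representable_yon_map (S := S) (hrepc.snd (b ≫ g))
  have sq2 := hv.isPullback ((yon S).map h0)
  obtain ⟨h1, hh1⟩ := (yon S).map_surjective (hv.fst ((yon S).map h0))
  rw [← hh1] at sq2
  have sch := isPullback_left_of_isPullback_yon sq2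
  have hue : Etale (hv.snd ((yon S).map h0)).left := MorphismProperty.of_isPullback sch hve
  have e1 : RepWith @Etale ((yon S).map (hv.snd ((yon S).map h0))) :=
    (repWith_yon_map_iff _ _).2 hue
  have comm' : ((yon S).map (hv.snd ((yon S).map h0)) ≫ a) ≫ f ≫ g =
      (yon S).map (h1 ≫ v1) ≫ c := by
    rw [Category.assoc, ← Category.assoc a, comm, Category.assoc, ← Category.assoc,
      ← sq2.w, Category.assoc, Functor.map_comp, Category.assoc, hv1, ← sq1.w]
  have hP1 : P (h1 ≫ v1).left := h _ c (h1 ≫ v1)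
    ((RepWith (S := S) @Etale).comp_mem _ _ e1 ha) hce comm'
  rw [Over.comp_left] at hP1
  exact hP.target sch.flip hve hvs (hc _ _ hP1 hQ)

end IsEtLocal

end Groth.Agent.H52
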