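/-
Helper library (helper52): locally quasi-finite (+ locally of finite type) is etale local on the
source-and-target.
-/
import Groth.Agent.H52.LocPCalc3

set_option autoImplicit false
universe u
open CategoryTheory CategoryTheory.Limits AlgebraicGeometry Opposite MorphismProperty
open AlgSp

namespace Groth.Agent.H52

/-- A set is discrete if its preimage under an open surjection is. -/
theorem isDiscrete_of_preimage {X Y : Type*} [TopologicalSpace X] [TopologicalSpace Y]
    (g : X → Y) (hg : IsOpenMap g) (hs : Function.Surjective g) (A : Set Y)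
    (h : IsDiscrete (g ⁻¹' A)) : IsDiscrete A := by
  rw [isDiscrete_iff_forall_mem_exists_isOpen] at h ⊢
  intro y hy
  obtain ⟨x, rfl⟩ := hs y
  obtain ⟨u, hu, hux⟩ := h x hy
  have hxu : x ∈ u := by
    have : x ∈ u ∩ g ⁻¹' A := by rw [hux]; rfl
    exact this.1
  refine ⟨g '' u, hg u hu, ?_⟩
  ext z
  constructor
  · rintro ⟨⟨w, hw, rfl⟩, hz⟩
    have : w ∈ u ∩ g ⁻¹' A := ⟨hw, hz⟩
    rw [hux] at this
    rw [Set.mem_singleton_iff] at this ⊢
    rw [this]
  · intro hz
    rw [Set.mem_singleton_iff] at hz
    subst hz
    exact ⟨⟨x, hxu, rfl⟩, hy⟩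

/-- Locally quasi-finite is etale local on the source, for morphisms locally of finite type. -/
theorem locallyQuasiFinite_of_comp_etale_surjective {V' V T : Scheme.{u}} (g : V' ⟶ V) (f : V ⟶ T)
    [Etale g] [Surjective g] [LocallyOfFiniteType f] (h : LocallyQuasiFinite (g ≫ f)) :
    LocallyQuasiFinite f := by
  rw [locallyQuasiFinite_iff_isDiscrete_preimage_singleton]
  intro t
  have hd := (g ≫ f).isDiscrete_preimage_singleton t
  have : (g ≫ f) ⁻¹' {t} = g ⁻¹' (f ⁻¹' {t}) := by
    ext x
    simp
  rw [this] at hd
  exact isDiscrete_of_preimage g g.isOpenMap g.surjective _ hd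

theorem isEtLocal_lqf_lft :
    IsEtLocal.{u} ((@LocallyQuasiFinite : MorphismProperty Scheme.{u}) ⊓ @LocallyOfFiniteType) where
  baseChange := inferInstance
  precomp _ _ _ k f hk hf := by
    have : Etale k := hk
    have : LocallyQuasiFinite k := H53.locallyQuasiFinite_of_formallyUnramified k
    have : LocallyQuasiFinite f := hf.1
    have : LocallyOfFiniteType f := hf.2
    exact ⟨(inferInstance : LocallyQuasiFinite (k ≫ f)),
      (inferInstance : LocallyOfFiniteType (k ≫ f))⟩
  postcomp _ _ _ f e he hf := by
    have : Etale e := he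
    have : LocallyQuasiFinite e := H53.locallyQuasiFinite_of_formallyUnramified e
    have : LocallyQuasiFinite f := hf.1
    have : LocallyOfFiniteType f := hf.2
    exact ⟨(inferInstance : LocallyQuasiFinite (f ≫ e)),
      (inferInstance : LocallyOfFiniteType (f ≫ e))⟩
  source _ _ _ g f hg hs h := by
    have : Etale g := hg
    have : Surjective g := hs
    have h2 : LocallyOfFiniteType f := H53.locallyOfFiniteType_of_comp_etale_surjective g f h.2
    exact ⟨locallyQuasiFinite_of_comp_etale_surjective g f h.1, h2⟩

end Groth.Agent.H52
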