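/-
Helper library (helper52): smoothness is etale local on the source.

Ring level: `A → B → C` with `B → C` etale and faithfully flat and `A → C` smooth implies
`A → B` smooth.  Scheme level: `g` etale surjective, `g ≫ f` smooth implies `f` smooth.
-/
import Groth.Agent.H52.LqfSource

set_option autoImplicit false
universe u
open TensorProduct KaehlerDifferential

namespace Groth.Agent.H52

/-- If `Ω[B⁄A]` is free on `d (a i)`, `B → C` is etale faithfully flat and `C` is smooth
over `A`, then `B` is smooth over `A` (it is etale over a polynomial ring). -/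
theorem smooth_of_basis_of_etale_faithfullyFlat (A B C : Type u) [CommRing A] [CommRing B]
    [CommRing C] [Algebra A B] [Algebra B C] [Algebra A C] [IsScalarTower A B C]
    [Algebra.Etale B C] [Module.FaithfullyFlat B C] [Algebra.Smooth A C]
    {κ : Type u} [Finite κ] (a : κ → B) (b : Module.Basis κ B Ω[B⁄A])
    (hb : ∀ i, b i = D A B (a i)) : Algebra.Smooth A B := by
  let P := MvPolynomial κ A
  let algPB : Algebra P B := (MvPolynomial.aeval a).toAlgebra
  have : IsScalarTower A P B := .of_algebraMap_eq' (MvPolynomial.aeval a).comp_algebraMap.symm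
  let algPC : Algebra P C := ((algebraMap B C).comp (algebraMap P B)).toAlgebra
  have : IsScalarTower P B C := .of_algebraMap_eq' rfl
  have : IsScalarTower A P C := .of_algebraMap_eq' (by
    rw [IsScalarTower.algebraMap_eq A B C, IsScalarTower.algebraMap_eq P B C, RingHom.comp_assoc,
      ← IsScalarTower.algebraMap_eq A P B])
  have hX : ∀ i, algebraMap P B (MvPolynomial.X i) = a i := fun i => by
    change MvPolynomial.aeval a (MvPolynomial.X i) = a i
    simp
  -- bases
  let bP : Module.Basis κ C (C ⊗[P] Ω[P⁄A]) := (mvPolynomialBasis A κ).baseChange C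
  let bC : Module.Basis κ C Ω[C⁄A] :=
    (b.baseChange C).map (tensorKaehlerEquivOfFormallyEtale A B C)
  have hbC : ∀ i, bC i = D A C (algebraMap B C (a i)) := fun i => by
    simp [bC, hb]
  have hbP : ∀ i, mapBaseChange A P C (bP i) = bC i := fun i => by
    rw [hbC]
    have e1 : bP i = (1 : C) ⊗ₜ[P] (D A P (MvPolynomial.X i)) := by
      simp [bP, P]
    rw [e1, mapBaseChange_tmul, one_smul, map_D, IsScalarTower.algebraMap_apply P B C, hX]
  have hbij : Function.Bijective (mapBaseChange A P C) := by
    have : mapBaseChange A P C = (bP.equiv bC (Equiv.refl κ)).toLinearMap := by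
      apply bP.ext
      intro i
      rw [hbP]
      simp
    rw [this]
    exact (bP.equiv bC (Equiv.refl κ)).bijective
  -- vanishing of `Ω[C⁄P]`
  have h1 : Subsingleton Ω[C⁄P] := by
    refine ⟨fun x y => ?_⟩
    suffices h : ∀ x : Ω[C⁄P], x = 0 by rw [h x, h y]
    intro x
    obtain ⟨y, rfl⟩ := KaehlerDifferential.map_surjective A P C x
    obtain ⟨z, rfl⟩ := hbij.2 y
    exact (KaehlerDifferential.exact_mapBaseChange_map A P C _).mpr ⟨z, rfl⟩
  -- vanishing of `H¹`
  have h2 : Subsingleton (Algebra.H1Cotangent P C) := by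
    refine ⟨fun x y => ?_⟩
    suffices h : ∀ x : Algebra.H1Cotangent P C, x = 0 by rw [h x, h y]
    intro x
    have hδ : Algebra.H1Cotangent.δ A P C x = 0 := by
      apply hbij.1
      rw [map_zero]
      exact (Algebra.H1Cotangent.exact_δ_mapBaseChange A P C _).mpr ⟨x, rfl⟩
    obtain ⟨y, rfl⟩ := (Algebra.H1Cotangent.exact_map_δ A P C x).mp hδ
    rw [Subsingleton.elim y 0, map_zero]
  have : Algebra.FormallyEtale P C := ⟨h1, h2⟩
  have : Algebra.FinitePresentation P C :=
    Algebra.FinitePresentation.of_restrict_scalars_finitePresentation A P C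
  have : Algebra.Etale P C := ⟨inferInstance, inferInstance⟩
  have : Algebra.Etale P B := H53.etale_of_comp_of_etale_faithfullyFlat P B C
  have : Algebra.Smooth A P := ⟨inferInstance, inferInstance⟩
  have : Algebra.Smooth P B := ⟨inferInstance, inferInstance⟩
  exact Algebra.Smooth.comp A P B

set_option backward.isDefEq.respectTransparency.types false in
/-- Spreading out a basis of differentials: if `Ω[S⁄R]` is finitely presented and flat, then around
every prime there is a basic open on which it is free on differentials `d (a i)`. -/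
theorem exists_basis_kaehler_away (R S : Type u) [CommRing R] [CommRing S] [Algebra R S]
    [Module.FinitePresentation S Ω[S⁄R]] [Module.Flat S Ω[S⁄R]] (p : Ideal S) [p.IsPrime] :
    ∃ (g : S), g ∉ p ∧ ∃ (κ : Type u) (_ : Finite κ) (a : κ → Localization.Away g)
      (b : Module.Basis κ (Localization.Away g) Ω[Localization.Away g⁄R]),
      ∀ i, b i = D R (Localization.Away g) (a i) := by
  have hfp : Module.FinitePresentation (Localization.AtPrime p) Ω[Localization.AtPrime p⁄R] :=
    _root_.FinitePresentation.of_isBaseChange (map R R S (Localization.AtPrime p))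
      ((isLocalizedModule_iff_isBaseChange p.primeCompl _ _).mp inferInstance)
  have hfl : Module.Flat (Localization.AtPrime p) Ω[Localization.AtPrime p⁄R] :=
    Module.Flat.of_isLocalizedModule _ p.primeCompl (map R R S (Localization.AtPrime p))
  obtain ⟨κ, a, b, hb⟩ := Module.exists_basis_of_span_of_flat _
    (span_range_map_derivation_of_isLocalization R _ (Localization.AtPrime p) p.primeCompl)
  let e : (κ →₀ S) →ₗ[S] Ω[S⁄R] :=
    Finsupp.linearCombination S fun i : κ ↦ D R S (a i)
  let l₁ : (κ →₀ S) →ₗ[S] (κ →₀ Localization.AtPrime p) :=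
    Finsupp.mapRange.linearMap (Algebra.linearMap S (Localization.AtPrime p))
  let l₂ : Ω[S⁄R] →ₗ[S] Ω[Localization.AtPrime p⁄R] := map R R S (Localization.AtPrime p)
  let eₚ : (κ →₀ Localization.AtPrime p) →ₗ[Localization.AtPrime p] Ω[Localization.AtPrime p⁄R] :=
    IsLocalizedModule.mapExtendScalars p.primeCompl l₁ l₂ (Localization.AtPrime p) e
  have : eₚ = b.repr.symm := by
    ext i
    trans IsLocalizedModule.map p.primeCompl l₁ l₂ e <| l₁ <| Finsupp.single i 1
    · simp [eₚ, -IsLocalizedModule.map_apply, l₁]
    · simp [l₂, e, hb]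
  have heₚ : Function.Bijective eₚ := this ▸ b.repr.symm.bijective
  have : Finite κ := Module.Finite.finite_basis b
  obtain ⟨g, hg, h⟩ := Module.FinitePresentation.exists_notMem_bijective e p l₁ l₂ heₚ
  let l₁ₜ : (κ →₀ S) →ₗ[S] (κ →₀ Localization.Away g) :=
    Finsupp.mapRange.linearMap (Algebra.linearMap S _)
  let l₂ₜ : Ω[S⁄R] →ₗ[S] Ω[Localization.Away g⁄R] :=
    map R R S (Localization.Away g)
  rw [← IsLocalizedModule.map_bijective_iff_localizedModuleMap_bijective l₁ₜ l₂ₜ] at h
  let eₜ' : (κ →₀ Localization.Away g) →ₗ[Localization.Away g] Ω[Localization.Away g⁄R] :=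
    IsLocalizedModule.mapExtendScalars (Submonoid.powers g) l₁ₜ l₂ₜ (Localization.Away g) e
  refine ⟨g, hg, κ, inferInstance, fun i => algebraMap S _ (a i),
    .ofRepr (LinearEquiv.ofBijective eₜ' h).symm, ?_⟩
  intro i
  simp +zetaDelta [IsLocalizedModule.map_linearCombination]

/-- Smoothness descends on the source along etale faithfully flat ring maps. -/
theorem smooth_of_comp_of_etale_faithfullyFlat (A B C : Type u) [CommRing A] [CommRing B]
    [CommRing C] [Algebra A B] [Algebra B C] [Algebra A C] [IsScalarTower A B C]
    [Algebra.Etale B C] [Module.FaithfullyFlat B C] [Algebra.Smooth A C] : Algebra.Smooth A B := by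
  have : Algebra.FinitePresentation A B :=
    H53.finitePresentation_of_comp_of_etale_faithfullyFlat A B C
  have : Module.Flat B Ω[B⁄A] := by
    have : Module.Flat C (C ⊗[B] Ω[B⁄A]) :=
      Module.Flat.of_linearEquiv (tensorKaehlerEquivOfFormallyEtale A B C)
    exact Module.Flat.of_flat_tensorProduct B _ C
  refine ⟨?_, inferInstance⟩
  rw [← Algebra.smoothLocus_eq_univ_iff, Set.eq_univ_iff_forall]
  intro q
  obtain ⟨g, hg, κ, _, a, b, hb⟩ := exists_basis_kaehler_away A B q.asIdeal
  suffices key : Algebra.Smooth A (Localization.Away g) from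
    (Algebra.basicOpen_subset_smoothLocus_iff_smooth.mpr key) hg
  let Bg := Localization.Away g
  let Cg := Localization (Algebra.algebraMapSubmonoid C (Submonoid.powers g))
  have tw : IsScalarTower A Bg Cg := .of_algebraMap_eq' (by
    rw [IsScalarTower.algebraMap_eq A C Cg, IsScalarTower.algebraMap_eq A B C,
      ← RingHom.comp_assoc, ← IsScalarTower.algebraMap_eq B C Cg,
      IsScalarTower.algebraMap_eq B Bg Cg, RingHom.comp_assoc,
      ← IsScalarTower.algebraMap_eq A B Bg])
  have hE0 : (algebraMap B C).Etale := RingHom.etale_algebraMap.mpr inferInstance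
  have hF0 : (algebraMap B C).FaithfullyFlat :=
    RingHom.faithfullyFlat_algebraMap_iff.mpr inferInstance
  have hE : (algebraMap Bg Cg).Etale :=
    RingHom.Etale.isStableUnderBaseChange.of_isLocalization (Submonoid.powers g) hE0
  have hF : (algebraMap Bg Cg).FaithfullyFlat :=
    RingHom.FaithfullyFlat.isStableUnderBaseChange.of_isLocalization (Submonoid.powers g) hF0
  have : Algebra.Etale Bg Cg := RingHom.etale_algebraMap.mp hE
  have : Module.FaithfullyFlat Bg Cg := RingHom.faithfullyFlat_algebraMap_iff.mp hF
  have hloc : IsLocalization.Away (algebraMap B C g) Cg := by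
    have : Algebra.algebraMapSubmonoid C (Submonoid.powers g) =
        Submonoid.powers (algebraMap B C g) := by
      simp [Algebra.algebraMapSubmonoid, Submonoid.map_powers]
    change IsLocalization (Submonoid.powers (algebraMap B C g)) Cg
    rw [← this]
    infer_instance
  have : Algebra.Smooth C Cg := Algebra.Smooth.of_isLocalization_Away (algebraMap B C g)
  have : Algebra.Smooth A Cg := Algebra.Smooth.comp A C Cg
  exact smooth_of_basis_of_etale_faithfullyFlat A Bg Cg a b hb

end Groth.Agent.H52

namespace Groth.Agent.H52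

open CategoryTheory CategoryTheory.Limits AlgebraicGeometry MorphismProperty

theorem ringSourceLocal_smooth : H53.RingSourceLocal.{u} @RingHom.Smooth := by
  intro A B C _ _ _ φ ψ h1 h2 h3
  algebraize [φ, ψ, ψ.comp φ]
  have : Module.FaithfullyFlat B C := h2
  have : Algebra.Etale B C := h1
  have : Algebra.Smooth A C := h3
  exact smooth_of_comp_of_etale_faithfullyFlat A B C

/-- Smoothness is etale local on the source. -/
theorem smooth_of_comp_etale_surjective {V' V T : Scheme.{u}} (g : V' ⟶ V) (f : V ⟶ T)
    [Etale g] [Surjective g] (h : Smooth (g ≫ f)) : Smooth f :=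
  H53.of_comp_etale_surjective (P := @Smooth) ringSourceLocal_smooth
    (fun k f _ hf => by
      have : Smooth f := hf
      exact (inferInstance : Smooth (k ≫ f))) g f h

theorem isEtLocal_smooth : IsEtLocal.{u} @Smooth where
  baseChange := inferInstance
  precomp _ _ _ k f hk hf := by
    have : Etale k := hk
    have : Smooth f := hf
    exact (inferInstance : Smooth (k ≫ f))
  postcomp _ _ _ f e he hf := by
    have : Etale e := he
    have : Smooth f := hf
    exact (inferInstance : Smooth (f ≫ e))
  source _ _ _ g f hg hs h := by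
    have : Etale g := hg
    have : Surjective g := hs
    exact smooth_of_comp_etale_surjective g f h

/-- The seven classes of the reference are etale local on the source-and-target. -/
theorem isEtLocal_of_list (P : MorphismProperty Scheme.{u})
    (hP : P = @LocallyOfFiniteType ∨ P = @LocallyOfFinitePresentation ∨ P = @Flat ∨ P = @Smooth ∨
      P = @Etale ∨
      (∀ ⦃A B : Scheme.{u}⦄ (g : A ⟶ B), P g ↔ (LocallyQuasiFinite g ∧ LocallyOfFiniteType g)) ∨
      (∀ ⦃A B : Scheme.{u}⦄ (g : A ⟶ B), P g ↔ (LocallyOfFiniteType g ∧ FormallyUnramified g))) :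
    IsEtLocal P := by
  rcases hP with rfl | rfl | rfl | rfl | rfl | h | h
  · exact isEtLocal_lft
  · exact isEtLocal_lfp
  · exact isEtLocal_flat
  · exact isEtLocal_smooth
  · exact isEtLocal_etale
  · exact isEtLocal_lqf_lft.of_iff h
  · exact isEtLocal_unramified.of_iff h

end Groth.Agent.H52
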