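/-
Helper library (helper52): `LocP P` versus `RepWith P`, base change and composition, for etale
local `P`.
-/
import Groth.Agent.H52.SmoothSource

set_option autoImplicit false
universe u
open CategoryTheory CategoryTheory.Limits AlgebraicGeometry Opposite MorphismProperty
open AlgSp

namespace Groth.Agent.H52

namespace IsEtLocal

variable {P : MorphismProperty Scheme.{u}} (hP : IsEtLocal P) {S : Scheme.{u}}
include hP

/-- A morphism representable with property `P` has `P` etale locally on source and target. -/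
theorem locP_of_repWith' {F G : Sp S} (f : F ⟶ G) (hf : RepWith P f) : LocP P f := by
  intro U V a b h ha hb comm
  have hrep := hf.rep
  have sq := hrep.isPullback b
  have hi : P (hrep.snd b).left := hf.property_snd b
  have hfst : RepWith @Etale (hrep.fst b) := MorphismProperty.of_isPullback sq.flip hb
  obtain ⟨j, hj⟩ := (yon S).map_surjective (sq.lift a ((yon S).map h) comm)
  have e1 : (yon S).map j ≫ hrep.fst b = a := by rw [hj, sq.lift_fst]
  have e2 : j ≫ hrep.snd b = h := by
    apply (yon S).map_injective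
    rw [Functor.map_comp, hj, sq.lift_snd]
  have hje : Etale j.left := etale_of_triangle a (hrep.fst b) j ha hfst e1
  rw [← e2, Over.comp_left]
  exact hP.precomp _ _ hje hi

/-- Descent of `RepWith P` along an etale surjective base change, for a representable morphism. -/
theorem repWith_of_etale_surjective_base_change
    {F G F' G' : Sp S} {g : F ⟶ G} {c : G' ⟶ G} {p : F' ⟶ F} {g' : F' ⟶ G'}
    (sq : IsPullback p g' g c) (hg : Representable g) (hce : RepWith @Etale c)
    (hcs : RepWith @Surjective c) (hg' : RepWith P g') : RepWith P g := by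
  have := hP.baseChange
  apply MorphismProperty.relative_of_snd hg
  intro T y
  have sqE := hg.isPullback y
  have hcrep := hce.rep
  have sqT := hcrep.isPullback y
  have h1 : Etale (hcrep.snd y).left := hce.property_snd y
  have h2 : Surjective (hcrep.snd y).left := hcs.2 y _ _ sqT
  have hg'rep := hg'.rep
  have sq'' := hg'rep.isPullback (hcrep.fst y)
  have hQ : P (hg'rep.snd (hcrep.fst y)).left := hg'.property_snd _
  have big := sq''.paste_horiz sq
  rw [sqT.w] at big
  obtain ⟨e, he⟩ := (yon S).map_surjective (sqE.lift (hg'rep.fst (hcrep.fst y) ≫ p)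
    ((yon S).map (hg'rep.snd (hcrep.fst y)) ≫ (yon S).map (hcrep.snd y)) (by
      rw [Category.assoc]; exact big.w))
  have he1 : (yon S).map e ≫ hg.fst y = hg'rep.fst (hcrep.fst y) ≫ p := by
    rw [he, sqE.lift_fst]
  have he2 : (yon S).map e ≫ (yon S).map (hg.snd y) =
      (yon S).map (hg'rep.snd (hcrep.fst y)) ≫ (yon S).map (hcrep.snd y) := by
    rw [he, sqE.lift_snd]
  have left : IsPullback ((yon S).map e) ((yon S).map (hg'rep.snd (hcrep.fst y)))
      ((yon S).map (hg.snd y)) ((yon S).map (hcrep.snd y)) := by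
    refine IsPullback.of_right ?_ he2 sqE
    rw [he1]
    exact big
  have sch := isPullback_left_of_isPullback_yon left
  exact hP.target sch h1 h2 hQ

/-- For a representable morphism to an algebraic space, `LocP P` implies `RepWith P`. -/
theorem repWith_of_locP {F G : Sp S} (hG : IsAlgSpace G) (f : F ⟶ G) (hf : Representable f)
    (h : LocP P f) : RepWith P f := by
  have := hP.baseChange
  obtain ⟨V, b, hbe, hbs⟩ := hG.atlas
  have sq := hf.isPullback b
  have hfst : RepWith @Etale (hf.fst b) := MorphismProperty.of_isPullback sq.flip hbe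
  have hsnd : P (hf.snd b).left := h (hf.fst b) b (hf.snd b) hfst hbe sq.w
  exact hP.repWith_of_etale_surjective_base_change sq hf hbe hbs
    ((repWith_yon_map_iff P _).2 hsnd)

/-- `LocP P` is stable under precomposition with representable etale morphisms from schemes. -/
theorem locP_precomp {F G : Sp S} (f : F ⟶ G) {U : Over S} (a : (yon S).obj U ⟶ F)
    (ha : RepWith @Etale a) (h : LocP P f) : LocP P (a ≫ f) := by
  intro U' V' a' b' h' ha' hb' comm
  exact h (a' ≫ a) b' h' ((RepWith (S := S) @Etale).comp_mem _ _ ha' ha) hb' (by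
    rw [Category.assoc]; exact comm)

/-- `LocP P` is stable under base change between algebraic spaces. -/
theorem locP_of_isPullback {X Y Y' X' : Sp S} (hX : IsAlgSpace X) (hY : IsAlgSpace Y)
    (hY' : IsAlgSpace Y') {f : X ⟶ Y} {g : Y' ⟶ Y} {fst : X' ⟶ X} {f' : X' ⟶ Y'}
    (sq : IsPullback fst f' f g) (hf : LocP P f) : LocP P f' := by
  obtain ⟨U, pX, hXe, hXs⟩ := hX.atlas
  obtain ⟨W, pZ, hZe, hZs⟩ := hY'.atlas
  obtain ⟨V0, q, a, b, h1, h2, sq', hq⟩ :=
    exists_chart_of_isPullback sq (fun _ a => hY.representable_from_yon a) pX pZ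
  have hqe : RepWith @Etale q := hq @Etale hXe hZe
  have hqs : RepWith @Surjective q := hq @Surjective hXs hZs
  have hloc : LocP P (pX ≫ f) := hP.locP_precomp f pX hXe hf
  have hrep : RepWith P (pX ≫ f) :=
    hP.repWith_of_locP hY (pX ≫ f) (hY.representable_from_yon _) hloc
  have hb : P b.left := hrep.2 (pZ ≫ g) _ _ sq'
  exact hP.locP_of_chart f' q pZ b hqe hqs hZe h2 hb

/-- `LocP P` is stable under composition of morphisms of algebraic spaces, if `P` is stable under
composition. -/
theorem locP_comp [P.IsStableUnderComposition] {X Y Z : Sp S} (hX : IsAlgSpace X)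
    (hY : IsAlgSpace Y) (hZ : IsAlgSpace Z) (f : X ⟶ Y) (g : Y ⟶ Z) (hf : LocP P f)
    (hg : LocP P g) : LocP P (f ≫ g) := by
  obtain ⟨W, c, hce, hcs⟩ := hZ.atlas
  obtain ⟨V0, b0, hb0e, hb0s⟩ := hY.atlas
  obtain ⟨U0, a0, ha0e, ha0s⟩ := hX.atlas
  -- refine the atlas of `Y`
  have hrepc := hce.rep
  have sq1 := hrepc.isPullback (b0 ≫ g)
  have hve : Etale (hrepc.snd (b0 ≫ g)).left := hce.property_snd _
  have hvs : Surjective (hrepc.snd (b0 ≫ g)).left := hcs.2 _ _ _ sq1
  obtain ⟨v1, hv1⟩ := (yon S).map_surjective (hrepc.fst (b0 ≫ g))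
  have ev : RepWith @Etale ((yon S).map (hrepc.snd (b0 ≫ g))) := (repWith_yon_map_iff _ _).2 hve
  have sv : RepWith @Surjective ((yon S).map (hrepc.snd (b0 ≫ g))) :=
    (repWith_yon_map_iff _ _).2 hvs
  have hbe : RepWith @Etale ((yon S).map (hrepc.snd (b0 ≫ g)) ≫ b0) :=
    (RepWith (S := S) @Etale).comp_mem _ _ ev hb0e
  have hbs : RepWith @Surjective ((yon S).map (hrepc.snd (b0 ≫ g)) ≫ b0) :=
    (RepWith (S := S) @Surjective).comp_mem _ _ sv hb0s
  have commg : ((yon S).map (hrepc.snd (b0 ≫ g)) ≫ b0) ≫ g = (yon S).map v1 ≫ c := by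
    rw [Category.assoc, hv1]; exact sq1.w.symm
  have hPv : P v1.left := hg _ c v1 hbe hce commg
  -- refine the atlas of `X`
  have hrepb := hbe.rep
  have sq2 := hrepb.isPullback (a0 ≫ f)
  have hue : Etale (hrepb.snd (a0 ≫ f)).left := hbe.property_snd _
  have hus : Surjective (hrepb.snd (a0 ≫ f)).left := hbs.2 _ _ _ sq2
  obtain ⟨u1, hu1⟩ := (yon S).map_surjective (hrepb.fst (a0 ≫ f))
  have eu : RepWith @Etale ((yon S).map (hrepb.snd (a0 ≫ f))) := (repWith_yon_map_iff _ _).2 hue
  have su : RepWith @Surjective ((yon S).map (hrepb.snd (a0 ≫ f))) :=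
    (repWith_yon_map_iff _ _).2 hus
  have hae : RepWith @Etale ((yon S).map (hrepb.snd (a0 ≫ f)) ≫ a0) :=
    (RepWith (S := S) @Etale).comp_mem _ _ eu ha0e
  have has : RepWith @Surjective ((yon S).map (hrepb.snd (a0 ≫ f)) ≫ a0) :=
    (RepWith (S := S) @Surjective).comp_mem _ _ su ha0s
  have commf : ((yon S).map (hrepb.snd (a0 ≫ f)) ≫ a0) ≫ f =
      (yon S).map u1 ≫ (yon S).map (hrepc.snd (b0 ≫ g)) ≫ b0 := by
    rw [Category.assoc, hu1]; exact sq2.w.symm
  have hPu : P u1.left := hf _ _ u1 hae hbe commf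
  refine hP.locP_of_chart (f ≫ g) _ c (u1 ≫ v1) hae has hce ?_ ?_
  · rw [← Category.assoc, commf, Functor.map_comp, Category.assoc, Category.assoc,
      ← Category.assoc ((yon S).map (hrepc.snd (b0 ≫ g))), commg, Category.assoc]
  · rw [Over.comp_left]
    exact P.comp_mem _ _ hPu hPv

end IsEtLocal

/-- The seven classes of the reference are stable under composition. -/
theorem isStableUnderComposition_of_list (P : MorphismProperty Scheme.{u})
    (hP : P = @LocallyOfFiniteType ∨ P = @LocallyOfFinitePresentation ∨ P = @Flat ∨ P = @Smooth ∨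
      P = @Etale ∨
      (∀ ⦃A B : Scheme.{u}⦄ (g : A ⟶ B), P g ↔ (LocallyQuasiFinite g ∧ LocallyOfFiniteType g)) ∨
      (∀ ⦃A B : Scheme.{u}⦄ (g : A ⟶ B), P g ↔ (LocallyOfFiniteType g ∧ FormallyUnramified g))) :
    P.IsStableUnderComposition := by
  rcases hP with rfl | rfl | rfl | rfl | rfl | h | h
  · infer_instance
  · infer_instance
  · infer_instance
  · infer_instance
  · infer_instance
  · have : P = (@LocallyQuasiFinite ⊓ @LocallyOfFiniteType : MorphismProperty Scheme.{u}) := by
      ext A B g; exact h g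
    rw [this]; infer_instance
  · have : P = (@LocallyOfFiniteType ⊓ @FormallyUnramified : MorphismProperty Scheme.{u}) := by
      ext A B g; exact h g
    rw [this]; infer_instance

end Groth.Agent.H52
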