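/-
Helper library (helper52): `LocP P` from chart diagrams through every point.
-/
import Groth.Agent.H52.LocPCalc4
import Groth.Agent.H52.Points

set_option autoImplicit false
universe u
open CategoryTheory CategoryTheory.Limits AlgebraicGeometry Opposite MorphismProperty
open AlgSp

namespace Groth.Agent.H52

variable {S : Scheme.{u}}

theorem ofPt_yon_map_comp {F : Sp S} {T T' : Over S} (φ : T ⟶ T') (a : (yon S).obj T' ⟶ F)
    (t : ↥T.left) : Points.ofPt ((yon S).map φ ≫ a) t = Points.ofPt a (φ.left t) := by
  rw [Points.ofPt_eq_map_ofScheme, Points.map_comp, points_map_ofScheme,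
    ← Points.ofPt_eq_map_ofScheme]

namespace IsEtLocal

variable {P : MorphismProperty Scheme.{u}} (hP : IsEtLocal P)
include hP

/-- Comparison of two chart diagrams: if the top arrow of the first has `P`, then the top arrow of
the second has `P` after pulling back to the fibre product of the source charts. -/
theorem prop_of_two_charts {F G : Sp S} (f : F ⟶ G) {U V : Over S}
    (a : (yon S).obj U ⟶ F) (b : (yon S).obj V ⟶ G) (h : U ⟶ V) (ha : RepWith @Etale a)
    (hb : RepWith @Etale b) (comm : a ≫ f = (yon S).map h ≫ b) (hh : P h.left)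
    {U' V' : Over S} (a' : (yon S).obj U' ⟶ F) (b' : (yon S).obj V' ⟶ G) (h' : U' ⟶ V')
    (ha' : RepWith @Etale a') (hb' : RepWith @Etale b')
    (comm' : a' ≫ f = (yon S).map h' ≫ b') :
    P (ha.rep.snd a' ≫ h').left := by
  have hrepa := ha.rep
  have sqW := hrepa.isPullback a'
  obtain ⟨w1, hw1⟩ := (yon S).map_surjective (hrepa.fst a')
  have sqW' : IsPullback ((yon S).map (hrepa.snd a')) ((yon S).map w1) a' a := by
    rw [hw1]; exact sqW.flip
  have hW1e : Etale w1.left := ha'.2 a _ _ sqW'
  have hrepb := hb.rep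
  have sqZ := hrepb.isPullback b'
  have hZ2e : Etale (hrepb.snd b').left := hb.property_snd b'
  obtain ⟨z1, hz1⟩ := (yon S).map_surjective (hrepb.fst b')
  have sqZ' : IsPullback ((yon S).map (hrepb.snd b')) ((yon S).map z1) b' b := by
    rw [hz1]; exact sqZ.flip
  have hZ1e : Etale z1.left := hb'.2 b _ _ sqZ'
  obtain ⟨k, hk⟩ := (yon S).map_surjective
    (sqZ.lift ((yon S).map (w1 ≫ h)) ((yon S).map (hrepa.snd a' ≫ h')) (by
      rw [Functor.map_comp, Functor.map_comp, Category.assoc, Category.assoc, ← comm, ← comm',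
        hw1, ← Category.assoc, ← Category.assoc, sqW.w]))
  have hk1 : k ≫ z1 = w1 ≫ h := by
    apply (yon S).map_injective
    rw [Functor.map_comp, hk, hz1, sqZ.lift_fst]
  have hk2 : k ≫ hrepb.snd b' = hrepa.snd a' ≫ h' := by
    apply (yon S).map_injective
    rw [Functor.map_comp, hk, sqZ.lift_snd]
  have h1 : P (w1 ≫ h).left := by
    rw [Over.comp_left]; exact hP.precomp _ _ hW1e hh
  rw [← hk1, Over.comp_left] at h1
  have h2 : P k.left := hP.cancel _ _ hZ1e h1
  have h3 : P (k ≫ hrepb.snd b').left := by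
    rw [Over.comp_left]; exact hP.postcomp _ _ hZ2e h2
  rw [hk2] at h3
  exact h3

/-- If through every point of the source there is a chart diagram whose top arrow has `P`, then
every chart diagram has top arrow in `P`. -/
theorem locP_of_local_charts [IsZariskiLocalAtSource P] {F G : Sp S} (f : F ⟶ G)
    (H : ∀ x : Points F, ∃ (U V : Over S) (a : (yon S).obj U ⟶ F) (b : (yon S).obj V ⟶ G)
      (h : U ⟶ V) (u : ↥U.left), RepWith @Etale a ∧ RepWith @Etale b ∧
        a ≫ f = (yon S).map h ≫ b ∧ Points.ofPt a u = x ∧ P h.left) : LocP P f := by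
  intro U' V' a' b' h' ha' hb' comm'
  -- for every point of `U'` an open neighbourhood on which `h'` has `P`
  have key : ∀ u' : ↥U'.left, ∃ N : U'.left.Opens, u' ∈ N ∧ P (N.ι ≫ h'.left) := by
    intro u'
    obtain ⟨U, V, a, b, h, u, ha, hb, comm, hx, hh⟩ := H (Points.ofPt a' u')
    have hrepa := ha.rep
    have sqW := hrepa.isPullback a'
    have hW2e : Etale (hrepa.snd a').left := ha.property_snd a'
    have h3 : P (hrepa.snd a' ≫ h').left :=
      hP.prop_of_two_charts f a b h ha hb comm hh a' b' h' ha' hb' comm'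
    rw [Over.comp_left] at h3
    -- a point of `W` over `u'`
    obtain ⟨p, -, hp2⟩ := exists_point_of_isPullback sqW (Points.ofScheme U u)
      (Points.ofScheme U' u') (by
        rw [← Points.ofPt_eq_map_ofScheme, ← Points.ofPt_eq_map_ofScheme, hx])
    have hw : (hrepa.snd a').left (Points.toScheme _ p) = u' := by
      have := congrArg (Points.toScheme U') hp2
      rw [Points.toScheme_ofScheme] at this
      rw [← this, ← Points.ofScheme_toScheme _ p, points_map_ofScheme, Points.toScheme_ofScheme,
        Points.toScheme_ofScheme]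
    let N : U'.left.Opens :=
      ⟨Set.range (hrepa.snd a').left, (hrepa.snd a').left.isOpenMap.isOpen_range⟩
    have hNr : Set.range N.ι = Set.range (hrepa.snd a').left := Scheme.Opens.range_ι N
    have hle : Set.range (hrepa.snd a').left ⊆ Set.range N.ι := by rw [hNr]
    have hl₀ : IsOpenImmersion.lift N.ι (hrepa.snd a').left hle ≫ N.ι = (hrepa.snd a').left :=
      IsOpenImmersion.lift_fac _ _ _
    generalize IsOpenImmersion.lift N.ι (hrepa.snd a').left hle = l at hl₀
    have hle' : Etale l := by
      have : Etale (l ≫ N.ι) := by rw [hl₀]; exact hW2e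
      exact Etale.of_comp l N.ι
    have hls : Surjective l := ⟨fun n => by
      have : N.ι n ∈ Set.range (hrepa.snd a').left := by rw [← hNr]; exact ⟨n, rfl⟩
      obtain ⟨w, hw⟩ := this
      refine ⟨w, N.ι.injective ?_⟩
      rw [← Scheme.Hom.comp_apply, hl₀]; exact hw⟩
    refine ⟨N, ⟨_, hw⟩, ?_⟩
    apply hP.source l _ hle' hls
    rw [← Category.assoc, hl₀]
    exact h3
  choose N hN1 hN2 using key
  refine IsZariskiLocalAtSource.of_iSup_eq_top N ?_ hN2
  rw [eq_top_iff]
  intro x _
  exact TopologicalSpace.Opens.mem_iSup.2 ⟨x, hN1 x⟩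

end IsEtLocal

end Groth.Agent.H52
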