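/-
Helper library (helper52): the diagonal of an algebraic space and of a morphism of algebraic spaces.
-/
import Groth.Agent.H52.Descent

set_option autoImplicit false
universe u
open CategoryTheory CategoryTheory.Limits AlgebraicGeometry Opposite Topology
open AlgSp

namespace Groth.Agent.H52

variable {S : Scheme.{u}}

section Cat

variable {D : Type*} [Category D] [HasBinaryProducts D]

set_option backward.isDefEq.respectTransparency false in
/-- `U ×_X V ⟶ U × V` is the base change of the diagonal of `X` along `p × q`. -/
theorem isPullback_diag_prod_map [HasPullbacks D] {U V X : D} (p : U ⟶ X) (q : V ⟶ X) :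
    IsPullback (pullback.fst p q ≫ p) (prod.lift (pullback.fst p q) (pullback.snd p q))
      (Limits.diag X) (prod.map p q) := by
  refine ⟨⟨by ext <;> simp [pullback.condition]⟩,
    ⟨PullbackCone.IsLimit.mk _ (fun s => pullback.lift (s.snd ≫ prod.fst) (s.snd ≫ prod.snd) ?_)
      ?_ ?_ ?_⟩⟩
  · have h1 := congrArg (· ≫ prod.fst) s.condition
    have h2 := congrArg (· ≫ prod.snd) s.condition
    simp only [Category.assoc, prod.lift_fst, prod.lift_snd, prod.map_fst, prod.map_snd,
      Limits.diag, Category.comp_id] at h1 h2
    rw [Category.assoc, Category.assoc, ← h1, h2]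
  · intro s
    have h1 := congrArg (· ≫ prod.fst) s.condition
    simp only [Category.assoc, prod.lift_fst, prod.map_fst, Limits.diag, Category.comp_id] at h1
    rw [← Category.assoc, pullback.lift_fst, Category.assoc]
    exact h1.symm
  · intro s
    ext
    · simp only [Category.assoc, prod.lift_fst, pullback.lift_fst]
    · simp only [Category.assoc, prod.lift_snd, pullback.lift_snd]
  · intro s m _ hm
    apply pullback.hom_ext
    · rw [pullback.lift_fst, ← hm, Category.assoc, prod.lift_fst]
    · rw [pullback.lift_snd, ← hm, Category.assoc, prod.lift_snd]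

/-- `𝟙 × f` is a base change of `f`. -/
theorem isPullback_prod_snd_with_id {A B : D} (f : A ⟶ B) (Z : D) :
    IsPullback prod.snd (prod.map (𝟙 Z) f) f prod.snd := by
  refine ⟨⟨by simp⟩, ⟨PullbackCone.IsLimit.mk _
    (fun s => prod.lift (s.snd ≫ prod.fst) s.fst) ?_ ?_ ?_⟩⟩
  · intro s
    rw [prod.lift_snd]
  · intro s
    ext
    · rw [Category.assoc, prod.map_fst, Category.comp_id, prod.lift_fst]
    · rw [Category.assoc, prod.map_snd, ← Category.assoc, prod.lift_snd]
      exact s.condition
  · intro s m h1 h2
    ext
    · rw [prod.lift_fst, ← h2, Category.assoc, prod.map_fst, Category.comp_id]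
    · rw [prod.lift_snd, ← h1]

end Cat

/-- A product of two morphisms representable with property `Q` has the same property. -/
theorem repWith_prod_map (Q : MorphismProperty Scheme.{u}) [Q.IsStableUnderBaseChange]
    [Q.IsMultiplicative] {A B A' B' : Sp S} (p : A ⟶ B) (q : A' ⟶ B')
    (hp : RepWith Q p) (hq : RepWith Q q) : RepWith Q (prod.map p q) := by
  have h1 : RepWith Q (prod.map p (𝟙 A')) :=
    MorphismProperty.of_isPullback (IsPullback.of_prod_fst_with_id p A') hp
  have h2 : RepWith Q (prod.map (𝟙 B) q) :=
    MorphismProperty.of_isPullback (isPullback_prod_snd_with_id q B) hq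
  have : prod.map p q = prod.map p (𝟙 A') ≫ prod.map (𝟙 B) q := by
    ext <;> simp
  rw [this]
  exact (RepWith (S := S) Q).comp_mem _ _ h1 h2

/-- Cancellation: if `g ≫ f` has `P` and the diagonal of `f` has `P` then `g` has `P`. -/
theorem of_comp_of_diagonal {D : Type*} [Category D] [HasPullbacks D] (P : MorphismProperty D)
    [P.IsStableUnderBaseChange] [P.IsMultiplicative] {X Y Z : D} (g : X ⟶ Y) (f : Y ⟶ Z)
    (hgf : P (g ≫ f)) (hf : P.diagonal f) : P g := by
  have : P.HasOfPostcompProperty P.diagonal :=
    (MorphismProperty.hasOfPostcompProperty_iff_le_diagonal (P := P) (Q := P.diagonal)).2 le_rfl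
  exact MorphismProperty.of_postcomp (W := P) (W' := P.diagonal) g f hf hgf

end Groth.Agent.H52

namespace Groth.Agent.H52

variable {S : Scheme.{u}}

/-- A representable monomorphism of sheaves is representable by monomorphisms of schemes. -/
theorem repWith_mono_of_mono {F G : Sp S} (f : F ⟶ G) [Mono f] (hf : Representable f) :
    RepWith (MorphismProperty.monomorphisms Scheme.{u}) f := by
  refine ⟨hf, fun U V g fst snd sq => ?_⟩
  have h1 : Mono ((yon S).map snd) := sq.mono_snd_of_mono
  have h2 : Mono snd := (yon S).mono_of_mono_map h1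
  exact (inferInstance : Mono snd.left)

/-- The canonical map `X ×_Y X ⟶ X × X` is a monomorphism. -/
instance mono_prod_lift_pullback {D : Type*} [Category D] [HasBinaryProducts D] [HasPullbacks D]
    {X Y : D} (f : X ⟶ Y) : Mono (prod.lift (pullback.fst f f) (pullback.snd f f)) := by
  constructor
  intro Z a b hab
  have h1 := congrArg (· ≫ prod.fst) hab
  have h2 := congrArg (· ≫ prod.snd) hab
  simp only [Category.assoc, prod.lift_fst, prod.lift_snd] at h1 h2
  exact pullback.hom_ext h1 h2

/-- The relative diagonal of `f : X ⟶ Y` is the base change of the diagonal of `X` along the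
monomorphism `X ×_Y X ⟶ X × X`. -/
theorem isPullback_diagonal_diag {D : Type*} [Category D] [HasBinaryProducts D] [HasPullbacks D]
    {X Y : D} (f : X ⟶ Y) :
    IsPullback (𝟙 X) (pullback.diagonal f) (Limits.diag X)
      (prod.lift (pullback.fst f f) (pullback.snd f f)) := by
  apply IsPullback.of_horiz_isIso_mono
  constructor
  ext
  · simp
  · simp

/-- Descent of properties of the diagonal of an algebraic space from a chart. -/
theorem repWith_diag_of_chart (Q : MorphismProperty Scheme.{u}) [Q.IsStableUnderBaseChange]
    [Q.IsMultiplicative] [Q.DescendsAlong (@Surjective ⊓ @Flat ⊓ @LocallyOfFinitePresentation)]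
    (hQe : ∀ ⦃A B : Scheme.{u}⦄ (φ : A ⟶ B), Etale φ → Q φ)
    (hQi : ∀ ⦃A B : Scheme.{u}⦄ (φ : A ⟶ B), IsImmersion φ → Q φ)
    {X : Sp S} (hX : IsAlgSpace X) : RepWith Q (Limits.diag X) := by
  obtain ⟨U, p, hpe, hps⟩ := hX.atlas
  have hpQ : RepWith Q p := MorphismProperty.relative_monotone (fun _ _ φ hφ => hQe _ hφ) _ hpe
  -- `j : h_U ×_X h_U ⟶ h_U × h_U`
  have h1 : RepWith Q (pullback.fst p p) :=
    MorphismProperty.of_isPullback (IsPullback.of_hasPullback p p).flip hpQ
  have hdiagU : RepWith Q (Limits.diag ((yon S).obj U)) :=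
    (repWith_diag_yon_iff Q U).2 (hQi _ inferInstance)
  have hdiagU' := (repWith_diag_iff_diagonal_from Q _).1 hdiagU
  have sqP : IsPullback (prod.fst : (yon S).obj U ⨯ (yon S).obj U ⟶ _) prod.snd
      ((yonBaseIsTerminal S).from _) ((yonBaseIsTerminal S).from _) :=
    IsPullback.of_is_product (limit.isLimit (pair _ _)) (yonBaseIsTerminal S)
  have h2 : (RepWith (S := S) Q).diagonal
      (prod.fst : (yon S).obj U ⨯ (yon S).obj U ⟶ (yon S).obj U) :=
    repWith_diagonal_of_isPullback Q sqP.flip hdiagU'
  have hj : RepWith Q (prod.lift (pullback.fst p p) (pullback.snd p p)) := by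
    refine of_comp_of_diagonal (RepWith (S := S) Q) _ prod.fst ?_ h2
    rwa [prod.lift_fst]
  exact repWith_of_etale_surjective_base_change Q (isPullback_diag_prod_map p p) hX.diag
    (repWith_prod_map _ p p hpe hpe) (repWith_prod_map _ p p hps hps) hj

/-- The diagonal of an algebraic space is locally of finite type. -/
theorem repWith_lft_diag {X : Sp S} (hX : IsAlgSpace X) :
    RepWith @LocallyOfFiniteType (Limits.diag X) :=
  repWith_diag_of_chart @LocallyOfFiniteType (fun _ _ φ h => by have := h; infer_instance)
    (fun _ _ φ h => by have := h; infer_instance) hX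

end Groth.Agent.H52
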