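/-
Helper library (helper52): properties of the relative diagonal (packaged).
-/
import Groth.Agent.H52.DiagSp
import Mathlib.AlgebraicGeometry.Morphisms.QuasiFinite

set_option autoImplicit false
universe u
open CategoryTheory CategoryTheory.Limits AlgebraicGeometry Opposite Topology
open AlgSp

namespace Groth.Agent.H52

variable {S : Scheme.{u}}

/-- The relative diagonal of a morphism out of an algebraic space is representable, locally of finite
type, a monomorphism, separated and locally quasi-finite. -/
theorem diagonal_properties {X Y : Sp S} (hX : IsAlgSpace X) (f : X ⟶ Y) :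
    Representable (pullback.diagonal f) ∧
    RepWith @LocallyOfFiniteType (pullback.diagonal f) ∧
    RepWith (MorphismProperty.monomorphisms Scheme.{u}) (pullback.diagonal f) ∧
    RepWith @IsSeparated (pullback.diagonal f) ∧
    RepWith (@LocallyQuasiFinite ⊓ @LocallyOfFiniteType) (pullback.diagonal f) := by
  have sq := isPullback_diagonal_diag f
  have hrep : Representable (pullback.diagonal f) := MorphismProperty.of_isPullback sq hX.diag
  have hlft : RepWith @LocallyOfFiniteType (pullback.diagonal f) :=
    MorphismProperty.of_isPullback sq (repWith_lft_diag hX)
  have hmono : RepWith (MorphismProperty.monomorphisms Scheme.{u}) (pullback.diagonal f) :=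
    repWith_mono_of_mono _ hrep
  refine ⟨hrep, hlft, hmono, ⟨hrep, fun U V g fst snd sq' => ?_⟩, ⟨hrep, fun U V g fst snd sq' => ?_⟩⟩
  · have : Mono snd.left := hmono.2 g fst snd sq'
    exact (inferInstance : IsSeparated snd.left)
  · have : Mono snd.left := hmono.2 g fst snd sq'
    have : LocallyOfFiniteType snd.left := hlft.2 g fst snd sq'
    exact ⟨(inferInstance : LocallyQuasiFinite snd.left), this⟩

end Groth.Agent.H52
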