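/-
Helper library (helper52): descent of separation properties along an etale surjective base change.
-/
import Groth.Agent.H52.DiagSp2

set_option autoImplicit false
universe u
open CategoryTheory CategoryTheory.Limits AlgebraicGeometry Opposite Topology
open AlgSp

namespace Groth.Agent.H52

variable {S : Scheme.{u}}

set_option backward.isDefEq.respectTransparency false in
/-- For a base change `f'` of `f` along `y`, the map `X' ×_T X' ⟶ X ×_Y X` is a base change of `y`. -/
theorem isPullback_map_of_isPullback {D : Type*} [Category D] [HasPullbacks D]
    {X' X T Y : D} {p : X' ⟶ X} {f' : X' ⟶ T} {f : X ⟶ Y} {y : T ⟶ Y}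
    (sq : IsPullback p f' f y) :
    IsPullback (pullback.map f' f' f f p p y sq.w.symm sq.w.symm) (pullback.fst f' f' ≫ f')
      (pullback.fst f f ≫ f) y := by
  refine ⟨⟨by simp [pullback.map, sq.w]⟩, ⟨PullbackCone.IsLimit.mk _
    (fun s => pullback.lift (sq.lift (s.fst ≫ pullback.fst f f) s.snd
        (by rw [Category.assoc]; exact s.condition))
      (sq.lift (s.fst ≫ pullback.snd f f) s.snd
        (by rw [Category.assoc, ← pullback.condition]; exact s.condition))
      (by rw [sq.lift_snd, sq.lift_snd])) ?_ ?_ ?_⟩⟩
  · intro s
    apply pullback.hom_ext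
    · simp [pullback.map]
    · simp [pullback.map]
  · intro s
    simp
  · intro s m h1 h2
    have e1 := congrArg (· ≫ pullback.fst f f) h1
    have e2 := congrArg (· ≫ pullback.snd f f) h1
    simp only [pullback.map, Category.assoc, pullback.lift_fst, pullback.lift_snd] at e1 e2
    apply pullback.hom_ext
    · apply sq.hom_ext
      · simpa using e1
      · simpa using h2
    · apply sq.hom_ext
      · simpa using e2
      · simp only [Category.assoc, pullback.lift_snd, IsPullback.lift_snd]
        rw [← pullback.condition]
        simpa using h2

/-- Descent of properties of the relative diagonal along an etale surjective base change. -/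
theorem repWith_diagonal_of_etale_surjective_base_change (Q : MorphismProperty Scheme.{u})
    [Q.IsStableUnderBaseChange]
    [Q.DescendsAlong (@Surjective ⊓ @Flat ⊓ @LocallyOfFinitePresentation)]
    {X Y Y' P : Sp S} (hX : IsAlgSpace X) (f : X ⟶ Y) (p : Y' ⟶ Y) (hpe : RepWith @Etale p)
    (hps : RepWith @Surjective p) (fst : P ⟶ X) (snd : P ⟶ Y') (sq : IsPullback fst snd f p)
    (h : RepWith Q (pullback.diagonal snd)) : RepWith Q (pullback.diagonal f) := by
  have sqΔ := isPullback_diagonal_of_isPullback sq
  have sqc := isPullback_map_of_isPullback sq
  exact repWith_of_etale_surjective_base_change Q sqΔ (diagonal_properties hX f).1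
    (MorphismProperty.of_isPullback sqc.flip hpe) (MorphismProperty.of_isPullback sqc.flip hps) h

end Groth.Agent.H52
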