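/-
Helper library (helper52): checking `RepWith Q` on affine test schemes; separation conditions via
affine base change.
-/
import Groth.Agent.H52.SepDescent
import Groth.Agent.H52.Top

set_option autoImplicit false
universe u
open CategoryTheory CategoryTheory.Limits AlgebraicGeometry Opposite Topology
open AlgSp

namespace Groth.Agent.H52

variable {S : Scheme.{u}}

/-- For a representable morphism and a property `Q` Zariski local at the target, `RepWith Q` can be
checked on pullback squares over affine schemes. -/
theorem repWith_of_affine (Q : MorphismProperty Scheme.{u}) [IsZariskiLocalAtTarget Q]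
    {F G : Sp S} (g : F ⟶ G) (hg : Representable g)
    (h : ∀ ⦃T V : Over S⦄, IsAffine T.left → ∀ (y : (yon S).obj T ⟶ G)
      (fst : (yon S).obj V ⟶ F) (snd : V ⟶ T), IsPullback fst ((yon S).map snd) g y → Q snd.left) :
    RepWith Q g := by
  refine ⟨hg, fun T V y fst snd sq => ?_⟩
  change Q snd.left
  refine IsZariskiLocalAtTarget.of_iSup_eq_top (fun i : T.left.affineOpens => (i : T.left.Opens))
    (iSup_affineOpens_eq_top _) fun i => ?_
  have hpb := isPullback_morphismRestrict snd.left (i : T.left.Opens)
  have sq1 := (isPullback_over_of_left snd _ _ _ hpb).map (yon S)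
  have big := sq1.flip.paste_horiz sq
  have haff : IsAffine (Over.mk ((i : T.left.Opens).ι ≫ T.hom)).left := i.2
  exact h haff _ _ _ big

set_option backward.isDefEq.respectTransparency false in
/-- A pullback of the relative diagonal of `f` along a point `x` is a pullback of the relative
diagonal of the base change of `f` to the source of `x`. -/
theorem exists_isPullback_diagonal_of_base_change (Q : MorphismProperty Scheme.{u})
    {F G : Sp S} (f : F ⟶ G) {T : Over S} (x : (yon S).obj T ⟶ pullback f f)
    {F' : Sp S} (p : F' ⟶ F) (f' : F' ⟶ (yon S).obj T)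
    (sq : IsPullback p f' f (x ≫ pullback.fst f f ≫ f))
    (hf' : RepWith Q (pullback.diagonal f')) :
    ∃ (E : Sp S) (a : E ⟶ F) (b : E ⟶ (yon S).obj T),
      IsPullback a b (pullback.diagonal f) x ∧ RepWith Q b := by
  have sqΔ := isPullback_diagonal_of_isPullback sq
  let x1 : (yon S).obj T ⟶ F' := sq.lift (x ≫ pullback.fst f f) (𝟙 _) (by simp)
  let x2 : (yon S).obj T ⟶ F' := sq.lift (x ≫ pullback.snd f f) (𝟙 _)
    (by simp [pullback.condition])
  have e1 : x1 ≫ p = x ≫ pullback.fst f f := sq.lift_fst _ _ _
  have e2 : x2 ≫ p = x ≫ pullback.snd f f := sq.lift_fst _ _ _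
  have e1' : x1 ≫ f' = 𝟙 _ := sq.lift_snd _ _ _
  have e2' : x2 ≫ f' = 𝟙 _ := sq.lift_snd _ _ _
  let x' : (yon S).obj T ⟶ pullback f' f' := pullback.lift x1 x2 (by rw [e1', e2'])
  have hx' : x' ≫ pullback.map f' f' f f p p _ sq.w.symm sq.w.symm = x := by
    apply pullback.hom_ext
    · simp [pullback.map, x', e1]
    · simp [pullback.map, x', e2]
  have sqx := IsPullback.of_hasPullback (pullback.diagonal f') x'
  refine ⟨pullback (pullback.diagonal f') x', pullback.fst _ _ ≫ p, pullback.snd _ _, ?_,
    MorphismProperty.of_isPullback sqx hf'⟩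
  have := sqx.flip.paste_vert sqΔ.flip
  rw [hx'] at this
  exact this.flip

/-- The relative diagonal of a morphism out of an algebraic space has `Q` (Zariski local at the
target, stable under base change) as soon as the diagonals of its base changes to affine schemes
do. -/
theorem repWith_diagonal_of_affine_base_change (Q : MorphismProperty Scheme.{u})
    [IsZariskiLocalAtTarget Q] [Q.IsStableUnderBaseChange] {X Y : Sp S} (hX : IsAlgSpace X) (f : X ⟶ Y)
    (h : ∀ (Z : Over S), IsAffine Z.left → ∀ (g : (yon S).obj Z ⟶ Y) (P : Sp S)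
      (fst : P ⟶ X) (snd : P ⟶ (yon S).obj Z), IsPullback fst snd f g →
      RepWith Q (pullback.diagonal snd)) : RepWith Q (pullback.diagonal f) := by
  have : Q.RespectsIso := MorphismProperty.IsStableUnderBaseChange.respectsIso
  refine repWith_of_affine Q _ (diagonal_properties hX f).1 ?_
  intro T V hT x fst0 snd0 sq0
  have sqP := IsPullback.of_hasPullback f (x ≫ pullback.fst f f ≫ f)
  obtain ⟨E, a, b, sqE, hb⟩ := exists_isPullback_diagonal_of_base_change Q f x _ _ sqP
    (h T hT _ _ _ _ sqP)
  -- compare the two pullbacks of the diagonal along `x`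
  let e := sq0.isoIsPullback _ _ sqE
  have he : e.hom ≫ b = (yon S).map snd0 := sq0.isoIsPullback_hom_snd _ _ sqE
  have : RepWith Q ((yon S).map snd0) := by
    rw [← he]
    exact (MorphismProperty.cancel_left_of_respectsIso (RepWith (S := S) Q) e.hom b).2 hb
  exact (repWith_yon_map_iff Q snd0).1 this

end Groth.Agent.H52
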