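import Groth.Agent.H52.DimLocal

/-!
# Etale-invariant pointed properties on algebraic spaces; local dimension along etale morphisms
-/

set_option autoImplicit false
universe u
open CategoryTheory CategoryTheory.Limits AlgebraicGeometry Opposite

namespace Groth.Agent.H52

open AlgSp

variable {S : Scheme.{u}}

/-- Etale morphisms preserve the local dimension at a point. -/
theorem localDim_eq_of_etale {W U : Scheme.{u}} (g : W ⟶ U) [Etale g] (w : W) :
    FlatMor.localDim ↥W w = FlatMor.localDim ↥U (g w) := by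
  unfold FlatMor.localDim
  apply le_antisymm
  · refine le_iInf fun O => ?_
    refine iInf_le_of_le ⟨g ⁻¹ᵁ O.1, O.2⟩ ?_
    have := Groth.Agent.H53.locallyQuasiFinite_of_etale g
    exact topologicalKrullDim_le_of_locallyQuasiFinite (g ∣_ O.1)
  · refine le_iInf fun O' => ?_
    let V : U.Opens := ⟨g '' O'.1, g.isOpenMap _ O'.1.2⟩
    have hV : g w ∈ V := ⟨w, O'.2, rfl⟩
    have e : O'.1 ≤ g ⁻¹ᵁ V := fun x hx => ⟨x, hx, rfl⟩
    refine iInf_le_of_le ⟨V, hV⟩ ?_
    refine topologicalKrullDim_le_of_flat_surjective (g.resLE V O'.1 e) ?_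
    rintro ⟨_, x, hx, rfl⟩
    refine ⟨⟨x, hx⟩, Subtype.ext ?_⟩
    have := congrArg (fun φ : (O'.1 : Scheme.{u}) ⟶ U => φ ⟨x, hx⟩) (g.resLE_comp_ι e)
    exact this

/-- Every point of an algebraic space lifts to an etale chart. -/
theorem exists_chart_through_point {X : Sp S} (hX : IsAlgSpace X) (x : Points X) :
    ∃ (U : Over S) (a : (yon S).obj U ⟶ X) (u : ↥U.left), RepWith @Etale a ∧
      Points.ofPt a u = x := by
  obtain ⟨U, p, hpe, hps⟩ := hX.atlas
  obtain ⟨q, rfl⟩ := surjective_points_of_repWith_surjective p hps x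
  obtain ⟨u, rfl⟩ := (Points.schemeEquiv U).surjective q
  exact ⟨U, p, u, hpe, Points.ofPt_eq_map_ofScheme p u⟩

/-- For an etale-invariant property of pointed schemes, "some chart through `x`" is the same as
"every chart through `x`". -/
theorem hasAt_iff_forall_chart {Q : ∀ U : Scheme.{u}, ↥U → Prop}
    (hQ : ∀ ⦃W U : Scheme.{u}⦄ (g : W ⟶ U) [Etale g] (w : W), Q W w ↔ Q U (g w))
    {X : Sp S} (hX : IsAlgSpace X) (x : Points X) :
    HasAt Q X x ↔ ∀ (U : Over S) (a : (yon S).obj U ⟶ X) (u : ↥U.left),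
      RepWith @Etale a → Points.ofPt a u = x → Q U.left u := by
  constructor
  · rintro ⟨U, a, u, ha, hu, hd⟩ U' a' u' ha' hu'
    obtain ⟨W, k, k', w, hk, hk', rfl, rfl, -⟩ :=
      exists_common_refinement a a' ha ha' u u' (hu.trans hu'.symm)
    exact (hQ k'.left w).1 ((hQ k.left w).2 hd)
  · intro h
    obtain ⟨U, a, u, ha, hu⟩ := exists_chart_through_point hX x
    exact ⟨U, a, u, ha, hu, h U a u ha hu⟩

/-- For an etale-invariant property of pointed schemes and an etale morphism `f`, the property holds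
at `x` iff it holds at `f x`. -/
theorem hasAt_iff_of_isEtaleMor {Q : ∀ U : Scheme.{u}, ↥U → Prop}
    (hQ : ∀ ⦃W U : Scheme.{u}⦄ (g : W ⟶ U) [Etale g] (w : W), Q W w ↔ Q U (g w))
    {X Y : Sp S} (hX : IsAlgSpace X) (hY : IsAlgSpace Y) (f : X ⟶ Y) (hf : IsEtaleMor f)
    (x : Points X) : HasAt Q X x ↔ HasAt Q Y (Points.map f x) := by
  constructor
  · rintro ⟨U, a, u, ha, rfl, hq⟩
    exact ⟨U, a ≫ f, u, hf a ha, (Points.map_ofPt a f u).symm, hq⟩
  · intro h
    obtain ⟨U, a, u, ha, rfl⟩ := exists_chart_through_point hX x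
    have := (hasAt_iff_forall_chart hQ hY _).1 h U (a ≫ f) u (hf a ha)
      (Points.map_ofPt a f u).symm
    exact ⟨U, a, u, ha, rfl, this⟩

end Groth.Agent.H52
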