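/-
Helper library (helper52): `LocP P` versus the neighbourhood form of `P` at points.
-/
import Groth.Agent.H52.LocPCalc5

set_option autoImplicit false
universe u
open CategoryTheory CategoryTheory.Limits AlgebraicGeometry Opposite MorphismProperty
open AlgSp

namespace Groth.Agent.H52

variable {S : Scheme.{u}}

/-- The seven classes of the reference are Zariski local at the source. -/
theorem isZariskiLocalAtSource_of_list (P : MorphismProperty Scheme.{u})
    (hP : P = @LocallyOfFiniteType ∨ P = @LocallyOfFinitePresentation ∨ P = @Flat ∨ P = @Smooth ∨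
      P = @Etale ∨
      (∀ ⦃A B : Scheme.{u}⦄ (g : A ⟶ B), P g ↔ (LocallyQuasiFinite g ∧ LocallyOfFiniteType g)) ∨
      (∀ ⦃A B : Scheme.{u}⦄ (g : A ⟶ B), P g ↔ (LocallyOfFiniteType g ∧ FormallyUnramified g))) :
    IsZariskiLocalAtSource P := by
  rcases hP with rfl | rfl | rfl | rfl | rfl | h | h
  · infer_instance
  · infer_instance
  · infer_instance
  · infer_instance
  · infer_instance
  · have : P = (@LocallyQuasiFinite ⊓ @LocallyOfFiniteType : MorphismProperty Scheme.{u}) := by
      ext A B g; exact h g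
    rw [this]; infer_instance
  · have : P = (@LocallyOfFiniteType ⊓ @FormallyUnramified : MorphismProperty Scheme.{u}) := by
      ext A B g; exact h g
    rw [this]; infer_instance

namespace IsEtLocal

variable {P : MorphismProperty Scheme.{u}} (hP : IsEtLocal P)
include hP

/-- For a morphism of algebraic spaces with `P` etale locally, through every point there is a
chart diagram with top arrow in `P`. -/
theorem exists_chart_of_locP {X Y : Sp S} (hX : IsAlgSpace X) (hY : IsAlgSpace Y) (f : X ⟶ Y)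
    (hf : LocP P f) (x : Points X) :
    ∃ (U V : Over S) (a : (yon S).obj U ⟶ X) (b : (yon S).obj V ⟶ Y)
      (h : U ⟶ V) (u : ↥U.left), RepWith @Etale a ∧ RepWith @Etale b ∧
        a ≫ f = (yon S).map h ≫ b ∧ Points.ofPt a u = x ∧ P h.left := by
  obtain ⟨U0, a0, ha0e, ha0s⟩ := hX.atlas
  obtain ⟨V, b, hbe, hbs⟩ := hY.atlas
  have hrepb := hbe.rep
  have sq := hrepb.isPullback (a0 ≫ f)
  have hue : Etale (hrepb.snd (a0 ≫ f)).left := hbe.property_snd _
  have hus : Surjective (hrepb.snd (a0 ≫ f)).left := hbs.2 _ _ _ sq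
  obtain ⟨u1, hu1⟩ := (yon S).map_surjective (hrepb.fst (a0 ≫ f))
  have eu : RepWith @Etale ((yon S).map (hrepb.snd (a0 ≫ f))) := (repWith_yon_map_iff _ _).2 hue
  have hae : RepWith @Etale ((yon S).map (hrepb.snd (a0 ≫ f)) ≫ a0) :=
    (RepWith (S := S) @Etale).comp_mem _ _ eu ha0e
  have comm : ((yon S).map (hrepb.snd (a0 ≫ f)) ≫ a0) ≫ f = (yon S).map u1 ≫ b := by
    rw [Category.assoc, hu1]; exact sq.w.symm
  obtain ⟨p0, hp0⟩ := surjective_points_of_repWith_surjective a0 ha0s x
  obtain ⟨u, hu⟩ := hus.surj (Points.toScheme U0 p0)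
  refine ⟨_, V, _, b, u1, u, hae, hbe, comm, ?_, hf _ b u1 hae hbe comm⟩
  rw [ofPt_yon_map_comp, hu, Points.ofPt_eq_map_ofScheme, Points.ofScheme_toScheme, hp0]

end IsEtLocal

end Groth.Agent.H52
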