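/-
Helper library (helper52): the diagonal of a morphism locally of finite type is locally of finite
presentation.
-/
import Groth.Agent.H52.LocPCalc6
import Groth.Agent.H52.DiagSp2

set_option autoImplicit false
universe u
open CategoryTheory CategoryTheory.Limits AlgebraicGeometry Opposite MorphismProperty
open AlgSp

namespace Groth.Agent.H52

variable {S : Scheme.{u}}

/-- The diagonal of a morphism of algebraic spaces which is locally of finite type is locally of
finite presentation. -/
theorem locP_lfp_diagonal {X Y : Sp S} (hX : IsAlgSpace X) (hY : IsAlgSpace Y) (f : X ⟶ Y)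
    (hf : LocP @LocallyOfFiniteType f) :
    LocP @LocallyOfFinitePresentation (pullback.diagonal f) := by
  obtain ⟨U, a, hae, has⟩ := hX.atlas
  have sq := IsPullback.of_hasPullback f f
  obtain ⟨V0, q, a1, a2, h1, h2, sq', hq⟩ :=
    exists_chart_of_isPullback sq (fun _ a => hY.representable_from_yon a) a a
  have hqe : RepWith @Etale q := hq @Etale hae hae
  -- `R = U ×_X U`
  have hrepa := hae.rep
  have sqR := hrepa.isPullback a
  have hr2e : Etale (hrepa.snd a).left := hae.property_snd a
  obtain ⟨r1, hr1⟩ := (yon S).map_surjective (hrepa.fst a)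
  have sqR' : IsPullback ((yon S).map (hrepa.snd a)) ((yon S).map r1) a a := by
    rw [hr1]; exact sqR.flip
  have hr1e : Etale r1.left := hae.2 a _ _ sqR'
  have hr1s : Surjective r1.left := has.2 a _ _ sqR'
  have e1 : RepWith @Etale ((yon S).map r1) := (repWith_yon_map_iff _ _).2 hr1e
  have s1 : RepWith @Surjective ((yon S).map r1) := (repWith_yon_map_iff _ _).2 hr1s
  -- the top arrow `t : R ⟶ U ×_Y U`
  obtain ⟨t, ht⟩ := (yon S).map_surjective
    (sq'.lift ((yon S).map r1) ((yon S).map (hrepa.snd a)) (by
      rw [← Category.assoc, ← Category.assoc, hr1, sqR.w]))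
  have ht1 : t ≫ a1 = r1 := by
    apply (yon S).map_injective
    rw [Functor.map_comp, ht, sq'.lift_fst]
  have ht2 : (yon S).map t ≫ (yon S).map a2 = (yon S).map (hrepa.snd a) := by
    rw [ht, sq'.lift_snd]
  -- `a1` is locally of finite type
  have hloc : LocP @LocallyOfFiniteType (a ≫ f) := isEtLocal_lft.locP_precomp f a hae hf
  have hrep : RepWith @LocallyOfFiniteType (a ≫ f) :=
    isEtLocal_lft.repWith_of_locP hY (a ≫ f) (hY.representable_from_yon _) hloc
  have ha1 : LocallyOfFiniteType a1.left := hrep.2 (a ≫ f) _ _ sq'.flip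
  have htl : LocallyOfFinitePresentation t.left := by
    have : LocallyOfFinitePresentation (t.left ≫ a1.left) := by
      rw [← Over.comp_left, ht1]
      have := hr1e
      infer_instance
    exact lfp_of_comp_of_lft this ha1
  refine isEtLocal_lfp.locP_of_chart (pullback.diagonal f) ((yon S).map r1 ≫ a) q t
    ((RepWith (S := S) @Etale).comp_mem _ _ e1 hae)
    ((RepWith (S := S) @Surjective).comp_mem _ _ s1 has) hqe ?_ htl
  apply pullback.hom_ext
  · rw [Category.assoc, Category.assoc, pullback.diagonal_fst, Category.comp_id, Category.assoc, h1,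
      ← Category.assoc, ← Functor.map_comp, ht1]
  · rw [Category.assoc, Category.assoc, pullback.diagonal_snd, Category.comp_id, Category.assoc, h2,
      ← Category.assoc, ht2, hr1, sqR.w]

/-- A monomorphism of sheaves is quasi-separated. -/
theorem isQuasiSeparatedMor_of_mono {F G : Sp S} (f : F ⟶ G) [Mono f] :
    IsQuasiSeparatedMor f := by
  have : IsIso (pullback.diagonal f) := (pullback.isIso_diagonal_iff f).mpr inferInstance
  exact repWith_of_isIso _ _

end Groth.Agent.H52
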