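/-
Helper library (helper52): locally Noetherian algebraic spaces and finite presentation.
-/
import Groth.Agent.H52.DiagLfp
import Groth.Agent.H52.QS

set_option autoImplicit false
universe u
open CategoryTheory CategoryTheory.Limits AlgebraicGeometry Opposite MorphismProperty
open AlgSp

namespace Groth.Agent.H52

variable {S : Scheme.{u}}

/-- A surjective etale chart of the source lying over a given etale surjective chart of the
target. -/
theorem exists_surjective_chart_over {X Y : Sp S} (hX : IsAlgSpace X) (f : X ⟶ Y) {V : Over S}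
    (b : (yon S).obj V ⟶ Y) (hbe : RepWith @Etale b) (hbs : RepWith @Surjective b) :
    ∃ (U : Over S) (a : (yon S).obj U ⟶ X) (h : U ⟶ V), RepWith @Etale a ∧
      RepWith @Surjective a ∧ a ≫ f = (yon S).map h ≫ b := by
  obtain ⟨U0, a0, ha0e, ha0s⟩ := hX.atlas
  have hrepb := hbe.rep
  have sq := hrepb.isPullback (a0 ≫ f)
  have hue : Etale (hrepb.snd (a0 ≫ f)).left := hbe.property_snd _
  have hus : Surjective (hrepb.snd (a0 ≫ f)).left := hbs.2 _ _ _ sq
  obtain ⟨u1, hu1⟩ := (yon S).map_surjective (hrepb.fst (a0 ≫ f))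
  have eu : RepWith @Etale ((yon S).map (hrepb.snd (a0 ≫ f))) := (repWith_yon_map_iff _ _).2 hue
  have su : RepWith @Surjective ((yon S).map (hrepb.snd (a0 ≫ f))) :=
    (repWith_yon_map_iff _ _).2 hus
  refine ⟨_, (yon S).map (hrepb.snd (a0 ≫ f)) ≫ a0, u1,
    (RepWith (S := S) @Etale).comp_mem _ _ eu ha0e,
    (RepWith (S := S) @Surjective).comp_mem _ _ su ha0s, ?_⟩
  rw [Category.assoc, hu1]; exact sq.w.symm

/-- Over a locally Noetherian algebraic space, locally of finite type implies locally of finite
presentation. -/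
theorem locP_lfp_of_locP_lft_of_isLocNoethSp {X Y : Sp S} (hX : IsAlgSpace X) (f : X ⟶ Y)
    (hY : IsLocNoethSp Y) (hf : LocP @LocallyOfFiniteType f) :
    LocP @LocallyOfFinitePresentation f := by
  obtain ⟨V, b, hbe, hbs, hV⟩ := hY
  obtain ⟨U, a, h, hae, has, comm⟩ := exists_surjective_chart_over hX f b hbe hbs
  have h1 : LocallyOfFiniteType h.left := hf a b h hae hbe comm
  have : IsLocallyNoetherian V.left := hV
  exact isEtLocal_lfp.locP_of_chart f a b h hae has hbe comm inferInstance

/-- The source of a morphism locally of finite type to a locally Noetherian space is locally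
Noetherian. -/
theorem isLocNoethSp_of_locP_lft {X Y : Sp S} (hX : IsAlgSpace X) (f : X ⟶ Y)
    (hY : IsLocNoethSp Y) (hf : LocP @LocallyOfFiniteType f) : IsLocNoethSp X := by
  obtain ⟨V, b, hbe, hbs, hV⟩ := hY
  obtain ⟨U, a, h, hae, has, comm⟩ := exists_surjective_chart_over hX f b hbe hbs
  have h1 : LocallyOfFiniteType h.left := hf a b h hae hbe comm
  have : IsLocallyNoetherian V.left := hV
  exact ⟨U, a, hae, has, LocallyOfFiniteType.isLocallyNoetherian h.left⟩

/-- The source of a quasi-compact morphism to a quasi-compact space is quasi-compact. -/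
theorem isQuasiCompactSp_of_isQuasiCompactMor {X Y : Sp S} (hY : IsAlgSpace Y) (f : X ⟶ Y)
    (hf : IsQuasiCompactMor f) (hYqc : IsQuasiCompactSp Y) : IsQuasiCompactSp X :=
  hf hY hYqc (𝟙 Y) (𝟙 X) f (IsPullback.of_horiz_isIso ⟨by simp⟩)

/-- The source of a quasi-separated morphism to a space quasi-separated over the base is
quasi-separated over the base. -/
theorem isQuasiSeparatedSp_of_isQuasiSeparatedMor {X Y : Sp S} (f : X ⟶ Y)
    (hf : IsQuasiSeparatedMor f) (hY : IsQuasiSeparatedSp Y) : IsQuasiSeparatedSp X := by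
  unfold IsQuasiSeparatedSp at hY ⊢
  rw [repWith_diag_iff_diagonal_from] at hY ⊢
  have key := repWith_diagonal_comp @QuasiCompact f _ hf hY
  have hany : ∀ (t t' : X ⟶ (yon S).obj (Over.mk (𝟙 S))),
      RepWith @QuasiCompact (pullback.diagonal t) → RepWith @QuasiCompact (pullback.diagonal t') := by
    intro t t' h
    obtain rfl : t = t' := (yonBaseIsTerminal S).hom_ext _ _
    exact h
  exact hany _ _ key

end Groth.Agent.H52
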