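import Groth.Agent.H52.ThickLift2
import Groth.Agent.H52.Descent
import Groth.Agent.H52.LocNoeth

set_option autoImplicit false
universe u
open CategoryTheory CategoryTheory.Limits AlgebraicGeometry Opposite

namespace Groth.Agent.H52

open AlgSp

variable {S : Scheme.{u}}

/-- Chart data for a morphism of thickenings of algebraic spaces: a morphism of thickenings of
schemes, etale surjective over the given one, which is cartesian when the given one is. -/
theorem exists_thick_charts {X X' Y Y' : Sp S} (hX' : IsAlgSpace X') (hY' : IsAlgSpace Y')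
    (i : X ⟶ X') (j : Y ⟶ Y') (f : X ⟶ Y) (f' : X' ⟶ Y') (hi : IsThickMor i) (hj : IsThickMor j)
    (w : i ≫ f' = f ≫ j) :
    ∃ (U U' V V' : Over S) (a : (yon S).obj U ⟶ X) (a' : (yon S).obj U' ⟶ X')
      (b : (yon S).obj V ⟶ Y) (b' : (yon S).obj V' ⟶ Y') (iU : U ⟶ U') (jV : V ⟶ V')
      (h : U ⟶ V) (h' : U' ⟶ V'),
      RepWith @Etale a ∧ RepWith @Surjective a ∧ RepWith @Etale a' ∧ RepWith @Surjective a' ∧
      RepWith @Etale b ∧ RepWith @Surjective b ∧ RepWith @Etale b' ∧ RepWith @Surjective b' ∧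
      IsPullback a ((yon S).map iU) i a' ∧ IsPullback b ((yon S).map jV) j b' ∧
      a ≫ f = (yon S).map h ≫ b ∧ a' ≫ f' = (yon S).map h' ≫ b' ∧ iU ≫ h' = h ≫ jV ∧
      thick iU.left ∧ thick jV.left ∧
      (IsPullback i f f' j → IsPullback iU.left h.left h'.left jV.left) := by
  obtain ⟨V', b', hb'e, hb's⟩ := hY'.atlas
  obtain ⟨U', a', h', ha'e, ha's, comm'⟩ := exists_surjective_chart_over hX' f' b' hb'e hb's
  have hrepi := hi.rep
  have hrepj := hj.rep
  have sqU := hrepi.isPullback a'
  have sqV := hrepj.isPullback b'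
  have hae : RepWith @Etale (hrepi.fst a') := MorphismProperty.of_isPullback sqU.flip ha'e
  have has : RepWith @Surjective (hrepi.fst a') := MorphismProperty.of_isPullback sqU.flip ha's
  have hbe : RepWith @Etale (hrepj.fst b') := MorphismProperty.of_isPullback sqV.flip hb'e
  have hbs : RepWith @Surjective (hrepj.fst b') := MorphismProperty.of_isPullback sqV.flip hb's
  have hcomm : (hrepi.fst a' ≫ f) ≫ j = (yon S).map (hrepi.snd a' ≫ h') ≫ b' := by
    rw [Category.assoc, ← w, ← Category.assoc, sqU.w, Category.assoc, comm', Functor.map_comp,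
      Category.assoc]
  obtain ⟨h, hh⟩ := (yon S).map_surjective (sqV.lift (hrepi.fst a' ≫ f)
    ((yon S).map (hrepi.snd a' ≫ h')) hcomm)
  have hh1 : (yon S).map h ≫ hrepj.fst b' = hrepi.fst a' ≫ f := by
    rw [hh]
    exact sqV.lift_fst _ _ _
  have hh2 : h ≫ hrepj.snd b' = hrepi.snd a' ≫ h' := by
    apply (yon S).map_injective
    rw [Functor.map_comp, hh]
    exact sqV.lift_snd _ _ _
  refine ⟨_, U', _, V', hrepi.fst a', a', hrepj.fst b', b', hrepi.snd a', hrepj.snd b', h, h',
    hae, has, ha'e, ha's, hbe, hbs, hb'e, hb's, sqU, sqV, hh1.symm, comm', hh2.symm,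
    hi.property_snd a', hj.property_snd b', fun hcart => ?_⟩
  apply isPullback_left_of_isPullback_yon
  have hbig : IsPullback (hrepi.fst a' ≫ f) ((yon S).map (hrepi.snd a')) j (a' ≫ f') :=
    sqU.paste_horiz hcart.flip
  rw [← hh1, comm'] at hbig
  have hcomm2 : (yon S).map h ≫ (yon S).map (hrepj.snd b') =
      (yon S).map (hrepi.snd a') ≫ (yon S).map h' := by
    rw [← Functor.map_comp, ← Functor.map_comp, hh2]
  exact (IsPullback.of_right hbig hcomm2 sqV).flip

end Groth.Agent.H52
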