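/-
Helper library (helper52): finite order thickenings of algebraic spaces on charts; flatness at
points of a composite.
-/
import Groth.Agent.H52.ThickChart
import Groth.Agent.H52.AffineLocal
import Groth.Agent.H52.DimLocal2
import Groth.Agent.H52.LocPInst
import Groth.Agent.H53.SourceLocal

set_option autoImplicit false
universe u
open CategoryTheory CategoryTheory.Limits AlgebraicGeometry Opposite

namespace Groth.Agent.H52

open AlgSp

variable {S : Scheme.{u}}

theorem powZero_iff {X Y : Scheme.{u}} (i : X ⟶ Y) (n : ℕ) : powZero n i ↔ i.ker ^ (n + 1) = ⊥ :=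
  Iff.rfl

theorem ker_pow_eq_bot_of_affLocT {B B' : Sp S} {iB : B ⟶ B'} {n : ℕ}
    (hB : AffLocT (powZero n) iB) {W W' : Over S} {cW : (yon S).obj W ⟶ B}
    {cW' : (yon S).obj W' ⟶ B'} {iW : W ⟶ W'} (hcW' : RepWith @Etale cW')
    (sqW : IsPullback cW ((yon S).map iW) iB cW') [QuasiCompact iW.left] :
    iW.left.ker ^ (n + 1) = ⊥ := by
  refine Scheme.IdealSheafData.ext (funext fun O => ?_)
  have hpb := isPullback_morphismRestrict iW.left (O : W'.left.Opens)
  have sq1 := (isPullback_over_of_left iW _ _ _ hpb).map (yon S)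
  have big := sq1.flip.paste_horiz sqW
  have haff : IsAffine (Over.mk ((O : W'.left.Opens).ι ≫ W'.hom)).left := O.2
  have het : RepWith @Etale ((yon S).map (overOpenι W' (O : W'.left.Opens)) ≫ cW') :=
    (RepWith (S := S) @Etale).comp_mem _ _ (repWith_etale_overOpenι W' _) hcW'
  have hpow := hB _ _ _ haff het big
  rw [powZero_iff] at hpow
  change (iW.left ∣_ (O : W'.left.Opens)).ker ^ (n + 1) = ⊥ at hpow
  have h1 := congrArg (fun I : Scheme.IdealSheafData _ => I.ideal ⟨⊤, isAffineOpen_top _⟩) hpow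
  simp only [Scheme.IdealSheafData.ideal_pow, Pi.pow_apply, Scheme.IdealSheafData.ideal_bot,
    Pi.bot_apply] at h1
  rw [Scheme.ker_morphismRestrict_ideal] at h1
  have hO : (⟨(O : W'.left.Opens).ι ''ᵁ ⊤, (isAffineOpen_top _).image_of_isOpenImmersion _⟩ :
      W'.left.affineOpens) = O := Subtype.ext (by simp)
  have key : ∀ O' : W'.left.affineOpens, O' = O → iW.left.ker.ideal O' ^ (n + 1) = ⊥ →
      iW.left.ker.ideal O ^ (n + 1) = ⊥ := by
    rintro _ rfl h
    exact h
  have h2 := key _ hO h1
  simpa using h2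

/-- Given chart squares of two morphisms `i`, `j` of sheaves and a commutative square from `i` to
`j` with a chart of its lower arrow, the upper arrow has a unique compatible chart, and the chart
square is cartesian when the given square is. -/
theorem exists_chart_map_of_isPullback {X X' Y Y' : Sp S} {i : X ⟶ X'} {j : Y ⟶ Y'} {f : X ⟶ Y}
    {f' : X' ⟶ Y'} (w : i ≫ f' = f ≫ j) {U U' V V' : Over S} {a : (yon S).obj U ⟶ X}
    {a' : (yon S).obj U' ⟶ X'} {b : (yon S).obj V ⟶ Y} {b' : (yon S).obj V' ⟶ Y'} {iU : U ⟶ U'}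
    {jV : V ⟶ V'} {h' : U' ⟶ V'} (sqU : IsPullback a ((yon S).map iU) i a')
    (sqV : IsPullback b ((yon S).map jV) j b') (comm' : a' ≫ f' = (yon S).map h' ≫ b') :
    ∃ h : U ⟶ V, a ≫ f = (yon S).map h ≫ b ∧ iU ≫ h' = h ≫ jV ∧
      (IsPullback i f f' j → IsPullback iU.left h.left h'.left jV.left) := by
  have hcomm : (a ≫ f) ≫ j = (yon S).map (iU ≫ h') ≫ b' := by
    rw [Category.assoc, ← w, ← Category.assoc, sqU.w, Category.assoc, comm', Functor.map_comp,
      Category.assoc]
  obtain ⟨h, hh⟩ := (yon S).map_surjective (sqV.lift (a ≫ f) ((yon S).map (iU ≫ h')) hcomm)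
  have hh1 : (yon S).map h ≫ b = a ≫ f := by
    rw [hh]
    exact sqV.lift_fst _ _ _
  have hh2 : h ≫ jV = iU ≫ h' := by
    apply (yon S).map_injective
    rw [Functor.map_comp, hh]
    exact sqV.lift_snd _ _ _
  refine ⟨h, hh1.symm, hh2.symm, fun hcart => ?_⟩
  apply isPullback_left_of_isPullback_yon
  have hbig : IsPullback (a ≫ f) ((yon S).map iU) j (a' ≫ f') := sqU.paste_horiz hcart.flip
  rw [← hh1, comm'] at hbig
  have hcomm2 : (yon S).map h ≫ (yon S).map jV = (yon S).map iU ≫ (yon S).map h' := by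
    rw [← Functor.map_comp, ← Functor.map_comp, hh2]
  exact (IsPullback.of_right hbig hcomm2 sqV).flip

/-- A chart of the source through a given point, lying over a given chart of the target through
the image point. -/
theorem exists_chart_over_through_point {X Y : Sp S} (hX : IsAlgSpace X) (hY : IsAlgSpace Y)
    (f : X ⟶ Y) {V : Over S} (b : (yon S).obj V ⟶ Y) (hb : RepWith @Etale b) (x : Points X)
    (v : ↥V.left) (hv : Points.ofPt b v = Points.map f x) :
    ∃ (U : Over S) (a : (yon S).obj U ⟶ X) (k : U ⟶ V) (u : ↥U.left), RepWith @Etale a ∧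
      a ≫ f = (yon S).map k ≫ b ∧ Points.ofPt a u = x ∧ k.left u = v := by
  have sq := IsPullback.of_hasPullback f b
  have hP : IsAlgSpace (pullback f b) := isAlgSpace_of_isPullback sq hX hY (IsAlgSpace.yon_obj V)
  obtain ⟨p, hp1, hp2⟩ := exists_point_of_isPullback sq x (Points.ofScheme V v)
    (by rw [← Points.ofPt_eq_map_ofScheme, hv])
  obtain ⟨U, q, u, hqe, hqu⟩ := exists_chart_through_point hP p
  obtain ⟨k, hk⟩ := (yon S).map_surjective (q ≫ pullback.snd f b)
  have hfst : RepWith @Etale (pullback.fst f b) := MorphismProperty.of_isPullback sq.flip hb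
  refine ⟨U, q ≫ pullback.fst f b, k, u, (RepWith (S := S) @Etale).comp_mem _ _ hqe hfst, ?_, ?_, ?_⟩
  · rw [Category.assoc, sq.w, ← Category.assoc, hk]
  · rw [← Points.map_ofPt, hqu, hp1]
  · apply (Points.schemeEquiv V).injective
    change Points.ofScheme V (k.left u) = Points.ofScheme V v
    rw [← hp2, ← hqu, Points.map_ofPt, ← hk, Points.ofPt_eq_map_ofScheme, points_map_ofScheme]

/-- If `f` and `f ≫ g` are flat (on charts) then `g` is flat at every point in the image of
`f`. -/
theorem isFlatAtMor_of_locP_flat_comp {X Y Z : Sp S} (hX : IsAlgSpace X) (hY : IsAlgSpace Y)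
    (f : X ⟶ Y) (g : Y ⟶ Z) (hf : LocP @Flat f) (hfg : LocP @Flat (f ≫ g)) (x : Points X) :
    IsFlatAtMor g (Points.map f x) := by
  intro V W b c h v hbe hce comm hv
  obtain ⟨U, a, k, u, hae, hak, hau, hku⟩ := exists_chart_over_through_point hX hY f b hbe x v hv
  subst hku
  have h1 : Flat k.left := hf a b k hae hbe hak
  have h2 : Flat (k ≫ h).left := by
    refine hfg a c (k ≫ h) hae hce ?_
    rw [← Category.assoc, hak, Category.assoc, comm, Functor.map_comp, Category.assoc]
  have h2' : Flat (k.left ≫ h.left) := h2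
  have e := Scheme.Hom.stalkMap_comp k.left h.left u
  have s1 : (Scheme.Hom.stalkMap k.left u).hom.Flat := Flat.stalkMap k.left u
  have s2 : (Scheme.Hom.stalkMap (k.left ≫ h.left) u).hom.Flat := Flat.stalkMap _ u
  rw [e] at s2
  replace s2 : ((Scheme.Hom.stalkMap k.left u).hom.comp
      (Scheme.Hom.stalkMap h.left (k.left u)).hom).Flat := s2
  generalize (Scheme.Hom.stalkMap h.left (k.left u)).hom = φ at s2 ⊢
  have hloc : IsLocalHom (Scheme.Hom.stalkMap k.left u).hom := inferInstance
  generalize (Scheme.Hom.stalkMap k.left u).hom = ψ at s1 s2 hloc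
  algebraize [φ, ψ, ψ.comp φ]
  have : Module.Flat _ _ := s1
  have : Module.FaithfullyFlat (V.left.presheaf.stalk (k.left u)) (U.left.presheaf.stalk u) :=
    Module.FaithfullyFlat.of_flat_of_isLocalHom
  have : Module.Flat (W.left.presheaf.stalk (h.left (k.left u))) (U.left.presheaf.stalk u) := s2
  exact Groth.Agent.H53.flat_of_flat_comp_of_faithfullyFlat _ (V.left.presheaf.stalk (k.left u))
    (U.left.presheaf.stalk u)

end Groth.Agent.H52
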