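/-
Helper library (helper52): local fibre dimension of chart diagrams of a morphism of algebraic
spaces is independent of the chart.
-/
import Groth.Agent.H52.ThickFlat
import Groth.Agent.H52.LocPCalc5
import Groth.Agent.Lib.Helper55.FiberBaseChange
import Groth.Agent.Lib.Helper55.FiberCompDim
import Groth.Agent.S9798

set_option autoImplicit false
universe u
open CategoryTheory CategoryTheory.Limits AlgebraicGeometry Opposite

namespace Groth.Agent.H52

open AlgSp

variable {S : Scheme.{u}}

/-- The fibres of an etale morphism have local dimension zero. -/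
theorem fibreDimAt_eq_zero_of_etale {X Y : Scheme.{u}} (r : X ⟶ Y) [Etale r] (x : X) :
    FlatMor.fibreDimAt r x = 0 := by
  unfold FlatMor.fibreDimAt
  have : Etale (r.fiberToSpecResidueField (r x)) :=
    MorphismProperty.pullback_snd (P := @Etale) _ _ inferInstance
  rw [localDim_eq_of_etale (r.fiberToSpecResidueField (r x)) (r.asFiber x)]
  rw [Groth.Agent.S9798.result]
  exact isOpen_discrete _

/-- Invariance of the local fibre dimension in a commutative square with etale vertical maps. -/
theorem fibreDimAt_eq_of_etale_square {U₃ V₃ U₁ V₁ : Scheme.{u}} (p : U₃ ⟶ U₁) (q : V₃ ⟶ V₁)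
    (h₃ : U₃ ⟶ V₃) (h₁ : U₁ ⟶ V₁) [Etale p] [Etale q] [LocallyOfFiniteType h₁]
    (comm : p ≫ h₁ = h₃ ≫ q) (u : U₃) :
    FlatMor.fibreDimAt h₃ u = FlatMor.fibreDimAt h₁ (p u) := by
  let r : U₃ ⟶ pullback h₁ q := pullback.lift p h₃ comm
  have hr1 : r ≫ pullback.fst h₁ q = p := pullback.lift_fst _ _ _
  have hr2 : r ≫ pullback.snd h₁ q = h₃ := pullback.lift_snd _ _ _
  have : Etale (r ≫ pullback.fst h₁ q) := by rw [hr1]; infer_instance
  have hre : Etale r := Etale.of_comp r (pullback.fst h₁ q)
  have hlft2 : LocallyOfFiniteType (pullback.snd h₁ q) :=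
    MorphismProperty.pullback_snd (P := @LocallyOfFiniteType) _ _ inferInstance
  have e1 := (Groth.Agent.Lib.Helper55.fibreDimAt_comp_le r (pullback.snd h₁ q) u).2
    (Flat.stalkMap r u)
  rw [fibreDimAt_eq_zero_of_etale r u, zero_add] at e1
  have e2 := Groth.Agent.Lib.Helper55.fibreDimAt_eq_of_isPullback h₁ q (pullback.fst h₁ q)
    (pullback.snd h₁ q) (IsPullback.of_hasPullback h₁ q) (r u)
  have e3 : (pullback.fst h₁ q) (r u) = p u := by
    rw [← Scheme.Hom.comp_apply, hr1]
  rw [e3] at e2
  rw [← e2, ← e1]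
  simp only [hr2]

/-- The local fibre dimension of the top arrow of a chart diagram of a morphism locally of finite
type depends only on the point of the source. -/
theorem fibreDimAt_eq_of_two_charts {F G : Sp S} (f : F ⟶ G) {U V : Over S}
    (a : (yon S).obj U ⟶ F) (b : (yon S).obj V ⟶ G) (h : U ⟶ V) (ha : RepWith @Etale a)
    (hb : RepWith @Etale b) (comm : a ≫ f = (yon S).map h ≫ b) (hh : LocallyOfFiniteType h.left)
    {U' V' : Over S} (a' : (yon S).obj U' ⟶ F) (b' : (yon S).obj V' ⟶ G) (h' : U' ⟶ V')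
    (ha' : RepWith @Etale a') (hb' : RepWith @Etale b')
    (comm' : a' ≫ f = (yon S).map h' ≫ b') (hh' : LocallyOfFiniteType h'.left)
    (u : ↥U.left) (u' : ↥U'.left) (hu : Points.ofPt a u = Points.ofPt a' u') :
    FlatMor.fibreDimAt h.left u = FlatMor.fibreDimAt h'.left u' := by
  have hrepa := ha.rep
  have sqW := hrepa.isPullback a'
  obtain ⟨w1, hw1⟩ := (yon S).map_surjective (hrepa.fst a')
  have sqW' : IsPullback ((yon S).map (hrepa.snd a')) ((yon S).map w1) a' a := by
    rw [hw1]; exact sqW.flip
  have hW1e : Etale w1.left := ha'.2 a _ _ sqW'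
  have hW2e : Etale (hrepa.snd a').left := ha.property_snd a'
  have hrepb := hb.rep
  have sqZ := hrepb.isPullback b'
  have hZ2e : Etale (hrepb.snd b').left := hb.property_snd b'
  obtain ⟨z1, hz1⟩ := (yon S).map_surjective (hrepb.fst b')
  have sqZ' : IsPullback ((yon S).map (hrepb.snd b')) ((yon S).map z1) b' b := by
    rw [hz1]; exact sqZ.flip
  have hZ1e : Etale z1.left := hb'.2 b _ _ sqZ'
  obtain ⟨k, hk⟩ := (yon S).map_surjective
    (sqZ.lift ((yon S).map (w1 ≫ h)) ((yon S).map (hrepa.snd a' ≫ h')) (by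
      rw [Functor.map_comp, Functor.map_comp, Category.assoc, Category.assoc, ← comm, ← comm',
        hw1, ← Category.assoc, ← Category.assoc, sqW.w]))
  have hk1 : k ≫ z1 = w1 ≫ h := by
    apply (yon S).map_injective
    rw [Functor.map_comp, hk, hz1, sqZ.lift_fst]
  have hk2 : k ≫ hrepb.snd b' = hrepa.snd a' ≫ h' := by
    apply (yon S).map_injective
    rw [Functor.map_comp, hk, sqZ.lift_snd]
  -- the point
  rw [Points.ofPt_eq_map_ofScheme, Points.ofPt_eq_map_ofScheme a'] at hu
  obtain ⟨p, hp1, hp2⟩ := exists_point_of_isPullback sqW (Points.ofScheme U u)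
    (Points.ofScheme U' u') hu
  obtain ⟨w, rfl⟩ := (Points.schemeEquiv _).surjective p
  have hwu : w1.left w = u := by
    apply (Points.schemeEquiv U).injective
    rw [← hw1] at hp1
    exact (points_map_ofScheme w1 w).symm.trans hp1
  have hwu' : (hrepa.snd a').left w = u' := by
    apply (Points.schemeEquiv U').injective
    exact (points_map_ofScheme (hrepa.snd a') w).symm.trans hp2
  have c1 : w1.left ≫ h.left = k.left ≫ z1.left := (congrArg (fun t => t.left) hk1).symm
  have c2 : (hrepa.snd a').left ≫ h'.left = k.left ≫ (hrepb.snd b').left :=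
    (congrArg (fun t => t.left) hk2).symm
  have e1 := fibreDimAt_eq_of_etale_square w1.left z1.left k.left h.left c1 w
  have e2 := fibreDimAt_eq_of_etale_square (hrepa.snd a').left (hrepb.snd b').left k.left h'.left
    c2 w
  rw [← hwu, ← hwu', ← e1, ← e2]

end Groth.Agent.H52
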