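import Groth.Agent.H52.FTPoints3
import Groth.Agent.H52.LqfSource
import Groth.Agent.H52.Top2
import Mathlib.AlgebraicGeometry.Artinian

set_option autoImplicit false
universe u
open CategoryTheory CategoryTheory.Limits AlgebraicGeometry Opposite Topology
open AlgSp

namespace Groth.Agent.H52

/-- A locally Noetherian scheme all of whose points are closed is discrete. -/
theorem discreteTopology_of_forall_isClosed_singleton {W : Scheme.{u}} [IsLocallyNoetherian W]
    (h : ∀ x : ↥W, IsClosed ({x} : Set ↥W)) : DiscreteTopology ↥W := by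
  have : IsLocallyArtinian W := by
    refine ⟨fun U => ?_⟩
    have : IsNoetherianRing Γ(W, U) := IsLocallyNoetherian.component_noetherian U
    rw [isArtinianRing_iff_krullDimLE_zero]
    refine .mk₀ fun I hI => ?_
    have hU : IsAffineOpen (U : W.Opens) := U.2
    have key := hU.primeIdealOf_isMaximal_of_isClosed (hU.isoSpec.inv ⟨I, hI⟩) (h _)
    have e : hU.primeIdealOf (hU.isoSpec.inv ⟨I, hI⟩) = ⟨I, hI⟩ := by
      change hU.isoSpec.hom (hU.isoSpec.inv ⟨I, hI⟩) = _
      rw [← Scheme.Hom.comp_apply, Iso.inv_hom_id]
      rfl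
    rw [e] at key
    exact key
  infer_instance

theorem isClosed_singleton_of_isDiscrete_of_isClosed {X : Type*} [TopologicalSpace X] {A : Set X}
    (hd : IsDiscrete A) (hc : IsClosed A) {r : X} (hr : r ∈ A) : IsClosed ({r} : Set X) := by
  have := hd.to_subtype
  have h1 : IsClosed ({⟨r, hr⟩} : Set A) := isClosed_discrete _
  have h2 := hc.isClosedEmbedding_subtypeVal.isClosedMap _ h1
  simpa using h2

variable {S : Scheme.{u}}

/-- Charts of an algebraic space locally of finite type over a field with discrete space of points
are discrete. -/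
theorem discreteTopology_chart_of_discrete_points {P : Sp S} {k : Type u} [Field k]
    (str : Spec (CommRingCat.of k) ⟶ S) (q : P ⟶ (yon S).obj (Over.mk str))
    (hq : LocP @LocallyOfFiniteType q) [DiscreteTopology (Points P)] {W : Over S}
    (c : (yon S).obj W ⟶ P) (hce : RepWith @Etale c) : DiscreteTopology ↥W.left := by
  obtain ⟨h, hh⟩ := (yon S).map_surjective (c ≫ q)
  have hh1 : LocallyOfFiniteType h.left := hq c (𝟙 _) h hce (repWith_of_isIso _ _)
    (by rw [hh, Category.comp_id])
  have : JacobsonSpace ↥W.left :=
    LocallyOfFiniteType.jacobsonSpace (Y := Spec (CommRingCat.of k)) h.left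
  have : IsLocallyNoetherian W.left :=
    LocallyOfFiniteType.isLocallyNoetherian (Y := Spec (CommRingCat.of k)) h.left
  apply discreteTopology_of_forall_isClosed_singleton
  intro w
  -- a closed point with the same image
  have hopen : IsOpen (Points.ofPt c ⁻¹' {Points.ofPt c w}) :=
    (isOpen_discrete _).preimage (Points.continuous_ofPt c)
  obtain ⟨w', hw'1, hw'2⟩ := nonempty_inter_closedPoints (X := ↥W.left)
    (Z := Points.ofPt c ⁻¹' {Points.ofPt c w}) ⟨w, rfl⟩ hopen.isLocallyClosed
  -- the relation
  have sq := hce.rep.isPullback c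
  obtain ⟨r1, hr1⟩ := (yon S).map_surjective (hce.rep.fst c)
  rw [← hr1] at sq
  have h2 : Etale (hce.rep.snd c).left := hce.property_snd c
  have h1 : Etale r1.left := hce.2 c _ _ sq.flip
  obtain ⟨pr, hpr1, hpr2⟩ := exists_point_of_isPullback sq (Points.ofScheme W w')
    (Points.ofScheme W w) (by
      rw [← Points.ofPt_eq_map_ofScheme, ← Points.ofPt_eq_map_ofScheme]; exact hw'1)
  obtain ⟨r, rfl⟩ := (Points.schemeEquiv _).surjective pr
  have e1 : r1.left r = w' := by
    apply (Points.schemeEquiv W).injective
    exact (points_map_ofScheme r1 r).symm.trans hpr1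
  have e2 : (hce.rep.snd c).left r = w := by
    apply (Points.schemeEquiv W).injective
    exact (points_map_ofScheme _ r).symm.trans hpr2
  have hlqf : LocallyQuasiFinite r1.left :=
    Groth.Agent.H53.locallyQuasiFinite_of_formallyUnramified r1.left
  have hrc : IsClosed ({r} : Set ↥(hce.rep.pullback c).left) :=
    isClosed_singleton_of_isDiscrete_of_isClosed (r1.left.isDiscrete_preimage_singleton w')
      (hw'2.preimage r1.left.continuous) e1
  have := (hce.rep.snd c).left.closePoints_subset_preimage_closedPoints hrc
  rw [Set.mem_preimage, e2] at this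
  exact this

end Groth.Agent.H52
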