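import Groth.Agent.H52.DimSp
import Groth.Agent.H52.LqfDisc

/-!
# Schemes of dimension at most zero
-/

set_option autoImplicit false
universe u
open CategoryTheory CategoryTheory.Limits AlgebraicGeometry Opposite

namespace Groth.Agent.H52

open AlgSp

variable {S : Scheme.{u}}

attribute [local instance] specializationOrder in
/-- In a quasi-sober `T0` space of dimension at most zero all points are closed. -/
theorem isClosed_singleton_of_topologicalKrullDim_le_zero {X : Type*} [TopologicalSpace X]
    [QuasiSober X] [T0Space X] (hd : topologicalKrullDim X ≤ 0) (x : X) :
    IsClosed ({x} : Set X) := by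
  refine isClosed_of_closure_subset fun y hy => ?_
  have hxy : x ⤳ y := specializes_iff_mem_closure.2 hy
  rw [Groth.Agent.S4716.topologicalKrullDim_eq_krullDim,
    Order.krullDim_nonpos_iff_forall_isMin] at hd
  have hyx : y ⤳ x := hd x hxy
  exact (hyx.antisymm hxy).eq

/-- A scheme locally of finite type over a locally Noetherian scheme and of dimension at most zero is
locally quasi-finite over it. -/
theorem locallyQuasiFinite_of_dim_le_zero {U V : Scheme.{u}} (g : U ⟶ V) [LocallyOfFiniteType g]
    [IsLocallyNoetherian V] (hd : topologicalKrullDim ↥U ≤ 0) : LocallyQuasiFinite g := by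
  have : IsLocallyNoetherian U := LocallyOfFiniteType.isLocallyNoetherian g
  have := discreteTopology_of_forall_isClosed_singleton
    (isClosed_singleton_of_topologicalKrullDim_le_zero hd)
  rw [locallyQuasiFinite_iff_isDiscrete_preimage_singleton]
  exact fun x => isDiscrete_iff_discreteTopology.2 inferInstance

attribute [local instance] specializationOrder in
theorem topologicalKrullDim_le_zero_of_subsingleton (X : Type*) [TopologicalSpace X]
    [QuasiSober X] [T0Space X] [Subsingleton X] : topologicalKrullDim X ≤ 0 := by
  rw [Groth.Agent.S4716.topologicalKrullDim_eq_krullDim]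
  exact Order.krullDim_nonpos_of_subsingleton

end Groth.Agent.H52
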