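/-
Helper library (helper52): a morphism locally of finite type is locally quasi-finite iff all its
local fibre dimensions vanish.
-/
import Groth.Agent.H52.DimZero
import Groth.Agent.Lib.Helper55.FiberBaseChange
import Groth.Agent.Lib.Helper55.GroupLocalDim
import Groth.Agent.S9798
import Groth.Agent.Lib.Helper55.FiberCompDim
import Groth.Prelude.Def_Dual3

set_option autoImplicit false
universe u
open CategoryTheory CategoryTheory.Limits AlgebraicGeometry Opposite

namespace Groth.Agent.H52

/-- The fibres of a locally quasi-finite morphism locally of finite type have local dimension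
zero. -/
theorem fibreDimAt_eq_zero_of_locallyQuasiFinite {X Y : Scheme.{u}} (h : X ⟶ Y)
    [LocallyQuasiFinite h] [LocallyOfFiniteType h] (x : X) : FlatMor.fibreDimAt h x = 0 := by
  unfold FlatMor.fibreDimAt
  have h1 : LocallyQuasiFinite (h.fiberToSpecResidueField (h x)) :=
    MorphismProperty.pullback_snd (P := @LocallyQuasiFinite) _ _ inferInstance
  have h2 : IsLocallyArtinian (h.fiber (h x)) :=
    .of_locallyQuasiFinite (h.fiberToSpecResidueField (h x))
  rw [Groth.Agent.S9798.result]
  exact isOpen_discrete _

/-- A morphism locally of finite type all of whose local fibre dimensions vanish is locally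
quasi-finite. -/
theorem locallyQuasiFinite_of_fibreDimAt_eq_zero {X Y : Scheme.{u}} (h : X ⟶ Y)
    [LocallyOfFiniteType h] (H : ∀ x : X, FlatMor.fibreDimAt h x = 0) : LocallyQuasiFinite h := by
  refine LocallyQuasiFinite.of_fiberToSpecResidueField h fun y => ?_
  have hlft : LocallyOfFiniteType (h.fiberToSpecResidueField y) :=
    MorphismProperty.pullback_snd (P := @LocallyOfFiniteType) _ _ inferInstance
  refine locallyQuasiFinite_of_dim_le_zero (h.fiberToSpecResidueField y) ?_
  rw [Groth.Agent.Lib.Helper55.topologicalKrullDim_eq_iSup_localDim]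
  refine iSup_le fun z => ?_
  rw [Groth.Agent.Lib.Helper55.localDim_fiber_eq_fibreDimAt, H]

theorem locallyQuasiFinite_iff_fibreDimAt_eq_zero {X Y : Scheme.{u}} (h : X ⟶ Y)
    [LocallyOfFiniteType h] : LocallyQuasiFinite h ↔ ∀ x : X, FlatMor.fibreDimAt h x = 0 :=
  ⟨fun _ x => fibreDimAt_eq_zero_of_locallyQuasiFinite h x,
    locallyQuasiFinite_of_fibreDimAt_eq_zero h⟩

end Groth.Agent.H52

namespace Groth.Agent.H52

/-- The residue field extensions of a locally quasi-finite morphism locally of finite type have
transcendence degree zero. -/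
theorem resTrdeg_eq_zero_of_locallyQuasiFinite {X Y : Scheme.{u}} (h : X ⟶ Y)
    [LocallyQuasiFinite h] [LocallyOfFiniteType h] (x : X) : Dual3.resTrdeg h x = 0 := by
  obtain ⟨n, hn1, hn2⟩ := Groth.Agent.Lib.Helper55.fibreDimAt_eq_stalk_add_trdeg h x
  rw [fibreDimAt_eq_zero_of_locallyQuasiFinite h x] at hn2
  have hn : n = 0 := by
    generalize ringKrullDim (X.presheaf.stalk x ⧸ Ideal.map (h.stalkMap x).hom
      (IsLocalRing.maximalIdeal (Y.presheaf.stalk (h x)))) = a at hn2
    induction a using WithBot.recBotCoe with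
    | bot => simp at hn2
    | coe a =>
      have h2 : ((a + (n : ℕ∞) : ℕ∞) : WithBot ℕ∞) = ((0 : ℕ∞) : WithBot ℕ∞) := by
        rw [WithBot.coe_add]; exact hn2.symm
      have h3 : a + (n : ℕ∞) = 0 := WithBot.coe_injective h2
      have h4 : (n : ℕ∞) = 0 := (add_eq_zero.mp h3).2
      exact_mod_cast h4
  change @Algebra.trdeg (Y.residueField (h x)) (X.residueField x) _ _
    (h.residueFieldMap x).hom.toAlgebra = 0
  rw [hn1, hn]
  rfl

end Groth.Agent.H52
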