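/-
Helper library (helper52): compactness of spaces of points.
-/
import Groth.Agent.H52.Top2

set_option autoImplicit false
universe u
open CategoryTheory CategoryTheory.Limits AlgebraicGeometry Opposite Topology
open AlgSp

namespace Groth.Agent.H52

variable {S : Scheme.{u}}

/-- The image on points of a morphism out of a quasi-compact sheaf is quasi-compact. -/
theorem isCompact_range_points_map {Z X : Sp S} (g : Z ⟶ X) (h : IsQuasiCompactSp Z) :
    IsCompact (Set.range (Points.map g)) := by
  obtain ⟨E, c, -, hcs, hE⟩ := h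
  have : CompactSpace ↥E.left := hE
  have hsurj := surjective_points_of_repWith_surjective c hcs
  have : Set.range (Points.map g) = Set.range (Points.ofPt (c ≫ g)) := by
    ext x
    constructor
    · rintro ⟨z, rfl⟩
      obtain ⟨e, rfl⟩ := hsurj z
      obtain ⟨t, rfl⟩ := (Points.schemeHomeo E).surjective e
      refine ⟨t, ?_⟩
      rw [Points.ofPt_eq_map_ofScheme, Points.map_comp]
      rfl
    · rintro ⟨t, rfl⟩
      refine ⟨Points.map c (Points.ofScheme E t), ?_⟩
      rw [Points.ofPt_eq_map_ofScheme, Points.map_comp]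
  rw [this]
  exact isCompact_range (Points.continuous_ofPt _)

/-- The points of a quasi-compact sheaf form a quasi-compact space. -/
theorem compactSpace_points {Z : Sp S} (h : IsQuasiCompactSp Z) : CompactSpace (Points Z) := by
  constructor
  have := isCompact_range_points_map (𝟙 Z) h
  have h2 : Set.range (Points.map (𝟙 Z)) = Set.univ := by
    ext x; simp
  rwa [h2] at this

/-- The image on points of the restriction of a chart to an open subscheme. -/
theorem range_points_map_overOpenι_comp {Y : Sp S} {W : Over S} (q : (yon S).obj W ⟶ Y)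
    (O : W.left.Opens) :
    Set.range (Points.map ((yon S).map (overOpenι W O) ≫ q)) = Points.ofPt q '' (O : Set ↥W.left) := by
  ext y
  constructor
  · rintro ⟨x, rfl⟩
    obtain ⟨t, rfl⟩ := (Points.schemeHomeo (overOpen W O)).surjective x
    refine ⟨O.ι t, ?_, ?_⟩
    · exact t.2
    · rw [Points.map_comp, Points.ofPt_eq_map_ofScheme]
      congr 1
      exact (Points.map_yon_map_apply (overOpenι W O) t).symm
  · rintro ⟨w, hw, rfl⟩
    refine ⟨Points.schemeHomeo (overOpen W O) ⟨w, hw⟩, ?_⟩
    rw [Points.map_comp, Points.ofPt_eq_map_ofScheme]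
    congr 1
    exact Points.map_yon_map_apply (overOpenι W O) ⟨w, hw⟩

/-- For a quasi-compact morphism to an algebraic space, the preimage of a quasi-compact open set
of points is quasi-compact. -/
theorem isCompact_preimage_of_isQuasiCompactMor {X Y : Sp S} (hY : IsAlgSpace Y) (f : X ⟶ Y)
    (hf : IsQuasiCompactMor f) (V : Set (Points Y)) (hV : IsOpen V) (hVc : IsCompact V) :
    IsCompact (Points.map f ⁻¹' V) := by
  classical
  obtain ⟨W, q, hqe, hqs⟩ := hY.atlas
  have hφ : Points.ofPt q = Points.map q ∘ Points.schemeHomeo W :=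
    funext (Points.ofPt_eq_map_ofScheme q)
  have hφ_open : IsOpenMap (Points.ofPt q) := by
    rw [hφ]
    exact (isOpenMap_points_of_etale q hqe).comp (Points.schemeHomeo W).isOpenMap
  have hφ_surj : Function.Surjective (Points.ofPt q) := by
    rw [hφ]
    exact (surjective_points_of_repWith_surjective q hqs).comp (Points.schemeHomeo W).surjective
  let V' : W.left.Opens := ⟨Points.ofPt q ⁻¹' V, hV.preimage (Points.continuous_ofPt q)⟩
  choose w hw using hφ_surj
  have hO : ∀ v : V, ∃ O : W.left.Opens, IsAffineOpen O ∧ w v.1 ∈ O ∧ O ≤ V' := fun v => by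
    have hmem : w v.1 ∈ V' := by
      change Points.ofPt q (w v.1) ∈ V
      rw [hw]; exact v.2
    obtain ⟨O, hOa, h1, h2⟩ := exists_isAffineOpen_mem_and_subset (x := w v.1) (U := V') hmem
    exact ⟨O, hOa, h1, h2⟩
  choose O hOaff hOmem hOle using hO
  obtain ⟨s, hs⟩ := hVc.elim_finite_subcover (fun v : V => Points.ofPt q '' (O v : Set ↥W.left))
    (fun v => hφ_open _ (O v).2) (fun y hy => Set.mem_iUnion.2 ⟨⟨y, hy⟩, w y, hOmem ⟨y, hy⟩, hw y⟩)
  have hsub : ∀ v : V, Points.ofPt q '' (O v : Set ↥W.left) ⊆ V := by
    rintro v _ ⟨t, ht, rfl⟩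
    exact hOle v ht
  have heq : Points.map f ⁻¹' V =
      ⋃ v ∈ s, Points.map f ⁻¹' (Points.ofPt q '' (O v : Set ↥W.left)) := by
    ext x
    simp only [Set.mem_preimage, Set.mem_iUnion]
    constructor
    · intro hx
      have := hs hx
      simp only [Set.mem_iUnion] at this
      obtain ⟨v, hv, hxv⟩ := this
      exact ⟨v, hv, hxv⟩
    · rintro ⟨v, -, hxv⟩
      exact hsub v hxv
  rw [heq]
  refine s.finite_toSet.isCompact_biUnion fun v _ => ?_
  -- each piece is the image of a quasi-compact space
  let a := (yon S).map (overOpenι W (O v)) ≫ q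
  have : IsAffine (overOpen W (O v)).left := hOaff v
  have : CompactSpace ↥(overOpen W (O v)).left := inferInstance
  have hqc : IsQuasiCompactSp (pullback f a) :=
    hf (IsAlgSpace.yon_obj _) (isQuasiCompactSp_yon _) a _ _ (IsPullback.of_hasPullback f a)
  have key := preimage_image_eq_of_isPullback (IsPullback.of_hasPullback f a).flip Set.univ
  rw [Set.image_univ, Set.preimage_univ, Set.image_univ, range_points_map_overOpenι_comp] at key
  rw [key]
  exact isCompact_range_points_map _ hqc

end Groth.Agent.H52
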