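/-
Helper library (helper52): fppf covers give epimorphisms of fppf sheaves; descent of monomorphisms.
-/
import Groth.Agent.H52.FibreProd

set_option autoImplicit false
universe u
open CategoryTheory CategoryTheory.Limits AlgebraicGeometry Opposite

namespace Groth.Agent.H52

variable {S : Scheme.{u}}

/-- The sieve generated by a single fppf morphism over `S` is covering for `AlgSp.J S`. -/
theorem generate_singleton_mem_J {T' T : Over S} (φ : T' ⟶ T) [Flat φ.left] [Surjective φ.left]
    [LocallyOfFinitePresentation φ.left] :
    Sieve.generate (Presieve.singleton φ) ∈ AlgSp.J S T := by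
  rw [GrothendieckTopology.mem_over_iff]
  refine GrothendieckTopology.superset_covering _ ?_
    (Precoverage.generate_mem_toGrothendieck φ.left.singleton_mem_fppfPrecoverage)
  rw [Sieve.overEquiv_generate, Sieve.generate_le_iff]
  rintro Z g ⟨⟩
  exact Sieve.le_generate _ _ _ ⟨T', φ, 𝟙 _, Presieve.singleton.mk, by simp⟩

/-- `h_φ` is an epimorphism of fppf sheaves when `φ` is flat, surjective and locally of finite
presentation. -/
theorem epi_yon_map_of_fppf {T' T : Over S} (φ : T' ⟶ T) [Flat φ.left] [Surjective φ.left]
    [LocallyOfFinitePresentation φ.left] : Epi ((AlgSp.yon S).map φ) := by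
  constructor
  intro G a b hab
  apply (AlgSp.J S).uliftYonedaEquiv.injective
  have hG : Presieve.IsSheaf (AlgSp.J S) G.obj := (isSheaf_iff_isSheaf_of_type _ _).1 G.property
  have hsep := (hG _ (generate_singleton_mem_J φ)).isSeparatedFor
  refine hsep.ext ?_
  rintro Y f ⟨W, u, v, ⟨⟩, rfl⟩
  have h1 : G.obj.map φ.op ((AlgSp.J S).uliftYonedaEquiv a) =
      G.obj.map φ.op ((AlgSp.J S).uliftYonedaEquiv b) := by
    rw [GrothendieckTopology.uliftYonedaEquiv_naturality,
      GrothendieckTopology.uliftYonedaEquiv_naturality]
    exact congrArg _ hab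
  rw [op_comp, Functor.map_comp]
  change G.obj.map u.op (G.obj.map φ.op _) = G.obj.map u.op (G.obj.map φ.op _)
  rw [h1]

/-- A morphism of sheaves representable by flat, surjective, locally finitely presented morphisms
(e.g. etale surjective) is an epimorphism. -/
theorem epi_of_repWith_fppf {F G : AlgSp.Sp S} (p : F ⟶ G) (hrep : AlgSp.Representable p)
    (h : ∀ ⦃U : Over S⦄ (g : (AlgSp.yon S).obj U ⟶ G),
      Flat (hrep.snd g).left ∧ Surjective (hrep.snd g).left ∧
        LocallyOfFinitePresentation (hrep.snd g).left) : Epi p := by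
  constructor
  intro H a b hab
  apply sp_hom_ext
  intro U x
  obtain ⟨h1, h2, h3⟩ := h x
  have := epi_yon_map_of_fppf (hrep.snd x)
  rw [← cancel_epi ((AlgSp.yon S).map (hrep.snd x)), ← Category.assoc, ← Category.assoc,
    ← hrep.w x, Category.assoc, Category.assoc, hab]

/-- An etale surjective representable morphism is an epimorphism of sheaves. -/
theorem epi_of_repWith_etale_surjective {F G : AlgSp.Sp S} (p : F ⟶ G)
    (hpe : AlgSp.RepWith @Etale p) (hps : AlgSp.RepWith @Surjective p) : Epi p := by
  refine epi_of_repWith_fppf p hpe.rep fun U g => ?_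
  have h1 : Etale (hpe.rep.snd g).left := hpe.property_snd g
  have h2 : Surjective (hpe.rep.snd g).left := hps.2 g _ _ (hpe.rep.isPullback g)
  exact ⟨inferInstance, h2, inferInstance⟩

end Groth.Agent.H52
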