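/-
Helper library (helper52): universally injective morphisms of algebraic spaces.
-/
import Groth.Agent.H52.DiagSp2
import Mathlib.AlgebraicGeometry.Morphisms.FlatMono
import Mathlib.AlgebraicGeometry.Morphisms.UniversallyInjective

set_option autoImplicit false
universe u
open CategoryTheory CategoryTheory.Limits AlgebraicGeometry Opposite Topology
open AlgSp

namespace Groth.Agent.H52

variable {S : Scheme.{u}}

/-- A monomorphism from a nonempty scheme to the spectrum of a field is an isomorphism. -/
theorem isIso_of_mono_of_nonempty_spec_field {E : Scheme.{u}} {K : Type u} [Field K]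
    (φ : E ⟶ Spec (CommRingCat.of K)) [Mono φ] [Nonempty ↥E] : IsIso φ := by
  have hinj : Function.Injective φ := φ.injective
  have : Subsingleton ↥E := hinj.subsingleton
  have : CompactSpace ↥E := Finite.compactSpace
  have : QuasiCompact φ := (quasiCompact_iff_compactSpace φ).2 inferInstance
  have : Surjective φ := ⟨fun y => ⟨Classical.arbitrary _, Subsingleton.elim _ _⟩⟩
  exact Flat.isIso_of_surjective_of_mono φ

/-- Injectivity on field valued points. -/
def KInj {F G : Sp S} (f : F ⟶ G) : Prop :=
  ∀ (K : Type u) [Field K] (str : Spec (CommRingCat.of K) ⟶ S),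
    Function.Injective (fun a : (yon S).obj (Over.mk str) ⟶ F => a ≫ f)

theorem KInj.of_isPullback {X Y Z Z' : Sp S} {f : X ⟶ Y} {g : Z ⟶ Y} {fst : Z' ⟶ X} {snd : Z' ⟶ Z}
    (sq : IsPullback fst snd f g) (hf : KInj f) : KInj snd := by
  intro K _ str a b hab
  change a ≫ snd = b ≫ snd at hab
  refine sq.hom_ext (hf K str ?_) hab
  change (a ≫ fst) ≫ f = (b ≫ fst) ≫ f
  rw [Category.assoc, Category.assoc, sq.w, ← Category.assoc, ← Category.assoc, hab]

theorem KInj.injective_points {F G : Sp S} {f : F ⟶ G} (hf : KInj f) :
    Function.Injective (Points.map f) := by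
  intro x₁ x₂ h
  induction x₁ using Points.ind with | h p =>
  induction x₂ using Points.ind with | h q =>
  rw [Points.map_mk, Points.map_mk, Points.mk_eq_mk_iff, fieldPt_rel_iff] at h
  obtain ⟨Ω, _, w, a, b, hab⟩ := h
  rw [fieldPtToHom_map, fieldPtToHom_map] at hab
  rw [Points.mk_eq_mk_iff, fieldPt_rel_iff]
  refine ⟨Ω, inferInstance, w, a, b, hf Ω w ?_⟩
  change (_ ≫ _) ≫ f = (_ ≫ _) ≫ f
  rw [Category.assoc, Category.assoc]
  exact hab

theorem KInj.isUnivInjectiveMor {F G : Sp S} {f : F ⟶ G} (hf : KInj f) : IsUnivInjectiveMor f :=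
  fun _ _ _ _ _ _ sq => (hf.of_isPullback sq).injective_points

/-- A universally injective morphism out of an algebraic space has a diagonal which is surjective on
points. -/
theorem isSurjectiveMor_diagonal_of_isUnivInjectiveMor {X Y : Sp S} (hX : IsAlgSpace X) (f : X ⟶ Y)
    (hf : IsUnivInjectiveMor f) : IsSurjectiveMor (pullback.diagonal f) := by
  have hinj : Function.Injective (Points.map (pullback.snd f f)) :=
    hf hX f _ _ (IsPullback.of_hasPullback f f)
  intro z
  refine ⟨Points.map (pullback.snd f f) z, hinj ?_⟩
  rw [← Points.map_comp, pullback.diagonal_snd, Points.map_id]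

/-- If the diagonal of a morphism out of an algebraic space is surjective on points, the morphism is
injective on field valued points. -/
theorem kInj_of_isSurjectiveMor_diagonal {X Y : Sp S} (hX : IsAlgSpace X) (f : X ⟶ Y)
    (hf : IsSurjectiveMor (pullback.diagonal f)) : KInj f := by
  intro K _ str a b hab
  change a ≫ f = b ≫ f at hab
  let x : (yon S).obj (Over.mk str) ⟶ pullback f f := pullback.lift a b hab
  have hrep := (diagonal_properties hX f).1
  have sq := hrep.isPullback x
  have hmono : Mono ((yon S).map (hrep.snd x)) := sq.mono_snd_of_mono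
  have hmono' : Mono (hrep.snd x) := (yon S).mono_of_mono_map hmono
  have hmono'' : Mono (hrep.snd x).left := inferInstance
  -- the pullback is nonempty
  obtain ⟨w, hw⟩ := hf (Points.map x (tautPt str))
  obtain ⟨e, -, -⟩ := exists_point_of_isPullback sq w (tautPt str) hw
  have hne : Nonempty ↥(hrep.pullback x).left := ⟨(Points.schemeEquiv _).symm e⟩
  have hiso : IsIso (hrep.snd x).left := isIso_of_mono_of_nonempty_spec_field _
  have hiso'' : IsIso ((Over.forget S).map (hrep.snd x)) := hiso
  have hiso' : IsIso (hrep.snd x) := isIso_of_reflects_iso _ (Over.forget S)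
  let c : (yon S).obj (Over.mk str) ⟶ X := (yon S).map (inv (hrep.snd x)) ≫ hrep.fst x
  have hc : c ≫ pullback.diagonal f = x := by
    simp only [c, Category.assoc, sq.w]
    rw [← Category.assoc, ← Functor.map_comp, IsIso.inv_hom_id]
    erw [(yon S).map_id]
    exact Category.id_comp _
  have ha : a = c := by
    have := congrArg (· ≫ pullback.fst f f) hc
    simp only [Category.assoc, pullback.diagonal_fst, Category.comp_id] at this
    rw [this]
    exact (pullback.lift_fst _ _ _).symm
  have hb : b = c := by
    have := congrArg (· ≫ pullback.snd f f) hc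
    simp only [Category.assoc, pullback.diagonal_snd, Category.comp_id] at this
    rw [this]
    exact (pullback.lift_snd _ _ _).symm
  rw [ha, hb]

/-- A universally injective morphism is injective on field valued points, for algebraic spaces. -/
theorem kInj_of_isUnivInjectiveMor {X Y : Sp S} (hX : IsAlgSpace X) (f : X ⟶ Y)
    (hf : IsUnivInjectiveMor f) : KInj f :=
  kInj_of_isSurjectiveMor_diagonal hX f (isSurjectiveMor_diagonal_of_isUnivInjectiveMor hX f hf)

end Groth.Agent.H52
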