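/-
Helper library (helper52): universally open morphisms, part 3.
-/
import Groth.Agent.H52.Top2
import Groth.Agent.H52.QC2

set_option autoImplicit false
universe u
open CategoryTheory CategoryTheory.Limits AlgebraicGeometry Opposite Topology

namespace Groth.Agent.H52

open AlgSp

variable {S : Scheme.{u}}

/-- A morphism representable by universally open morphisms is universally open. -/
theorem isUnivOpenMor_of_repWith {X Y : Sp S} (f : X ⟶ Y) (hf : RepWith @UniversallyOpen f) :
    IsUnivOpenMor f := by
  intro Z Z' _ g fst snd sq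
  have hsnd : RepWith @UniversallyOpen snd := MorphismProperty.of_isPullback sq hf
  exact isOpenMap_points_of_repWith snd @UniversallyOpen
    (fun _ _ φ hφ => by have : UniversallyOpen φ := hφ; exact φ.isOpenMap) hsnd

/-- If `p' ≫ f` is universally open and `p'` is (representable) surjective, `f` is universally
open. -/
theorem isUnivOpenMor_of_precomp_surjective {X' X Y : Sp S} (p' : X' ⟶ X) (f : X ⟶ Y)
    (hp' : RepWith @Surjective p') (h : IsUnivOpenMor (p' ≫ f)) : IsUnivOpenMor f := by
  intro Z Z' hZ g fst snd sq
  have sq' := IsPullback.of_hasPullback fst p'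
  have big : IsPullback (pullback.snd fst p') (pullback.fst fst p' ≫ snd) (p' ≫ f) g :=
    IsPullback.paste_vert sq'.flip sq
  have hopen : IsOpenMap (Points.map (pullback.fst fst p' ≫ snd)) := h hZ g _ _ big
  have hsurj : Function.Surjective (Points.map (pullback.fst fst p')) :=
    surjective_points_of_repWith_surjective _ (MorphismProperty.of_isPullback sq'.flip hp')
  intro O hO
  have : Points.map snd '' O =
      Points.map (pullback.fst fst p' ≫ snd) '' (Points.map (pullback.fst fst p') ⁻¹' O) := by
    ext z
    constructor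
    · rintro ⟨x, hx, rfl⟩
      obtain ⟨w, rfl⟩ := hsurj x
      exact ⟨w, hx, Points.map_comp _ _ _⟩
    · rintro ⟨w, hw, rfl⟩
      exact ⟨_, hw, (Points.map_comp _ _ _).symm⟩
  rw [this]
  exact hopen _ (hO.preimage (Points.continuous_map _))

/-- A morphism of algebraic spaces which is universally open on (one, hence all) chart diagrams
is universally open. Stated with `LocP P` for `P` implying universally open. -/
theorem isUnivOpenMor_of_locP {X Y : Sp S} (hX : IsAlgSpace X) (hY : IsAlgSpace Y) (f : X ⟶ Y)
    (P : MorphismProperty Scheme.{u}) (hP : ∀ ⦃A B : Scheme.{u}⦄ (φ : A ⟶ B), P φ → UniversallyOpen φ)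
    (hf : LocP P f) : IsUnivOpenMor f := by
  obtain ⟨U, p, hpe, hps⟩ := hX.atlas
  obtain ⟨V, q, hqe, hqs⟩ := hY.atlas
  have sqV := IsPullback.of_hasPullback f q
  refine univSp_of_etale_cover IsOpenMor
    (fun sq hp h => isOpenMap_points_of_isPullback_of_isQuotientMap sq hp h)
    hY f (IsAlgSpace.yon_obj V) q hqe hqs (pullback.fst f q) (pullback.snd f q) sqV ?_
  obtain ⟨V₁, q₁, a, b, h1, h2, sqab, hq₁⟩ :=
    exists_chart_of_isPullback sqV (fun _ a => hY.representable_from_yon a) p (𝟙 _)
  have hq₁s : RepWith @Surjective q₁ := hq₁ @Surjective hps (repWith_id _ V)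
  apply isUnivOpenMor_of_precomp_surjective q₁ _ hq₁s
  rw [h2, Category.comp_id]
  apply isUnivOpenMor_of_repWith
  rw [repWith_yon_map_iff]
  apply hP
  rw [Category.id_comp] at sqab
  have hae : RepWith @Etale ((yon S).map a) := MorphismProperty.of_isPullback sqab.flip hqe
  exact hf ((yon S).map a ≫ p) q b ((RepWith (S := S) @Etale).comp_mem _ _ hae hpe) hqe
    (by rw [Category.assoc]; exact sqab.w)

end Groth.Agent.H52
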