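/-
Helper library (helper52): an etale surjective morphism of affine schemes `U ⟶ T`, where `T` is the
limit of a cofiltered system of qcqs schemes with affine transition maps, descends to an etale
surjective morphism of affine schemes `V ⟶ T_l` at a stage.
-/
import Groth.Agent.Lib.Helper93.LimitEtaleCover
import Groth.Agent.Lib.Helper13.LimDescent

set_option autoImplicit false
universe u
open CategoryTheory CategoryTheory.Limits AlgebraicGeometry Opposite

namespace Groth.Agent.H52.AffLim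

open Groth.Agent.Lib.Helper13.LimDescent

variable {L : Type u} [SmallCategory L] [IsCofiltered L] (E : L ⥤ Scheme.{u}) (cE : Cone E)
  (hcE : IsLimit cE) [hEa : ∀ {i j : L} (f : i ⟶ j), IsAffineHom (E.map f)]
  [∀ i, QuasiSeparatedSpace ↥(E.obj i)] [∀ i, CompactSpace ↥(E.obj i)]

include hcE in
theorem exists_affine_etale_model [IsAffine cE.pt] {U : Scheme.{u}} [IsAffine U] (u : U ⟶ cE.pt)
    [Etale u] [Surjective u] :
    ∃ (l : L) (V : Scheme.{u}) (v : V ⟶ E.obj l) (q : U ⟶ V), IsAffine (E.obj l) ∧ IsAffine V ∧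
      Etale v ∧ Surjective v ∧ IsPullback q u v (cE.π.app l) := by
  classical
  obtain ⟨i, Xi, xi, q, hEt, hQC, hQS, hpb⟩ :=
    Groth.Agent.Lib.Helper93.LimitEtaleCover.exists_etale_model E cE hcE u
  have : CompactSpace ↥Xi := QuasiCompact.compactSpace_of_compactSpace xi
  have : QuasiSeparatedSpace ↥Xi := quasiSeparatedSpace_of_quasiSeparated xi
  -- surjectivity at a later stage
  let W : (E.obj i).Opens := ⟨Set.range xi, xi.isOpenMap.isOpen_range⟩
  have hW : cE.π.app i ⁻¹ᵁ W = ⊤ := by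
    rw [eq_top_iff]
    intro x _
    obtain ⟨y, rfl⟩ := Surjective.surj (f := u) x
    change cE.π.app i (u y) ∈ Set.range xi
    refine ⟨q y, ?_⟩
    have h1 : (q ≫ xi) y = (u ≫ cE.π.app i) y := by rw [hpb.w]
    rwa [Scheme.Hom.comp_apply, Scheme.Hom.comp_apply] at h1
  obtain ⟨k₁, ψ₁, hk₁⟩ := exists_map_eq_top E cE hcE W hW
  -- affineness of the base at a stage
  obtain ⟨a, ha⟩ := Scheme.exists_isAffine_of_isLimit E cE hcE
  -- affineness of the model at a stage
  have : IsAffine (pullback (cE.π.app i) xi) := IsAffine.of_isIso hpb.flip.isoPullback.inv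
  obtain ⟨k₂, hk₂⟩ := exists_isAffine_pullback E cE i xi hcE
  -- a common stage
  let b : L := IsCofiltered.min a i
  let k₃ : Over i := Over.mk (IsCofiltered.minToRight a i)
  obtain ⟨m, hm⟩ := IsCofiltered.inf_objs_exists ({Over.mk ψ₁, k₂, k₃} : Finset (Over i))
  obtain ⟨f₁⟩ := hm (by simp : Over.mk ψ₁ ∈ ({Over.mk ψ₁, k₂, k₃} : Finset (Over i)))
  obtain ⟨f₂⟩ := hm (by simp : k₂ ∈ ({Over.mk ψ₁, k₂, k₃} : Finset (Over i)))
  obtain ⟨f₃⟩ := hm (by simp : k₃ ∈ ({Over.mk ψ₁, k₂, k₃} : Finset (Over i)))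
  have hw : (u ≫ cE.π.app m.left) ≫ E.map m.hom = q ≫ xi := by
    rw [Category.assoc, cE.w, hpb.w]
  refine ⟨m.left, pullback (E.map m.hom) xi, pullback.fst _ _,
    pullback.lift (u ≫ cE.π.app m.left) q hw, ?_, ?_, inferInstance, ?_, ?_⟩
  · -- the base is affine
    have h1 : IsAffine (E.obj a) := ha
    have h2 : IsAffineHom (E.map (f₃.left ≫ IsCofiltered.minToLeft a i)) := hEa _
    exact isAffine_of_isAffineHom (E.map (f₃.left ≫ IsCofiltered.minToLeft a i))
  · have := hk₂
    exact isAffine_pullback_of_hom E i xi f₂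
  · -- surjectivity
    refine ⟨fun x => ?_⟩
    have hx : x ∈ Set.range (pullback.fst (E.map m.hom) xi) := by
      rw [Scheme.Pullback.range_fst]
      change E.map m.hom x ∈ Set.range xi
      have e1 : m.hom = f₁.left ≫ ψ₁ := (Over.w f₁).symm
      rw [e1, E.map_comp, Scheme.Hom.comp_apply]
      have : E.map f₁.left x ∈ E.map ψ₁ ⁻¹ᵁ W := by rw [hk₁]; trivial
      exact this
    exact hx
  · have hbig : IsPullback (pullback.lift (u ≫ cE.π.app m.left) q hw ≫ pullback.snd _ _) u xi
        (cE.π.app m.left ≫ E.map m.hom) := by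
      rw [pullback.lift_snd, cE.w]
      exact hpb
    exact IsPullback.of_right hbig (pullback.lift_fst _ _ _) (IsPullback.of_hasPullback _ _).flip

end Groth.Agent.H52.AffLim
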