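import Groth.Agent.H52.Epi

set_option autoImplicit false
universe u
open CategoryTheory CategoryTheory.Limits AlgebraicGeometry Opposite

namespace Groth.Agent.H52

open AlgSp

variable {S : Scheme.{u}}

/-- A jointly surjective family of flat morphisms locally of finite presentation over `S`. -/
structure IsFppfFamily {ι : Type*} {T : Over S} {Ti : ι → Over S} (c : ∀ i, Ti i ⟶ T) : Prop where
  flat : ∀ i, Flat (c i).left
  lfp : ∀ i, LocallyOfFinitePresentation (c i).left
  surj : ∀ t : ↥T.left, ∃ i, t ∈ Set.range (c i).left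

/-- The sieve generated by an fppf family is covering. -/
theorem IsFppfFamily.generate_mem_J {ι : Type*} {T : Over S} {Ti : ι → Over S} {c : ∀ i, Ti i ⟶ T}
    (hc : IsFppfFamily c) : Sieve.generate (Presieve.ofArrows Ti c) ∈ AlgSp.J S T := by
  rw [GrothendieckTopology.mem_over_iff]
  have hmem : Presieve.ofArrows (fun i => (Ti i).left) (fun i => (c i).left) ∈
      Scheme.fppfPrecoverage T.left := by
    change _ ∈ Scheme.precoverage (@Flat ⊓ @LocallyOfFinitePresentation) T.left
    rw [Scheme.ofArrows_mem_precoverage_iff]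
    exact ⟨hc.surj, fun i => (⟨hc.flat i, hc.lfp i⟩ :
      Flat (c i).left ∧ LocallyOfFinitePresentation (c i).left)⟩
  refine GrothendieckTopology.superset_covering _ ?_
    (Precoverage.generate_mem_toGrothendieck hmem)
  rw [Sieve.generate_le_iff]
  intro Z g hg
  obtain ⟨i⟩ := hg
  rw [Sieve.overEquiv_iff]
  refine ⟨Ti i, Over.homMk (𝟙 _) (by simp), c i, Presieve.ofArrows.mk i, ?_⟩
  ext
  simp

/-- Morphisms out of `h_T` are determined on an fppf family. -/
theorem IsFppfFamily.hom_ext {ι : Type*} {T : Over S} {Ti : ι → Over S} {c : ∀ i, Ti i ⟶ T}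
    (hc : IsFppfFamily c) {X : Sp S} (l l' : (yon S).obj T ⟶ X)
    (h : ∀ i, (yon S).map (c i) ≫ l = (yon S).map (c i) ≫ l') : l = l' := by
  apply (AlgSp.J S).uliftYonedaEquiv.injective
  have hG : Presieve.IsSheaf (AlgSp.J S) X.obj := (isSheaf_iff_isSheaf_of_type _ _).1 X.property
  have hsep := (hG _ hc.generate_mem_J).isSeparatedFor
  refine hsep.ext ?_
  rintro Y f ⟨W, u, v, ⟨i⟩, rfl⟩
  have h1 : X.obj.map (c i).op ((AlgSp.J S).uliftYonedaEquiv l) =
      X.obj.map (c i).op ((AlgSp.J S).uliftYonedaEquiv l') := by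
    rw [GrothendieckTopology.uliftYonedaEquiv_naturality,
      GrothendieckTopology.uliftYonedaEquiv_naturality]
    exact congrArg _ (h i)
  rw [op_comp, Functor.map_comp]
  change X.obj.map u.op (X.obj.map (c i).op _) = X.obj.map u.op (X.obj.map (c i).op _)
  rw [h1]

/-- Compatible morphisms on an fppf family glue. -/
theorem IsFppfFamily.exists_glue {ι : Type*} {T : Over S} {Ti : ι → Over S} {c : ∀ i, Ti i ⟶ T}
    (hc : IsFppfFamily c) {X : Sp S} (g : ∀ i, (yon S).obj (Ti i) ⟶ X)
    (hg : ∀ (i j : ι) (R : Over S) (r1 : R ⟶ Ti i) (r2 : R ⟶ Ti j), r1 ≫ c i = r2 ≫ c j →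
      (yon S).map r1 ≫ g i = (yon S).map r2 ≫ g j) :
    ∃ l : (yon S).obj T ⟶ X, ∀ i, (yon S).map (c i) ≫ l = g i := by
  have hG : Presieve.IsSheaf (AlgSp.J S) X.obj := (isSheaf_iff_isSheaf_of_type _ _).1 X.property
  have hsh : (Presieve.ofArrows Ti c).IsSheafFor X.obj :=
    (Presieve.isSheafFor_iff_generate _).2 (hG _ hc.generate_mem_J)
  rw [Presieve.isSheafFor_arrows_iff] at hsh
  obtain ⟨t, ht, -⟩ := hsh (fun i => (AlgSp.J S).uliftYonedaEquiv (g i)) (by
    intro i j Z gi gj hij
    rw [GrothendieckTopology.uliftYonedaEquiv_naturality,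
      GrothendieckTopology.uliftYonedaEquiv_naturality]
    exact congrArg _ (hg i j Z gi gj hij))
  refine ⟨(AlgSp.J S).uliftYonedaEquiv.symm t, fun i => ?_⟩
  apply (AlgSp.J S).uliftYonedaEquiv.injective
  rw [← GrothendieckTopology.uliftYonedaEquiv_naturality, Equiv.apply_symm_apply]
  exact ht i

end Groth.Agent.H52
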