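/-
Helper library (helper52): a morphism of algebraic spaces is locally of finite presentation iff it
is relatively limit preserving.
-/
import Groth.Agent.H52.LfpLim3
import Groth.Agent.S10025

set_option autoImplicit false
universe u
open CategoryTheory CategoryTheory.Limits AlgebraicGeometry Opposite
open AlgSp

namespace Groth.Agent.H52.LfpLim

variable {S : Scheme.{u}}

/-- Surjectivity: a section over the limit of an algebraic space locally of finite presentation over
a scheme `B` comes from a stage. -/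
theorem core_surj {W : Sp S} (hW : IsAlgSpace W) (B : Over S) (π : W ⟶ (yon S).obj B)
    (hπ : LocP @LocallyOfFinitePresentation π)
    {I : Type u} [SmallCategory I] [IsCofiltered I] (E : I ⥤ Over B.left) (c : Cone E)
    (hc : IsLimit ((Over.forget B.left).mapCone c)) (hE : ∀ i, IsAffine (E.obj i).left)
    (x : (yon S).obj ((Over.map B.hom).obj c.pt) ⟶ W)
    (hx : x ≫ π = (yon S).map (overHom B c.pt)) :
    ∃ (i : I) (xi : (yon S).obj ((Over.map B.hom).obj (E.obj i)) ⟶ W),
      xi ≫ π = (yon S).map (overHom B (E.obj i)) ∧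
      (yon S).map ((Over.map B.hom).map (c.π.app i)) ≫ xi = x := by
  haveI : ∀ i, IsAffine ((E ⋙ Over.forget B.left).obj i) := hE
  obtain ⟨i, xi, h1, h2⟩ := core_surj' hW B π hπ (E ⋙ Over.forget B.left) (fun i => (E.obj i).hom)
    ((Over.forget B.left).mapCone c) hc c.pt.hom (fun i => Over.w (c.π.app i))
    (fun φ => Over.w (E.map φ)) x hx
  exact ⟨i, xi, h1, h2⟩

/-- A morphism of algebraic spaces locally of finite presentation is relatively limit preserving. -/
theorem isRelLimitPreserving_of_locP_lfp {X Y : Sp S} (hX : IsAlgSpace X) (hY : IsAlgSpace Y)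
    (f : X ⟶ Y) (hf : LocP @LocallyOfFinitePresentation f) : IsRelLimitPreserving f.hom := by
  intro T y I _ _ D c hc hD hT
  obtain ⟨yh, hyh⟩ : ∃ yh : (yon S).obj T ⟶ Y, yh = (AlgSp.J S).uliftYonedaEquiv.symm y := ⟨_, rfl⟩
  have hyh' : (AlgSp.J S).uliftYonedaEquiv yh = y := by rw [hyh, Equiv.apply_symm_apply]
  have sq := IsPullback.of_hasPullback f yh
  have hW : IsAlgSpace (pullback f yh) := isAlgSpace_of_isPullback sq hX hY (IsAlgSpace.yon_obj T)
  have hπ : LocP @LocallyOfFinitePresentation (pullback.snd f yh) :=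
    isEtLocal_lfp.locP_of_isPullback hX hY (IsAlgSpace.yon_obj T) sq hf
  -- translation between elements of the fibre and sections of the pullback
  have toW : ∀ (Z : Over T.left) (x : (fiberFun f.hom T y).obj (op Z)),
      ∃ w : (yon S).obj ((Over.map T.hom).obj Z) ⟶ pullback f yh,
        w ≫ pullback.snd f yh = (yon S).map (overHom T Z) ∧
        (AlgSp.J S).uliftYonedaEquiv (w ≫ pullback.fst f yh) = x.1 := by
    intro Z x
    have comm : (AlgSp.J S).uliftYonedaEquiv.symm x.1 ≫ f = (yon S).map (overHom T Z) ≫ yh := by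
      apply (AlgSp.J S).uliftYonedaEquiv.injective
      rw [GrothendieckTopology.uliftYonedaEquiv_comp, Equiv.apply_symm_apply,
        ← GrothendieckTopology.uliftYonedaEquiv_naturality, hyh']
      exact x.2
    refine ⟨pullback.lift _ _ comm, pullback.lift_snd _ _ _, ?_⟩
    rw [pullback.lift_fst, Equiv.apply_symm_apply]
  have fromW : ∀ (Z : Over T.left) (w : (yon S).obj ((Over.map T.hom).obj Z) ⟶ pullback f yh),
      w ≫ pullback.snd f yh = (yon S).map (overHom T Z) →
      f.hom.app _ ((AlgSp.J S).uliftYonedaEquiv (w ≫ pullback.fst f yh)) =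
        Y.obj.map (overHom T Z).op y := by
    intro Z w hw
    rw [← GrothendieckTopology.uliftYonedaEquiv_comp, Category.assoc, pullback.condition,
      ← Category.assoc, hw, ← GrothendieckTopology.uliftYonedaEquiv_naturality, hyh']
  refine ⟨Types.FilteredColimit.isColimitOf' _ _ ?_ ?_⟩
  · intro x
    obtain ⟨w, hw1, hw2⟩ := toW c.pt x
    obtain ⟨i, wi, hwi1, hwi2⟩ := core_surj hW T _ hπ D c hc hD w hw1
    refine ⟨op i, ⟨(AlgSp.J S).uliftYonedaEquiv (wi ≫ pullback.fst f yh), fromW _ wi hwi1⟩, ?_⟩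
    apply Subtype.ext
    change x.1 = X.obj.map ((Over.map T.hom).map (c.π.app i)).op
      ((AlgSp.J S).uliftYonedaEquiv (wi ≫ pullback.fst f yh))
    rw [GrothendieckTopology.uliftYonedaEquiv_naturality, ← Category.assoc, hwi2, hw2]
  · intro i x x' hxx'
    obtain ⟨w, hw1, hw2⟩ := toW (D.obj i.unop) x
    obtain ⟨w', hw1', hw2'⟩ := toW (D.obj i.unop) x'
    have h1 : X.obj.map ((Over.map T.hom).map (c.π.app i.unop)).op x.1 =
        X.obj.map ((Over.map T.hom).map (c.π.app i.unop)).op x'.1 := congrArg Subtype.val hxx'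
    rw [← hw2, ← hw2', GrothendieckTopology.uliftYonedaEquiv_naturality,
      GrothendieckTopology.uliftYonedaEquiv_naturality] at h1
    have h2 := (AlgSp.J S).uliftYonedaEquiv.injective h1
    have h3 : (yon S).map ((Over.map T.hom).map (c.π.app i.unop)) ≫ w =
        (yon S).map ((Over.map T.hom).map (c.π.app i.unop)) ≫ w' := by
      apply pullback.hom_ext
      · simpa only [Category.assoc] using h2
      · rw [Category.assoc, Category.assoc, hw1, hw1']
    obtain ⟨j, φ, hj⟩ := core_inj hW T _ hπ D c hc hD i.unop w w' (hw1.trans hw1'.symm) h3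
    refine ⟨op j, φ.op, ?_⟩
    apply Subtype.ext
    change X.obj.map ((Over.map T.hom).map (D.map φ)).op x.1 =
      X.obj.map ((Over.map T.hom).map (D.map φ)).op x'.1
    rw [← hw2, ← hw2', GrothendieckTopology.uliftYonedaEquiv_naturality,
      GrothendieckTopology.uliftYonedaEquiv_naturality, ← Category.assoc, ← Category.assoc, hj]

/-- A relatively limit preserving morphism of algebraic spaces is locally of finite presentation. -/
theorem locP_lfp_of_isRelLimitPreserving {X Y : Sp S} (hX : IsAlgSpace X) (hY : IsAlgSpace Y)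
    (f : X ⟶ Y) (hf : IsRelLimitPreserving f.hom) : LocP @LocallyOfFinitePresentation f := by
  apply LfpCrit.locP_lfp_of_lifting hX hY f
  intro I _ _ D c hc hD hT x i y comm
  obtain ⟨T₀, hT₀⟩ : ∃ T₀ : Over S, T₀ = Over.mk (𝟙 S) := ⟨_, rfl⟩
  subst hT₀
  let εh : ∀ Z : Over S, (Over.map (Over.mk (𝟙 S)).hom).obj Z ⟶ Z :=
    fun Z => Over.homMk (𝟙 Z.left) (by simp)
  let εi : ∀ Z : Over S, Z ⟶ (Over.map (Over.mk (𝟙 S)).hom).obj Z :=
    fun Z => Over.homMk (𝟙 Z.left) (by simp)
  have hεih : ∀ Z, εi Z ≫ εh Z = 𝟙 _ := fun Z => by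
    apply Over.OverMorphism.ext
    simp [εi, εh]
  have hnat : ∀ {Z Z' : Over S} (g : Z ⟶ Z'),
      (Over.map (Over.mk (𝟙 S)).hom).map g ≫ εh Z' = εh Z ≫ g := fun g => by
    apply Over.OverMorphism.ext
    simp [εh]
  have hnati : ∀ {Z Z' : Over S} (g : Z ⟶ Z'),
      g ≫ εi Z' = εi Z ≫ (Over.map (Over.mk (𝟙 S)).hom).map g := fun g => by
    apply Over.OverMorphism.ext
    simp [εi]
  have hx : f.hom.app _ ((AlgSp.J S).uliftYonedaEquiv ((yon S).map (εh c.pt) ≫ x)) =
      Y.obj.map ((Over.map (Over.mk (𝟙 S)).hom).map (c.π.app i)).op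
        ((AlgSp.J S).uliftYonedaEquiv ((yon S).map (εh (D.obj i)) ≫ y)) := by
    rw [← GrothendieckTopology.uliftYonedaEquiv_comp,
      GrothendieckTopology.uliftYonedaEquiv_naturality, Category.assoc, comm,
      ← Category.assoc, ← Category.assoc, ← Functor.map_comp, ← Functor.map_comp, hnat]
    rfl
  obtain ⟨m, xm, hxm1, hxm2⟩ := Groth.Agent.S10025.Aux.RLP.abs_surj (Over.mk (𝟙 S)) D c i f.hom hf
    hc hD hT _ _ hx
  refine ⟨m.left, m.hom,
    (yon S).map (εi (D.obj m.left)) ≫ (AlgSp.J S).uliftYonedaEquiv.symm xm, ?_, ?_⟩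
  · have h1 : (yon S).map ((Over.map (Over.mk (𝟙 S)).hom).map (c.π.app m.left)) ≫
        (AlgSp.J S).uliftYonedaEquiv.symm xm = (yon S).map (εh c.pt) ≫ x := by
      apply (AlgSp.J S).uliftYonedaEquiv.injective
      rw [← GrothendieckTopology.uliftYonedaEquiv_naturality, Equiv.apply_symm_apply]
      exact hxm2
    rw [← Category.assoc, ← Functor.map_comp, hnati, Functor.map_comp, Category.assoc, h1,
      ← Category.assoc, ← Functor.map_comp]
    have h2 : εi (((Functor.const I).obj c.pt).obj m.left) ≫ εh c.pt = 𝟙 c.pt := hεih c.pt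
    have h3 : (yon S).map (εi (((Functor.const I).obj c.pt).obj m.left) ≫ εh c.pt) =
        𝟙 ((yon S).obj c.pt) := (congrArg (fun t => (yon S).map t) h2).trans ((yon S).map_id c.pt)
    exact (eq_whisker h3 x).trans (Category.id_comp x)
  · have h1 : (AlgSp.J S).uliftYonedaEquiv.symm xm ≫ f =
        (yon S).map ((Over.map (Over.mk (𝟙 S)).hom).map (D.map m.hom)) ≫
          (yon S).map (εh (D.obj i)) ≫ y := by
      apply (AlgSp.J S).uliftYonedaEquiv.injective
      rw [GrothendieckTopology.uliftYonedaEquiv_comp, Equiv.apply_symm_apply,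
        ← GrothendieckTopology.uliftYonedaEquiv_naturality]
      exact hxm1
    rw [Category.assoc, h1, ← Category.assoc, ← Category.assoc, ← Functor.map_comp,
      ← Functor.map_comp]
    congr 2

end Groth.Agent.H52.LfpLim
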