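/-
Helper library (helper52): abstract "colimit of Hom" injectivity / surjectivity properties of a
morphism `f : X ⟶ Y` with respect to a cone, their descent along covers, and their relation
with the cartesian square of colimits of Hom-sets.
-/
import Mathlib

set_option autoImplicit false
universe w v u
open CategoryTheory CategoryTheory.Limits Opposite

namespace Groth.Agent.H52.LfpLim

section Abstract

variable {C : Type u} [Category.{v} C] {X Y : C} (f : X ⟶ Y)
variable {K : Type w} [Category.{w} K]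

/-- Two maps from a stage to `X` with the same image in `Y` that agree on the vertex of the cone agree
at a later stage. -/
def HInj (A : K ⥤ C) (cA : Cone A) : Prop :=
  ∀ (j : K) (x x' : A.obj j ⟶ X), x ≫ f = x' ≫ f → cA.π.app j ≫ x = cA.π.app j ≫ x' →
    ∃ (k : K) (φ : k ⟶ j), A.map φ ≫ x = A.map φ ≫ x'

/-- A map from the vertex of the cone to `X` whose image in `Y` comes from a stage comes
(compatibly) from a later stage. -/
def HSurj (A : K ⥤ C) (cA : Cone A) : Prop :=
  ∀ (j : K) (y : A.obj j ⟶ Y) (x : cA.pt ⟶ X), x ≫ f = cA.π.app j ≫ y →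
    ∃ (k : K) (φ : k ⟶ j) (x' : A.obj k ⟶ X), cA.π.app k ≫ x' = x ∧ x' ≫ f = A.map φ ≫ y

variable {f}

/-- Descent of `HInj` along a levelwise epimorphic cover. -/
theorem HInj.of_cover {A B : K ⥤ C} {cA : Cone A} {cB : Cone B} (hB : HInj f B cB)
    (p : B ⟶ A) (hp : ∀ j, Epi (p.app j)) (pInf : cB.pt ⟶ cA.pt)
    (hpInf : ∀ j, cB.π.app j ≫ p.app j = pInf ≫ cA.π.app j) : HInj f A cA := by
  intro j x x' h1 h2
  obtain ⟨k, φ, hk⟩ := hB j (p.app j ≫ x) (p.app j ≫ x')
    (by rw [Category.assoc, Category.assoc, h1])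
    (by rw [← Category.assoc, ← Category.assoc, hpInf, Category.assoc, Category.assoc, h2])
  refine ⟨k, φ, ?_⟩
  have := hp k
  rw [← cancel_epi (p.app k)]
  rw [← Category.assoc, ← Category.assoc, ← p.naturality, Category.assoc, Category.assoc]
  exact hk

/-- Descent of `HSurj` along a levelwise effective epimorphic cover with levelwise weak kernel pair. -/
theorem HSurj.of_cover {A B R : K ⥤ C} {cA : Cone A} {cB : Cone B} {cR : Cone R}
    (hB : HSurj f B cB) (hR : HInj f R cR)
    (p : B ⟶ A) (hp : ∀ j, EffectiveEpi (p.app j)) (pInf : cB.pt ⟶ cA.pt) (hpe : Epi pInf)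
    (hpInf : ∀ j, cB.π.app j ≫ p.app j = pInf ≫ cA.π.app j)
    (r₁ r₂ : R ⟶ B) (rInf₁ rInf₂ : cR.pt ⟶ cB.pt)
    (hr₁ : ∀ j, cR.π.app j ≫ r₁.app j = rInf₁ ≫ cB.π.app j)
    (hr₂ : ∀ j, cR.π.app j ≫ r₂.app j = rInf₂ ≫ cB.π.app j)
    (hrp : ∀ j, r₁.app j ≫ p.app j = r₂.app j ≫ p.app j)
    (hrInf : rInf₁ ≫ pInf = rInf₂ ≫ pInf)
    (hwk : ∀ (j : K) (W : C) (w₁ w₂ : W ⟶ B.obj j), w₁ ≫ p.app j = w₂ ≫ p.app j →
      ∃ σ : W ⟶ R.obj j, σ ≫ r₁.app j = w₁ ∧ σ ≫ r₂.app j = w₂) : HSurj f A cA := by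
  intro j y x hxy
  obtain ⟨k, φ, xB, hxB1, hxB2⟩ := hB j (p.app j ≫ y) (pInf ≫ x)
    (by rw [Category.assoc, hxy, ← Category.assoc, ← hpInf, Category.assoc])
  have hxB2' : xB ≫ f = p.app k ≫ A.map φ ≫ y := by
    rw [hxB2, ← Category.assoc, p.naturality, Category.assoc]
  obtain ⟨l, ψ, hl⟩ := hR k (r₁.app k ≫ xB) (r₂.app k ≫ xB)
    (by
      rw [Category.assoc, Category.assoc, hxB2', ← Category.assoc, ← Category.assoc, hrp]
      simp only [Category.assoc])
    (by
      rw [← Category.assoc, ← Category.assoc, hr₁, hr₂, Category.assoc, Category.assoc, hxB1,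
        ← Category.assoc, ← Category.assoc, hrInf])
  have hl' : r₁.app l ≫ B.map ψ ≫ xB = r₂.app l ≫ B.map ψ ≫ xB := by
    rw [← Category.assoc, ← Category.assoc, ← r₁.naturality, ← r₂.naturality, Category.assoc,
      Category.assoc]
    exact hl
  have := hp l
  have hp' : Epi (p.app l) := inferInstance
  let xbar : A.obj l ⟶ X := EffectiveEpi.desc (p.app l) (B.map ψ ≫ xB) (by
    intro Z g₁ g₂ hg
    obtain ⟨σ, hσ1, hσ2⟩ := hwk l Z g₁ g₂ hg
    rw [← hσ1, ← hσ2, Category.assoc, Category.assoc, hl'])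
  have hxbar : p.app l ≫ xbar = B.map ψ ≫ xB := EffectiveEpi.fac _ _ _
  refine ⟨l, ψ ≫ φ, xbar, ?_, ?_⟩
  · rw [← cancel_epi pInf, ← Category.assoc, ← hpInf, Category.assoc, hxbar, ← Category.assoc,
      cB.w, hxB1]
  · rw [← cancel_epi (p.app l), ← Category.assoc, hxbar, Category.assoc, hxB2', A.map_comp,
      Category.assoc, ← Category.assoc, ← Category.assoc, p.naturality]
    simp only [Category.assoc]

end Abstract

end Groth.Agent.H52.LfpLim

namespace Groth.Agent.H52.LfpLim

section TypeLevel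

variable {K : Type u} [Category.{v} K] {P Q : K ⥤ Type w} (α : P ⟶ Q)
  (sP : Cocone P) (sQ : Cocone Q) (g : sP.pt ⟶ sQ.pt)

/-- Elementwise injectivity condition. -/
def EInj : Prop :=
  ∀ (j : K) (x x' : P.obj j), α.app j x = α.app j x' → sP.ι.app j x = sP.ι.app j x' →
    ∃ (k : K) (φ : j ⟶ k), P.map φ x = P.map φ x'

/-- Elementwise surjectivity condition. -/
def ESurj : Prop :=
  ∀ (j : K) (y : Q.obj j) (x : sP.pt), g x = sQ.ι.app j y →
    ∃ (k : K) (φ : j ⟶ k) (x' : P.obj k), sP.ι.app k x' = x ∧ α.app k x' = Q.map φ y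

variable [HasColimit P] [HasColimit Q]

lemma colimMap_ι_apply (j : K) (x : P.obj j) :
    colimMap α (colimit.ι P j x) = colimit.ι Q j (α.app j x) :=
  ConcreteCategory.congr_hom (ι_colimMap α j) x

lemma desc_ι_apply (j : K) (x : P.obj j) :
    colimit.desc P sP (colimit.ι P j x) = sP.ι.app j x :=
  ConcreteCategory.congr_hom (colimit.ι_desc sP j) x

lemma ι_map_apply {j k : K} (φ : j ⟶ k) (x : P.obj j) :
    colimit.ι P k (P.map φ x) = colimit.ι P j x :=
  ConcreteCategory.congr_hom (colimit.w P φ) x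

lemma nat_apply' {j k : K} (φ : j ⟶ k) (x : P.obj j) :
    α.app k (P.map φ x) = Q.map φ (α.app j x) :=
  NatTrans.naturality_apply α φ x

variable [IsFiltered K]

theorem isPullback_colim_iff (hg : ∀ (j : K) (x : P.obj j), g (sP.ι.app j x) = sQ.ι.app j (α.app j x)) :
    IsPullback (colimMap α) (colimit.desc P sP) (colimit.desc Q sQ) g ↔
      EInj α sP ∧ ESurj α sP sQ g := by
  rw [Types.isPullback_iff]
  constructor
  · rintro ⟨-, hinj, hex⟩
    refine ⟨?_, ?_⟩
    · intro j x x' h1 h2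
      have key : colimit.ι P j x = colimit.ι P j x' := by
        apply hinj
        constructor
        · rw [colimMap_ι_apply, colimMap_ι_apply, h1]
        · rw [desc_ι_apply, desc_ι_apply, h2]
      exact (Types.FilteredColimit.isColimit_eq_iff' (colimit.isColimit P) _ _).1 key
    · intro j y x hxy
      obtain ⟨w, hw1, hw2⟩ := hex (colimit.ι Q j y) x (by
        rw [desc_ι_apply]; exact hxy.symm)
      obtain ⟨j', x', rfl⟩ := Types.jointly_surjective' w
      rw [colimMap_ι_apply] at hw1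
      rw [desc_ι_apply] at hw2
      obtain ⟨k, a, b, hk⟩ := (Types.FilteredColimit.colimit_eq_iff Q).1 hw1
      refine ⟨k, b, P.map a x', ?_, ?_⟩
      · rw [← hw2]
        exact ConcreteCategory.congr_hom (sP.w a) x'
      · rw [nat_apply']
        exact hk
  · rintro ⟨hinj, hsurj⟩
    refine ⟨?_, ?_, ?_⟩
    · apply colimit.hom_ext
      intro j
      ext x
      change colimit.desc Q sQ (colimMap α (colimit.ι P j x)) =
        g (colimit.desc P sP (colimit.ι P j x))
      rw [colimMap_ι_apply, desc_ι_apply, desc_ι_apply, hg]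
    · rintro w w' ⟨h1, h2⟩
      obtain ⟨j, x, x', rfl, rfl⟩ := Types.FilteredColimit.jointly_surjective_of_isColimit₂
        (colimit.isColimit P) w w'
      change colimMap α (colimit.ι P j x) = colimMap α (colimit.ι P j x') at h1
      change colimit.desc P sP (colimit.ι P j x) = colimit.desc P sP (colimit.ι P j x') at h2
      change colimit.ι P j x = colimit.ι P j x'
      rw [colimMap_ι_apply, colimMap_ι_apply] at h1
      rw [desc_ι_apply, desc_ι_apply] at h2
      obtain ⟨k, φ, hk⟩ := (Types.FilteredColimit.isColimit_eq_iff'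
        (colimit.isColimit Q) _ _).1 h1
      rw [← nat_apply', ← nat_apply'] at hk
      have h2' : sP.ι.app k (P.map φ x) = sP.ι.app k (P.map φ x') := by
        have e1 := ConcreteCategory.congr_hom (sP.w φ) x
        have e2 := ConcreteCategory.congr_hom (sP.w φ) x'
        exact e1.trans (h2.trans e2.symm)
      obtain ⟨l, ψ, hl⟩ := hinj k _ _ hk h2'
      rw [← ι_map_apply φ x, ← ι_map_apply φ x', ← ι_map_apply ψ (P.map φ x),
        ← ι_map_apply ψ (P.map φ x'), hl]
    · intro z x hzx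
      obtain ⟨j, y, rfl⟩ := Types.jointly_surjective' z
      rw [desc_ι_apply] at hzx
      obtain ⟨k, φ, x', hx'1, hx'2⟩ := hsurj j y x hzx.symm
      refine ⟨colimit.ι P k x', ?_, ?_⟩
      · rw [colimMap_ι_apply, hx'2]
        exact ι_map_apply φ y
      · rw [desc_ι_apply]
        exact hx'1

end TypeLevel

end Groth.Agent.H52.LfpLim

namespace Groth.Agent.H52.LfpLim

section Compare

variable {C : Type u} [Category.{v} C] {X Y : C} (f : X ⟶ Y)
variable {K : Type w} [Category.{w} K] (A : K ⥤ C) (cA : Cone A)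

theorem hInj_iff : HInj f A cA ↔
    EInj (Functor.whiskerLeft A.op (yoneda.map f)) ((yoneda.obj X).mapCocone cA.op) := by
  constructor
  · intro h j x x' h1 h2
    obtain ⟨k, φ, hk⟩ := h j.unop x x' h1 h2
    exact ⟨op k, φ.op, hk⟩
  · intro h j x x' h1 h2
    obtain ⟨k, φ, hk⟩ := h (op j) x x' h1 h2
    exact ⟨k.unop, φ.unop, hk⟩

theorem hSurj_iff : HSurj f A cA ↔
    ESurj (Functor.whiskerLeft A.op (yoneda.map f)) ((yoneda.obj X).mapCocone cA.op)
      ((yoneda.obj Y).mapCocone cA.op) ((yoneda.map f).app (op cA.pt)) := by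
  constructor
  · intro h j y x h1
    obtain ⟨k, φ, x', hk1, hk2⟩ := h j.unop y x h1
    exact ⟨op k, φ.op, x', hk1, hk2⟩
  · intro h j y x h1
    obtain ⟨k, φ, x', hk1, hk2⟩ := h (op j) y x h1
    exact ⟨k.unop, φ.unop, x', hk1, hk2⟩

theorem isPullback_iff_hInj_hSurj [IsCofiltered K]
    [HasColimit (A.op ⋙ yoneda.obj X)] [HasColimit (A.op ⋙ yoneda.obj Y)] :
    IsPullback (colimMap (Functor.whiskerLeft A.op (yoneda.map f)))
        (colimit.desc (A.op ⋙ yoneda.obj X) ((yoneda.obj X).mapCocone cA.op))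
        (colimit.desc (A.op ⋙ yoneda.obj Y) ((yoneda.obj Y).mapCocone cA.op))
        ((yoneda.map f).app (Opposite.op cA.pt)) ↔
      HInj f A cA ∧ HSurj f A cA := by
  rw [hInj_iff, hSurj_iff]
  refine isPullback_colim_iff _ _ _ _ ?_
  intro j x
  exact Category.assoc _ _ _

/-- Passing from the system restricted to `Over i₀` back to the whole system. -/
theorem HInj.of_over [IsCofiltered K] (i₀ : K)
    (h : HInj f (Over.forget i₀ ⋙ A) (cA.whisker (Over.forget i₀))) : HInj f A cA := by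
  intro j x x' h1 h2
  let m : K := IsCofiltered.min j i₀
  let a : m ⟶ j := IsCofiltered.minToLeft j i₀
  let b : m ⟶ i₀ := IsCofiltered.minToRight j i₀
  obtain ⟨k, φ, hk⟩ := h (Over.mk b) (A.map a ≫ x) (A.map a ≫ x')
    (by rw [Category.assoc, Category.assoc, h1])
    (by
      change cA.π.app m ≫ A.map a ≫ x = cA.π.app m ≫ A.map a ≫ x'
      rw [← Category.assoc, ← Category.assoc, cA.w, h2])
  refine ⟨k.left, φ.left ≫ a, ?_⟩
  rw [A.map_comp, Category.assoc, Category.assoc]
  exact hk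

theorem HSurj.of_over [IsCofiltered K] (i₀ : K)
    (h : HSurj f (Over.forget i₀ ⋙ A) (cA.whisker (Over.forget i₀))) : HSurj f A cA := by
  intro j y x hxy
  let m : K := IsCofiltered.min j i₀
  let a : m ⟶ j := IsCofiltered.minToLeft j i₀
  let b : m ⟶ i₀ := IsCofiltered.minToRight j i₀
  obtain ⟨k, φ, x', hk1, hk2⟩ := h (Over.mk b) (A.map a ≫ y) x
    (by
      change x ≫ f = cA.π.app m ≫ A.map a ≫ y
      rw [← Category.assoc, cA.w, hxy])
  refine ⟨k.left, φ.left ≫ a, x', hk1, ?_⟩
  rw [A.map_comp, Category.assoc]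
  exact hk2

end Compare

end Groth.Agent.H52.LfpLim
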