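/-
Helper library (helper52): cofiltered limits of algebraic spaces with affine transition maps:
the chart system of base changes to a scheme, its limit, affineness of the projections.
-/
import Groth.Agent.S2151
import Groth.Agent.H53.ZarGlueAff
import Groth.Agent.Lib.Helper51.RelRepSheaf
import Mathlib

set_option autoImplicit false
universe u
open CategoryTheory CategoryTheory.Limits AlgebraicGeometry Opposite
open AlgSp

namespace Groth.Agent.H52.LimChart

variable {S : Scheme.{u}} {I : Type u} [SmallCategory I] [IsCofiltered I]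
  (D : I ⥤ Sp S) (c : Cone D) (hc : IsLimit c) (i : I) {T : Over S} (ξ : (yon S).obj T ⟶ D.obj i)

/-- The diagram of base changes `h_T ×_{X_i} X_j` for `j ⟶ i`. -/
noncomputable def G : Over i ⥤ Sp S := Over.post D ⋙ Over.pullback ξ ⋙ Over.forget _

theorem G_obj (j : Over i) : (G D i ξ).obj j = pullback (D.map j.hom) ξ := rfl

/-- The cone over `Over.post D` with vertex `X ⟶ X_i`. -/
noncomputable def overCone : Cone (Over.post (X := i) D) where
  pt := Over.mk (c.π.app i)
  π :=
    { app := fun j => Over.homMk (c.π.app j.left) (c.w j.hom)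
      naturality := fun j k φ => by
        apply Over.OverMorphism.ext
        simp only [Functor.const_obj_obj, Functor.const_obj_map, Over.comp_left, Over.homMk_left,
          Over.post_map]
        erw [Category.id_comp]
        exact (c.w φ.left).symm }

noncomputable def overConeIsLimit : IsLimit (overCone D c i) := by
  have : IsConnected (Over i) := IsCofiltered.isConnected _
  refine isLimitOfReflects (Over.forget (D.obj i)) ?_
  refine IsLimit.ofIsoLimit ((Functor.Initial.isLimitWhiskerEquiv (Over.forget i) c).symm hc)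
    (Cone.ext (Iso.refl _) fun j => ?_)
  simp [overCone]

/-- The cone over `G` with vertex `h_T ×_{X_i} X`. -/
noncomputable def GCone : Cone (G D i ξ) :=
  (Over.forget _).mapCone ((Over.pullback ξ).mapCone (overCone D c i))

theorem GCone_pt : (GCone D c i ξ).pt = pullback (c.π.app i) ξ := rfl

noncomputable def GConeIsLimit : IsLimit (GCone D c i ξ) := by
  have : IsConnected (Over i) := IsCofiltered.isConnected _
  have h1 : IsLimit ((Over.pullback ξ).mapCone (overCone D c i)) :=
    isLimitOfPreserves _ (overConeIsLimit D c hc i)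
  exact isLimitOfPreserves (Over.forget _) h1

theorem GCone_π_fst (j : Over i) :
    (GCone D c i ξ).π.app j ≫ pullback.fst (D.map j.hom) ξ =
      pullback.fst (c.π.app i) ξ ≫ c.π.app j.left := by
  simp only [GCone, overCone, Functor.mapCone_π_app, Over.forget_map, Over.pullback_map_left]
  exact pullback.lift_fst _ _ _

theorem GCone_π_snd (j : Over i) :
    (GCone D c i ξ).π.app j ≫ pullback.snd (D.map j.hom) ξ = pullback.snd (c.π.app i) ξ := by
  simp only [GCone, overCone, Functor.mapCone_π_app, Over.forget_map, Over.pullback_map_left]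
  exact pullback.lift_snd _ _ _

theorem G_map_fst {j k : Over i} (φ : j ⟶ k) :
    (G D i ξ).map φ ≫ pullback.fst (D.map k.hom) ξ =
      pullback.fst (D.map j.hom) ξ ≫ D.map φ.left := by
  simp only [G, Functor.comp_map, Over.forget_map, Over.pullback_map_left]
  exact pullback.lift_fst _ _ _

theorem G_map_snd {j k : Over i} (φ : j ⟶ k) :
    (G D i ξ).map φ ≫ pullback.snd (D.map k.hom) ξ = pullback.snd (D.map j.hom) ξ := by
  simp only [G, Functor.comp_map, Over.forget_map, Over.pullback_map_left]
  exact pullback.lift_snd _ _ _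

/-- The chart system attached to `ξ : h_T ⟶ X_i`: the schemes `T ×_{X_i} X_j` (for `j ⟶ i`), their
limit `T ×_{X_i} X`, and the pullback squares. -/
structure ChartSystem where
  E : Over i ⥤ Over S
  cE : Cone E
  hcE : IsLimit cE
  hcE' : IsLimit ((Over.forget S).mapCone cE)
  p : ∀ j, E.obj j ⟶ T
  a : ∀ j : Over i, (yon S).obj (E.obj j) ⟶ D.obj j.left
  hp : ∀ {j k : Over i} (φ : j ⟶ k), E.map φ ≫ p k = p j
  ha : ∀ {j k : Over i} (φ : j ⟶ k), (yon S).map (E.map φ) ≫ a k = a j ≫ D.map φ.left
  sq : ∀ j, IsPullback (a j) ((yon S).map (p j)) (D.map j.hom) ξ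
  q : cE.pt ⟶ T
  b : (yon S).obj cE.pt ⟶ c.pt
  hq : ∀ j, cE.π.app j ≫ p j = q
  hb : ∀ j, (yon S).map (cE.π.app j) ≫ a j = b ≫ c.π.app j.left
  sqlim : IsPullback b ((yon S).map q) (c.π.app i) ξ
  affE : ∀ {j k : Over i} (φ : j ⟶ k), IsAffineHom (E.map φ).left
  affp : ∀ j, IsAffineHom (p j).left

include hc in
theorem nonempty_chartSystem (hDa : ∀ j : Over i, IsAffineMor (D.map j.hom)) :
    Nonempty (ChartSystem D c i ξ) := by
  have hG : ∀ j, (yon S).essImage ((G D i ξ).obj j) := fun j => by
    obtain ⟨W, snd, fst, sq⟩ := (Groth.Agent.H53.ZarGlue.representable_of_isAffineMor (hDa j)) ξ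
    exact ⟨W, ⟨sq.isoPullback⟩⟩
  let E := Functor.essImage.liftFunctor (G D i ξ) (yon S) hG
  let ε : E ⋙ yon S ≅ G D i ξ := Functor.essImage.liftFunctorCompIso _ _ hG
  let p : ∀ j, E.obj j ⟶ T := fun j =>
    (yon S).preimage (ε.hom.app j ≫ pullback.snd (D.map j.hom) ξ)
  let a : ∀ j : Over i, (yon S).obj (E.obj j) ⟶ D.obj j.left := fun j =>
    ε.hom.app j ≫ pullback.fst (D.map j.hom) ξ
  have hp : ∀ {j k : Over i} (φ : j ⟶ k), E.map φ ≫ p k = p j := by
    intro j k φ
    apply (yon S).map_injective
    have h1 := ε.hom.naturality φ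
    simp only [Functor.comp_map] at h1
    rw [Functor.map_comp, Functor.map_preimage, Functor.map_preimage, ← Category.assoc, h1,
      Category.assoc, G_map_snd]
  have ha : ∀ {j k : Over i} (φ : j ⟶ k),
      (yon S).map (E.map φ) ≫ a k = a j ≫ D.map φ.left := by
    intro j k φ
    have h1 := ε.hom.naturality φ
    simp only [Functor.comp_map] at h1
    simp only [a]
    rw [← Category.assoc, h1, Category.assoc, G_map_fst]
    exact (Category.assoc _ _ _).symm
  have sq : ∀ j, IsPullback (a j) ((yon S).map (p j)) (D.map j.hom) ξ := by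
    intro j
    simp only [a, p, Functor.map_preimage]
    exact IsPullback.of_iso (IsPullback.of_hasPullback (D.map j.hom) ξ) (ε.app j).symm
      (Iso.refl _) (Iso.refl _) (Iso.refl _)
      (by rw [Iso.refl_hom, Category.comp_id, Iso.symm_hom, Iso.app_inv]
          exact (Iso.inv_hom_id_app_assoc ε j (pullback.fst (D.map j.hom) ξ)).symm)
      (by rw [Iso.refl_hom, Category.comp_id, Iso.symm_hom, Iso.app_inv]
          exact (Iso.inv_hom_id_app_assoc ε j (pullback.snd (D.map j.hom) ξ)).symm)
      (by simp) (by simp)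
  have affp : ∀ j, IsAffineHom (p j).left := fun j =>
    Groth.Agent.H53.ZarGlue.isAffineHom_of_isAffineMor (hDa j) ξ (a j) (p j) (sq j)
  have affE : ∀ {j k : Over i} (φ : j ⟶ k), IsAffineHom (E.map φ).left := by
    intro j k φ
    have h1 : (E.map φ).left ≫ (p k).left = (p j).left := by
      rw [← Over.comp_left, hp]
    have := affp k
    have : IsAffineHom ((E.map φ).left ≫ (p k).left) := by rw [h1]; exact affp j
    exact IsAffineHom.of_comp (E.map φ).left (p k).left
  -- the limit of `E`
  haveI : ∀ (j k : Over i) (φ : j ⟶ k), IsAffineHom ((E ⋙ Over.forget S).map φ) :=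
    fun j k φ => affE φ
  obtain ⟨cs, hcs, -⟩ := Groth.Agent.S2151.result (E ⋙ Over.forget S)
  have : IsConnected (Over i) := IsCofiltered.isConnected _
  haveI : HasLimit (E ⋙ Over.forget S) := ⟨⟨⟨cs, hcs⟩⟩⟩
  haveI : HasLimit E := hasLimit_of_created E (Over.forget S)
  let cE := limit.cone E
  have hcE : IsLimit cE := limit.isLimit E
  have hcE' : IsLimit ((Over.forget S).mapCone cE) := isLimitOfPreserves _ hcE
  have hcY : IsLimit ((yon S).mapCone cE) := isLimitOfPreserves _ hcE
  let θ : (yon S).obj cE.pt ≅ pullback (c.π.app i) ξ :=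
    IsLimit.conePointsIsoOfNatIso hcY (GConeIsLimit D c hc i ξ) ε
  have hθ : ∀ j, θ.hom ≫ (GCone D c i ξ).π.app j = (yon S).map (cE.π.app j) ≫ ε.hom.app j :=
    fun j => IsLimit.conePointsIsoOfNatIso_hom_comp _ _ _ j
  let q : cE.pt ⟶ T := (yon S).preimage (θ.hom ≫ pullback.snd (c.π.app i) ξ)
  let b : (yon S).obj cE.pt ⟶ c.pt := θ.hom ≫ pullback.fst (c.π.app i) ξ
  refine ⟨⟨E, cE, hcE, hcE', p, a, hp, ha, sq, q, b, ?_, ?_, ?_, affE, affp⟩⟩
  · intro j
    apply (yon S).map_injective
    rw [Functor.map_comp, Functor.map_preimage, Functor.map_preimage, ← Category.assoc, ← hθ,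
      Category.assoc]
    exact congrArg (θ.hom ≫ ·) (GCone_π_snd D c i ξ j)
  · intro j
    simp only [a, b]
    rw [← Category.assoc, ← hθ, Category.assoc]
    exact (congrArg (θ.hom ≫ ·) (GCone_π_fst D c i ξ j)).trans (Category.assoc _ _ _).symm
  · simp only [b, q, Functor.map_preimage]
    exact IsPullback.of_iso (IsPullback.of_hasPullback (c.π.app i) ξ) θ.symm
      (Iso.refl _) (Iso.refl _) (Iso.refl _) (by simp) (by simp) (by simp) (by simp)

namespace ChartSystem

variable {D c i ξ} (cs : ChartSystem D c i ξ)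

theorem affπ (j : Over i) : IsAffineHom (cs.cE.π.app j).left := by
  haveI : ∀ {j k : Over i} (φ : j ⟶ k), IsAffineHom ((cs.E ⋙ Over.forget S).map φ) :=
    fun φ => cs.affE φ
  exact isAffineHom_π_app (cs.E ⋙ Over.forget S) ((Over.forget S).mapCone cs.cE) cs.hcE' j

theorem affq : IsAffineHom cs.q.left := by
  have h1 : (cs.cE.π.app (Over.mk (𝟙 i))).left ≫ (cs.p (Over.mk (𝟙 i))).left = cs.q.left := by
    rw [← Over.comp_left, cs.hq]
  rw [← h1]
  have := cs.affπ (Over.mk (𝟙 i))
  have := cs.affp (Over.mk (𝟙 i))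
  infer_instance

end ChartSystem

include hc in
/-- The projections of a cofiltered limit with affine transition maps are affine. -/
theorem isAffineMor_π_app (hDa : ∀ (j k : I) (φ : j ⟶ k), IsAffineMor (D.map φ)) :
    IsAffineMor (c.π.app i) := by
  intro Z hZ g
  obtain ⟨cs⟩ := nonempty_chartSystem D c hc i g (fun j => hDa _ _ j.hom)
  refine ⟨cs.cE.pt, cs.q, cs.b, cs.sqlim, ?_⟩
  have := cs.affq
  have : IsAffine Z.left := hZ
  exact isAffine_of_isAffineHom cs.q.left

include hc in
/-- A cofiltered limit of algebraic spaces with affine transition maps is an algebraic space. -/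
theorem isAlgSpace_pt (hD : ∀ i, IsAlgSpace (D.obj i))
    (hDa : ∀ (j k : I) (φ : j ⟶ k), IsAffineMor (D.map φ)) : IsAlgSpace c.pt := by
  let i₀ : I := (IsCofiltered.nonempty (C := I)).some
  exact Groth.Agent.Lib.Helper51.isAlgSpace_of_representable (hD i₀) (c.π.app i₀)
    (Groth.Agent.H53.ZarGlue.representable_of_isAffineMor (isAffineMor_π_app D c hc i₀ hDa))

end Groth.Agent.H52.LimChart
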