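/-
Helper library (helper52): the colimit-of-Hom properties `HInj`/`HSurj` for a morphism locally of
finite presentation of algebraic spaces and a system of affine schemes; morphisms of chart
systems.
-/
import Groth.Agent.H52.LfpLim4
import Groth.Agent.H52.LfpLim5
import Groth.Agent.H52.LimChart
import Groth.Agent.H52.Epi
import Groth.Agent.S10067

set_option autoImplicit false
universe u
open CategoryTheory CategoryTheory.Limits AlgebraicGeometry Opposite
open AlgSp

namespace Groth.Agent.H52.LfpLim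

section Translate

variable {S : Scheme.{u}} {X Y : Sp S} (f : X ⟶ Y)
  {K : Type u} [SmallCategory K] (E : K ⥤ Over S) (cE : Cone E)

theorem hInj_yon_iff : HInj f (E ⋙ yon S) ((yon S).mapCone cE) ↔
    EInj (Functor.whiskerLeft E.op f.hom) (X.obj.mapCocone cE.op) := by
  constructor
  · intro h j s s' h1 h2
    obtain ⟨x, hx⟩ : ∃ x : (yon S).obj (E.obj j.unop) ⟶ X,
      (AlgSp.J S).uliftYonedaEquiv x = s := ⟨(AlgSp.J S).uliftYonedaEquiv.symm s, by simp⟩
    obtain ⟨x', hx'⟩ : ∃ x' : (yon S).obj (E.obj j.unop) ⟶ X,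
      (AlgSp.J S).uliftYonedaEquiv x' = s' := ⟨(AlgSp.J S).uliftYonedaEquiv.symm s', by simp⟩
    subst hx hx'
    obtain ⟨k, φ, hk⟩ := h j.unop x x'
      (by
        apply (AlgSp.J S).uliftYonedaEquiv.injective
        rw [GrothendieckTopology.uliftYonedaEquiv_comp, GrothendieckTopology.uliftYonedaEquiv_comp]
        exact h1)
      (by
        apply (AlgSp.J S).uliftYonedaEquiv.injective
        change (AlgSp.J S).uliftYonedaEquiv ((yon S).map (cE.π.app j.unop) ≫ x) =
          (AlgSp.J S).uliftYonedaEquiv ((yon S).map (cE.π.app j.unop) ≫ x')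
        rw [← GrothendieckTopology.uliftYonedaEquiv_naturality,
          ← GrothendieckTopology.uliftYonedaEquiv_naturality]
        exact h2)
    refine ⟨op k, φ.op, ?_⟩
    change X.obj.map (E.map φ).op _ = X.obj.map (E.map φ).op _
    rw [GrothendieckTopology.uliftYonedaEquiv_naturality,
      GrothendieckTopology.uliftYonedaEquiv_naturality]
    exact congrArg _ hk
  · intro h j x x' h1 h2
    obtain ⟨k, φ, hk⟩ := h (op j) ((AlgSp.J S).uliftYonedaEquiv x)
      ((AlgSp.J S).uliftYonedaEquiv x')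
      (by
        change f.hom.app _ _ = f.hom.app _ _
        rw [← GrothendieckTopology.uliftYonedaEquiv_comp,
          ← GrothendieckTopology.uliftYonedaEquiv_comp, h1])
      (by
        change X.obj.map (cE.π.app j).op _ = X.obj.map (cE.π.app j).op _
        rw [GrothendieckTopology.uliftYonedaEquiv_naturality,
          GrothendieckTopology.uliftYonedaEquiv_naturality]
        exact congrArg _ h2)
    refine ⟨k.unop, φ.unop, ?_⟩
    apply (AlgSp.J S).uliftYonedaEquiv.injective
    change (AlgSp.J S).uliftYonedaEquiv ((yon S).map (E.map φ.unop) ≫ x) =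
      (AlgSp.J S).uliftYonedaEquiv ((yon S).map (E.map φ.unop) ≫ x')
    rw [← GrothendieckTopology.uliftYonedaEquiv_naturality,
      ← GrothendieckTopology.uliftYonedaEquiv_naturality]
    exact hk

theorem hSurj_yon_iff : HSurj f (E ⋙ yon S) ((yon S).mapCone cE) ↔
    ESurj (Functor.whiskerLeft E.op f.hom) (X.obj.mapCocone cE.op) (Y.obj.mapCocone cE.op)
      (f.hom.app (op cE.pt)) := by
  constructor
  · intro h j t s h1
    obtain ⟨y, hy⟩ : ∃ y : (yon S).obj (E.obj j.unop) ⟶ Y,
      (AlgSp.J S).uliftYonedaEquiv y = t := ⟨(AlgSp.J S).uliftYonedaEquiv.symm t, by simp⟩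
    obtain ⟨x, hx⟩ : ∃ x : (yon S).obj cE.pt ⟶ X,
      (AlgSp.J S).uliftYonedaEquiv x = s := ⟨(AlgSp.J S).uliftYonedaEquiv.symm s, by simp⟩
    subst hx hy
    obtain ⟨k, φ, x', hk1, hk2⟩ := h j.unop y x
      (by
        apply (AlgSp.J S).uliftYonedaEquiv.injective
        change (AlgSp.J S).uliftYonedaEquiv (x ≫ f) =
          (AlgSp.J S).uliftYonedaEquiv ((yon S).map (cE.π.app j.unop) ≫ y)
        rw [GrothendieckTopology.uliftYonedaEquiv_comp,
          ← GrothendieckTopology.uliftYonedaEquiv_naturality]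
        exact h1)
    refine ⟨op k, φ.op, (AlgSp.J S).uliftYonedaEquiv x', ?_, ?_⟩
    · change X.obj.map (cE.π.app k).op _ = _
      rw [GrothendieckTopology.uliftYonedaEquiv_naturality]
      exact congrArg _ hk1
    · change f.hom.app _ _ = Y.obj.map (E.map φ).op _
      rw [← GrothendieckTopology.uliftYonedaEquiv_comp,
        GrothendieckTopology.uliftYonedaEquiv_naturality]
      exact congrArg _ hk2
  · intro h j y x h1
    obtain ⟨k, φ, s', hk1, hk2⟩ := h (op j) ((AlgSp.J S).uliftYonedaEquiv y)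
      ((AlgSp.J S).uliftYonedaEquiv x)
      (by
        change f.hom.app _ _ = Y.obj.map (cE.π.app j).op _
        rw [← GrothendieckTopology.uliftYonedaEquiv_comp,
          GrothendieckTopology.uliftYonedaEquiv_naturality]
        exact congrArg _ h1)
    obtain ⟨x', hx'⟩ : ∃ x' : (yon S).obj (E.obj k.unop) ⟶ X,
      (AlgSp.J S).uliftYonedaEquiv x' = s' := ⟨(AlgSp.J S).uliftYonedaEquiv.symm s', by simp⟩
    subst hx'
    refine ⟨k.unop, φ.unop, x', ?_, ?_⟩
    · apply (AlgSp.J S).uliftYonedaEquiv.injective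
      change (AlgSp.J S).uliftYonedaEquiv ((yon S).map (cE.π.app k.unop) ≫ x') = _
      rw [← GrothendieckTopology.uliftYonedaEquiv_naturality]
      exact hk1
    · apply (AlgSp.J S).uliftYonedaEquiv.injective
      change (AlgSp.J S).uliftYonedaEquiv (x' ≫ f) =
        (AlgSp.J S).uliftYonedaEquiv ((yon S).map (E.map φ.unop) ≫ y)
      rw [GrothendieckTopology.uliftYonedaEquiv_comp,
        ← GrothendieckTopology.uliftYonedaEquiv_naturality]
      exact hk2

end Translate

end Groth.Agent.H52.LfpLim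

namespace Groth.Agent.H52.LfpLim

section Affine

variable {S : Scheme.{u}} {X Y : Sp S}

/-- The affine case: for `f` locally of finite presentation between algebraic spaces and a
cofiltered system of affine schemes with affine limit, `HInj` and `HSurj` hold. -/
theorem hInj_hSurj_affine (hX : IsAlgSpace X) (hY : IsAlgSpace Y) (f : X ⟶ Y)
    (hf : LocP @LocallyOfFinitePresentation f)
    {K : Type u} [SmallCategory K] [IsCofiltered K] (E : K ⥤ Over S) (cE : Cone E)
    (hcE : IsLimit ((Over.forget S).mapCone cE)) (hE : ∀ j, IsAffine (E.obj j).left)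
    (hpt : IsAffine cE.pt.left) :
    HInj f (E ⋙ yon S) ((yon S).mapCone cE) ∧ HSurj f (E ⋙ yon S) ((yon S).mapCone cE) := by
  have ha : IsRelLimitPreserving f.hom := isRelLimitPreserving_of_locP_lfp hX hY f hf
  have hpb := Groth.Agent.S10067.Aux.RLP2.isPullback_of_rlp f.hom E cE ha hcE hE hpt
  rw [hInj_yon_iff, hSurj_yon_iff]
  refine (isPullback_colim_iff _ _ _ _ ?_).1 hpb
  intro j x
  exact Groth.Agent.S10067.Aux.RLP2.nat_apply f.hom (cE.π.app j.unop).op x

/-- Conversely, `HInj` and `HSurj` for all affine systems give a relatively limit preserving map. -/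
theorem isRelLimitPreserving_of_hInj_hSurj (f : X ⟶ Y)
    (h : ∀ ⦃K : Type u⦄ [SmallCategory K] [IsCofiltered K] (E : K ⥤ Over S) (cE : Cone E),
      IsLimit ((Over.forget S).mapCone cE) → (∀ j, IsAffine (E.obj j).left) →
      IsAffine cE.pt.left →
      HInj f (E ⋙ yon S) ((yon S).mapCone cE) ∧ HSurj f (E ⋙ yon S) ((yon S).mapCone cE)) :
    IsRelLimitPreserving f.hom := by
  refine Groth.Agent.S10067.Aux.RLP2.rlp_of_isPullback f.hom ?_
  intro K _ _ E cE hcE hE hpt
  have h1 := h E cE hcE hE hpt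
  rw [hInj_yon_iff, hSurj_yon_iff] at h1
  refine (isPullback_colim_iff _ _ _ _ ?_).2 h1
  intro j x
  exact Groth.Agent.S10067.Aux.RLP2.nat_apply f.hom (cE.π.app j.unop).op x

end Affine

section ChartMor

open Groth.Agent.H52.LimChart

variable {S : Scheme.{u}} {I : Type u} [SmallCategory I] [IsCofiltered I]
  {D : I ⥤ Sp S} {c : Cone D} {i : I} {T T' : Over S}

/-- A morphism of chart systems over a morphism `t : T' ⟶ T` of the test schemes. -/
structure ChartMor (t : T' ⟶ T) {ξ : (yon S).obj T ⟶ D.obj i} {ξ' : (yon S).obj T' ⟶ D.obj i}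
    (cs : ChartSystem D c i ξ) (cs' : ChartSystem D c i ξ') where
  τ : cs'.E ⟶ cs.E
  τInf : cs'.cE.pt ⟶ cs.cE.pt
  hτp : ∀ j, τ.app j ≫ cs.p j = cs'.p j ≫ t
  hτa : ∀ j, (yon S).map (τ.app j) ≫ cs.a j = cs'.a j
  hτInf : ∀ j, cs'.cE.π.app j ≫ τ.app j = τInf ≫ cs.cE.π.app j
  hτq : τInf ≫ cs.q = cs'.q ≫ t
  hτb : (yon S).map τInf ≫ cs.b = cs'.b
  sq : ∀ j, IsPullback ((yon S).map (τ.app j)) ((yon S).map (cs'.p j)) ((yon S).map (cs.p j))
    ((yon S).map t)

theorem nonempty_chartMor (t : T' ⟶ T) {ξ : (yon S).obj T ⟶ D.obj i}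
    {ξ' : (yon S).obj T' ⟶ D.obj i} (hξ : ξ' = (yon S).map t ≫ ξ)
    (cs : ChartSystem D c i ξ) (cs' : ChartSystem D c i ξ') : Nonempty (ChartMor t cs cs') := by
  subst hξ
  -- the levelwise maps
  have hw : ∀ j, cs'.a j ≫ D.map j.hom = (yon S).map (cs'.p j ≫ t) ≫ ξ := by
    intro j
    rw [(cs'.sq j).w, Functor.map_comp, Category.assoc]
  let τ₀ : ∀ j, cs'.E.obj j ⟶ cs.E.obj j := fun j =>
    (yon S).preimage ((cs.sq j).lift (cs'.a j) ((yon S).map (cs'.p j ≫ t)) (hw j))
  have hτ₀a : ∀ j, (yon S).map (τ₀ j) ≫ cs.a j = cs'.a j := by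
    intro j
    rw [Functor.map_preimage]
    exact (cs.sq j).lift_fst _ _ _
  have hτ₀p' : ∀ j, (yon S).map (τ₀ j) ≫ (yon S).map (cs.p j) = (yon S).map (cs'.p j ≫ t) := by
    intro j
    rw [Functor.map_preimage]
    exact (cs.sq j).lift_snd _ _ _
  have hτ₀p : ∀ j, τ₀ j ≫ cs.p j = cs'.p j ≫ t := by
    intro j
    apply (yon S).map_injective
    rw [Functor.map_comp]
    exact hτ₀p' j
  have hnat : ∀ {j k : Over i} (φ : j ⟶ k), cs'.E.map φ ≫ τ₀ k = τ₀ j ≫ cs.E.map φ := by
    intro j k φ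
    apply (yon S).map_injective
    apply (cs.sq k).hom_ext
    · rw [Functor.map_comp, Functor.map_comp, Category.assoc, Category.assoc, hτ₀a, cs'.ha,
        cs.ha, ← Category.assoc, hτ₀a]
    · rw [← Functor.map_comp, ← Functor.map_comp, Category.assoc, Category.assoc, hτ₀p,
        cs.hp, hτ₀p, ← Category.assoc, cs'.hp]
  let τ : cs'.E ⟶ cs.E := { app := τ₀, naturality := fun j k φ => hnat φ }
  -- the map on the limit
  have hwInf : cs'.b ≫ c.π.app i = (yon S).map (cs'.q ≫ t) ≫ ξ := by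
    rw [cs'.sqlim.w, Functor.map_comp, Category.assoc]
  let τInf : cs'.cE.pt ⟶ cs.cE.pt :=
    (yon S).preimage (cs.sqlim.lift cs'.b ((yon S).map (cs'.q ≫ t)) hwInf)
  have hτb : (yon S).map τInf ≫ cs.b = cs'.b := by
    rw [Functor.map_preimage]
    exact cs.sqlim.lift_fst _ _ _
  have hτq' : (yon S).map τInf ≫ (yon S).map cs.q = (yon S).map (cs'.q ≫ t) := by
    rw [Functor.map_preimage]
    exact cs.sqlim.lift_snd _ _ _
  have hτq : τInf ≫ cs.q = cs'.q ≫ t := by
    apply (yon S).map_injective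
    rw [Functor.map_comp]
    exact hτq'
  have hτInf : ∀ j, cs'.cE.π.app j ≫ τ₀ j = τInf ≫ cs.cE.π.app j := by
    intro j
    apply (yon S).map_injective
    apply (cs.sq j).hom_ext
    · rw [Functor.map_comp, Functor.map_comp, Category.assoc, Category.assoc, hτ₀a, cs'.hb,
        cs.hb, ← Category.assoc, hτb]
    · rw [← Functor.map_comp, ← Functor.map_comp, Category.assoc, Category.assoc, hτ₀p,
        cs.hq, hτq, ← Category.assoc, cs'.hq]
  refine ⟨⟨τ, τInf, hτ₀p, hτ₀a, hτInf, hτq, hτb, ?_⟩⟩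
  intro j
  have h1 : IsPullback ((yon S).map (τ₀ j) ≫ cs.a j) ((yon S).map (cs'.p j)) (D.map j.hom)
      ((yon S).map t ≫ ξ) := by
    rw [hτ₀a]
    exact cs'.sq j
  refine IsPullback.of_right h1 ?_ (cs.sq j)
  rw [← Functor.map_comp, ← Functor.map_comp, hτ₀p]

end ChartMor

end Groth.Agent.H52.LfpLim
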