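import Groth.Agent.H52.QSChart

set_option autoImplicit false
universe u
open CategoryTheory CategoryTheory.Limits AlgebraicGeometry Opposite Topology
open AlgSp

namespace Groth.Agent.H52

variable {S : Scheme.{u}}

theorem prod_lift_yon_map {P U V : Over S} (fst : P ⟶ U) (snd : P ⟶ V) :
    prod.lift ((yon S).map fst) ((yon S).map snd) =
      (yon S).map (prod.lift fst snd) ≫ prodComparison (yon S) U V := by
  ext
  · simp only [prod.lift_fst, Category.assoc, prodComparison_fst, ← Functor.map_comp]
  · simp only [prod.lift_snd, Category.assoc, prodComparison_snd, ← Functor.map_comp]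

/-- If the diagonal of `X` has `Q`, then `P = U ×_X V ⟶ U ×_S V` has `Q`. -/
theorem prop_prod_lift_of_repWith_diag (Q : MorphismProperty Scheme.{u}) [Q.IsStableUnderBaseChange]
    {X : Sp S} (hX : RepWith Q (Limits.diag X)) {U V P : Over S} (a : (yon S).obj U ⟶ X)
    (b : (yon S).obj V ⟶ X) (fst : P ⟶ U) (snd : P ⟶ V)
    (h : IsPullback ((yon S).map fst) ((yon S).map snd) a b) :
    Q (prod.lift fst snd).left := by
  have : Q.RespectsIso := MorphismProperty.IsStableUnderBaseChange.respectsIso
  have sq := isPullback_diag_prod_map' h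
  have h1 : RepWith Q (prod.lift ((yon S).map fst) ((yon S).map snd)) :=
    MorphismProperty.of_isPullback sq hX
  rw [prod_lift_yon_map] at h1
  have h2 := (MorphismProperty.cancel_right_of_respectsIso (RepWith (S := S) Q)
    ((yon S).map (prod.lift fst snd)) (prodComparison (yon S) U V)).1 h1
  exact (repWith_yon_map_iff Q _).1 h2

/-- Over a quasi-separated base, fibre products of quasi-compact schemes over a quasi-separated
algebraic space are quasi-compact. -/
theorem compactSpace_pullback_of_isQuasiSeparatedSp [QuasiSeparatedSpace ↥S] {X : Sp S}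
    (hX : IsQuasiSeparatedSp X) {U V P : Over S} (a : (yon S).obj U ⟶ X)
    (b : (yon S).obj V ⟶ X) (fst : P ⟶ U) (snd : P ⟶ V) [CompactSpace ↥U.left]
    [CompactSpace ↥V.left] (h : IsPullback ((yon S).map fst) ((yon S).map snd) a b) :
    CompactSpace ↥P.left := by
  have hqc : QuasiCompact (prod.lift fst snd).left :=
    prop_prod_lift_of_repWith_diag @QuasiCompact hX a b fst snd h
  have : QuasiCompact U.hom := inferInstance
  have h1 : CompactSpace ↥(pullback U.hom V.hom) := inferInstance
  have h2 : CompactSpace ↥(U ⨯ V).left :=
    (Over.prodLeftIsoPullback U V).hom.homeomorph.symm.compactSpace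
  exact QuasiCompact.compactSpace_of_compactSpace (prod.lift fst snd).left

end Groth.Agent.H52
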