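import Groth.Agent.H52.UCGeom
import Groth.Agent.H52.FibreProd
import Groth.Agent.H53.Immersion
import Groth.Agent.H53.SpBasic
import Groth.Agent.S9923
import Groth.Agent.S9924

/-!
# Universal closedness from closedness of the base changes to affine spaces (algebraic spaces)
-/

set_option autoImplicit false
universe u
open CategoryTheory CategoryTheory.Limits AlgebraicGeometry TensorProduct
open AlgSp

namespace Groth.Agent.H52.UC

/-- A finite type algebra over the ring of an affine open of `V` embeds its spectrum into an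
affine space over `V`. -/
theorem exists_immersion_affineSpace {V : Scheme.{u}} {R : Type u} [CommRing R]
    (φU : Spec (.of R) ⟶ V) [IsOpenImmersion φU]
    (T'' : Type u) [CommRing T''] [Algebra R T''] [hft : Algebra.FiniteType R T''] :
    ∃ (m : ℕ) (ψ : Spec (.of T'') ⟶ 𝔸(ULift.{u} (Fin m); V)), IsImmersion ψ ∧
      ψ ≫ 𝔸(ULift.{u} (Fin m); V) ↘ V =
        Spec.map (CommRingCat.ofHom (algebraMap R T'')) ≫ φU := by
  obtain ⟨m, g, hg⟩ := Algebra.FiniteType.iff_quotient_mvPolynomial''.mp hft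
  let ρ : MvPolynomial (ULift.{u} (Fin m)) R →ₐ[R] T'' :=
    g.comp (MvPolynomial.rename Equiv.ulift)
  have hρ : Function.Surjective ρ := by
    intro a
    obtain ⟨q, rfl⟩ := hg a
    refine ⟨MvPolynomial.rename Equiv.ulift.symm q, ?_⟩
    have : (ULift.down.{u} ∘ ULift.up.{u} : Fin m → Fin m) = id := rfl
    simp [ρ, MvPolynomial.rename_rename, this]
  have : IsOpenImmersion (AffineSpace.map (ULift.{u} (Fin m)) φU) :=
    MorphismProperty.of_isPullback (AffineSpace.isPullback_map φU).flip inferInstance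
  have : IsClosedImmersion (Spec.map (CommRingCat.ofHom ρ.toRingHom)) :=
    IsClosedImmersion.spec_of_surjective _ hρ
  refine ⟨m, Spec.map (CommRingCat.ofHom ρ.toRingHom) ≫
      (AffineSpace.SpecIso (ULift.{u} (Fin m)) (.of R)).inv ≫ AffineSpace.map _ φU,
    inferInstance, ?_⟩
  simp only [Category.assoc, AffineSpace.map_over, AffineSpace.SpecIso_inv_over_assoc]
  rw [← Spec.map_comp_assoc, ← CommRingCat.ofHom_comp]
  congr 3
  exact ρ.comp_algebraMap

variable {S : Scheme.{u}}

/-- If the base changes of `f` to the affine spaces over `V` are closed, then so are the base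
changes to spectra of finite type algebras over affine opens of `V`. -/
theorem isClosedMap_of_affineSpace_closed {X Y : Sp S} (hX : IsAlgSpace X) (hY : IsAlgSpace Y)
    (f : X ⟶ Y) {V : Over S} (p : (yon S).obj V ⟶ Y)
    (H : ∀ (n : ℕ) (P : Sp S) (fst : P ⟶ X)
      (snd : P ⟶ (yon S).obj (Over.mk ((𝔸(ULift.{u} (Fin n); V.left) ↘ V.left) ≫ V.hom))),
      IsPullback fst snd f
        ((yon S).map (Over.homMk (𝔸(ULift.{u} (Fin n); V.left) ↘ V.left)) ≫ p) →
      IsClosedMap (Points.map snd))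
    {R : Type u} [CommRing R] (φU : Spec (.of R) ⟶ V.left) [IsOpenImmersion φU]
    (A : Type u) [CommRing A] [Algebra R A] [Algebra.FiniteType R A]
    {P'' : Sp S} (fst'' : P'' ⟶ X) (snd'' : P'' ⟶ (yon S).obj (ZA (φU ≫ V.hom) A))
    (sq : IsPullback fst'' snd'' f ((yon S).map (gA (φU ≫ V.hom) A ≫
      (Over.homMk φU rfl : Over.mk (φU ≫ V.hom) ⟶ V)) ≫ p)) :
    IsClosedMap (Points.map snd'') := by
  obtain ⟨m, ψ, hψimm, hψ⟩ := exists_immersion_affineSpace φU A
  let π : Over.mk ((𝔸(ULift.{u} (Fin m); V.left) ↘ V.left) ≫ V.hom) ⟶ V :=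
    Over.homMk (𝔸(ULift.{u} (Fin m); V.left) ↘ V.left)
  let ψ' : ZA (φU ≫ V.hom) A ⟶ Over.mk ((𝔸(ULift.{u} (Fin m); V.left) ↘ V.left) ≫ V.hom) :=
    Over.homMk ψ (by
      change ψ ≫ (𝔸(ULift.{u} (Fin m); V.left) ↘ V.left) ≫ V.hom =
        Spec.map (CommRingCat.ofHom (algebraMap R A)) ≫ φU ≫ V.hom
      rw [← Category.assoc, hψ, Category.assoc])
  have hcomp : ψ' ≫ π = gA (φU ≫ V.hom) A ≫ (Over.homMk φU rfl : Over.mk (φU ≫ V.hom) ⟶ V) := by
    apply Over.OverMorphism.ext
    exact hψ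
  have sqm := IsPullback.of_hasPullback f ((yon S).map π ≫ p)
  have Hm : IsClosedMap (Points.map (pullback.snd f ((yon S).map π ≫ p))) := H m _ _ _ sqm
  have hw : fst'' ≫ f = (snd'' ≫ (yon S).map ψ') ≫ (yon S).map π ≫ p := by
    rw [sq.w, Category.assoc, ← Category.assoc ((yon S).map ψ'), ← Functor.map_comp, hcomp]
  let l : P'' ⟶ pullback f ((yon S).map π ≫ p) := sqm.lift fst'' (snd'' ≫ (yon S).map ψ') hw
  have hl1 : l ≫ pullback.fst f ((yon S).map π ≫ p) = fst'' := sqm.lift_fst _ _ _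
  have hl2 : l ≫ pullback.snd f ((yon S).map π ≫ p) = snd'' ≫ (yon S).map ψ' :=
    sqm.lift_snd _ _ _
  have sql : IsPullback l snd'' (pullback.snd f ((yon S).map π ≫ p)) ((yon S).map ψ') := by
    refine IsPullback.of_right ?_ hl2 sqm
    rw [hl1, ← Category.assoc, ← Functor.map_comp, hcomp]
    exact sq
  have hψ'imm : RepWith @IsImmersion ((yon S).map ψ') := (repWith_yon_map_iff _ _).2 hψimm
  have hl : RepWith @IsImmersion l := MorphismProperty.of_isPullback sql.flip hψ'imm
  have hPm : IsAlgSpace (pullback f ((yon S).map π ≫ p)) :=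
    isAlgSpace_of_isPullback sqm hX hY (IsAlgSpace.yon_obj _)
  have hemb := (Groth.Agent.H53.isEmbedding_points_of_repWith_isImmersion hPm l hl).1
  refine Groth.Agent.Lib.Helper78.isClosedMap_snd_of_cartesian
    (Points.map (pullback.snd f ((yon S).map π ≫ p))) Hm (Points.map ((yon S).map ψ'))
    (Points.continuous_map _) (Points.map l) hemb.isInducing (Points.map snd'') ?_ ?_
  · intro w
    rw [← Points.map_comp, ← Points.map_comp, sql.w]
  · intro a o h
    exact exists_point_of_isPullback sql a o h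

end Groth.Agent.H52.UC

namespace Groth.Agent.H52.UC

theorem isClosed_of_forall_preimage {X : Type*} [TopologicalSpace X] {ι : Type*}
    {Xi : ι → Type*} [∀ i, TopologicalSpace (Xi i)] (f : ∀ i, Xi i → X)
    (hf : ∀ i, IsOpenMap (f i)) (hcov : ∀ x, ∃ i, x ∈ Set.range (f i)) (C : Set X)
    (h : ∀ i, IsClosed (f i ⁻¹' C)) : IsClosed C := by
  rw [← isOpen_compl_iff]
  have : Cᶜ = ⋃ i, f i '' (f i ⁻¹' Cᶜ) := by
    ext x
    constructor
    · intro hx
      obtain ⟨i, y, rfl⟩ := hcov x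
      exact Set.mem_iUnion.2 ⟨i, y, hx, rfl⟩
    · intro hx
      obtain ⟨i, y, hy, rfl⟩ := Set.mem_iUnion.1 hx
      exact hy
  rw [this]
  exact isOpen_iUnion fun i => hf i _ (by rw [Set.preimage_compl]; exact (h i).isOpen_compl)

variable {S : Scheme.{u}}

/-- Closedness of a map to a representable sheaf can be checked on a jointly surjective family of
open immersions into the target. -/
theorem isClosedMap_points_of_open_family {W : Over S} {W' : Sp S}
    (snd' : W' ⟶ (yon S).obj W) {ι : Type*} (Wi : ι → Over S) (j : ∀ i, Wi i ⟶ W)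
    (hj : ∀ i, IsOpenImmersion (j i).left) (hcov : ∀ w : ↥W.left, ∃ i, w ∈ Set.range (j i).left)
    (h : ∀ i, ∀ (P : Sp S) (a : P ⟶ W') (b : P ⟶ (yon S).obj (Wi i)),
      IsPullback a b snd' ((yon S).map (j i)) → IsClosedMap (Points.map b)) :
    IsClosedMap (Points.map snd') := by
  intro A hA
  rw [← (Points.schemeHomeo W).isClosed_preimage]
  refine isClosed_of_forall_preimage (fun i => ((j i).left : ↥(Wi i).left → ↥W.left))
    (fun i => (j i).left.isOpenEmbedding.isOpenMap) hcov _ fun i => ?_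
  have sq := IsPullback.of_hasPullback snd' ((yon S).map (j i))
  have key := preimage_image_eq_of_isPullback sq A
  have hcl : IsClosed (Points.map (pullback.snd snd' ((yon S).map (j i))) ''
      (Points.map (pullback.fst snd' ((yon S).map (j i))) ⁻¹' A)) :=
    h i _ _ _ sq _ (hA.preimage (Points.continuous_map _))
  rw [← key] at hcl
  have h2 := hcl.preimage (Points.schemeHomeo (Wi i)).continuous
  convert h2 using 1
  ext t
  simp only [Set.mem_preimage]
  rw [Points.map_yon_map_apply]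

end Groth.Agent.H52.UC

namespace Groth.Agent.H52.UC

variable {S : Scheme.{u}}

/-- An affine étale chart of a quasi-compact space. -/
theorem exists_affine_etale_chart' {X : Sp S} (hqc : IsQuasiCompactSp X) :
    ∃ (U : Over S) (a : (yon S).obj U ⟶ X), IsAffine U.left ∧ RepWith @Etale a ∧
      RepWith @Surjective a := by
  obtain ⟨U₀, p₀, hp₀e, hp₀s, hU₀⟩ := hqc
  have : CompactSpace ↥U₀.left := hU₀
  obtain ⟨U', π, hU'aff, hπe, hπs⟩ := Groth.Agent.H53.exists_affine_etale_surjective U₀.left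
  let U : Over S := Over.mk (π ≫ U₀.hom)
  let πO : U ⟶ U₀ := Over.homMk π rfl
  have hE : (RepWith (S := S) @Etale).IsMultiplicative := repWith_isMultiplicative _
  have hSj : (RepWith (S := S) @Surjective).IsMultiplicative := repWith_isMultiplicative _
  refine ⟨U, (yon S).map πO ≫ p₀, hU'aff, ?_, ?_⟩
  · exact (RepWith @Etale).comp_mem _ _ ((repWith_yon_map_iff _ _).2 hπe) hp₀e
  · exact (RepWith @Surjective).comp_mem _ _ ((repWith_yon_map_iff _ _).2 hπs) hp₀s

/-- Normal form of an affine scheme over `Spec R` over `S`. -/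
theorem exists_ZA_iso {R : Type u} [CommRing R] (sR : Spec (CommRingCat.of R) ⟶ S) (W : Over S)
    [IsAffine W.left] (w₀ : W ⟶ Over.mk sR) :
    ∃ (B : Type u) (_ : CommRing B) (_ : Algebra R B) (e : ZA sR B ≅ W),
      e.hom ≫ w₀ = gA sR B := by
  let ι : Spec (CommRingCat.of Γ(W.left, ⊤)) ⟶ W.left := W.left.isoSpec.inv
  let ψ : Spec (CommRingCat.of Γ(W.left, ⊤)) ⟶ Spec (CommRingCat.of R) := ι ≫ w₀.left
  let φ : CommRingCat.of R ⟶ CommRingCat.of Γ(W.left, ⊤) := Spec.preimage ψ
  letI : Algebra R Γ(W.left, ⊤) := φ.hom.toAlgebra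
  have hφ : Spec.map (CommRingCat.ofHom (algebraMap R Γ(W.left, ⊤))) = ψ := Spec.map_preimage ψ
  have hw : ι ≫ W.hom = (ZA sR Γ(W.left, ⊤)).hom := by
    change ι ≫ W.hom = Spec.map (CommRingCat.ofHom (algebraMap R Γ(W.left, ⊤))) ≫ sR
    rw [hφ, ← Over.w w₀]
    rfl
  have hiso : IsIso ι := inferInstance
  refine ⟨Γ(W.left, ⊤), inferInstance, inferInstance,
    Over.isoMk (asIso ι) hw, ?_⟩
  apply Over.OverMorphism.ext
  exact hφ.symm

/-- The local statement: over an affine open `Spec R` of `V`, all base changes of `f` to spectra of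
`R`-algebras are closed. -/
theorem isClosedMap_points_snd_of_affineSpace_closed {X Y : Sp S} (hX : IsAlgSpace X)
    (hY : IsAlgSpace Y) (f : X ⟶ Y) (hqc : IsQuasiCompactMor f) {V : Over S}
    (p : (yon S).obj V ⟶ Y)
    (H : ∀ (n : ℕ) (P : Sp S) (fst : P ⟶ X)
      (snd : P ⟶ (yon S).obj (Over.mk ((𝔸(ULift.{u} (Fin n); V.left) ↘ V.left) ≫ V.hom))),
      IsPullback fst snd f
        ((yon S).map (Over.homMk (𝔸(ULift.{u} (Fin n); V.left) ↘ V.left)) ≫ p) →
      IsClosedMap (Points.map snd))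
    {R : Type u} [CommRing R] (φU : Spec (.of R) ⟶ V.left) [IsOpenImmersion φU]
    (T : Type u) [CommRing T] [Algebra R T]
    {P' : Sp S} (a' : P' ⟶ X) (b' : P' ⟶ (yon S).obj (ZA (φU ≫ V.hom) T))
    (sq' : IsPullback a' b' f ((yon S).map (gA (φU ≫ V.hom) T ≫
      (Over.homMk φU rfl : Over.mk (φU ≫ V.hom) ⟶ V)) ≫ p)) :
    IsClosedMap (Points.map b') := by
  let j₀ : Over.mk (φU ≫ V.hom) ⟶ V := Over.homMk φU rfl
  have sq₀ := IsPullback.of_hasPullback f ((yon S).map j₀ ≫ p)
  have hX₀ : IsAlgSpace (pullback f ((yon S).map j₀ ≫ p)) :=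
    isAlgSpace_of_isPullback sq₀ hX hY (IsAlgSpace.yon_obj _)
  have hcpt : CompactSpace ↥(Over.mk (φU ≫ V.hom)).left :=
    inferInstanceAs (CompactSpace ↥(Spec (CommRingCat.of R)))
  have hX₀qc : IsQuasiCompactSp (pullback f ((yon S).map j₀ ≫ p)) :=
    hqc (IsAlgSpace.yon_obj _) (isQuasiCompactSp_yon _) ((yon S).map j₀ ≫ p) _ _ sq₀
  obtain ⟨W, a, hW, hae, has⟩ := exists_affine_etale_chart' hX₀qc
  obtain ⟨w₀, hw₀⟩ := (yon S).map_surjective (a ≫ pullback.snd f ((yon S).map j₀ ≫ p))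
  obtain ⟨B, _, _, e, he⟩ := exists_ZA_iso (φU ≫ V.hom) W w₀
  have hEt : (RepWith (S := S) @Etale).IsMultiplicative := repWith_isMultiplicative _
  have hSj : (RepWith (S := S) @Surjective).IsMultiplicative := repWith_isMultiplicative _
  have hiso : IsIso ((yon S).map e.hom) := inferInstance
  have hce : RepWith @Etale ((yon S).map e.hom ≫ a) :=
    (RepWith @Etale).comp_mem _ _ (repWith_of_isIso _ _) hae
  have hcs : RepWith @Surjective ((yon S).map e.hom ≫ a) :=
    (RepWith @Surjective).comp_mem _ _ (repWith_of_isIso _ _) has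
  have hc : ((yon S).map e.hom ≫ a) ≫ pullback.snd f ((yon S).map j₀ ≫ p) =
      (yon S).map (gA (φU ≫ V.hom) B) := by
    rw [Category.assoc, ← hw₀, ← Functor.map_comp, he]
  -- the given square as a pullback of `q`
  have hw : a' ≫ f = (b' ≫ (yon S).map (gA (φU ≫ V.hom) T)) ≫ (yon S).map j₀ ≫ p := by
    rw [sq'.w, Category.assoc, ← Category.assoc ((yon S).map (gA (φU ≫ V.hom) T)),
      ← Functor.map_comp]
  have hl1 : sq₀.lift a' (b' ≫ (yon S).map (gA (φU ≫ V.hom) T)) hw ≫
      pullback.fst f ((yon S).map j₀ ≫ p) = a' := sq₀.lift_fst _ _ _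
  have hl2 : sq₀.lift a' (b' ≫ (yon S).map (gA (φU ≫ V.hom) T)) hw ≫
      pullback.snd f ((yon S).map j₀ ≫ p) = b' ≫ (yon S).map (gA (φU ≫ V.hom) T) :=
    sq₀.lift_snd _ _ _
  have sqT : IsPullback (sq₀.lift a' (b' ≫ (yon S).map (gA (φU ≫ V.hom) T)) hw) b'
      (pullback.snd f ((yon S).map j₀ ≫ p)) ((yon S).map (gA (φU ≫ V.hom) T)) := by
    refine IsPullback.of_right ?_ hl2 sq₀
    rw [hl1, ← Category.assoc, ← Functor.map_comp]
    exact sq'
  refine isClosedMap_points_snd_of_finiteType (φU ≫ V.hom)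
    (pullback.snd f ((yon S).map j₀ ≫ p)) ((yon S).map e.hom ≫ a) hc hce hcs ?_ sqT
  intro A _ _ _ XA fstA sndA sqA
  have sqA' := sqA.paste_horiz sq₀
  rw [← Category.assoc, ← Functor.map_comp] at sqA'
  exact isClosedMap_of_affineSpace_closed hX hY f p H φU A _ _ sqA'

end Groth.Agent.H52.UC

namespace Groth.Agent.H52.UC

variable {S : Scheme.{u}}

/-- A quasi-compact morphism of algebraic spaces whose base changes to the affine spaces over an
etale atlas `V` of the target are closed is universally closed. -/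
theorem isUnivClosedMor_of_affineSpace_closed {X Y : Space S} (f : X ⟶ Y)
    (hqc : IsQuasiCompactMor f.hom) (V : Over S) (p : (yon S).obj V ⟶ Y.obj)
    (hpe : RepWith @Etale p) (hps : RepWith @Surjective p)
    (H : ∀ (n : ℕ) (P : Sp S) (fst : P ⟶ X.obj)
      (snd : P ⟶ (yon S).obj (Over.mk ((𝔸(ULift.{u} (Fin n); V.left) ↘ V.left) ≫ V.hom))),
      IsPullback fst snd f.hom
        ((yon S).map (Over.homMk (𝔸(ULift.{u} (Fin n); V.left) ↘ V.left)) ≫ p) →
      IsClosedMap (Points.map snd)) :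
    IsUnivClosedMor f.hom := by
  have hX := X.property
  have hY := Y.property
  have sqV := IsPullback.of_hasPullback f.hom p
  have hXV : IsAlgSpace (pullback f.hom p) :=
    isAlgSpace_of_isPullback sqV hX hY (IsAlgSpace.yon_obj V)
  refine Groth.Agent.S9924.result f V p hpe hps (pullback.fst f.hom p) (pullback.snd f.hom p)
    sqV ?_
  refine (Groth.Agent.S9923.result (X := ⟨pullback f.hom p, hXV⟩)
    (Y := ⟨(yon S).obj V, IsAlgSpace.yon_obj V⟩)
    (ObjectProperty.homMk (pullback.snd f.hom p))).2 ?_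
  intro Z _ g P fst snd sq
  obtain ⟨g₀, rfl⟩ := (yon S).map_surjective g
  have key : ∀ z : ↥Z.left, ∃ (U : V.left.Opens) (O : Z.left.Opens), IsAffineOpen U ∧
      IsAffineOpen O ∧ O ≤ g₀.left ⁻¹ᵁ U ∧ z ∈ O := by
    intro z
    obtain ⟨U, hU, hxU, -⟩ := (TopologicalSpace.Opens.isBasis_iff_nbhd.mp
      V.left.isBasis_affineOpens) (show g₀.left z ∈ (⊤ : V.left.Opens) from trivial)
    obtain ⟨O, hO, hzO, eO⟩ := (TopologicalSpace.Opens.isBasis_iff_nbhd.mp
      Z.left.isBasis_affineOpens) (show z ∈ g₀.left ⁻¹ᵁ U from hxU)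
    exact ⟨U, O, hU, hO, eO, hzO⟩
  choose U O hU hO e hz using key
  have hcomm : ∀ z, (hO z).fromSpec ≫ g₀.left =
      Spec.map (g₀.left.appLE (U z) (O z) (e z)) ≫ (hU z).fromSpec := fun z =>
    (IsAffineOpen.SpecMap_appLE_fromSpec g₀.left (hU z) (hO z) (e z)).symm
  refine isClosedMap_points_of_open_family snd
    (fun z => @ZA S Γ(V.left, U z) _ ((hU z).fromSpec ≫ V.hom) Γ(Z.left, O z) _
      (g₀.left.appLE (U z) (O z) (e z)).hom.toAlgebra)
    (fun z => Over.homMk (hO z).fromSpec (by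
      change (hO z).fromSpec ≫ Z.hom = Spec.map (g₀.left.appLE (U z) (O z) (e z)) ≫
        (hU z).fromSpec ≫ V.hom
      rw [← Over.w g₀, ← Category.assoc, hcomm z, Category.assoc]))
    (fun z => IsAffineOpen.isOpenImmersion_fromSpec _)
    (fun w => ⟨w, by
      change w ∈ Set.range (hO w).fromSpec
      rw [(hO w).range_fromSpec]; exact hz w⟩) ?_
  intro z P' a b sqab
  letI : Algebra Γ(V.left, U z) Γ(Z.left, O z) :=
    (g₀.left.appLE (U z) (O z) (e z)).hom.toAlgebra
  have : IsOpenImmersion (hU z).fromSpec := IsAffineOpen.isOpenImmersion_fromSpec _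
  refine isClosedMap_points_snd_of_affineSpace_closed hX hY f.hom hqc p H (hU z).fromSpec
    Γ(Z.left, O z) ((a ≫ fst) ≫ pullback.fst f.hom p) b ?_
  have h1 := (sqab.paste_horiz sq).paste_horiz sqV
  rw [← Functor.map_comp] at h1
  convert h1 using 3
  apply Over.OverMorphism.ext
  exact (hcomm z).symm

end Groth.Agent.H52.UC
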