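/-
Helper library (helper52): `HInj`/`HSurj` for a morphism locally of finite presentation of
algebraic spaces and a cofiltered system of quasi-compact quasi-separated algebraic spaces with
affine transition maps.
-/
import Groth.Agent.H52.LfpLim6
import Groth.Agent.H52.UCAssembly
import Groth.Agent.H52.QSChart2
import Groth.Agent.H53.SpBasic

set_option autoImplicit false
universe u
open CategoryTheory CategoryTheory.Limits AlgebraicGeometry Opposite
open AlgSp

namespace Groth.Agent.H52.LfpLim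

open Groth.Agent.H52.LimChart

variable {S : Scheme.{u}}

/-- epimorphisms of sheaves are effective -/
theorem effectiveEpi_of_epi {F G : Sp S} (p : F ⟶ G) [Epi p] : EffectiveEpi p := by
  have hreg : IsRegularEpi p := IsRegularEpiCategory.regularEpiOfEpi p
  infer_instance

section

variable {I : Type u} [SmallCategory I] [IsCofiltered I]
  {D : I ⥤ Sp S} {c : Cone D} {i : I} {T : Over S} {ξ : (yon S).obj T ⟶ D.obj i}

theorem _root_.Groth.Agent.H52.LimChart.ChartSystem.epi_a (cs : ChartSystem D c i ξ) (hξe : RepWith @Etale ξ)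
    (hξs : RepWith @Surjective ξ) (j : Over i) : Epi (cs.a j) :=
  epi_of_repWith_etale_surjective _
    (MorphismProperty.of_isPullback (cs.sq j).flip hξe)
    (MorphismProperty.of_isPullback (cs.sq j).flip hξs)

theorem _root_.Groth.Agent.H52.LimChart.ChartSystem.epi_b (cs : ChartSystem D c i ξ) (hξe : RepWith @Etale ξ)
    (hξs : RepWith @Surjective ξ) : Epi cs.b :=
  epi_of_repWith_etale_surjective _
    (MorphismProperty.of_isPullback cs.sqlim.flip hξe)
    (MorphismProperty.of_isPullback cs.sqlim.flip hξs)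

theorem _root_.Groth.Agent.H52.LimChart.ChartSystem.isAffine_E (cs : ChartSystem D c i ξ) (hT : IsAffine T.left) (j : Over i) :
    IsAffine (cs.E.obj j).left := by
  have := cs.affp j
  exact isAffine_of_isAffineHom (cs.p j).left

theorem _root_.Groth.Agent.H52.LimChart.ChartSystem.isAffine_pt (cs : ChartSystem D c i ξ) (hT : IsAffine T.left) :
    IsAffine cs.cE.pt.left := by
  have := cs.affq
  exact isAffine_of_isAffineHom cs.q.left

theorem ChartMor.epi_τ {T' : Over S} {t : T' ⟶ T} {ξ' : (yon S).obj T' ⟶ D.obj i}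
    {cs : ChartSystem D c i ξ} {cs' : ChartSystem D c i ξ'} (m : ChartMor t cs cs')
    (hte : Etale t.left) (hts : Surjective t.left) (j : Over i) :
    Epi ((yon S).map (m.τ.app j)) :=
  epi_of_repWith_etale_surjective _
    (MorphismProperty.of_isPullback (m.sq j).flip ((repWith_yon_map_iff _ _).2 hte))
    (MorphismProperty.of_isPullback (m.sq j).flip ((repWith_yon_map_iff _ _).2 hts))

end

end Groth.Agent.H52.LfpLim

namespace Groth.Agent.H52.LfpLim

open Groth.Agent.H52.LimChart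

variable {S : Scheme.{u}}

theorem hInj_hSurj_of_lfp [QuasiSeparatedSpace S] {X Y : Sp S} (hX : IsAlgSpace X)
    (hY : IsAlgSpace Y) (f : X ⟶ Y) (hf : LocP @LocallyOfFinitePresentation f)
    {I : Type u} [SmallCategory I] [IsCofiltered I] (D : I ⥤ Sp S)
    (hD : ∀ i, IsAlgSpace (D.obj i)) (hDa : ∀ (i j : I) (φ : i ⟶ j), IsAffineMor (D.map φ))
    (hqc : ∀ i, IsQuasiCompactSp (D.obj i)) (hqs : ∀ i, IsQuasiSeparatedSp (D.obj i))
    (c : Cone D) (hc : IsLimit c) : HInj f D c ∧ HSurj f D c := by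
  obtain ⟨i₀⟩ := IsCofiltered.nonempty (C := I)
  obtain ⟨U₀, ξU, hU₀, hξe, hξs⟩ := Groth.Agent.H52.UC.exists_affine_etale_chart' (hqc i₀)
  have hrep : Representable ξU := (hD i₀).representable_from_yon ξU
  let R₀ : Over S := hrep.pullback ξU
  let pr₁ : R₀ ⟶ U₀ := hrep.fst' ξU
  let pr₂ : R₀ ⟶ U₀ := hrep.snd ξU
  have sqR : IsPullback ((yon S).map pr₁) ((yon S).map pr₂) ξU ξU := hrep.isPullback' ξU
  have : IsAffine U₀.left := hU₀
  have hR₀ : CompactSpace ↥R₀.left :=
    Groth.Agent.H52.compactSpace_pullback_of_isQuasiSeparatedSp (hqs i₀) ξU ξU pr₁ pr₂ sqR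
  obtain ⟨V', π, hV', hπe, hπs⟩ := Groth.Agent.H53.exists_affine_etale_surjective R₀.left
  let V₀ : Over S := Over.mk (π ≫ R₀.hom)
  let v₀ : V₀ ⟶ R₀ := Over.homMk π rfl
  let ξR : (yon S).obj R₀ ⟶ D.obj i₀ := (yon S).map pr₁ ≫ ξU
  let ξV : (yon S).obj V₀ ⟶ D.obj i₀ := (yon S).map v₀ ≫ ξR
  have hDa' : ∀ j : Over i₀, IsAffineMor (D.map j.hom) := fun j => hDa _ _ j.hom
  obtain ⟨csU⟩ := nonempty_chartSystem D c hc i₀ ξU hDa'
  obtain ⟨csR⟩ := nonempty_chartSystem D c hc i₀ ξR hDa'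
  obtain ⟨csV⟩ := nonempty_chartSystem D c hc i₀ ξV hDa'
  obtain ⟨mV⟩ := nonempty_chartMor v₀ rfl csR csV
  obtain ⟨m₁⟩ := nonempty_chartMor pr₁ rfl csU csR
  obtain ⟨m₂⟩ := nonempty_chartMor pr₂ (sqR.w : ξR = (yon S).map pr₂ ≫ ξU) csU csR
  obtain ⟨hInjU, hSurjU⟩ := hInj_hSurj_affine hX hY f hf csU.E csU.cE csU.hcE'
    (csU.isAffine_E hU₀) (csU.isAffine_pt hU₀)
  have hV₀ : IsAffine V₀.left := hV'
  obtain ⟨hInjV, -⟩ := hInj_hSurj_affine hX hY f hf csV.E csV.cE csV.hcE'
    (csV.isAffine_E hV₀) (csV.isAffine_pt hV₀)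
  have hv₀e : Etale v₀.left := hπe
  have hv₀s : Surjective v₀.left := hπs
  have hInjR : HInj f (csR.E ⋙ yon S) ((yon S).mapCone csR.cE) :=
    hInjV.of_cover (Functor.whiskerRight mV.τ (yon S)) (fun j => mV.epi_τ hv₀e hv₀s j)
      ((yon S).map mV.τInf) (fun j => by
        change (yon S).map (csV.cE.π.app j) ≫ (yon S).map (mV.τ.app j) =
          (yon S).map mV.τInf ≫ (yon S).map (csR.cE.π.app j)
        rw [← Functor.map_comp, ← Functor.map_comp, mV.hτInf])
  let A : Over i₀ ⥤ Sp S := Over.forget i₀ ⋙ D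
  let cA : Cone A := c.whisker (Over.forget i₀)
  let pU : csU.E ⋙ yon S ⟶ A := { app := csU.a, naturality := fun j k φ => csU.ha φ }
  have hInjA : HInj f A cA :=
    hInjU.of_cover pU (fun j => csU.epi_a hξe hξs j) csU.b (fun j => csU.hb j)
  have hSurjA : HSurj f A cA := by
    refine HSurj.of_cover hSurjU hInjR pU (fun j => ?_) csU.b (csU.epi_b hξe hξs)
      (fun j => csU.hb j) (Functor.whiskerRight m₁.τ (yon S)) (Functor.whiskerRight m₂.τ (yon S))
      ((yon S).map m₁.τInf) ((yon S).map m₂.τInf) ?_ ?_ ?_ ?_ ?_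
    · have := csU.epi_a hξe hξs j
      exact effectiveEpi_of_epi (csU.a j)
    · intro j
      change (yon S).map (csR.cE.π.app j) ≫ (yon S).map (m₁.τ.app j) =
        (yon S).map m₁.τInf ≫ (yon S).map (csU.cE.π.app j)
      rw [← Functor.map_comp, ← Functor.map_comp, m₁.hτInf]
    · intro j
      change (yon S).map (csR.cE.π.app j) ≫ (yon S).map (m₂.τ.app j) =
        (yon S).map m₂.τInf ≫ (yon S).map (csU.cE.π.app j)
      rw [← Functor.map_comp, ← Functor.map_comp, m₂.hτInf]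
    · intro j
      exact (m₁.hτa j).trans (m₂.hτa j).symm
    · exact m₁.hτb.trans m₂.hτb.symm
    · intro j W w₁ w₂ hw
      have hw' : w₁ ≫ csU.a j = w₂ ≫ csU.a j := hw
      have h1 : (w₁ ≫ (yon S).map (csU.p j)) ≫ ξU = (w₂ ≫ (yon S).map (csU.p j)) ≫ ξU := by
        rw [Category.assoc, Category.assoc, ← (csU.sq j).w, ← Category.assoc, ← Category.assoc,
          hw']
      let ρ : W ⟶ (yon S).obj R₀ := sqR.lift _ _ h1
      have hρ1 : ρ ≫ (yon S).map pr₁ = w₁ ≫ (yon S).map (csU.p j) := sqR.lift_fst _ _ _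
      have hρ2 : ρ ≫ (yon S).map pr₂ = w₂ ≫ (yon S).map (csU.p j) := sqR.lift_snd _ _ _
      have h2 : (w₁ ≫ csU.a j) ≫ D.map j.hom = ρ ≫ ξR := by
        change _ = ρ ≫ (yon S).map pr₁ ≫ ξU
        rw [← Category.assoc, hρ1, Category.assoc, Category.assoc, (csU.sq j).w]
      let σ : W ⟶ (yon S).obj (csR.E.obj j) := (csR.sq j).lift (w₁ ≫ csU.a j) ρ h2
      have hσ1 : σ ≫ csR.a j = w₁ ≫ csU.a j := (csR.sq j).lift_fst _ _ _
      have hσ2 : σ ≫ (yon S).map (csR.p j) = ρ := (csR.sq j).lift_snd _ _ _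
      refine ⟨σ, ?_, ?_⟩
      · apply (csU.sq j).hom_ext
        · change (σ ≫ (yon S).map (m₁.τ.app j)) ≫ csU.a j = _
          rw [Category.assoc, m₁.hτa, hσ1]
        · change (σ ≫ (yon S).map (m₁.τ.app j)) ≫ (yon S).map (csU.p j) = _
          rw [Category.assoc, ← Functor.map_comp, m₁.hτp, Functor.map_comp, ← Category.assoc,
            hσ2, hρ1]
      · apply (csU.sq j).hom_ext
        · change (σ ≫ (yon S).map (m₂.τ.app j)) ≫ csU.a j = _
          rw [Category.assoc, m₂.hτa, hσ1, hw']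
        · change (σ ≫ (yon S).map (m₂.τ.app j)) ≫ (yon S).map (csU.p j) = _
          rw [Category.assoc, ← Functor.map_comp, m₂.hτp, Functor.map_comp, ← Category.assoc,
            hσ2, hρ2]
  exact ⟨HInj.of_over f D c i₀ hInjA, HSurj.of_over f D c i₀ hSurjA⟩

end Groth.Agent.H52.LfpLim
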