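/-
Helper library (helper52): a cofiltered limit of qcqs algebraic spaces with affine transition maps
which is an affine scheme has an affine stage.  Step 1: the finitely presented model of an etale
chart of the limit.
-/
import Groth.Agent.H52.AffLim1
import Groth.Agent.H52.LfpLim7
import Groth.Agent.S7383

set_option autoImplicit false
universe u
open CategoryTheory CategoryTheory.Limits AlgebraicGeometry Opposite
open AlgSp

namespace Groth.Agent.H52.AffLim

variable {S : Scheme.{u}}

/-- An etale surjective morphism of affine schemes over `S` (with `S` quasi-separated) is the base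
change of an etale surjective morphism of affine schemes locally of finite presentation over `S`. -/
theorem exists_fp_model [QuasiSeparatedSpace S] {T U : Over S} (hT : IsAffine T.left)
    (hU : IsAffine U.left) (u : U ⟶ T) (hue : Etale u.left) (hus : Surjective u.left) :
    ∃ (Y V : Over S) (v : V ⟶ Y) (πY : T ⟶ Y) (q : U ⟶ V), IsAffine Y.left ∧ IsAffine V.left ∧
      LocallyOfFinitePresentation Y.hom ∧ Etale v.left ∧ Surjective v.left ∧
      IsPullback q u v πY := by
  have : IsAffine T.left := hT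
  have : IsAffine U.left := hU
  obtain ⟨V₀, hV₀, hfV⟩ := Groth.Agent.Lib.Helper22.RelApprox.exists_isCompact_opens_of_isCompact
    (isCompact_range T.hom.continuous)
  have : CompactSpace V₀.toScheme := isCompact_iff_compactSpace.mp hV₀
  have : QuasiSeparatedSpace V₀.toScheme := V₀.ι.isOpenEmbedding.quasiSeparatedSpace
  have hle : Set.range T.hom ⊆ Set.range V₀.ι := by rw [Scheme.Opens.range_ι]; exact hfV
  obtain ⟨f', hf'⟩ : ∃ f' : T.left ⟶ V₀.toScheme, f' ≫ V₀.ι = T.hom :=
    ⟨IsOpenImmersion.lift V₀.ι T.hom hle, IsOpenImmersion.lift_fac _ _ _⟩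
  obtain ⟨L, i1, i2, i3, E, cE, hcE, h1, h2, ⟨iso⟩⟩ := Groth.Agent.S7383.result f'
  have : IsConnected Lᵒᵖ := IsCofiltered.isConnected _
  let E' : Lᵒᵖ ⥤ Scheme.{u} := E ⋙ Over.forget _
  let cE' : Cone E' := (Over.forget _).mapCone cE
  have hcE' : IsLimit cE' := isLimitOfPreserves (Over.forget _) hcE
  have hEa : ∀ {i j : Lᵒᵖ} (a : i ⟶ j), IsAffineHom (E'.map a) := fun a => h2 _ _ a
  have hEqc : ∀ i, CompactSpace ↥(E'.obj i) := fun i => by
    have hq : QuasiCompact (E.obj i).hom := (h1 i).2.1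
    exact @QuasiCompact.compactSpace_of_compactSpace _ _ (E.obj i).hom hq _
  have hEqs : ∀ i, QuasiSeparatedSpace ↥(E'.obj i) := fun i => by
    have hq : QuasiSeparated (E.obj i).hom := (h1 i).2.2
    exact @quasiSeparatedSpace_of_quasiSeparated _ _ (E.obj i).hom _ hq
  let ι : cE'.pt ≅ T.left := (Over.forget _).mapIso iso
  have hpt : IsAffine cE'.pt := IsAffine.of_isIso ι.hom
  let u' : U.left ⟶ cE'.pt := u.left ≫ ι.inv
  have : Etale u.left := hue
  have : Surjective u.left := hus
  have hu'e : Etale u' := inferInstance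
  have hu's : Surjective u' := inferInstance
  obtain ⟨l, Vs, v, q, hEl, hVs, hve, hvs, hpb⟩ := exists_affine_etale_model E' cE' hcE' u'
  have hlfp : LocallyOfFinitePresentation ((E.obj l).hom ≫ V₀.ι) := by
    have := (h1 l).1
    infer_instance
  let Y : Over S := Over.mk ((E.obj l).hom ≫ V₀.ι)
  have hπw : (ι.inv ≫ cE'.π.app l) ≫ ((E.obj l).hom ≫ V₀.ι) = T.hom := by
    have e1 : (cE.π.app l).left ≫ (E.obj l).hom = cE.pt.hom := Over.w (cE.π.app l)
    have e2 : iso.inv.left ≫ cE.pt.hom = f' := Over.w iso.inv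
    calc (iso.inv.left ≫ (cE.π.app l).left) ≫ ((E.obj l).hom ≫ V₀.ι)
        = iso.inv.left ≫ ((cE.π.app l).left ≫ (E.obj l).hom) ≫ V₀.ι := by
          simp only [Category.assoc]
      _ = (iso.inv.left ≫ cE.pt.hom) ≫ V₀.ι := by rw [e1, Category.assoc]
      _ = T.hom := by rw [e2, hf']
  let πY : T ⟶ Y := Over.homMk (ι.inv ≫ cE'.π.app l) hπw
  let VO : Over S := Over.mk (v ≫ Y.hom)
  let vO : VO ⟶ Y := Over.homMk v rfl
  have hqw : q ≫ VO.hom = U.hom := by
    calc q ≫ v ≫ ((E.obj l).hom ≫ V₀.ι) = (q ≫ v) ≫ ((E.obj l).hom ≫ V₀.ι) :=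
          (Category.assoc _ _ _).symm
      _ = (u' ≫ cE'.π.app l) ≫ ((E.obj l).hom ≫ V₀.ι) := by rw [hpb.w]
      _ = u.left ≫ ((ι.inv ≫ cE'.π.app l) ≫ ((E.obj l).hom ≫ V₀.ι)) := by
          simp only [u', Category.assoc]
      _ = u.left ≫ T.hom := by rw [hπw]
      _ = U.hom := Over.w u
  let qO : U ⟶ VO := Over.homMk q hqw
  have hpb' : IsPullback q u.left v (ι.inv ≫ cE'.π.app l) := by
    refine IsPullback.of_iso hpb (Iso.refl _) (Iso.refl _) ι (Iso.refl _) (by simp) ?_ (by simp) ?_
    · simp [u']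
    · simp
  refine ⟨Y, VO, vO, πY, qO, hEl, hVs, hlfp, hve, hvs, ?_⟩
  exact IsPullback.of_map (Over.forget S) (by ext; exact hpb'.w) hpb'

end Groth.Agent.H52.AffLim
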