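/-
Helper library (helper52): a cofiltered limit of qcqs algebraic spaces with affine transition maps
which is an affine scheme has an affine stage.  Step 2: pullback squares of chart systems; the map
from a stage to a finitely presented model of the limit.
-/
import Groth.Agent.H52.AffLim2
import Groth.Agent.H52.QC5

set_option autoImplicit false
universe u
open CategoryTheory CategoryTheory.Limits AlgebraicGeometry Opposite
open AlgSp

namespace Groth.Agent.H52.AffLim

open Groth.Agent.H52.LimChart Groth.Agent.H52.LfpLim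

variable {S : Scheme.{u}} {I : Type u} [SmallCategory I] [IsCofiltered I]
  {D : I ⥤ Sp S} {c : Cone D} {i : I} {T : Over S} {ξ : (yon S).obj T ⟶ D.obj i}

/-- the chart of the limit is the base change of the chart of a stage -/
theorem _root_.Groth.Agent.H52.LimChart.ChartSystem.isPullback_lim (cs : ChartSystem D c i ξ) (j : Over i) :
    IsPullback ((yon S).map (cs.cE.π.app j)) cs.b (cs.a j) (c.π.app j.left) := by
  have hbig : IsPullback ((yon S).map (cs.cE.π.app j) ≫ (yon S).map (cs.p j)) cs.b ξ
      (c.π.app j.left ≫ D.map j.hom) := by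
    rw [← Functor.map_comp, cs.hq, c.w]
    exact cs.sqlim.flip
  exact IsPullback.of_right hbig (cs.hb j) (cs.sq j).flip

/-- the chart of a stage is the base change of the chart of an earlier stage -/
theorem _root_.Groth.Agent.H52.LimChart.ChartSystem.isPullback_map (cs : ChartSystem D c i ξ) {j k : Over i} (φ : j ⟶ k) :
    IsPullback ((yon S).map (cs.E.map φ)) (cs.a j) (cs.a k) (D.map φ.left) := by
  have hbig : IsPullback ((yon S).map (cs.E.map φ) ≫ (yon S).map (cs.p k)) (cs.a j) ξ
      (D.map φ.left ≫ D.map k.hom) := by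
    rw [← Functor.map_comp, cs.hp, ← D.map_comp, Over.w φ]
    exact (cs.sq j).flip
  exact IsPullback.of_right hbig (cs.ha φ) (cs.sq k).flip

theorem _root_.Groth.Agent.H52.LimChart.ChartSystem.repWith_a (cs : ChartSystem D c i ξ) (P : MorphismProperty Scheme.{u})
    [P.IsStableUnderBaseChange] (hξ : RepWith P ξ) (j : Over i) : RepWith P (cs.a j) :=
  MorphismProperty.of_isPullback (cs.sq j).flip hξ

theorem _root_.Groth.Agent.H52.LimChart.ChartSystem.repWith_b (cs : ChartSystem D c i ξ) (P : MorphismProperty Scheme.{u})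
    [P.IsStableUnderBaseChange] (hξ : RepWith P ξ) : RepWith P cs.b :=
  MorphismProperty.of_isPullback cs.sqlim.flip hξ

/-- A morphism from the limit of a cofiltered system of qcqs algebraic spaces with affine
transition maps to a scheme locally of finite presentation over the base factors through a stage. -/
theorem exists_factor_of_lfp [QuasiSeparatedSpace S] (hD : ∀ i, IsAlgSpace (D.obj i))
    (hDa : ∀ (i j : I) (φ : i ⟶ j), IsAffineMor (D.map φ))
    (hqc : ∀ i, IsQuasiCompactSp (D.obj i)) (hqs : ∀ i, IsQuasiSeparatedSp (D.obj i))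
    (hc : IsLimit c) (Y : Over S) (hY : LocallyOfFinitePresentation Y.hom)
    (x : c.pt ⟶ (yon S).obj Y) :
    ∃ (k : I) (g : D.obj k ⟶ (yon S).obj Y), c.π.app k ≫ g = x := by
  let f : (yon S).obj Y ⟶ (yon S).obj (Over.mk (𝟙 S)) :=
    (yon S).map (Over.homMk Y.hom : Y ⟶ Over.mk (𝟙 S))
  have hf : LocP @LocallyOfFinitePresentation f :=
    Groth.Agent.H52.isEtLocal_lfp.locP_of_repWith' f ((repWith_yon_map_iff _ _).2 hY)
  obtain ⟨-, hsurj⟩ := hInj_hSurj_of_lfp (IsAlgSpace.yon_obj Y) (IsAlgSpace.yon_obj _) f hf D hD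
    hDa hqc hqs c hc
  obtain ⟨i₀⟩ := IsCofiltered.nonempty (C := I)
  obtain ⟨k, -, g, hg, -⟩ := hsurj i₀ ((yonBaseIsTerminal S).from _) x
    ((yonBaseIsTerminal S).hom_ext _ _)
  exact ⟨k, g, hg⟩

end Groth.Agent.H52.AffLim
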