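/-
Helper library (helper52): more on chart systems of cofiltered limits of algebraic spaces.
-/
import Groth.Agent.H52.LimChart

set_option autoImplicit false
universe u
open CategoryTheory CategoryTheory.Limits AlgebraicGeometry Opposite
open AlgSp

namespace Groth.Agent.H52.LimChart

variable {S : Scheme.{u}} {I : Type u} [SmallCategory I] [IsCofiltered I]
  {D : I ⥤ Sp S} {c : Cone D} {i : I} {T : Over S} {ξ : (yon S).obj T ⟶ D.obj i}

namespace ChartSystem

variable (cs : ChartSystem D c i ξ)

/-- The limit chart is the base change of each stage chart: `U = E_j ×_{X_j} X`. -/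
theorem sqj (j : Over i) :
    IsPullback ((yon S).map (cs.cE.π.app j)) cs.b (cs.a j) (c.π.app j.left) := by
  have h1 : (yon S).map cs.q = (yon S).map (cs.cE.π.app j) ≫ (yon S).map (cs.p j) := by
    rw [← Functor.map_comp, cs.hq]
  have h2 : c.π.app i = c.π.app j.left ≫ D.map j.hom := (c.w j.hom).symm
  have big := cs.sqlim.flip
  rw [h1, h2] at big
  exact IsPullback.of_right big (cs.hb j) (cs.sq j).flip

/-- The scheme-level diagram of the chart system has affine transition maps. -/
theorem affE' {j k : Over i} (φ : j ⟶ k) : IsAffineHom ((cs.E ⋙ Over.forget S).map φ) :=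
  cs.affE φ

end ChartSystem

end Groth.Agent.H52.LimChart
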