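/-
Helper library (helper52): quasi-compact open sets of points of a cofiltered limit of algebraic
spaces with affine transition maps come from a finite stage.
-/
import Groth.Agent.H52.LimChart2
import Groth.Agent.H52.UCAssembly
import Groth.Agent.H52.Compact
import Groth.Agent.H52.LocPCalc5
import Groth.Agent.H53.SpTop
import Groth.Agent.Lib.Helper54.LargestOpen
import Mathlib.AlgebraicGeometry.AffineTransitionLimit

set_option autoImplicit false
universe u
open CategoryTheory CategoryTheory.Limits AlgebraicGeometry Opposite Topology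
open AlgSp

namespace Groth.Agent.H52.LimOpen

open Groth.Agent.Lib.Helper54

variable {S : Scheme.{u}}

/-- An open immersion `j : U ⟶ X` is the base change of the open subspace of `X'` defined by an
open set `O` of points, as soon as the image of `j` is the preimage of `O`. -/
theorem exists_isPullback_openSub {X X' U : Sp S} (π : X ⟶ X') (O : Set (Points X'))
    (hO : IsOpen O) (j : U ⟶ X) (hj : RepWith @IsOpenImmersion j)
    (hW : Points.map π ⁻¹' O = Set.range (Points.map j)) :
    ∃ q : U ⟶ openSub X' O, IsPullback j q π (openSubι X' O) := by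
  have hι := repWith_isOpenImmersion_openSubι X' O hO
  have hrange := range_points_map_openSubι X' O
  have hsub : Set.range (Points.map (j ≫ π)) ⊆ Set.range (Points.map (openSubι X' O)) := by
    rintro _ ⟨u, rfl⟩
    rw [hrange, Points.map_comp]
    have : Points.map j u ∈ Points.map π ⁻¹' O := by rw [hW]; exact ⟨u, rfl⟩
    exact this
  obtain ⟨q, hq⟩ := Groth.Agent.H53.exists_factor_of_range_subset (openSubι X' O) hι (j ≫ π) hsub
  haveI := mono_of_isOpenImmersion j hj
  refine ⟨q, isPullback_of_forall_yon j q π (openSubι X' O) hq.symm ?_ ?_⟩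
  · intro T a a' h1 _
    exact (cancel_mono j).mp h1
  · intro T b c' hbc
    have hsub' : Set.range (Points.map b) ⊆ Set.range (Points.map j) := by
      rintro _ ⟨t, rfl⟩
      rw [← hW]
      change Points.map π (Points.map b t) ∈ O
      rw [← Points.map_comp, hbc, Points.map_comp]
      have h : Points.map (openSubι X' O) (Points.map c' t) ∈
          Set.range (Points.map (openSubι X' O)) := ⟨_, rfl⟩
      rw [hrange] at h
      exact h
    obtain ⟨a, ha⟩ := Groth.Agent.H53.exists_factor_of_range_subset j hj b hsub'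
    refine ⟨a, ha, ?_⟩
    rw [← cancel_mono (openSubι X' O), Category.assoc, hq, ← Category.assoc, ha, hbc]

variable {I : Type u} [SmallCategory I] [IsCofiltered I]

/-- A quasi-compact open set of points of the limit is the preimage of an open set of points of
some `X_i` whose open subspace is quasi-compact. -/
theorem exists_open_stage (D : I ⥤ Sp S) (hD : ∀ i, IsAlgSpace (D.obj i))
    (hDa : ∀ (i j : I) (φ : i ⟶ j), IsAffineMor (D.map φ))
    (hqc : ∀ i, IsQuasiCompactSp (D.obj i)) (c : Cone D) (hc : IsLimit c)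
    (W : Set (Points c.pt)) (hWo : IsOpen W) (hWc : IsCompact W) :
    ∃ (i : I) (O : Set (Points (D.obj i))), IsOpen O ∧ IsQuasiCompactSp (openSub (D.obj i) O) ∧
      Points.map (c.π.app i) ⁻¹' O = W := by
  classical
  let i₁ : I := (IsCofiltered.nonempty (C := I)).some
  obtain ⟨V₀, ξ, hV₀, hξe, hξs⟩ := Groth.Agent.H52.UC.exists_affine_etale_chart' (hqc i₁)
  haveI : IsAffine V₀.left := hV₀
  obtain ⟨cs⟩ := Groth.Agent.H52.LimChart.nonempty_chartSystem D c hc i₁ ξ
    (fun j => hDa _ _ j.hom)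
  have hbe : RepWith @Etale cs.b := MorphismProperty.of_isPullback cs.sqlim.flip hξe
  have hbs : RepWith @Surjective cs.b := MorphismProperty.of_isPullback cs.sqlim.flip hξs
  let Es : Over i₁ ⥤ Scheme.{u} := cs.E ⋙ Over.forget S
  let cs' : Cone Es := (Over.forget S).mapCone cs.cE
  have hcs' : IsLimit cs' := cs.hcE'
  haveI : ∀ {j k : Over i₁} (φ : j ⟶ k), IsAffineHom (Es.map φ) := fun φ => cs.affE φ
  obtain ⟨β, hβ⟩ : ∃ β : ↥cs'.pt → Points c.pt, β = Points.ofPt cs.b := ⟨_, rfl⟩
  have hβc : Continuous β := by rw [hβ]; exact Points.continuous_ofPt _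
  have hβo : IsOpenMap β := by rw [hβ]; exact Groth.Agent.H53.isOpenMap_ofPt_of_etale _ hbe
  have hβs : Function.Surjective β := by
    rw [hβ]; exact Groth.Agent.H53.surjective_ofPt_of_surjective _ hbs
  let Winf : cs'.pt.Opens := ⟨β ⁻¹' W, hWo.preimage hβc⟩
  have key : ∀ x : W, ∃ (k : Over i₁) (N : (Es.obj k).Opens), IsAffineOpen N ∧
      (∃ v : ↥cs'.pt, β v = x.1 ∧ v ∈ cs'.π.app k ⁻¹ᵁ N) ∧ cs'.π.app k ⁻¹ᵁ N ≤ Winf := by
    intro x
    obtain ⟨v, hv⟩ := hβs x.1
    have hvW : v ∈ Winf := by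
      change β v ∈ W
      rw [hv]; exact x.2
    obtain ⟨U', ⟨k, N, hN, rfl⟩, hvU', hU'⟩ :=
      (TopologicalSpace.Opens.isBasis_iff_nbhd.mp (isBasis_preimage_isAffineOpen Es cs' hcs')) hvW
    exact ⟨k, N, hN, ⟨v, hv, hvU'⟩, hU'⟩
  choose kx Nx hNaff hNv hNle using key
  obtain ⟨s, hs⟩ := hWc.elim_finite_subcover
    (fun x : W => β '' ((cs'.π.app (kx x) ⁻¹ᵁ Nx x : cs'.pt.Opens) : Set ↥cs'.pt))
    (fun x => hβo _ (cs'.π.app (kx x) ⁻¹ᵁ Nx x).isOpen)
    (fun y hy => Set.mem_iUnion.2 ⟨⟨y, hy⟩, by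
      obtain ⟨v, hv1, hv2⟩ := hNv ⟨y, hy⟩
      exact ⟨v, hv2, hv1⟩⟩)
  obtain ⟨k, hk⟩ := IsCofiltered.inf_objs_exists (s.image kx)
  have φ : ∀ x : s, k ⟶ kx x.1 := fun x => (hk (Finset.mem_image_of_mem kx x.2)).some
  let M : (Es.obj k).Opens := ⨆ x : s, Es.map (φ x) ⁻¹ᵁ Nx x.1
  have hMc : IsCompact (M : Set ↥(Es.obj k)) := by
    simp only [M, TopologicalSpace.Opens.iSup_mk, TopologicalSpace.Opens.carrier_eq_coe,
      TopologicalSpace.Opens.coe_mk]
    exact isCompact_iUnion fun x => ((hNaff x.1).preimage _).isCompact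
  have hae : RepWith @Etale (cs.a k) := MorphismProperty.of_isPullback (cs.sq k).flip hξe
  obtain ⟨α, hα⟩ : ∃ α : ↥(Es.obj k) → Points (D.obj k.left), α = Points.ofPt (cs.a k) :=
    ⟨_, rfl⟩
  have hαo : IsOpenMap α := by rw [hα]; exact Groth.Agent.H53.isOpenMap_ofPt_of_etale _ hae
  -- compatibility of `α`, `β`
  have hαβ : ∀ v : ↥cs'.pt, α (cs'.π.app k v) = Points.map (c.π.app k.left) (β v) := by
    intro v
    rw [hα, hβ, Points.map_ofPt, ← cs.hb k]
    exact (Groth.Agent.H52.ofPt_yon_map_comp (cs.cE.π.app k) (cs.a k) v).symm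
  have hcone : ∀ (x : s) (v : ↥cs'.pt), Es.map (φ x) (cs'.π.app k v) = cs'.π.app (kx x.1) v := by
    intro x v
    rw [← Scheme.Hom.comp_apply, cs'.w]
  refine ⟨k.left, α '' (M : Set ↥(Es.obj k)), hαo _ M.isOpen, ?_, ?_⟩
  · -- quasi-compactness
    let O : Set (Points (D.obj k.left)) := α '' (M : Set ↥(Es.obj k))
    have hO : IsOpen O := hαo _ M.isOpen
    have hUalg : IsAlgSpace (openSub (D.obj k.left) O) := isAlgSpace_openSub (hD k.left) O hO
    haveI : CompactSpace ↥(overOpen (cs.E.obj k) M).left := isCompact_iff_compactSpace.mp hMc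
    have hfac : ∀ t : ↥(overOpen (cs.E.obj k) M).left,
        Points.ofPt ((yon S).map (overOpenι (cs.E.obj k) M) ≫ cs.a k) t ∈ O := by
      intro t
      rw [Groth.Agent.H52.ofPt_yon_map_comp]
      exact ⟨_, t.2, by rw [hα]; rfl⟩
    obtain ⟨g, hg⟩ := (exists_factor_openSubι_iff
      ((yon S).map (overOpenι (cs.E.obj k) M) ≫ cs.a k)).2 hfac
    refine Groth.Agent.H52.isQuasiCompactSp_of_surjective hUalg g ?_
      (Groth.Agent.H52.isQuasiCompactSp_yon _)
    intro u
    have hu : Points.map (openSubι (D.obj k.left) O) u ∈ O := by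
      have h : Points.map (openSubι (D.obj k.left) O) u ∈
          Set.range (Points.map (openSubι (D.obj k.left) O)) := ⟨u, rfl⟩
      rw [range_points_map_openSubι (D.obj k.left) O] at h
      exact h
    obtain ⟨m, hm, hmu⟩ := hu
    refine ⟨Points.ofScheme (overOpen (cs.E.obj k) M) ⟨m, hm⟩, ?_⟩
    apply injective_points_of_isOpenImmersion _
      (repWith_isOpenImmersion_openSubι (D.obj k.left) O hO)
    rw [← Points.map_comp, hg, ← hmu, ← Points.ofPt_eq_map_ofScheme,
      Groth.Agent.H52.ofPt_yon_map_comp, hα]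
    rfl
  · -- the preimage is `W`
    ext x'
    constructor
    · rintro ⟨m₀, hm₀, hmx⟩
      obtain ⟨x, hx⟩ : ∃ x : s, m₀ ∈ Es.map (φ x) ⁻¹ᵁ Nx x.1 := by
        simpa only [M, TopologicalSpace.Opens.mem_iSup, SetLike.mem_coe] using hm₀
      obtain ⟨m, hm⟩ : ∃ m : ↥(cs.E.obj k).left, m = m₀ := ⟨m₀, rfl⟩
      rw [← hm] at hx hmx
      -- lift to the limit chart
      have hpt : Points.map (c.π.app k.left) x' =
          Points.map (cs.a k) (Points.ofScheme (cs.E.obj k) m) := by
        rw [← hmx, hα]; exact Points.ofPt_eq_map_ofScheme _ _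
      obtain ⟨p, hp1, hp2⟩ := Groth.Agent.H52.exists_point_of_isPullback (cs.sqj k).flip x'
        (Points.ofScheme (cs.E.obj k) m) hpt
      obtain ⟨v, rfl⟩ := (Points.schemeEquiv cs.cE.pt).surjective p
      have hv1 : β v = x' := by
        rw [hβ, Points.ofPt_eq_map_ofScheme]; exact hp1
      have hv2 : cs'.π.app k v = m := by
        have h : Points.ofScheme (cs.E.obj k) ((cs.cE.π.app k).left v) =
            Points.ofScheme (cs.E.obj k) m :=
          (Groth.Agent.H52.points_map_ofScheme (cs.cE.π.app k) v).symm.trans hp2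
        exact (Points.schemeEquiv (cs.E.obj k)).injective h
      have hvN : v ∈ cs'.π.app (kx x.1) ⁻¹ᵁ Nx x.1 := by
        change cs'.π.app (kx x.1) v ∈ Nx x.1
        rw [← hcone x v, hv2]
        exact hx
      have := hNle x.1 hvN
      rw [← hv1]
      exact this
    · intro hx'
      have h1 := hs hx'
      simp only [Set.mem_iUnion, exists_prop] at h1
      obtain ⟨x, hxs, v, hvN, hvx⟩ := h1
      refine ⟨cs'.π.app k v, ?_, ?_⟩
      · have : cs'.π.app k v ∈ Es.map (φ ⟨x, hxs⟩) ⁻¹ᵁ Nx x := by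
          change Es.map (φ ⟨x, hxs⟩) (cs'.π.app k v) ∈ Nx x
          rw [hcone ⟨x, hxs⟩ v]
          exact hvN
        simp only [M, TopologicalSpace.Opens.iSup_mk, TopologicalSpace.Opens.carrier_eq_coe,
          TopologicalSpace.Opens.coe_mk, Set.mem_iUnion]
        exact ⟨⟨x, hxs⟩, this⟩
      · rw [hαβ, hvx]

end Groth.Agent.H52.LimOpen
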