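/-
Helper library (helper52): immersions of algebraic spaces factor as a closed immersion into a
(quasi-compact) open subspace; quasi-compact open neighbourhoods of compact sets of points.
-/
import Groth.Agent.H52.LimOpen
import Groth.Agent.H53.Proper
import Groth.Agent.H53.ZarGlueAff
import Groth.Agent.H52.LocNoeth

set_option autoImplicit false
universe u
open CategoryTheory CategoryTheory.Limits AlgebraicGeometry Opposite Topology
open AlgSp

namespace Groth.Agent.H52.ImmOpen

open Groth.Agent.Lib.Helper54

variable {S : Scheme.{u}}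

/-- The open subspace defined by the image of a quasi-compact open of an etale chart is
quasi-compact. -/
theorem isQuasiCompactSp_openSub_image {X : Sp S} (hX : IsAlgSpace X) {V : Over S}
    (a : (yon S).obj V ⟶ X) (hae : RepWith @Etale a) (M : V.left.Opens)
    (hMc : IsCompact (M : Set ↥V.left)) :
    IsQuasiCompactSp (openSub X (Points.ofPt a '' (M : Set ↥V.left))) := by
  have hαo : IsOpenMap (Points.ofPt a) := Groth.Agent.H53.isOpenMap_ofPt_of_etale _ hae
  have hO : IsOpen (Points.ofPt a '' (M : Set ↥V.left)) := hαo _ M.isOpen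
  have hUalg := isAlgSpace_openSub hX _ hO
  haveI : CompactSpace ↥(overOpen V M).left := isCompact_iff_compactSpace.mp hMc
  have hfac : ∀ t : ↥(overOpen V M).left,
      Points.ofPt ((yon S).map (overOpenι V M) ≫ a) t ∈ Points.ofPt a '' (M : Set ↥V.left) := by
    intro t
    rw [Groth.Agent.H52.ofPt_yon_map_comp]
    exact ⟨_, t.2, rfl⟩
  obtain ⟨g, hg⟩ := (exists_factor_openSubι_iff ((yon S).map (overOpenι V M) ≫ a)).2 hfac
  refine Groth.Agent.H52.isQuasiCompactSp_of_surjective hUalg g ?_
    (Groth.Agent.H52.isQuasiCompactSp_yon _)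
  intro u
  have hu : Points.map (openSubι X (Points.ofPt a '' (M : Set ↥V.left))) u ∈
      Points.ofPt a '' (M : Set ↥V.left) := by
    have h : Points.map (openSubι X (Points.ofPt a '' (M : Set ↥V.left))) u ∈
        Set.range (Points.map (openSubι X (Points.ofPt a '' (M : Set ↥V.left)))) := ⟨u, rfl⟩
    rw [range_points_map_openSubι] at h
    exact h
  obtain ⟨m, hm, hmu⟩ := hu
  refine ⟨Points.ofScheme (overOpen V M) ⟨m, hm⟩, ?_⟩
  apply injective_points_of_isOpenImmersion _ (repWith_isOpenImmersion_openSubι X _ hO)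
  rw [← Points.map_comp, hg, ← hmu, ← Points.ofPt_eq_map_ofScheme,
    Groth.Agent.H52.ofPt_yon_map_comp]
  rfl

/-- Between a compact set of points and an open set containing it there is an open set whose open
subspace is quasi-compact. -/
theorem exists_qc_open_between {X : Sp S} (hX : IsAlgSpace X) (K G : Set (Points X))
    (hK : IsCompact K) (hG : IsOpen G) (hKG : K ⊆ G) :
    ∃ O : Set (Points X), IsOpen O ∧ K ⊆ O ∧ O ⊆ G ∧ IsQuasiCompactSp (openSub X O) := by
  classical
  obtain ⟨V, a, hae, has⟩ := hX.atlas
  have hαo : IsOpenMap (Points.ofPt a) := Groth.Agent.H53.isOpenMap_ofPt_of_etale _ hae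
  have hαs : Function.Surjective (Points.ofPt a) :=
    Groth.Agent.H53.surjective_ofPt_of_surjective _ has
  let G' : V.left.Opens := ⟨Points.ofPt a ⁻¹' G, hG.preimage (Points.continuous_ofPt a)⟩
  have key : ∀ x : K, ∃ N : V.left.Opens, IsAffineOpen N ∧ N ≤ G' ∧
      x.1 ∈ Points.ofPt a '' (N : Set ↥V.left) := by
    intro x
    obtain ⟨v, hv⟩ := hαs x.1
    have hvG : v ∈ G' := by
      change Points.ofPt a v ∈ G
      rw [hv]; exact hKG x.2
    obtain ⟨N, hN, h1, h2⟩ := exists_isAffineOpen_mem_and_subset (x := v) (U := G') hvG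
    exact ⟨N, hN, h2, v, h1, hv⟩
  choose N hNaff hNle hNmem using key
  obtain ⟨s, hs⟩ := hK.elim_finite_subcover (fun x : K => Points.ofPt a '' (N x : Set ↥V.left))
    (fun x => hαo _ (N x).isOpen) (fun y hy => Set.mem_iUnion.2 ⟨⟨y, hy⟩, hNmem ⟨y, hy⟩⟩)
  let M : V.left.Opens := ⨆ x : s, N x.1
  have hMc : IsCompact (M : Set ↥V.left) := by
    simp only [M, TopologicalSpace.Opens.iSup_mk, TopologicalSpace.Opens.carrier_eq_coe,
      TopologicalSpace.Opens.coe_mk]
    exact isCompact_iUnion fun x => (hNaff x.1).isCompact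
  refine ⟨Points.ofPt a '' (M : Set ↥V.left), hαo _ M.isOpen, ?_, ?_,
    isQuasiCompactSp_openSub_image hX a hae M hMc⟩
  · intro y hy
    have h1 := hs hy
    simp only [Set.mem_iUnion, exists_prop] at h1
    obtain ⟨x, hxs, v, hvN, hvy⟩ := h1
    refine ⟨v, ?_, hvy⟩
    simp only [M, TopologicalSpace.Opens.iSup_mk, TopologicalSpace.Opens.carrier_eq_coe,
      TopologicalSpace.Opens.coe_mk, Set.mem_iUnion]
    exact ⟨⟨x, hxs⟩, hvN⟩
  · rintro _ ⟨v, hv, rfl⟩
    have : ∃ x : s, v ∈ N x.1 := by
      simpa only [M, TopologicalSpace.Opens.mem_iSup, SetLike.mem_coe] using hv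
    obtain ⟨x, hx⟩ := this
    exact hNle x.1 hx

/-- The image on points of an immersion of sheaves into an algebraic space is locally closed:
its coborder is open. -/
theorem isOpen_coborder_range {X Y : Sp S} (hX : IsAlgSpace X) (y : Y ⟶ X)
    (hy : RepWith @IsImmersion y) : IsOpen (coborder (Set.range (Points.map y))) := by
  obtain ⟨V, a, hae, has⟩ := hX.atlas
  have hq := Groth.Agent.H53.isQuotientMap_ofPt_of_etale_surjective a hae has
  have hαo : IsOpenMap (Points.ofPt a) := Groth.Agent.H53.isOpenMap_ofPt_of_etale _ hae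
  rw [← hq.isOpen_preimage, ← coborder_preimage hαo (Points.continuous_ofPt a)]
  have hrep := hy.rep
  have h1 := Groth.Agent.H52.ofPt_preimage_image (hrep.isPullback a) Set.univ
  rw [Set.image_univ, Set.preimage_univ, Set.image_univ] at h1
  rw [h1]
  haveI : IsImmersion (hrep.snd a).left := hy.property_snd a
  exact (hrep.snd a).left.isLocallyClosed_range.isOpen_coborder

/-- If `y = y' ≫ j` with `j` a monomorphism, then `y'` is a base change of `y`. -/
theorem repWith_of_comp_mono (P : MorphismProperty Scheme.{u}) [P.IsStableUnderBaseChange]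
    {X Y U : Sp S} (y : Y ⟶ X) (j : U ⟶ X) [Mono j] (y' : Y ⟶ U) (h : y' ≫ j = y)
    (hy : RepWith P y) : RepWith P y' := by
  have sq : IsPullback (𝟙 Y) y' y j :=
    IsPullback.of_horiz_isIso_mono ⟨by rw [Category.id_comp, h]⟩
  exact MorphismProperty.of_isPullback sq hy

/-- An immersion factors as a closed immersion into any open subspace between its image and the
coborder of its image. -/
theorem repWith_isClosedImmersion_of_factor {X Y U : Sp S} (y : Y ⟶ X)
    (hy : RepWith @IsImmersion y) (j : U ⟶ X) (hj : RepWith @IsOpenImmersion j)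
    (hjc : Set.range (Points.map j) ⊆ coborder (Set.range (Points.map y)))
    (y' : Y ⟶ U) (h : y' ≫ j = y) : RepWith @IsClosedImmersion y' := by
  haveI := mono_of_isOpenImmersion j hj
  have hy' : RepWith @IsImmersion y' := repWith_of_comp_mono @IsImmersion y j y' h hy
  -- the range of `y'` is closed
  have hcl : IsClosed (Set.range (Points.map y')) := by
    have : Set.range (Points.map y') = Points.map j ⁻¹' closure (Set.range (Points.map y)) := by
      ext u
      constructor
      · rintro ⟨t, rfl⟩
        apply subset_closure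
        exact ⟨t, by rw [← h, Points.map_comp]⟩
      · intro hu
        have h1 : Points.map j u ∈ closure (Set.range (Points.map y)) ∩
            coborder (Set.range (Points.map y)) := ⟨hu, hjc ⟨u, rfl⟩⟩
        rw [closure_inter_coborder] at h1
        obtain ⟨t, ht⟩ := h1
        refine ⟨t, injective_points_of_isOpenImmersion j hj ?_⟩
        rw [← Points.map_comp, h, ht]
    rw [this]
    exact isClosed_closure.preimage (Points.continuous_map j)
  refine ⟨hy'.rep, fun T V g fst snd sq => ?_⟩
  haveI : IsImmersion snd.left := hy'.property g fst snd sq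
  have h1 := Groth.Agent.H52.ofPt_preimage_image sq Set.univ
  rw [Set.image_univ, Set.preimage_univ, Set.image_univ] at h1
  have h2 : IsClosed (Set.range snd.left) := by
    rw [← h1]
    exact hcl.preimage (Points.continuous_ofPt g)
  exact IsClosedImmersion.of_isPreimmersion snd.left h2

/-- The source of an affine morphism to a quasi-compact algebraic space is quasi-compact. -/
theorem isQuasiCompactSp_of_isAffineMor {X Y : Sp S} (hY : IsAlgSpace Y) (f : X ⟶ Y)
    (hf : IsAffineMor f) (hYqc : IsQuasiCompactSp Y) : IsQuasiCompactSp X := by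
  have h1 : RepWith @QuasiCompact f :=
    Groth.Agent.H53.repWith_of_le (fun A B φ hφ => by
      have : IsAffineHom φ := hφ
      infer_instance) (Groth.Agent.H53.ZarGlue.repWith_isAffineHom_of_isAffineMor hf)
  exact Groth.Agent.H52.isQuasiCompactSp_of_isQuasiCompactMor hY f
    (Groth.Agent.H52.isQuasiCompactMor_of_repWith_quasiCompact f h1) hYqc

end Groth.Agent.H52.ImmOpen
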