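import Groth.Agent.H52.QSChart2
import Groth.Agent.H52.AffineLocal

set_option autoImplicit false
universe u
open CategoryTheory CategoryTheory.Limits AlgebraicGeometry Opposite Topology
open AlgSp

namespace Groth.Agent.H52

variable {S : Scheme.{u}}

theorem isSeparated_hom_of_isAffine (T : Over S) [IsAffine T.left] : IsSeparated T.hom := by
  have h1 : T.left.IsSeparated := inferInstance
  have h2 : IsSeparated (T.hom ≫ terminal.from S) := by
    rw [show T.hom ≫ terminal.from S = terminal.from T.left from terminal.hom_ext _ _]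
    exact h1.1
  exact IsSeparated.of_comp T.hom (terminal.from S)

/-- The equalizer of two maps `a b : h_T ⟶ X` (the base change of the diagonal of `X`) is a closed
subscheme of `T ×_X T` when `T ⟶ S` is separated. -/
theorem isClosedImmersion_equalizer_to_pullback {X : Sp S} {T V P : Over S} [IsSeparated T.hom]
    (y : (yon S).obj T ⟶ X ⨯ X) (fst : (yon S).obj V ⟶ X) (snd : V ⟶ T)
    (sq : IsPullback fst ((yon S).map snd) (Limits.diag X) y) (q1 q2 : P ⟶ T)
    (sqP : IsPullback ((yon S).map q1) ((yon S).map q2) (y ≫ prod.fst) (y ≫ prod.snd)) :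
    ∃ k : V ⟶ P, IsClosedImmersion k.left := by
  have e1 : fst = (yon S).map snd ≫ y ≫ prod.fst := by
    have := congrArg (· ≫ prod.fst) sq.w
    simp only [Category.assoc, Limits.diag, prod.lift_fst, Category.comp_id] at this
    exact this
  have e2 : fst = (yon S).map snd ≫ y ≫ prod.snd := by
    have := congrArg (· ≫ prod.snd) sq.w
    simp only [Category.assoc, Limits.diag, prod.lift_snd, Category.comp_id] at this
    exact this
  obtain ⟨k, hk⟩ := (yon S).map_surjective
    (sqP.lift ((yon S).map snd) ((yon S).map snd) (by rw [← e1, ← e2]))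
  have hk1 : (yon S).map k ≫ (yon S).map q1 = (yon S).map snd := by rw [hk, sqP.lift_fst]
  have hk2 : (yon S).map k ≫ (yon S).map q2 = (yon S).map snd := by rw [hk, sqP.lift_snd]
  have hA := isPullback_diag_prod_map' sqP
  have hy : y = Limits.diag ((yon S).obj T) ≫ prod.map (y ≫ prod.fst) (y ≫ prod.snd) := by
    apply Limits.prod.hom_ext
    · simp only [Limits.diag, Category.assoc, prod.map_fst, prod.lift_fst_assoc, Category.id_comp]
    · simp only [Limits.diag, Category.assoc, prod.map_snd, prod.lift_snd_assoc, Category.id_comp]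
  have hcomm : (yon S).map k ≫ prod.lift ((yon S).map q1) ((yon S).map q2) =
      (yon S).map snd ≫ Limits.diag ((yon S).obj T) := by
    apply Limits.prod.hom_ext
    · simp only [Limits.diag, Category.assoc, prod.lift_fst, Category.comp_id, hk1]
    · simp only [Limits.diag, Category.assoc, prod.lift_snd, Category.comp_id, hk2]
  have hleft : IsPullback ((yon S).map k) ((yon S).map snd)
      (prod.lift ((yon S).map q1) ((yon S).map q2)) (Limits.diag ((yon S).obj T)) := by
    refine IsPullback.of_right ?_ hcomm hA
    have h1 : (yon S).map k ≫ (yon S).map q1 ≫ y ≫ prod.fst = fst := by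
      rw [← Category.assoc, hk1]; exact e1.symm
    rw [h1, ← hy]
    exact sq
  have hΔ : RepWith @IsClosedImmersion (Limits.diag ((yon S).obj T)) :=
    (repWith_diag_yon_iff _ T).2 inferInstance
  have hkc : RepWith @IsClosedImmersion ((yon S).map k) :=
    MorphismProperty.of_isPullback hleft.flip hΔ
  exact ⟨k, (repWith_yon_map_iff _ _).1 hkc⟩

/-- If fibre products of affine schemes over `X` are quasi-compact, then `X` is quasi-separated. -/
theorem isQuasiSeparatedSp_of_affine_pullback_compact {X : Sp S} (hX : IsAlgSpace X)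
    (h : ∀ (U V P : Over S) (a : (yon S).obj U ⟶ X) (b : (yon S).obj V ⟶ X)
      (fst : P ⟶ U) (snd : P ⟶ V), IsAffine U.left → IsAffine V.left →
      IsPullback ((yon S).map fst) ((yon S).map snd) a b → CompactSpace ↥P.left) :
    IsQuasiSeparatedSp X := by
  refine repWith_of_affine @QuasiCompact _ hX.diag ?_
  intro T V hT y fst snd sq
  have := isSeparated_hom_of_isAffine T
  have hrep := hX.representable_from_yon (y ≫ prod.fst)
  have sqP := hrep.isPullback (y ≫ prod.snd)
  obtain ⟨q1, hq1⟩ := (yon S).map_surjective (hrep.fst (y ≫ prod.snd))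
  rw [← hq1] at sqP
  have hPc : CompactSpace ↥(hrep.pullback (y ≫ prod.snd)).left := h _ _ _ _ _ _ _ hT hT sqP
  obtain ⟨k, hk⟩ := isClosedImmersion_equalizer_to_pullback y fst snd sq q1 _ sqP
  have : CompactSpace ↥V.left := QuasiCompact.compactSpace_of_compactSpace k.left
  exact (HasAffineProperty.iff_of_isAffine (P := @QuasiCompact)).2 this

end Groth.Agent.H52
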