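/-
Helper library (helper52): descent of properties of morphisms of algebraic spaces through
cofiltered limits of the base (reduction to the scheme-level statements).
-/
import Groth.Agent.H52.LimChart2
import Groth.Agent.H52.UCAssembly
import Groth.Agent.H52.QSChart2
import Groth.Agent.H52.LocPCalc6
import Groth.Agent.H53.SpBasic

set_option autoImplicit false
universe u
open CategoryTheory CategoryTheory.Limits AlgebraicGeometry Opposite
open AlgSp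

namespace Groth.Agent.H52.LimDescend

section Cat

variable {C : Type*} [Category C]

/-- Chart transfer: charts of `f₀ : X₀ ⟶ Y₀` induce charts of a base change `f' : X' ⟶ Y'`. -/
theorem chart_transfer {Y₀ Y' B₀ B' X₀ X' V E U W : C}
    {b₀ : Y₀ ⟶ B₀} {β : B' ⟶ B₀} {pY' : Y' ⟶ Y₀} {qY' : Y' ⟶ B'}
    (hY' : IsPullback pY' qY' b₀ β)
    {f₀ : X₀ ⟶ Y₀} {pX' : X' ⟶ X₀} {f' : X' ⟶ Y'} (hX' : IsPullback pX' f' f₀ pY')
    {v₀ : V ⟶ Y₀} {p' : E ⟶ V} {a' : E ⟶ B'} (sq' : IsPullback a' p' β (v₀ ≫ b₀))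
    {u₀ : U ⟶ X₀} {g₀ : U ⟶ V} (comm : u₀ ≫ f₀ = g₀ ≫ v₀)
    {pW : W ⟶ U} {fW : W ⟶ E} (sqW : IsPullback pW fW g₀ p') :
    ∃ (βE : E ⟶ Y') (α : W ⟶ X'), βE ≫ qY' = a' ∧ IsPullback βE p' pY' v₀ ∧
      α ≫ f' = fW ≫ βE ∧ IsPullback α pW pX' u₀ := by
  have h1 : (p' ≫ v₀) ≫ b₀ = a' ≫ β := by rw [Category.assoc]; exact sq'.w.symm
  let βE : E ⟶ Y' := hY'.lift (p' ≫ v₀) a' h1
  have hβ1 : βE ≫ pY' = p' ≫ v₀ := hY'.lift_fst _ _ _
  have hβ2 : βE ≫ qY' = a' := hY'.lift_snd _ _ _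
  have sqβ : IsPullback βE p' pY' v₀ := by
    refine IsPullback.of_right ?_ hβ1 hY'.flip
    rw [hβ2]
    exact sq'
  have h2 : (pW ≫ u₀) ≫ f₀ = (fW ≫ βE) ≫ pY' := by
    rw [Category.assoc, comm, ← Category.assoc, sqW.w, Category.assoc, Category.assoc, hβ1]
  let α : W ⟶ X' := hX'.lift (pW ≫ u₀) (fW ≫ βE) h2
  have hα1 : α ≫ pX' = pW ≫ u₀ := hX'.lift_fst _ _ _
  have hα2 : α ≫ f' = fW ≫ βE := hX'.lift_snd _ _ _
  refine ⟨βE, α, hβ2, sqβ, hα2, ?_⟩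
  refine IsPullback.of_right ?_ hα1 hX'.flip
  rw [hα2, comm]
  exact sqW.flip.paste_horiz sqβ

end Cat

variable {S : Scheme.{u}}

/-- Affine étale charts of a morphism between quasi-compact algebraic spaces with quasi-separated
target. -/
theorem exists_affine_chart_of_mor [QuasiSeparatedSpace ↥S] {X₀ Y₀ : Sp S} (hX₀ : IsAlgSpace X₀)
    (hY₀ : IsAlgSpace Y₀) (f₀ : X₀ ⟶ Y₀) (hXqc : IsQuasiCompactSp X₀) (hYqc : IsQuasiCompactSp Y₀)
    (hYqs : IsQuasiSeparatedSp Y₀) :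
    ∃ (U₀ V₀ : Over S) (u₀ : (yon S).obj U₀ ⟶ X₀) (v₀ : (yon S).obj V₀ ⟶ Y₀) (g₀ : U₀ ⟶ V₀),
      IsAffine U₀.left ∧ IsAffine V₀.left ∧ RepWith @Etale u₀ ∧ RepWith @Surjective u₀ ∧
      RepWith @Etale v₀ ∧ RepWith @Surjective v₀ ∧ u₀ ≫ f₀ = (yon S).map g₀ ≫ v₀ := by
  obtain ⟨V₀, v₀, hV₀, hv₀e, hv₀s⟩ := Groth.Agent.H52.UC.exists_affine_etale_chart' hYqc
  obtain ⟨U₁, u₁, hU₁, hu₁e, hu₁s⟩ := Groth.Agent.H52.UC.exists_affine_etale_chart' hXqc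
  have hrep := hv₀e.rep
  let P : Over S := hrep.pullback (u₁ ≫ f₀)
  let pr₁ : P ⟶ U₁ := hrep.snd (u₁ ≫ f₀)
  let pr₂ : P ⟶ V₀ := hrep.fst' (u₁ ≫ f₀)
  have sqP : IsPullback ((yon S).map pr₂) ((yon S).map pr₁) v₀ (u₁ ≫ f₀) := hrep.isPullback' _
  have hpr₁e : Etale pr₁.left := hv₀e.property_snd _
  have hpr₁s : Surjective pr₁.left := hv₀s.property_snd _
  haveI : IsAffine U₁.left := hU₁
  haveI : IsAffine V₀.left := hV₀
  haveI : CompactSpace ↥P.left :=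
    compactSpace_pullback_of_isQuasiSeparatedSp hYqs (u₁ ≫ f₀) v₀ pr₁ pr₂ sqP.flip
  obtain ⟨U', π, hU', hπe, hπs⟩ := Groth.Agent.H53.exists_affine_etale_surjective P.left
  let U₀ : Over S := Over.mk (π ≫ P.hom)
  let πO : U₀ ⟶ P := Over.homMk π rfl
  have hE : (RepWith (S := S) @Etale).IsMultiplicative := repWith_isMultiplicative _
  have hSj : (RepWith (S := S) @Surjective).IsMultiplicative := repWith_isMultiplicative _
  have h1e : Etale (πO ≫ pr₁).left := by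
    rw [Over.comp_left]
    have : Etale πO.left := hπe
    infer_instance
  have h1s : Surjective (πO ≫ pr₁).left := by
    rw [Over.comp_left]
    have : Surjective πO.left := hπs
    infer_instance
  refine ⟨U₀, V₀, (yon S).map (πO ≫ pr₁) ≫ u₁, v₀, πO ≫ pr₂, hU', hV₀, ?_, ?_, hv₀e, hv₀s, ?_⟩
  · exact (RepWith @Etale).comp_mem _ _ ((repWith_yon_map_iff _ _).2 h1e) hu₁e
  · exact (RepWith @Surjective).comp_mem _ _ ((repWith_yon_map_iff _ _).2 h1s) hu₁s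
  · rw [Functor.map_comp, Functor.map_comp, Category.assoc, Category.assoc, Category.assoc,
      sqP.w]

/-- Scheme-level descent statement for a property `P` (affine charts, trivial `g₀`). -/
def SchDescendsAff (P : MorphismProperty Scheme.{u}) : Prop :=
  ∀ {I : Type u} [SmallCategory I] [IsCofiltered I] (D : I ⥤ Scheme.{u}) (c : Cone D)
    (_ : IsLimit c) [∀ (i j : I) (f : i ⟶ j), IsAffineHom (D.map f)] (i₀ : I)
    {X₀ Y₀ : Scheme.{u}} (f₀ : X₀ ⟶ Y₀) (g₀ : Y₀ ⟶ D.obj i₀) [IsAffine X₀] [IsAffine Y₀] [IsIso g₀]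
    [LocallyOfFinitePresentation f₀]
    {X Y : Scheme.{u}} (f : X ⟶ Y) (g : Y ⟶ c.pt) (qY : Y ⟶ Y₀) (qX : X ⟶ X₀)
    (_ : IsPullback qY g g₀ (c.π.app i₀)) (_ : IsPullback qX f f₀ qY), P f →
    ∃ (i : I) (φ : i ⟶ i₀) (Xi Yi : Scheme.{u}) (fi : Xi ⟶ Yi) (gi : Yi ⟶ D.obj i) (pY : Yi ⟶ Y₀)
      (pX : Xi ⟶ X₀), IsPullback pY gi g₀ (D.map φ) ∧ IsPullback pX fi f₀ pY ∧ P fi

variable {I : Type u} [SmallCategory I] [IsCofiltered I]
  {D : I ⥤ Sp S} {c : Cone D} {i₀ : I} {V₀ : Over S} {ξ : (yon S).obj V₀ ⟶ D.obj i₀}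

open Groth.Agent.H52.LimChart

/-- The structure map of the terminal stage of a chart system is an isomorphism. -/
theorem isIso_p_terminal (cs : ChartSystem D c i₀ ξ) : IsIso (cs.p (Over.mk (𝟙 i₀))) := by
  have sq := cs.sq (Over.mk (𝟙 i₀))
  have h1 : IsIso (D.map (Over.mk (𝟙 i₀)).hom) := by
    change IsIso (D.map (𝟙 i₀))
    rw [D.map_id]; infer_instance
  have h2 : IsIso ((yon S).map (cs.p (Over.mk (𝟙 i₀)))) := sq.isIso_snd_of_isIso
  exact isIso_of_fully_faithful (yon S) _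

/-- Scheme-level step of the descent engine. -/
theorem sch_step {P : MorphismProperty Scheme.{u}} [P.RespectsIso] (hPs : SchDescendsAff P)
    (cs : ChartSystem D c i₀ ξ) {U₀ : Over S} [IsAffine U₀.left] [IsAffine V₀.left] (g₀ : U₀ ⟶ V₀)
    [LocallyOfFinitePresentation g₀.left] {W' : Over S} (pW' : W' ⟶ U₀) (fW' : W' ⟶ cs.cE.pt)
    (sqW' : IsPullback pW' fW' g₀ cs.q) (hfW' : P fW'.left) :
    ∃ (j : Over i₀) (W : Over S) (pW : W ⟶ U₀) (fW : W ⟶ cs.E.obj j),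
      IsPullback pW fW g₀ (cs.p j) ∧ P fW.left := by
  let j₀ : Over i₀ := Over.mk (𝟙 i₀)
  haveI : ∀ (j k : Over i₀) (φ : j ⟶ k), IsAffineHom ((cs.E ⋙ Over.forget S).map φ) :=
    fun _ _ φ => cs.affE φ
  haveI hiso : IsIso (cs.p j₀) := isIso_p_terminal cs
  haveI hisoL : IsIso (cs.p j₀).left := inferInstanceAs (IsIso ((Over.forget S).map (cs.p j₀)))
  let eI : V₀.left ≅ (cs.E ⋙ Over.forget S).obj j₀ := (asIso (cs.p j₀).left).symm
  have heI : ∀ {Z : Scheme.{u}} (k : Z ⟶ (cs.E ⋙ Over.forget S).obj j₀),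
      (k ≫ (cs.p j₀).left) ≫ eI.hom = k := by
    intro Z k
    rw [Category.assoc]
    exact (congrArg (k ≫ ·) eI.inv_hom_id).trans (Category.comp_id k)
  have hq : cs.q.left = (cs.cE.π.app j₀).left ≫ (cs.p j₀).left := by
    rw [← Over.comp_left, cs.hq]
  have hY : IsPullback cs.q.left (𝟙 cs.cE.pt.left) eI.hom
      (((Over.forget S).mapCone cs.cE).π.app j₀) := by
    refine IsPullback.of_vert_isIso ⟨?_⟩
    rw [hq]
    exact (heI _).trans (Category.id_comp _).symm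
  have hX : IsPullback pW'.left fW'.left g₀.left cs.q.left := sqW'.map (Over.forget S)
  obtain ⟨j, φ, Xj, Yj, fj, gj, pY, pX, h1, h2, h3⟩ :=
    hPs (cs.E ⋙ Over.forget S) ((Over.forget S).mapCone cs.cE) cs.hcE' j₀ g₀.left
      eI.hom fW'.left (𝟙 _) cs.q.left pW'.left hY hX hfW'
  haveI : IsIso gj := h1.isIso_snd_of_isIso
  have hpY : pY = gj ≫ (cs.p j).left := by
    have h5 : pY ≫ eI.hom = gj ≫ (cs.E.map φ).left := h1.w
    have h6 : (cs.E.map φ).left ≫ (cs.p j₀).left = (cs.p j).left := by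
      rw [← Over.comp_left, cs.hp]
    have h7 : (pY ≫ eI.hom) ≫ eI.inv = pY := by
      rw [Category.assoc, eI.hom_inv_id, Category.comp_id]
    calc pY = (pY ≫ eI.hom) ≫ eI.inv := h7.symm
      _ = (gj ≫ (cs.E.map φ).left) ≫ eI.inv := congrArg (· ≫ eI.inv) h5
      _ = gj ≫ ((cs.E.map φ).left ≫ (cs.p j₀).left) := Category.assoc _ _ _
      _ = gj ≫ (cs.p j).left := congrArg (gj ≫ ·) h6
  have h4 : IsPullback pX (fj ≫ gj) g₀.left (cs.p j).left :=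
    IsPullback.of_iso h2 (Iso.refl _) (Iso.refl _) (asIso gj) (Iso.refl _)
      (by simp) (by simp) (by simp) (by simp [hpY])
  let W : Over S := Over.mk ((fj ≫ gj) ≫ (cs.E.obj j).hom)
  let fW : W ⟶ cs.E.obj j := Over.homMk (fj ≫ gj) rfl
  let pW : W ⟶ U₀ := Over.homMk pX (by
    change pX ≫ U₀.hom = (fj ≫ gj) ≫ (cs.E.obj j).hom
    rw [← Over.w g₀, ← Category.assoc, h4.w, Category.assoc]
    exact congrArg ((fj ≫ gj) ≫ ·) (Over.w (cs.p j)))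
  refine ⟨j, W, pW, fW, ?_, ?_⟩
  · exact IsPullback.of_map (Over.forget S) (by ext; exact h4.w) h4
  · change P (fj ≫ gj)
    exact (P.cancel_right_of_respectsIso fj gj).2 h3

/-- The descent engine for properties étale local on the source and target. -/
theorem descend_locP [QuasiSeparatedSpace ↥S] {P : MorphismProperty Scheme.{u}} (hP : IsEtLocal P)
    (hPs : SchDescendsAff P) (D : I ⥤ Sp S)
    (hDa : ∀ (i j : I) (φ : i ⟶ j), IsAffineMor (D.map φ)) (c : Cone D) (hc : IsLimit c) (i₀ : I)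
    {X₀ Y₀ : Sp S} (hX₀ : IsAlgSpace X₀) (hY₀ : IsAlgSpace Y₀) (f₀ : X₀ ⟶ Y₀) (b₀ : Y₀ ⟶ D.obj i₀)
    (hXqc : IsQuasiCompactSp X₀) (hYqc : IsQuasiCompactSp Y₀) (hYqs : IsQuasiSeparatedSp Y₀)
    {X Y : Sp S} (f : X ⟶ Y) (pY : Y ⟶ Y₀) (qY : Y ⟶ c.pt)
    (hY : IsPullback pY qY b₀ (c.π.app i₀)) (pX : X ⟶ X₀) (hX : IsPullback pX f f₀ pY)
    (hf : LocP P f) (hf₀ : LocP @LocallyOfFinitePresentation f₀) :
    ∃ (i : I) (φ : i ⟶ i₀), ∀ (Xi Yi : Sp S) (fi : Xi ⟶ Yi) (pYi : Yi ⟶ Y₀) (qYi : Yi ⟶ D.obj i)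
      (_ : IsPullback pYi qYi b₀ (D.map φ)) (pXi : Xi ⟶ X₀) (_ : IsPullback pXi fi f₀ pYi),
      LocP P fi := by
  have := hP.respectsIso
  obtain ⟨U₀, V₀, u₀, v₀, g₀, hU₀, hV₀, hu₀e, hu₀s, hv₀e, hv₀s, comm⟩ :=
    exists_affine_chart_of_mor hX₀ hY₀ f₀ hXqc hYqc hYqs
  haveI : IsAffine U₀.left := hU₀
  haveI : IsAffine V₀.left := hV₀
  haveI : LocallyOfFinitePresentation g₀.left := hf₀ u₀ v₀ g₀ hu₀e hv₀e comm
  obtain ⟨cs⟩ := nonempty_chartSystem D c hc i₀ (v₀ ≫ b₀) (fun j => hDa _ _ j.hom)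
  -- the limit stage
  have sqW' : IsPullback (pullback.fst g₀ cs.q) (pullback.snd g₀ cs.q) g₀ cs.q :=
    IsPullback.of_hasPullback _ _
  obtain ⟨βE, α, -, sqβ, hα, sqα⟩ := chart_transfer hY hX cs.sqlim comm (sqW'.map (yon S))
  have hβe : RepWith @Etale βE := MorphismProperty.of_isPullback sqβ.flip hv₀e
  have hαe : RepWith @Etale α := MorphismProperty.of_isPullback sqα.flip hu₀e
  have hfW' : P (pullback.snd g₀ cs.q).left := hf α βE _ hαe hβe hα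
  obtain ⟨j, W, pW, fW, sqW, hfW⟩ := sch_step hPs cs g₀ _ _ sqW' hfW'
  refine ⟨j.left, j.hom, fun Xi Yi fi pYi qYi hYi pXi hXi => ?_⟩
  obtain ⟨βj, αj, -, sqβj, hαj, sqαj⟩ := chart_transfer hYi hXi (cs.sq j) comm (sqW.map (yon S))
  have hβje : RepWith @Etale βj := MorphismProperty.of_isPullback sqβj.flip hv₀e
  have hαje : RepWith @Etale αj := MorphismProperty.of_isPullback sqαj.flip hu₀e
  have hαjs : RepWith @Surjective αj := MorphismProperty.of_isPullback sqαj.flip hu₀s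
  exact hP.locP_of_chart fi αj βj fW hαje hαjs hβje hαj hfW

end Groth.Agent.H52.LimDescend
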