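/-
Helper library (helper52): descent instances along fppf covers for closed immersions and
quasi-compact morphisms (from the fpqc versions landed by helper1 / S0079).
-/
import Groth.Agent.Lib.Helper1.AffineAndDescent
import Groth.Agent.S0079

set_option autoImplicit false
universe u
open CategoryTheory CategoryTheory.Limits AlgebraicGeometry

namespace Groth.Agent.H52

theorem descendsAlong_quasiCompact_fppf :
    MorphismProperty.DescendsAlong @QuasiCompact
      (@Surjective ⊓ @Flat ⊓ @LocallyOfFinitePresentation : MorphismProperty Scheme.{u}) := by
  have := Groth.Agent.S0079.result.{u}
  infer_instance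

theorem descendsAlong_isClosedImmersion_fppf :
    MorphismProperty.DescendsAlong @IsClosedImmersion
      (@Surjective ⊓ @Flat ⊓ @LocallyOfFinitePresentation : MorphismProperty Scheme.{u}) := by
  have := Groth.Agent.Lib.Helper1.descendsAlong_isClosedImmersion_fpqc.{u}
  infer_instance

end Groth.Agent.H52
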