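/-
Helper library (helper52): descent through cofiltered limits of the base for *representable*
morphisms of algebraic spaces (charts on the target only), and stage bookkeeping.
-/
import Groth.Agent.H52.LimDescend
import Groth.Agent.H52.Descent
import Groth.Agent.H52.DescInst
import Groth.Agent.H52.QC
import Groth.Agent.H53.Proper
import Groth.Agent.Lib.Helper13.LimDescent7

set_option autoImplicit false
universe u
open CategoryTheory CategoryTheory.Limits AlgebraicGeometry Opposite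
open AlgSp

namespace Groth.Agent.H52.LimRep

section Cat

variable {C : Type*} [Category C] [HasPullbacks C]

/-- Monotonicity in the stage: if every base change at stage `Bi` has `P`, so does every base
change at a later stage `Bk ⟶ Bi`. -/
theorem stage_mono (P : MorphismProperty C)
    (hP : ∀ {A B A' B' : C} {f : A ⟶ B} {g : B' ⟶ B} {fst : A' ⟶ A} {snd : A' ⟶ B'},
      IsPullback fst snd f g → P f → P snd)
    {X₀ Y₀ B₀ Bi Bk : C} (f₀ : X₀ ⟶ Y₀) (b₀ : Y₀ ⟶ B₀) (βi : Bi ⟶ B₀) (ψ : Bk ⟶ Bi)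
    (h : ∀ (Xi Yi : C) (fi : Xi ⟶ Yi) (pYi : Yi ⟶ Y₀) (qYi : Yi ⟶ Bi)
      (_ : IsPullback pYi qYi b₀ βi) (pXi : Xi ⟶ X₀) (_ : IsPullback pXi fi f₀ pYi), P fi)
    (Xk Yk : C) (fk : Xk ⟶ Yk) (pYk : Yk ⟶ Y₀) (qYk : Yk ⟶ Bk)
    (hYk : IsPullback pYk qYk b₀ (ψ ≫ βi)) (pXk : Xk ⟶ X₀) (hXk : IsPullback pXk fk f₀ pYk) :
    P fk := by
  have sqY := IsPullback.of_hasPullback b₀ βi
  have sqX := IsPullback.of_hasPullback f₀ (pullback.fst b₀ βi)
  have hfi : P (pullback.snd f₀ (pullback.fst b₀ βi)) := h _ _ _ _ _ sqY _ sqX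
  have w1 : pYk ≫ b₀ = (qYk ≫ ψ) ≫ βi := by rw [Category.assoc]; exact hYk.w
  let m : Yk ⟶ pullback b₀ βi := pullback.lift pYk (qYk ≫ ψ) w1
  have hm1 : m ≫ pullback.fst b₀ βi = pYk := pullback.lift_fst _ _ _
  have w2 : pXk ≫ f₀ = (fk ≫ m) ≫ pullback.fst b₀ βi := by
    rw [Category.assoc, hm1]; exact hXk.w
  let n : Xk ⟶ pullback f₀ (pullback.fst b₀ βi) := pullback.lift pXk (fk ≫ m) w2
  have hn1 : n ≫ pullback.fst f₀ (pullback.fst b₀ βi) = pXk := pullback.lift_fst _ _ _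
  have hn2 : n ≫ pullback.snd f₀ (pullback.fst b₀ βi) = fk ≫ m := pullback.lift_snd _ _ _
  have sq : IsPullback n fk (pullback.snd f₀ (pullback.fst b₀ βi)) m := by
    refine IsPullback.of_right ?_ hn2 sqX
    rw [hn1, hm1]
    exact hXk
  exact hP sq hfi

/-- The data of a base change of `f₀` induces the data of a base change of its diagonal. -/
theorem diag_stage {X₀ Y₀ B₀ B' Y' X' : C} {f₀ : X₀ ⟶ Y₀} {b₀ : Y₀ ⟶ B₀} {β : B' ⟶ B₀}
    {pY' : Y' ⟶ Y₀} {qY' : Y' ⟶ B'} (hY' : IsPullback pY' qY' b₀ β) {pX' : X' ⟶ X₀}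
    {f' : X' ⟶ Y'} (hX' : IsPullback pX' f' f₀ pY') :
    IsPullback (pullback.map f' f' f₀ f₀ pX' pX' pY' hX'.w.symm hX'.w.symm)
      ((pullback.fst f' f' ≫ f') ≫ qY') ((pullback.fst f₀ f₀ ≫ f₀) ≫ b₀) β ∧
    IsPullback pX' (pullback.diagonal f') (pullback.diagonal f₀)
      (pullback.map f' f' f₀ f₀ pX' pX' pY' hX'.w.symm hX'.w.symm) :=
  ⟨(isPullback_map_of_isPullback hX').paste_vert hY', isPullback_diagonal_of_isPullback hX'⟩

end Cat

variable {S : Scheme.{u}}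

/-- Scheme-level descent statement in absolute form (`f₀ : X₀ ⟶ E_{j₀}` with quasi-compact
quasi-separated source over a system of affine schemes). -/
def SchDescendsAbs (F P : MorphismProperty Scheme.{u}) : Prop :=
  ∀ {J : Type u} [SmallCategory J] [IsCofiltered J] (E : J ⥤ Scheme.{u}) (cE : Cone E) (j₀ : J)
    (_ : IsLimit cE) [∀ {i j : J} (f : i ⟶ j), IsAffineHom (E.map f)] [∀ j, IsAffine (E.obj j)]
    {X₀ : Scheme.{u}} [CompactSpace X₀] [QuasiSeparatedSpace X₀] (f₀ : X₀ ⟶ E.obj j₀),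
    F f₀ → P (pullback.fst (cE.π.app j₀) f₀) → ∃ k : Over j₀, P (pullback.fst (E.map k.hom) f₀)

open Groth.Agent.Lib.Helper13.LimDescent in
theorem schDescendsAbs_isClosedImmersion :
    SchDescendsAbs.{u} @LocallyOfFiniteType @IsClosedImmersion := by
  intro J _ _ E cE j₀ hcE _ _ X₀ _ _ f₀ hF hP
  haveI : LocallyOfFiniteType f₀ := hF
  exact exists_isClosedImmersion_pullback_fst E cE j₀ hcE f₀ hP

open Groth.Agent.Lib.Helper13.LimDescent in
theorem schDescendsAbs_isomorphisms :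
    SchDescendsAbs.{u} @LocallyOfFinitePresentation (MorphismProperty.isomorphisms Scheme.{u}) := by
  intro J _ _ E cE j₀ hcE _ _ X₀ _ _ f₀ hF hP
  haveI : LocallyOfFinitePresentation f₀ := hF
  exact exists_isIso_pullback_fst E cE j₀ hcE f₀ hP

variable {I : Type u} [SmallCategory I] [IsCofiltered I]
  {D : I ⥤ Sp S} {c : Cone D} {i₀ : I} {V₀ : Over S} {ξ : (yon S).obj V₀ ⟶ D.obj i₀}

open Groth.Agent.H52.LimChart Groth.Agent.H52.LimDescend

/-- Scheme-level step of the descent engine for representable morphisms. -/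
theorem sch_step_abs {F P : MorphismProperty Scheme.{u}} [F.RespectsIso] [P.RespectsIso]
    (hPs : SchDescendsAbs F P) (cs : ChartSystem D c i₀ ξ) {W₀ : Over S}
    [CompactSpace ↥W₀.left] [QuasiSeparatedSpace ↥W₀.left] [IsAffine V₀.left] (g₀ : W₀ ⟶ V₀)
    (hF : F g₀.left) {W' : Over S} (pW' : W' ⟶ W₀) (fW' : W' ⟶ cs.cE.pt)
    (sqW' : IsPullback pW' fW' g₀ cs.q) (hfW' : P fW'.left) :
    ∃ (j : Over i₀) (W : Over S) (pW : W ⟶ W₀) (fW : W ⟶ cs.E.obj j),
      IsPullback pW fW g₀ (cs.p j) ∧ P fW.left := by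
  let j₀ : Over i₀ := Over.mk (𝟙 i₀)
  haveI : ∀ {j k : Over i₀} (φ : j ⟶ k), IsAffineHom ((cs.E ⋙ Over.forget S).map φ) :=
    fun φ => cs.affE φ
  haveI : ∀ j, IsAffine ((cs.E ⋙ Over.forget S).obj j) := fun j => by
    have := cs.affp j
    have h : IsAffine (cs.E.obj j).left := isAffine_of_isAffineHom (cs.p j).left
    exact h
  haveI hiso : IsIso (cs.p j₀) := isIso_p_terminal cs
  haveI hisoL : IsIso (cs.p j₀).left := inferInstanceAs (IsIso ((Over.forget S).map (cs.p j₀)))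
  let e : V₀.left ≅ (cs.E ⋙ Over.forget S).obj j₀ := (asIso (cs.p j₀).left).symm
  let f₀' : W₀.left ⟶ (cs.E ⋙ Over.forget S).obj j₀ := g₀.left ≫ e.hom
  have hF' : F f₀' := (F.cancel_right_of_respectsIso g₀.left e.hom).2 hF
  have hq : cs.q.left = (cs.cE.π.app j₀).left ≫ (cs.p j₀).left := by
    rw [← Over.comp_left, cs.hq]
  have hqe : cs.q.left ≫ e.hom = (cs.cE.π.app j₀).left := by
    rw [hq, Category.assoc]
    exact (congrArg ((cs.cE.π.app j₀).left ≫ ·) e.inv_hom_id).trans (Category.comp_id _)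
  have sqL : IsPullback fW'.left pW'.left (((Over.forget S).mapCone cs.cE).π.app j₀) f₀' :=
    IsPullback.of_iso (sqW'.map (Over.forget S)).flip (Iso.refl _) (Iso.refl _) (Iso.refl _) e
      (by simp) (by simp) (by simpa using hqe) (by simp [f₀'])
  have hP' : P (pullback.fst (((Over.forget S).mapCone cs.cE).π.app j₀) f₀') := by
    refine (P.cancel_left_of_respectsIso sqL.isoPullback.hom _).1 ?_
    exact (congrArg (fun f => P f) sqL.isoPullback_hom_fst).mpr hfW'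
  obtain ⟨k, hk⟩ := hPs (cs.E ⋙ Over.forget S) ((Over.forget S).mapCone cs.cE) j₀ cs.hcE' f₀'
    hF' hP'
  let j : Over i₀ := k.left
  let φ : j ⟶ j₀ := k.hom
  have hφ : (cs.E.map φ).left ≫ e.inv = (cs.p j).left := by
    change (cs.E.map φ).left ≫ (cs.p j₀).left = (cs.p j).left
    rw [← Over.comp_left, cs.hp]
  have h4 : IsPullback (pullback.snd ((cs.E ⋙ Over.forget S).map φ) f₀')
      (pullback.fst ((cs.E ⋙ Over.forget S).map φ) f₀') g₀.left (cs.p j).left :=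
    IsPullback.of_iso (IsPullback.of_hasPullback ((cs.E ⋙ Over.forget S).map φ) f₀').flip
      (Iso.refl _) (Iso.refl _) (Iso.refl _) e.symm (by simp) (by simp)
      (by simp [f₀']) (by simpa using hφ)
  let W : Over S := Over.mk (pullback.fst ((cs.E ⋙ Over.forget S).map φ) f₀' ≫ (cs.E.obj j).hom)
  let fW : W ⟶ cs.E.obj j := Over.homMk (pullback.fst ((cs.E ⋙ Over.forget S).map φ) f₀') rfl
  let pW : W ⟶ W₀ := Over.homMk (pullback.snd ((cs.E ⋙ Over.forget S).map φ) f₀') (by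
    change pullback.snd ((cs.E ⋙ Over.forget S).map φ) f₀' ≫ W₀.hom =
      pullback.fst ((cs.E ⋙ Over.forget S).map φ) f₀' ≫ (cs.E.obj j).hom
    rw [← Over.w g₀, ← Category.assoc, h4.w, Category.assoc]
    exact congrArg (pullback.fst ((cs.E ⋙ Over.forget S).map φ) f₀' ≫ ·) (Over.w (cs.p j)))
  refine ⟨j, W, pW, fW, ?_, hk⟩
  exact IsPullback.of_map (Over.forget S) (by ext; exact h4.w) h4

/-- The descent engine for representable morphisms: a property `Q` of a representable morphism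
`g₀ : X₀ ⟶ Z₀`, which holds after base change to the limit, holds after base change to some
stage. -/
theorem rep_descend [QuasiSeparatedSpace ↥S] {F Q : MorphismProperty Scheme.{u}}
    [F.RespectsIso] [Q.RespectsIso] [Q.IsStableUnderBaseChange]
    [Q.DescendsAlong (@Surjective ⊓ @Flat ⊓ @LocallyOfFinitePresentation)]
    (hQs : SchDescendsAbs F Q) (D : I ⥤ Sp S)
    (hDa : ∀ (i j : I) (φ : i ⟶ j), IsAffineMor (D.map φ)) (c : Cone D) (hc : IsLimit c) (i₀ : I)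
    {X₀ Z₀ : Sp S} (hX₀ : IsAlgSpace X₀) (hZ₀ : IsAlgSpace Z₀) (g₀ : X₀ ⟶ Z₀) (b₀ : Z₀ ⟶ D.obj i₀)
    (hg₀F : RepWith F g₀) (hg₀s : RepWith @QuasiSeparated g₀)
    (hXqc : IsQuasiCompactSp X₀) (hZqc : IsQuasiCompactSp Z₀) (hZqs : IsQuasiSeparatedSp Z₀)
    {X Z : Sp S} (g : X ⟶ Z) (pZ : Z ⟶ Z₀) (qZ : Z ⟶ c.pt)
    (hZ : IsPullback pZ qZ b₀ (c.π.app i₀)) (pX : X ⟶ X₀) (hX : IsPullback pX g g₀ pZ)
    (hg : RepWith Q g) :
    ∃ (i : I) (φ : i ⟶ i₀), ∀ (Xi Zi : Sp S) (gi : Xi ⟶ Zi) (pZi : Zi ⟶ Z₀) (qZi : Zi ⟶ D.obj i)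
      (_ : IsPullback pZi qZi b₀ (D.map φ)) (pXi : Xi ⟶ X₀) (_ : IsPullback pXi gi g₀ pZi),
      RepWith Q gi := by
  obtain ⟨V₀, v₀, hV₀, hv₀e, hv₀s⟩ := Groth.Agent.H52.UC.exists_affine_etale_chart' hZqc
  haveI : IsAffine V₀.left := hV₀
  have hrep := hg₀F.rep
  let W₀ : Over S := hrep.pullback v₀
  let g₀' : W₀ ⟶ V₀ := hrep.snd v₀
  let u₀ : (yon S).obj W₀ ⟶ X₀ := hrep.fst v₀
  have sq₀ : IsPullback u₀ ((yon S).map g₀') g₀ v₀ := hrep.isPullback v₀
  have hFg : F g₀'.left := hg₀F.property_snd v₀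
  have hqsg : QuasiSeparated g₀'.left := hg₀s.property v₀ u₀ g₀' sq₀
  have hqcg : IsQuasiCompactMor g₀ :=
    isQuasiCompactMor_of_isQuasiSeparatedSp hX₀ hZ₀ g₀ hXqc hZqs
  haveI : CompactSpace ↥W₀.left := by
    apply compactSpace_of_isQuasiCompactSp_yon
    exact hqcg (IsAlgSpace.yon_obj V₀) (isQuasiCompactSp_yon V₀) v₀ u₀ ((yon S).map g₀') sq₀
  haveI : QuasiSeparatedSpace ↥W₀.left := quasiSeparatedSpace_of_quasiSeparated g₀'.left
  obtain ⟨cs⟩ := nonempty_chartSystem D c hc i₀ (v₀ ≫ b₀) (fun j => hDa _ _ j.hom)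
  have comm : u₀ ≫ g₀ = (yon S).map g₀' ≫ v₀ := sq₀.w
  -- the limit stage
  have sqW' : IsPullback (pullback.fst g₀' cs.q) (pullback.snd g₀' cs.q) g₀' cs.q :=
    IsPullback.of_hasPullback _ _
  obtain ⟨βE, α, -, sqβ, hα, sqα⟩ := chart_transfer hZ hX cs.sqlim comm (sqW'.map (yon S))
  have sqg : IsPullback α ((yon S).map (pullback.snd g₀' cs.q)) g βE := by
    refine (IsPullback.of_right ?_ hα.symm sqβ.flip).flip
    have h1 := (sqα.paste_vert sq₀).flip
    have h2 : (yon S).map (pullback.snd g₀' cs.q) ≫ (yon S).map cs.q =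
        (yon S).map (pullback.fst g₀' cs.q) ≫ (yon S).map g₀' := by
      rw [← Functor.map_comp, ← Functor.map_comp, sqW'.w]
    rw [h2, ← hX.w]
    exact h1
  have hfW' : Q (pullback.snd g₀' cs.q).left := hg.property βE α _ sqg
  obtain ⟨j, W, pW, fW, sqW, hfW⟩ := sch_step_abs hQs cs g₀' hFg _ _ sqW' hfW'
  refine ⟨j.left, j.hom, fun Xi Zi gi pZi qZi hZi pXi hXi => ?_⟩
  obtain ⟨βj, αj, -, sqβj, hαj, sqαj⟩ := chart_transfer hZi hXi (cs.sq j) comm (sqW.map (yon S))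
  have hβje : RepWith @Etale βj := MorphismProperty.of_isPullback sqβj.flip hv₀e
  have hβjs : RepWith @Surjective βj := MorphismProperty.of_isPullback sqβj.flip hv₀s
  have sqgj : IsPullback αj ((yon S).map fW) gi βj := by
    refine (IsPullback.of_right ?_ hαj.symm sqβj.flip).flip
    have h1 := (sqαj.paste_vert sq₀).flip
    have h2 : (yon S).map fW ≫ (yon S).map (cs.p j) = (yon S).map pW ≫ (yon S).map g₀' := by
      rw [← Functor.map_comp, ← Functor.map_comp, sqW.w]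
    rw [h2, ← hXi.w]
    exact h1
  have hgirep : Representable gi := MorphismProperty.of_isPullback hXi hrep
  exact repWith_of_etale_surjective_base_change Q sqgj hgirep hβje hβjs
    ((repWith_yon_map_iff Q _).2 hfW)

end Groth.Agent.H52.LimRep
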