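/-
Helper library (helper52): bookkeeping for "holds at some stage" statements about base changes
of a morphism of algebraic spaces along a cofiltered system; combining two such statements.
-/
import Groth.Agent.H52.LimRep
import Groth.Agent.H52.FibreProd
import Groth.Agent.H52.LocPCalc4
import Groth.Agent.H52.Points

set_option autoImplicit false
universe u
open CategoryTheory CategoryTheory.Limits AlgebraicGeometry Opposite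
open AlgSp

namespace Groth.Agent.H52.LimStage

section Cat

variable {C : Type*} [Category C]

/-- A base change at a later stage is a base change of any base change at an earlier stage. -/
theorem stage_square {X₀ Y₀ B₀ Bi Bk : C} {f₀ : X₀ ⟶ Y₀} {b₀ : Y₀ ⟶ B₀} {βi : Bi ⟶ B₀}
    (ψ : Bk ⟶ Bi) {Xi Yi : C} {fi : Xi ⟶ Yi} {pYi : Yi ⟶ Y₀} {qYi : Yi ⟶ Bi}
    (hYi : IsPullback pYi qYi b₀ βi) {pXi : Xi ⟶ X₀} (hXi : IsPullback pXi fi f₀ pYi)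
    {Xk Yk : C} {fk : Xk ⟶ Yk} {pYk : Yk ⟶ Y₀} {qYk : Yk ⟶ Bk}
    (hYk : IsPullback pYk qYk b₀ (ψ ≫ βi)) {pXk : Xk ⟶ X₀} (hXk : IsPullback pXk fk f₀ pYk) :
    ∃ (n : Xk ⟶ Xi) (m : Yk ⟶ Yi), IsPullback n fk fi m ∧ m ≫ pYi = pYk ∧
      m ≫ qYi = qYk ≫ ψ ∧ n ≫ pXi = pXk := by
  have w1 : pYk ≫ b₀ = (qYk ≫ ψ) ≫ βi := by rw [Category.assoc]; exact hYk.w
  let m : Yk ⟶ Yi := hYi.lift pYk (qYk ≫ ψ) w1
  have hm1 : m ≫ pYi = pYk := hYi.lift_fst _ _ _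
  have hm2 : m ≫ qYi = qYk ≫ ψ := hYi.lift_snd _ _ _
  have w2 : pXk ≫ f₀ = (fk ≫ m) ≫ pYi := by rw [Category.assoc, hm1]; exact hXk.w
  let n : Xk ⟶ Xi := hXi.lift pXk (fk ≫ m) w2
  have hn1 : n ≫ pXi = pXk := hXi.lift_fst _ _ _
  have hn2 : n ≫ fi = fk ≫ m := hXi.lift_snd _ _ _
  refine ⟨n, m, ?_, hm1, hm2, hn1⟩
  refine IsPullback.of_right ?_ hn2 hXi
  rw [hn1, hm1]
  exact hXk

end Cat

variable {S : Scheme.{u}} {I : Type u} [SmallCategory I]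

/-- Every base change of `f₀` to the stage `φ : i ⟶ i₀` has `P`. -/
def AtStage (D : I ⥤ Sp S) {i₀ : I} {X₀ Y₀ : Sp S} (f₀ : X₀ ⟶ Y₀) (b₀ : Y₀ ⟶ D.obj i₀)
    (P : MorphismProperty (Sp S)) {i : I} (φ : i ⟶ i₀) : Prop :=
  ∀ (Xi Yi : Sp S) (fi : Xi ⟶ Yi) (pYi : Yi ⟶ Y₀) (qYi : Yi ⟶ D.obj i)
    (_ : IsPullback pYi qYi b₀ (D.map φ)) (pXi : Xi ⟶ X₀) (_ : IsPullback pXi fi f₀ pYi), P fi

/-- Stability under base change between algebraic spaces. -/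
def BCStable (P : MorphismProperty (Sp S)) : Prop :=
  ∀ {X Y Y' X' : Sp S}, IsAlgSpace X → IsAlgSpace Y → IsAlgSpace Y' →
    ∀ {f : X ⟶ Y} {g : Y' ⟶ Y} {fst : X' ⟶ X} {f' : X' ⟶ Y'}, IsPullback fst f' f g → P f → P f'

theorem bcStable_locP {P : MorphismProperty Scheme.{u}} (hP : IsEtLocal P) :
    BCStable (S := S) (LocP P) :=
  fun hX hY hY' _ _ _ _ sq hf => hP.locP_of_isPullback hX hY hY' sq hf

theorem bcStable_isSurjectiveMor : BCStable (S := S) IsSurjectiveMor := by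
  intro X Y Y' X' _ _ _ f g fst f' sq hf z
  obtain ⟨x, hx⟩ := hf (Points.map g z)
  obtain ⟨p, -, hp⟩ := exists_point_of_isPullback sq x z hx
  exact ⟨p, hp⟩

theorem bcStable_mono : BCStable (S := S) (MorphismProperty.monomorphisms (Sp S)) := by
  intro X Y Y' X' _ _ _ f g fst f' sq hf
  have : Mono f := hf
  exact sq.mono_snd_of_mono

theorem bcStable_inf {P₁ P₂ : MorphismProperty (Sp S)} (h₁ : BCStable P₁) (h₂ : BCStable P₂) :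
    BCStable (P₁ ⊓ P₂) :=
  fun hX hY hY' _ _ _ _ sq hf => ⟨h₁ hX hY hY' sq hf.1, h₂ hX hY hY' sq hf.2⟩

variable (D : I ⥤ Sp S) {i₀ : I} {X₀ Y₀ : Sp S} (f₀ : X₀ ⟶ Y₀) (b₀ : Y₀ ⟶ D.obj i₀)

/-- Monotonicity of `AtStage` in the stage. -/
theorem AtStage.of_hom (hD : ∀ i, IsAlgSpace (D.obj i)) (hX₀ : IsAlgSpace X₀)
    (hY₀ : IsAlgSpace Y₀) {P : MorphismProperty (Sp S)} (hP : BCStable P) {i k : I} {φ : i ⟶ i₀}
    (ψ : k ⟶ i) (h : AtStage D f₀ b₀ P φ) : AtStage D f₀ b₀ P (ψ ≫ φ) := by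
  intro Xk Yk fk pYk qYk hYk pXk hXk
  rw [D.map_comp] at hYk
  have sqY := IsPullback.of_hasPullback b₀ (D.map φ)
  have sqX := IsPullback.of_hasPullback f₀ (pullback.fst b₀ (D.map φ))
  have hfi := h _ _ _ _ _ sqY _ sqX
  obtain ⟨n, m, sq, -, -, -⟩ := stage_square (D.map ψ) sqY sqX hYk hXk
  have hYi : IsAlgSpace (pullback b₀ (D.map φ)) :=
    isAlgSpace_of_isPullback sqY hY₀ (hD i₀) (hD i)
  have hXi : IsAlgSpace (pullback f₀ (pullback.fst b₀ (D.map φ))) :=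
    isAlgSpace_of_isPullback sqX hX₀ hY₀ hYi
  have hYk' : IsAlgSpace Yk := isAlgSpace_of_isPullback hYk hY₀ (hD i₀) (hD k)
  exact hP hXi hYi hYk' sq hfi

/-- Two "at some stage" statements can be combined. -/
theorem exists_atStage_inf [IsCofiltered I] (hD : ∀ i, IsAlgSpace (D.obj i))
    (hX₀ : IsAlgSpace X₀) (hY₀ : IsAlgSpace Y₀) {P₁ P₂ : MorphismProperty (Sp S)}
    (h₁ : BCStable P₁) (h₂ : BCStable P₂)
    (e₁ : ∃ (i : I) (φ : i ⟶ i₀), AtStage D f₀ b₀ P₁ φ)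
    (e₂ : ∃ (i : I) (φ : i ⟶ i₀), AtStage D f₀ b₀ P₂ φ) :
    ∃ (i : I) (φ : i ⟶ i₀), AtStage D f₀ b₀ (P₁ ⊓ P₂) φ := by
  obtain ⟨i₁, φ₁, g₁⟩ := e₁
  obtain ⟨i₂, φ₂, g₂⟩ := e₂
  obtain ⟨k, ψ₁, ψ₂, hψ⟩ := IsCofiltered.cospan φ₁ φ₂
  refine ⟨k, ψ₁ ≫ φ₁, fun Xk Yk fk pYk qYk hYk pXk hXk => ⟨?_, ?_⟩⟩
  · exact AtStage.of_hom D f₀ b₀ hD hX₀ hY₀ h₁ ψ₁ g₁ Xk Yk fk pYk qYk hYk pXk hXk
  · have hYk' : IsPullback pYk qYk b₀ (D.map (ψ₂ ≫ φ₂)) := by rw [← hψ]; exact hYk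
    exact AtStage.of_hom D f₀ b₀ hD hX₀ hY₀ h₂ ψ₂ g₂ Xk Yk fk pYk qYk hYk' pXk hXk

end Groth.Agent.H52.LimStage
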