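import Groth.Agent.H52.ThickAff
import Groth.Agent.H52.QC
import Mathlib.CategoryTheory.Sites.RegularEpi

set_option autoImplicit false
universe u
open CategoryTheory CategoryTheory.Limits AlgebraicGeometry Opposite

namespace Groth.Agent.H52

open AlgSp

variable {S : Scheme.{u}}

instance : IsRegularEpiCategory (Sp S) := by
  unfold Sp
  infer_instance

/-- Descent of a morphism along an epimorphism of sheaves: `g` descends along `c` as soon as it
coequalizes every pair of morphisms that `c` coequalizes. -/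
theorem exists_desc_of_epi {A T X : Sp S} (c : A ⟶ T) [Epi c] (g : A ⟶ X)
    (hg : ∀ (P : Sp S) (p₁ p₂ : P ⟶ A), p₁ ≫ c = p₂ ≫ c → p₁ ≫ g = p₂ ≫ g) :
    ∃ l : T ⟶ X, c ≫ l = g := by
  have := IsRegularEpiCategory.regularEpiOfEpi c
  exact ⟨IsRegularEpi.desc c g (hg _ _ _ (IsRegularEpi.w c)), IsRegularEpi.fac c g _⟩

/-! ### Open subschemes over `S` -/

/-- The inclusion of open subschemes over `S`. -/
noncomputable abbrev overOpenHom (R : Over S) {O O' : R.left.Opens} (h : O ≤ O') :
    overOpen R O ⟶ overOpen R O' :=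
  Over.homMk (R.left.homOfLE h) (by
    change R.left.homOfLE h ≫ O'.ι ≫ R.hom = O.ι ≫ R.hom
    rw [← Category.assoc, Scheme.homOfLE_ι])

theorem overOpenHom_ι (R : Over S) {O O' : R.left.Opens} (h : O ≤ O') :
    overOpenHom R h ≫ overOpenι R O' = overOpenι R O := by
  ext
  exact Scheme.homOfLE_ι _ h

/-- A morphism landing in an open subscheme factors through it. -/
theorem exists_factor_overOpen {R R' : Over S} (k : R' ⟶ R) (O : R.left.Opens)
    (hk : ∀ x : ↥R'.left, k.left x ∈ O) : ∃ ρ : R' ⟶ overOpen R O, ρ ≫ overOpenι R O = k := by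
  have hrange : Set.range k.left ⊆ Set.range O.ι := by
    rintro _ ⟨x, rfl⟩
    rw [Scheme.Opens.range_ι]
    exact hk x
  refine ⟨Over.homMk (IsOpenImmersion.lift O.ι k.left hrange) ?_, ?_⟩
  · change IsOpenImmersion.lift O.ι k.left hrange ≫ O.ι ≫ R.hom = R'.hom
    rw [← Category.assoc, IsOpenImmersion.lift_fac]
    exact Over.w k
  · ext
    exact IsOpenImmersion.lift_fac _ _ _

instance mono_overOpenι (R : Over S) (O : R.left.Opens) : Mono (overOpenι R O) := by
  have : Mono (overOpenι R O).left := by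
    change Mono O.ι
    infer_instance
  exact mono_over_of_mono_left _

/-- The affine opens of a scheme over `S` form an fppf family. -/
theorem isFppfFamily_affineOpens (R : Over S) :
    IsFppfFamily (fun O : R.left.affineOpens => overOpenι R O.1) where
  flat O := by
    change Flat O.1.ι
    infer_instance
  lfp O := by
    change LocallyOfFinitePresentation O.1.ι
    infer_instance
  surj x := by
    obtain ⟨_, ⟨O, hO, rfl⟩, hxO, -⟩ :=
      R.left.isBasis_affineOpens.exists_subset_of_mem_open (Set.mem_univ x) isOpen_univ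
    refine ⟨⟨O, hO⟩, ?_⟩
    change x ∈ Set.range (Scheme.Opens.ι O)
    rw [Scheme.Opens.range_ι]
    exact hxO

/-- The preimages of the affine opens of the target form an fppf family on the source. -/
theorem isFppfFamily_preimage_affineOpens {R R₀ : Over S} (snd : R₀ ⟶ R) :
    IsFppfFamily (fun O : R.left.affineOpens => overOpenι R₀ (snd.left ⁻¹ᵁ O.1)) where
  flat O := by
    change Flat (snd.left ⁻¹ᵁ O.1).ι
    infer_instance
  lfp O := by
    change LocallyOfFinitePresentation (snd.left ⁻¹ᵁ O.1).ι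
    infer_instance
  surj x := by
    obtain ⟨_, ⟨O, hO, rfl⟩, hxO, -⟩ :=
      R.left.isBasis_affineOpens.exists_subset_of_mem_open (Set.mem_univ (snd.left x)) isOpen_univ
    refine ⟨⟨O, hO⟩, ?_⟩
    change x ∈ Set.range (Scheme.Opens.ι (snd.left ⁻¹ᵁ (O : R.left.Opens)))
    rw [Scheme.Opens.range_ι]
    exact hxO

/-! ### Local solutions of a lifting problem -/

section LocLift

variable {X Y T T' : Sp S} (f : X ⟶ Y) (j : T ⟶ T') (a : T ⟶ X) (b : T' ⟶ Y)

/-- `m` solves the lifting problem `(j, a, b)` for `f` on the chart `r : h_R ⟶ T'`. -/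
def IsLocLift {R : Over S} (r : (yon S).obj R ⟶ T') (m : (yon S).obj R ⟶ X) : Prop :=
  m ≫ f = r ≫ b ∧
    ∀ (R₀ : Over S) (fst : (yon S).obj R₀ ⟶ T) (snd : R₀ ⟶ R),
      fst ≫ j = (yon S).map snd ≫ r → (yon S).map snd ≫ m = fst ≫ a

variable {f j a b}

theorem IsLocLift.of_isPullback {R R₀ : Over S} {r : (yon S).obj R ⟶ T'}
    {m : (yon S).obj R ⟶ X} {fst : (yon S).obj R₀ ⟶ T} {snd : R₀ ⟶ R}
    (sq : IsPullback fst ((yon S).map snd) j r) (h1 : (yon S).map snd ≫ m = fst ≫ a)
    (h2 : m ≫ f = r ≫ b) : IsLocLift f j a b r m := by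
  refine ⟨h2, fun R₀' fst' snd' hc => ?_⟩
  have e1 : sq.lift fst' ((yon S).map snd') hc ≫ fst = fst' := sq.lift_fst _ _ _
  have e2 : sq.lift fst' ((yon S).map snd') hc ≫ (yon S).map snd = (yon S).map snd' :=
    sq.lift_snd _ _ _
  rw [← e2, Category.assoc, h1, ← Category.assoc, e1]

theorem IsLocLift.precomp {R R' : Over S} {r : (yon S).obj R ⟶ T'} {m : (yon S).obj R ⟶ X}
    (h : IsLocLift f j a b r m) (k : R' ⟶ R) :
    IsLocLift f j a b ((yon S).map k ≫ r) ((yon S).map k ≫ m) := by
  refine ⟨by rw [Category.assoc, h.1, Category.assoc], fun R₀ fst snd hc => ?_⟩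
  have := h.2 R₀ fst (snd ≫ k) (by rw [hc, Functor.map_comp, Category.assoc])
  rw [← Category.assoc, ← Functor.map_comp]
  exact this

theorem IsLocLift.congr_chart {R : Over S} {r r' : (yon S).obj R ⟶ T'} {m : (yon S).obj R ⟶ X}
    (h : IsLocLift f j a b r m) (hr : r = r') : IsLocLift f j a b r' m := hr ▸ h

/-- Uniqueness of local solutions on etale scheme charts, for a formally unramified morphism and a
first order thickening. -/
theorem IsLocLift.unique (hf : IsFormallyUnramifiedMor f) (hj : IsFOThickMor j) {R : Over S}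
    {r : (yon S).obj R ⟶ T'} (hr : RepWith @Etale r) {m m' : (yon S).obj R ⟶ X}
    (hm : IsLocLift f j a b r m) (hm' : IsLocLift f j a b r m') : m = m' := by
  refine (isFppfFamily_affineOpens R).hom_ext m m' fun O => ?_
  have hrO : RepWith @Etale ((yon S).map (overOpenι R O.1) ≫ r) :=
    (RepWith (S := S) @Etale).comp_mem _ _ (repWith_etale_overOpenι R O.1) hr
  have hrep := hj.1.rep
  have sqO := hrep.isPullback ((yon S).map (overOpenι R O.1) ≫ r)
  have hthick : thick (hrep.snd ((yon S).map (overOpenι R O.1) ≫ r)).left :=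
    hj.1.property_snd _
  have hAff : IsAffine (overOpen R O.1).left := O.2
  have hsq : sqZero (hrep.snd ((yon S).map (overOpenι R O.1) ≫ r)).left :=
    hj.2 _ _ _ hAff hrO sqO
  have : IsClosedImmersion (hrep.snd ((yon S).map (overOpenι R O.1) ≫ r)).left := hthick.1
  have hmO := hm.precomp (overOpenι R O.1)
  have hmO' := hm'.precomp (overOpenι R O.1)
  refine uniq_lift_of_affine_thick f hf (hrep.snd ((yon S).map (overOpenι R O.1) ≫ r)) hsq _ _
    ?_ ?_
  · rw [hmO.2 _ _ _ sqO.w, hmO'.2 _ _ _ sqO.w]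
  · rw [hmO.1, hmO'.1]

/-- Existence of local solutions on affine etale charts, for a formally smooth morphism and a first
order thickening. -/
theorem exists_isLocLift_of_isAffine (hf : IsFormallySmoothMor f) (hj : IsFOThickMor j)
    (w : a ≫ f = j ≫ b) {R : Over S} [IsAffine R.left] (r : (yon S).obj R ⟶ T')
    (hr : RepWith @Etale r) : ∃ m : (yon S).obj R ⟶ X, IsLocLift f j a b r m := by
  have hrep := hj.1.rep
  have sq := hrep.isPullback r
  have hthick : thick (hrep.snd r).left := hj.1.property_snd _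
  have hsq : sqZero (hrep.snd r).left := hj.2 _ _ _ inferInstance hr sq
  have : IsClosedImmersion (hrep.snd r).left := hthick.1
  obtain ⟨m, hm1, hm2⟩ := exists_lift_of_affine_thick f hf (hrep.snd r) hsq (hrep.fst r ≫ a)
    (r ≫ b) (by rw [Category.assoc, w, ← Category.assoc, sq.w, Category.assoc])
  exact ⟨m, IsLocLift.of_isPullback sq hm1 hm2⟩

/-- Existence of local solutions on arbitrary etale scheme charts, for a formally etale morphism and
a first order thickening. -/
theorem exists_isLocLift (hf : IsFormallyEtaleMor f) (hj : IsFOThickMor j)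
    (w : a ≫ f = j ≫ b) {R : Over S} (r : (yon S).obj R ⟶ T') (hr : RepWith @Etale r) :
    ∃ m : (yon S).obj R ⟶ X, IsLocLift f j a b r m := by
  have hfu := isFormallyUnramifiedMor_of_isFormallyEtaleMor hf
  have hfs := isFormallySmoothMor_of_isFormallyEtaleMor hf
  have hrO : ∀ O : R.left.Opens, RepWith @Etale ((yon S).map (overOpenι R O) ≫ r) := fun O =>
    (RepWith (S := S) @Etale).comp_mem _ _ (repWith_etale_overOpenι R O) hr
  have hex : ∀ O : R.left.affineOpens, ∃ g : (yon S).obj (overOpen R O.1) ⟶ X,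
      IsLocLift f j a b ((yon S).map (overOpenι R O.1) ≫ r) g := fun O => by
    have hAff : IsAffine (overOpen R O.1).left := O.2
    exact exists_isLocLift_of_isAffine hfs hj w _ (hrO O.1)
  choose g hg using hex
  have hfam := isFppfFamily_affineOpens R
  obtain ⟨m, hm⟩ := hfam.exists_glue g (by
    intro O O' R' r1 r2 h12
    -- factor through the intersection
    have hk : ∀ x : ↥R'.left, (r1 ≫ overOpenι R O.1).left x ∈ O.1 ⊓ O'.1 := by
      intro x
      refine ⟨?_, ?_⟩
      · exact ((r1.left x : ↥O.1)).2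
      · rw [h12]
        exact ((r2.left x : ↥O'.1)).2
    obtain ⟨ρ, hρ⟩ := exists_factor_overOpen (r1 ≫ overOpenι R O.1) (O.1 ⊓ O'.1) hk
    have hρ1 : ρ ≫ overOpenHom R (inf_le_left : O.1 ⊓ O'.1 ≤ O.1) = r1 := by
      rw [← cancel_mono (overOpenι R O.1), Category.assoc, overOpenHom_ι, hρ]
    have hρ2 : ρ ≫ overOpenHom R (inf_le_right : O.1 ⊓ O'.1 ≤ O'.1) = r2 := by
      rw [← cancel_mono (overOpenι R O'.1), Category.assoc, overOpenHom_ι, hρ, h12]
    have h1 := ((hg O).precomp (overOpenHom R (inf_le_left : O.1 ⊓ O'.1 ≤ O.1))).congr_chart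
      (r' := (yon S).map (overOpenι R (O.1 ⊓ O'.1)) ≫ r) (by
        rw [← Category.assoc, ← Functor.map_comp, overOpenHom_ι])
    have h2 := ((hg O').precomp (overOpenHom R (inf_le_right : O.1 ⊓ O'.1 ≤ O'.1))).congr_chart
      (r' := (yon S).map (overOpenι R (O.1 ⊓ O'.1)) ≫ r) (by
        rw [← Category.assoc, ← Functor.map_comp, overOpenHom_ι])
    have h3 := IsLocLift.unique hfu hj (hrO _) h1 h2
    rw [← hρ1, ← hρ2, Functor.map_comp, Functor.map_comp, Category.assoc, Category.assoc, h3])
  refine ⟨m, ?_, ?_⟩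
  · refine hfam.hom_ext _ _ fun O => ?_
    rw [← Category.assoc, hm O, (hg O).1, Category.assoc]
  · intro R₀ fst snd hc
    refine (isFppfFamily_preimage_affineOpens snd).hom_ext _ _ fun O => ?_
    -- restriction of `snd` over `O`
    let sndO : overOpen R₀ (snd.left ⁻¹ᵁ O.1) ⟶ overOpen R O.1 :=
      Over.homMk (snd.left ∣_ O.1) (by
        change (snd.left ∣_ O.1) ≫ O.1.ι ≫ R.hom = (snd.left ⁻¹ᵁ O.1).ι ≫ R₀.hom
        rw [← Category.assoc, morphismRestrict_ι, Category.assoc, Over.w snd])
    have hsndO : sndO ≫ overOpenι R O.1 = overOpenι R₀ (snd.left ⁻¹ᵁ O.1) ≫ snd := by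
      ext
      exact morphismRestrict_ι _ _
    have h1 := (hg O).2 _ ((yon S).map (overOpenι R₀ (snd.left ⁻¹ᵁ O.1)) ≫ fst) sndO (by
      rw [Category.assoc, hc, ← Category.assoc, ← Functor.map_comp, ← hsndO, Functor.map_comp,
        Category.assoc])
    rw [← Category.assoc, ← Functor.map_comp, ← hsndO, Functor.map_comp, Category.assoc, hm O, h1,
      Category.assoc]

end LocLift

/-- Uniqueness of lifts against first order thickenings of algebraic spaces for a formally
unramified morphism. -/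
theorem lift_unique_of_isFOThickMor {X Y T T' : Sp S} (hT' : IsAlgSpace T') (f : X ⟶ Y)
    (hf : IsFormallyUnramifiedMor f) (j : T ⟶ T') (hj : IsFOThickMor j) (a : T ⟶ X) (b : T' ⟶ Y)
    (l l' : T' ⟶ X) (h1 : j ≫ l = a) (h2 : l ≫ f = b) (h3 : j ≫ l' = a) (h4 : l' ≫ f = b) :
    l = l' := by
  obtain ⟨V, c, hce, hcs⟩ := hT'.atlas
  have : Epi c := epi_of_repWith_etale_surjective c hce hcs
  rw [← cancel_epi c]
  have hl : IsLocLift f j a b c (c ≫ l) := ⟨by rw [Category.assoc, h2], fun R₀ fst snd hc => by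
    rw [← Category.assoc, ← hc, Category.assoc, h1]⟩
  have hl' : IsLocLift f j a b c (c ≫ l') := ⟨by rw [Category.assoc, h4], fun R₀ fst snd hc => by
    rw [← Category.assoc, ← hc, Category.assoc, h3]⟩
  exact IsLocLift.unique hf hj hce hl hl'

/-- Unique existence of lifts against first order thickenings of algebraic spaces for a formally
etale morphism. -/
theorem existsUnique_lift_of_isFOThickMor {X Y T T' : Sp S} (hT' : IsAlgSpace T') (f : X ⟶ Y)
    (hf : IsFormallyEtaleMor f) (j : T ⟶ T') (hj : IsFOThickMor j) (a : T ⟶ X) (b : T' ⟶ Y)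
    (w : a ≫ f = j ≫ b) : ∃! l : T' ⟶ X, j ≫ l = a ∧ l ≫ f = b := by
  have hfu := isFormallyUnramifiedMor_of_isFormallyEtaleMor hf
  obtain ⟨V, c, hce, hcs⟩ := hT'.atlas
  have hcepi : Epi c := epi_of_repWith_etale_surjective c hce hcs
  obtain ⟨m, hm⟩ := exists_isLocLift hf hj w c hce
  -- descend `m` along `c`
  obtain ⟨l, hl⟩ := exists_desc_of_epi c m (by
    intro P p₁ p₂ h12
    apply sp_hom_ext
    intro R x
    obtain ⟨r₁, hr₁⟩ := (yon S).map_surjective (x ≫ p₁)
    obtain ⟨r₂, hr₂⟩ := (yon S).map_surjective (x ≫ p₂)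
    rw [← Category.assoc, ← Category.assoc, ← hr₁, ← hr₂]
    have h12' : (yon S).map r₁ ≫ c = (yon S).map r₂ ≫ c := by
      rw [hr₁, hr₂, Category.assoc, Category.assoc, h12]
    have hrep := hce.rep
    have sqW := hrep.isPullback c
    obtain ⟨w₁, hw₁⟩ := (yon S).map_surjective (hrep.fst c)
    have hsnd : Etale (hrep.snd c).left := hce.property_snd c
    have hsnd' : RepWith @Etale ((yon S).map (hrep.snd c)) := by
      rw [repWith_yon_map_iff]
      exact hsnd
    have hchart : RepWith @Etale ((yon S).map (hrep.snd c) ≫ c) :=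
      (RepWith (S := S) @Etale).comp_mem _ _ hsnd' hce
    have hw : (yon S).map w₁ ≫ c = (yon S).map (hrep.snd c) ≫ c := by
      rw [hw₁]
      exact sqW.w
    have e := IsLocLift.unique hfu hj hchart ((hm.precomp w₁).congr_chart hw)
      (hm.precomp (hrep.snd c))
    obtain ⟨ρ, hρ⟩ := (yon S).map_surjective (sqW.lift ((yon S).map r₁) ((yon S).map r₂) h12')
    have hρ1 : ρ ≫ w₁ = r₁ := by
      apply (yon S).map_injective
      rw [Functor.map_comp, hρ, hw₁]
      exact sqW.lift_fst _ _ _
    have hρ2 : ρ ≫ hrep.snd c = r₂ := by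
      apply (yon S).map_injective
      rw [Functor.map_comp, hρ]
      exact sqW.lift_snd _ _ _
    rw [← hρ1, ← hρ2, Functor.map_comp, Functor.map_comp, Category.assoc, Category.assoc, e])
  have hl2 : l ≫ f = b := by
    rw [← cancel_epi c, ← Category.assoc, hl, hm.1]
  have hl1 : j ≫ l = a := by
    have hrep := hj.1.rep
    have sq := hrep.isPullback c
    have hfe : RepWith @Etale (hrep.fst c) := MorphismProperty.of_isPullback sq.flip hce
    have hfs : RepWith @Surjective (hrep.fst c) := MorphismProperty.of_isPullback sq.flip hcs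
    have : Epi (hrep.fst c) := epi_of_repWith_etale_surjective _ hfe hfs
    rw [← cancel_epi (hrep.fst c), ← Category.assoc, sq.w, Category.assoc, hl]
    exact hm.2 _ _ _ sq.w
  refine ⟨l, ⟨hl1, hl2⟩, fun l' hl' => ?_⟩
  exact lift_unique_of_isFOThickMor hT' f hfu j hj a b l' l hl'.1 hl'.2 hl1 hl2

end Groth.Agent.H52
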