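import Groth.Agent.H52.FormalEtChart
import Mathlib.AlgebraicGeometry.Morphisms.FormallyUnramified

set_option autoImplicit false
universe u
open CategoryTheory CategoryTheory.Limits AlgebraicGeometry Opposite

namespace Groth.Agent.H52

open AlgSp

variable {S : Scheme.{u}}

/-- A formally unramified morphism of schemes over `S` induces a formally unramified morphism of
sheaves. -/
theorem isFormallyUnramifiedMor_yon_map {U V : Over S} (h : U ⟶ V)
    (hh : FormallyUnramified h.left) : IsFormallyUnramifiedMor ((yon S).map h) := by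
  intro sq l l' h1 h2 h1' h2'
  obtain ⟨m, rfl⟩ := (yon S).map_surjective l
  obtain ⟨m', rfl⟩ := (yon S).map_surjective l'
  congr 1
  have e1 : sq.j ≫ m = sq.j ≫ m' := by
    apply (yon S).map_injective
    rw [Functor.map_comp, Functor.map_comp, h1, h1']
  have e2 : m ≫ h = m' ≫ h := by
    apply (yon S).map_injective
    rw [Functor.map_comp, Functor.map_comp, h2, h2']
  have : IsClosedImmersion (Spec.map (CommRingCat.ofHom (Ideal.Quotient.mk sq.I))) :=
    IsClosedImmersion.spec_of_surjective _ Ideal.Quotient.mk_surjective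
  have hnil : IsNilpotent (Spec.map (CommRingCat.ofHom (Ideal.Quotient.mk sq.I))).ker :=
    ⟨2, by
      rw [pow_two]
      exact Groth.Agent.Lib.Helper7.ker_SpecMap_mul_self_eq_bot _ (by
        rw [CommRingCat.hom_ofHom, Ideal.mk_ker]; exact sq.sq_zero)⟩
  have := FormallyUnramified.hom_ext (Spec.map (CommRingCat.ofHom (Ideal.Quotient.mk sq.I))) hnil
    h.left (congrArg (fun t => t.left) e1) (congrArg (fun t => t.left) e2)
  ext
  exact this

/-- Chart expressions of a formally unramified morphism of sheaves are formally unramified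
morphisms of schemes. -/
theorem locP_formallyUnramified_of_isFormallyUnramifiedMor {X Y : Sp S} (f : X ⟶ Y)
    (hf : IsFormallyUnramifiedMor f) : LocP @FormallyUnramified f := by
  intro U V a b h ha hb comm
  apply FormallyUnramified.of_hom_ext
  intro R T φ hφ hker g₁ g₂ e1 e2
  let A : Type u := R
  let I : Ideal A := RingHom.ker φ.hom
  have hI : I ^ 2 = ⊥ := hker
  let e := RingHom.quotientKerEquivOfSurjective hφ
  have hmk : CommRingCat.ofHom (Ideal.Quotient.mk I) =
      φ ≫ CommRingCat.ofHom (e.symm : T →+* A ⧸ I) := by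
    ext x
    change Ideal.Quotient.mk I x = e.symm (φ.hom x)
    rw [RingEquiv.eq_symm_apply]
    rfl
  have e1' : Spec.map (CommRingCat.ofHom (Ideal.Quotient.mk I)) ≫ g₁ =
      Spec.map (CommRingCat.ofHom (Ideal.Quotient.mk I)) ≫ g₂ := by
    rw [hmk, Spec.map_comp, Category.assoc, Category.assoc, e1]
  let str : Spec (CommRingCat.of A) ⟶ S := g₁ ≫ U.hom
  have hstr2 : g₂ ≫ U.hom = str := by
    change g₂ ≫ U.hom = g₁ ≫ U.hom
    rw [← Over.w h, ← Category.assoc, ← e2, Category.assoc]
  let m₁ : ptA str ⟶ U := Over.homMk g₁ rfl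
  let m₂ : ptA str ⟶ U := Over.homMk g₂ hstr2
  have hj : jQ I str ≫ m₁ = jQ I str ≫ m₂ := by
    ext
    exact e1'
  have hh : m₁ ≫ h = m₂ ≫ h := by
    ext
    exact e2
  let sq : InfSq f :=
    { A := A
      I := I
      sq_zero := hI
      str := str
      top := (yon S).map (jQ I str ≫ m₁) ≫ a
      bot := (yon S).map (m₁ ≫ h) ≫ b
      comm := by
        have e0 := congrArg (fun t => (yon S).map t ≫ b) (Category.assoc (jQ I str) m₁ h)
        simp only [Functor.map_comp, Category.assoc] at e0 ⊢
        rw [comm] }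
  have key : (yon S).map m₁ ≫ a = (yon S).map m₂ ≫ a := by
    refine hf sq _ _ ?_ ?_ ?_ ?_
    · change (yon S).map (jQ I str) ≫ (yon S).map m₁ ≫ a = (yon S).map (jQ I str ≫ m₁) ≫ a
      rw [Functor.map_comp, Category.assoc]
    · change ((yon S).map m₁ ≫ a) ≫ f = (yon S).map (m₁ ≫ h) ≫ b
      rw [Category.assoc, comm, Functor.map_comp, Category.assoc]
    · change (yon S).map (jQ I str) ≫ (yon S).map m₂ ≫ a = (yon S).map (jQ I str ≫ m₁) ≫ a
      rw [hj, Functor.map_comp, Category.assoc]
    · change ((yon S).map m₂ ≫ a) ≫ f = (yon S).map (m₁ ≫ h) ≫ b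
      rw [Category.assoc, comm, hh, Functor.map_comp, Category.assoc]
  have hsurj := surjective_jQ I hI str
  obtain ⟨k, -, hku⟩ := existsUnique_lift_of_repWith_etale a ha (jQ I str)
    ((yon S).map (jQ I str ≫ m₁)) ((yon S).map m₁ ≫ a) (by rw [Functor.map_comp, Category.assoc])
  have e3 : (yon S).map m₁ = (yon S).map m₂ :=
    (hku ((yon S).map m₁) ⟨by rw [Functor.map_comp], rfl⟩).trans
      (hku ((yon S).map m₂) ⟨by rw [hj, Functor.map_comp], key.symm⟩).symm
  exact congrArg (fun t => t.left) ((yon S).map_injective e3)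

/-- One pair of charts with surjective etale source chart and formally unramified chart expression
makes the morphism formally unramified. -/
theorem isFormallyUnramifiedMor_of_chart {X Y : Sp S} (f : X ⟶ Y) {U V : Over S}
    (a : (yon S).obj U ⟶ X) (b : (yon S).obj V ⟶ Y) (h : U ⟶ V) (hae : RepWith @Etale a)
    (has : RepWith @Surjective a) (hbe : RepWith @Etale b) (comm : a ≫ f = (yon S).map h ≫ b)
    (hh : FormallyUnramified h.left) : IsFormallyUnramifiedMor f := by
  have h1 := isFormallyUnramifiedMor_yon_map h hh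
  have h2 := isFormallyUnramifiedMor_of_isFormallyEtaleMor
    (isFormallyEtaleMor_of_repWith_etale b hbe)
  have h3 : IsFormallyUnramifiedMor ((yon S).map h ≫ b) :=
    (Groth.Agent.S10619.result _ _).2.2 h1 h2
  rw [← comm] at h3
  exact isFormallyUnramifiedMor_of_comp a f hae has h3

/-- A morphism of algebraic spaces is formally unramified iff its chart expressions are. -/
theorem isFormallyUnramifiedMor_iff_locP {X Y : Sp S} (hX : IsAlgSpace X) (hY : IsAlgSpace Y)
    (f : X ⟶ Y) : IsFormallyUnramifiedMor f ↔ LocP @FormallyUnramified f := by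
  refine ⟨locP_formallyUnramified_of_isFormallyUnramifiedMor f, fun hloc => ?_⟩
  obtain ⟨V, b, hbe, hbs⟩ := hY.atlas
  obtain ⟨U, a, h, hae, has, comm⟩ := exists_surjective_chart_over hX f b hbe hbs
  exact isFormallyUnramifiedMor_of_chart f a b h hae has hbe comm (hloc a b h hae hbe comm)

end Groth.Agent.H52
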