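import Groth.Agent.H52.LqfDisc
import Groth.Agent.H52.LocNoeth
import Mathlib.AlgebraicGeometry.Fiber

set_option autoImplicit false
universe u
open CategoryTheory CategoryTheory.Limits AlgebraicGeometry Opposite Topology
open AlgSp

namespace Groth.Agent.H52

variable {S : Scheme.{u}}

/-- Fibres of a locally quasi-finite morphism of algebraic spaces have discrete spaces of points. -/
theorem discrete_points_fibre_of_locP_lqf {X Y : Sp S} (hX : IsAlgSpace X) (hY : IsAlgSpace Y)
    (f : X ⟶ Y)
    (hf : LocP ((@LocallyQuasiFinite : MorphismProperty Scheme.{u}) ⊓ @LocallyOfFiniteType) f)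
    {k : Type u} [Field k] (str : Spec (CommRingCat.of k) ⟶ S)
    (y : (yon S).obj (Over.mk str) ⟶ Y) {P : Sp S} {fst : P ⟶ X}
    {snd : P ⟶ (yon S).obj (Over.mk str)} (sq : IsPullback fst snd f y) :
    DiscreteTopology (Points P) := by
  have hk : IsAlgSpace ((yon S).obj (Over.mk str)) := IsAlgSpace.yon_obj _
  have hP : IsAlgSpace P := isAlgSpace_of_isPullback sq hX hY hk
  have hsnd := isEtLocal_lqf_lft.locP_of_isPullback hX hY hk sq hf
  obtain ⟨W, c, hce, hcs⟩ := hP.atlas
  obtain ⟨h, hh⟩ := (yon S).map_surjective (c ≫ snd)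
  have hh1 := hsnd c (𝟙 _) h hce (repWith_of_isIso _ _) (by rw [hh, Category.comp_id])
  have hlqf : LocallyQuasiFinite h.left := hh1.1
  have hW : DiscreteTopology ↥W.left :=
    isDiscrete_univ_iff.mp ((h.left.isDiscrete_preimage_singleton (IsLocalRing.closedPoint k)).mono
      fun w _ => Subsingleton.elim (α := ↥(Spec (CommRingCat.of k))) _ _)
  rw [discreteTopology_iff_isOpen_singleton]
  intro p
  obtain ⟨pw, rfl⟩ := surjective_points_of_repWith_surjective c hcs p
  have h1 : IsOpen ({pw} : Set (Points ((yon S).obj W))) :=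
    (Points.schemeHomeo W).isOpen_preimage.mp (isOpen_discrete _)
  have h2 := isOpenMap_points_of_etale c hce _ h1
  rwa [Set.image_singleton] at h2

/-- A morphism locally of finite type all of whose fibres over field-valued points are discrete is
locally quasi-finite. -/
theorem locP_lqf_of_discrete_fibres {X Y : Sp S} (hX : IsAlgSpace X) (hY : IsAlgSpace Y)
    (f : X ⟶ Y) (hf : LocP @LocallyOfFiniteType f)
    (H : ∀ (k : Type u) [Field k] (str : Spec (CommRingCat.of k) ⟶ S)
      (y : (yon S).obj (Over.mk str) ⟶ Y) (P : Sp S) (fst : P ⟶ X)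
      (snd : P ⟶ (yon S).obj (Over.mk str)), IsPullback fst snd f y →
        DiscreteTopology (Points P)) :
    LocP ((@LocallyQuasiFinite : MorphismProperty Scheme.{u}) ⊓ @LocallyOfFiniteType) f := by
  obtain ⟨V, b, hbe, hbs⟩ := hY.atlas
  obtain ⟨U, a, h, hae, has, comm⟩ := exists_surjective_chart_over hX f b hbe hbs
  have hlft : LocallyOfFiniteType h.left := hf a b h hae hbe comm
  refine isEtLocal_lqf_lft.locP_of_chart f a b h hae has hbe comm ⟨?_, hlft⟩
  change LocallyQuasiFinite h.left
  rw [locallyQuasiFinite_iff_isDiscrete_preimage_singleton]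
  intro v
  let iv : Over.mk (V.left.fromSpecResidueField v ≫ V.hom) ⟶ V :=
    Over.homMk (V.left.fromSpecResidueField v) rfl
  let y : (yon S).obj (Over.mk (V.left.fromSpecResidueField v ≫ V.hom)) ⟶ Y := (yon S).map iv ≫ b
  have hk : IsAlgSpace ((yon S).obj (Over.mk (V.left.fromSpecResidueField v ≫ V.hom))) :=
    IsAlgSpace.yon_obj _
  have hrep := hY.representable_from_yon y
  have sqW := hrep.isPullback (a ≫ f)
  have sqP := IsPullback.of_hasPullback f y
  have hdisc : DiscreteTopology (Points (pullback f y)) :=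
    H (↥(V.left.residueField v)) (V.left.fromSpecResidueField v ≫ V.hom) y _ _ _ sqP
  let c : (yon S).obj (hrep.pullback (a ≫ f)) ⟶ pullback f y :=
    sqP.lift ((yon S).map (hrep.snd (a ≫ f)) ≫ a) (hrep.fst (a ≫ f))
      (by rw [Category.assoc]; exact sqW.w.symm)
  have hc1 : c ≫ pullback.fst f y = (yon S).map (hrep.snd (a ≫ f)) ≫ a := sqP.lift_fst _ _ _
  have hc2 : c ≫ pullback.snd f y = hrep.fst (a ≫ f) := sqP.lift_snd _ _ _
  have sqc : IsPullback c ((yon S).map (hrep.snd (a ≫ f))) (pullback.fst f y) a := by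
    refine IsPullback.of_right ?_ hc1 sqP.flip
    rw [hc2]
    exact sqW
  have hce : RepWith @Etale c := MorphismProperty.of_isPullback sqc.flip hae
  have hq : LocP @LocallyOfFiniteType (pullback.snd f y) :=
    isEtLocal_lft.locP_of_isPullback hX hY hk sqP hf
  have hWd : DiscreteTopology ↥(hrep.pullback (a ≫ f)).left :=
    discreteTopology_chart_of_discrete_points _ (pullback.snd f y) hq c hce
  -- the scheme theoretic fibre maps injectively to this discrete scheme
  let Uv : Over S := Over.mk (h.left.fiberι v ≫ U.hom)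
  let ι' : Uv ⟶ U := Over.homMk (h.left.fiberι v) rfl
  let τ : Uv ⟶ Over.mk (V.left.fromSpecResidueField v ≫ V.hom) :=
    Over.homMk (h.left.fiberToSpecResidueField v) (by
      change h.left.fiberToSpecResidueField v ≫ V.left.fromSpecResidueField v ≫ V.hom =
        h.left.fiberι v ≫ U.hom
      rw [← Scheme.Hom.fiber_fac_assoc, Over.w h])
  have hτ : ι' ≫ h = τ ≫ iv := by
    apply Over.OverMorphism.ext
    exact h.left.fiber_fac v
  have hcompat : (yon S).map τ ≫ y = (yon S).map ι' ≫ a ≫ f := by
    rw [comm, ← Category.assoc, ← Category.assoc, ← Functor.map_comp, ← Functor.map_comp, hτ]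
  obtain ⟨m, hm⟩ := (yon S).map_surjective (sqW.lift ((yon S).map τ) ((yon S).map ι') hcompat)
  have hm2 : m ≫ hrep.snd (a ≫ f) = ι' := by
    apply (yon S).map_injective
    rw [Functor.map_comp, hm, sqW.lift_snd]
  have hinj : Function.Injective m.left := by
    have h1 : Function.Injective (h.left.fiberι v) := (h.left.fiberι v).isEmbedding.injective
    have h2 : ∀ x, h.left.fiberι v x = (hrep.snd (a ≫ f)).left (m.left x) := by
      intro x
      have h3 : m.left ≫ (hrep.snd (a ≫ f)).left = h.left.fiberι v :=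
        congrArg (fun z => z.left) hm2
      rw [← h3, Scheme.Hom.comp_apply]
    intro x1 x2 hx
    apply h1
    rw [h2, h2, hx]
  have hUv : DiscreteTopology ↥(h.left.fiber v) :=
    DiscreteTopology.of_continuous_injective m.left.continuous hinj
  simpa [Scheme.Hom.range_fiberι] using
    (isDiscrete_univ_iff.mpr hUv).image (h.left.fiberι v).isEmbedding.toIsInducing

end Groth.Agent.H52
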