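/-
Helper library (helper52): affine morphisms of sheaves (`AlgSp.IsAffineMor`).
-/
import Groth.Agent.H52.Basic

set_option autoImplicit false
universe u
open CategoryTheory CategoryTheory.Limits AlgebraicGeometry Opposite MorphismProperty
open AlgSp

namespace Groth.Agent.H52

variable {S : Scheme.{u}}

/-- Affine morphisms are stable under base change. -/
theorem isAffineMor_of_isPullback {F G F' G' : Sp S} {f : F ⟶ G} {g : G' ⟶ G} {fst : F' ⟶ F}
    {f' : F' ⟶ G'} (sq : IsPullback fst f' f g) (hf : IsAffineMor f) : IsAffineMor f' := by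
  intro Z hZ y
  obtain ⟨W, i, fstW, sqW, hW⟩ := hf hZ (y ≫ g)
  refine ⟨W, i, sq.lift fstW ((yon S).map i ≫ y) (by rw [sqW.w, Category.assoc]), ?_, hW⟩
  exact IsPullback.of_right (by rwa [sq.lift_fst]) (sq.lift_snd _ _ _) sq

/-- Affine morphisms are stable under composition. -/
theorem isAffineMor_comp {F G H : Sp S} (f : F ⟶ G) (g : G ⟶ H) (hf : IsAffineMor f)
    (hg : IsAffineMor g) : IsAffineMor (f ≫ g) := by
  intro Z hZ y
  obtain ⟨W1, i1, fst1, sq1, hW1⟩ := hg hZ y
  obtain ⟨W2, i2, fst2, sq2, hW2⟩ := hf hW1 fst1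
  refine ⟨W2, i2 ≫ i1, fst2, ?_, hW2⟩
  rw [Functor.map_comp]
  exact sq2.paste_vert sq1

/-- A morphism representable by affine morphisms of schemes is affine. -/
theorem isAffineMor_of_repWith_isAffineHom {F G : Sp S} (f : F ⟶ G)
    (hf : RepWith @IsAffineHom f) : IsAffineMor f := by
  intro Z hZ y
  have hrep := hf.rep
  have sq := hrep.isPullback y
  have h1 : IsAffineHom (hrep.snd y).left := hf.property_snd y
  have : IsAffine Z.left := hZ
  exact ⟨_, hrep.snd y, hrep.fst y, sq, isAffine_of_isAffineHom (hrep.snd y).left⟩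

/-- A morphism representable by closed immersions is affine. -/
theorem isAffineMor_of_repWith_isClosedImmersion {F G : Sp S} (f : F ⟶ G)
    (hf : RepWith @IsClosedImmersion f) : IsAffineMor f := by
  refine isAffineMor_of_repWith_isAffineHom f ⟨hf.rep, fun U V g fst snd sq => ?_⟩
  have : IsClosedImmersion snd.left := hf.2 g fst snd sq
  exact (inferInstance : IsAffineHom snd.left)

/-- Cancellation: if `g ≫ q` is affine and the diagonal of `q` is affine, then `g` is affine. -/
theorem isAffineMor_of_comp {X Y B : Sp S} (g : X ⟶ Y) (q : Y ⟶ B)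
    (hp : IsAffineMor (g ≫ q)) (hΔ : IsAffineMor (pullback.diagonal q)) : IsAffineMor g := by
  have sq := pullback_lift_diagonal_isPullback g q
  have h1 : IsAffineMor (pullback.lift (𝟙 X) g (by simp) : X ⟶ pullback (g ≫ q) q) :=
    isAffineMor_of_isPullback sq hΔ
  have h2 : IsAffineMor (pullback.snd (g ≫ q) q) :=
    isAffineMor_of_isPullback (IsPullback.of_hasPullback (g ≫ q) q) hp
  have := isAffineMor_comp _ _ h1 h2
  rwa [pullback.lift_snd] at this

end Groth.Agent.H52
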