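import Groth.Agent.H52.ThickChart
import Groth.Agent.H52.DiagSp2
import Groth.Agent.S1303
import Groth.Agent.S1313

set_option autoImplicit false
universe u
open CategoryTheory CategoryTheory.Limits AlgebraicGeometry Opposite

namespace Groth.Agent.H52

open AlgSp

variable {S : Scheme.{u}}

instance thick_isMultiplicative : (thick.{u}).IsMultiplicative := by
  unfold thick
  infer_instance

set_option backward.isDefEq.respectTransparency false in
/-- For a commutative square with monic left side, the diagonal of the source morphism is the base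
change of the diagonal of the target morphism. -/
theorem isPullback_diagonal_map {D : Type*} [Category D] [HasPullbacks D] {X X' Y Y' : D}
    (i : X ⟶ X') [Mono i] (j : Y ⟶ Y') (f : X ⟶ Y) (f' : X' ⟶ Y') (w : f ≫ j = i ≫ f') :
    IsPullback (pullback.diagonal f) i (pullback.map f f f' f' i i j w w)
      (pullback.diagonal f') := by
  refine ⟨⟨by apply pullback.hom_ext <;> simp [pullback.map]⟩,
    ⟨PullbackCone.IsLimit.mk _ (fun s => s.fst ≫ pullback.fst f f) ?_ ?_ ?_⟩⟩
  · intro s
    have h1 := congrArg (· ≫ pullback.fst f' f') s.condition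
    have h2 := congrArg (· ≫ pullback.snd f' f') s.condition
    simp only [pullback.map, Category.assoc, pullback.diagonal_fst, pullback.diagonal_snd,
      pullback.lift_fst, pullback.lift_snd, Category.comp_id] at h1 h2
    apply pullback.hom_ext
    · rw [Category.assoc, pullback.diagonal_fst, Category.comp_id]
    · rw [Category.assoc, pullback.diagonal_snd, Category.comp_id, ← cancel_mono i,
        Category.assoc, Category.assoc, h1, h2]
  · intro s
    have h1 := congrArg (· ≫ pullback.fst f' f') s.condition
    simp only [pullback.map, Category.assoc, pullback.diagonal_fst, pullback.lift_fst,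
      Category.comp_id] at h1
    rw [Category.assoc]
    exact h1
  · intro s m hm _
    rw [← hm, Category.assoc, pullback.diagonal_fst, Category.comp_id]

set_option backward.isDefEq.respectTransparency false in
/-- The map on fibre squares induced by a morphism of thickenings is a thickening. -/
theorem isThickMor_pullback_map {X X' Y Y' : Sp S} (i : X ⟶ X') (j : Y ⟶ Y') [Mono j] (f : X ⟶ Y)
    (f' : X' ⟶ Y') (hi : IsThickMor i) (w : f ≫ j = i ≫ f') :
    IsThickMor (pullback.map f f f' f' i i j w w) := by
  have h2 : RepWith (S := S) thick (pullback.map (f ≫ j) (f ≫ j) f' f' i i (𝟙 _)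
      ((Category.comp_id _).trans w) ((Category.comp_id _).trans w)) :=
    MorphismProperty.pullbackMap (P := RepWith (S := S) thick) hi hi w w
  have hiso : IsIso (pullback.mapDesc f f j) := by
    have sq := pullback_map_diagonal_isPullback f f j
    exact sq.isIso_snd_of_isIso
  have h1 : RepWith (S := S) thick (pullback.mapDesc f f j) := repWith_of_isIso thick _
  have e : pullback.map f f f' f' i i j w w = pullback.mapDesc f f j ≫
      pullback.map (f ≫ j) (f ≫ j) f' f' i i (𝟙 _) ((Category.comp_id _).trans w)
        ((Category.comp_id _).trans w) := by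
    apply pullback.hom_ext <;> simp [pullback.map]
  rw [e]
  exact (RepWith (S := S) thick).comp_mem _ _ h1 h2


theorem mono_of_isThickMor' {X X' : Sp S} (i : X ⟶ X') (hi : IsThickMor i) : Mono i :=
  mono_of_repWith i thick (fun _ _ g hg => by
    have : IsClosedImmersion g := hg.1
    infer_instance) hi

/-- A property of the relative diagonal passes from a morphism of thickenings to the thick
morphism, if it does so for cartesian morphisms of thickenings of schemes locally of finite
type. -/
theorem repWith_diagonal_of_thick (P : MorphismProperty Scheme.{u}) [P.IsStableUnderBaseChange]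
    (hP : ∀ ⦃E E' T₀ T : Scheme.{u}⦄ (ε : E ⟶ E') (τ : T₀ ⟶ T) (π : E ⟶ T₀) (π' : E' ⟶ T),
      thick τ → IsPullback ε π π' τ → LocallyOfFiniteType π' → P π → P π')
    {X X' Y Y' : Sp S} (hX' : IsAlgSpace X') (i : X ⟶ X') (j : Y ⟶ Y') (f : X ⟶ Y)
    (f' : X' ⟶ Y') (hi : IsThickMor i) (hj : IsThickMor j) (w : f ≫ j = i ≫ f')
    (h : RepWith P (pullback.diagonal f)) : RepWith P (pullback.diagonal f') := by
  have : Mono i := mono_of_isThickMor' i hi
  have : Mono j := mono_of_isThickMor' j hj
  obtain ⟨hrep', hlft', -, -, -⟩ := diagonal_properties hX' f'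
  refine ⟨hrep', fun T E' t e1' π' sq1 => ?_⟩
  have hδ := isThickMor_pullback_map i j f f' hi w
  have sq2 := hδ.rep.isPullback t
  have hτ : thick (hδ.rep.snd t).left := hδ.property_snd t
  have hrepf := h.rep
  have sq3 := hrepf.isPullback (hδ.rep.fst t)
  have hPπ : P (hrepf.snd (hδ.rep.fst t)).left := h.property_snd _
  have F1 := isPullback_diagonal_map i j f f' w
  have big := sq3.paste_horiz F1.flip
  rw [sq2.w] at big
  obtain ⟨ε, hε⟩ := (yon S).map_surjective (sq1.lift (hrepf.fst (hδ.rep.fst t) ≫ i)
    ((yon S).map (hrepf.snd (hδ.rep.fst t)) ≫ (yon S).map (hδ.rep.snd t)) (by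
      rw [Category.assoc]; exact big.w))
  have hε1 : (yon S).map ε ≫ e1' = hrepf.fst (hδ.rep.fst t) ≫ i := by
    rw [hε]; exact sq1.lift_fst _ _ _
  have hε2 : (yon S).map ε ≫ (yon S).map π' =
      (yon S).map (hrepf.snd (hδ.rep.fst t)) ≫ (yon S).map (hδ.rep.snd t) := by
    rw [hε]; exact sq1.lift_snd _ _ _
  rw [← hε1] at big
  have left := IsPullback.of_right big hε2 sq1
  have sqL := isPullback_left_of_isPullback_yon left
  exact hP _ _ _ _ hτ sqL (hlft'.2 t e1' π' sq1) hPπ

/-- Separatedness and quasi-separatedness for a morphism of thickenings of algebraic spaces. -/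
theorem thickening_mor_separated_iff {X X' Y Y' : Sp S} (hX' : IsAlgSpace X') (i : X ⟶ X')
    (j : Y ⟶ Y') (f : X ⟶ Y) (f' : X' ⟶ Y') (hi : IsThickMor i) (hj : IsThickMor j)
    (w : i ≫ f' = f ≫ j) :
    (IsSeparatedMor f ↔ IsSeparatedMor f') ∧ (IsQuasiSeparatedMor f ↔ IsQuasiSeparatedMor f') := by
  have : Mono i := mono_of_isThickMor' i hi
  have F1 := isPullback_diagonal_map i j f f' w.symm
  refine ⟨⟨fun h => ?_, fun h => ?_⟩, ⟨fun h => ?_, fun h => ?_⟩⟩
  · refine repWith_diagonal_of_thick @IsClosedImmersion ?_ hX' i j f f' hi hj w.symm h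
    intro E E' T₀ T ε τ π π' hτ sq hlft hπ
    have : LocallyOfFiniteType π' := hlft
    have : LocallyOfFiniteType π := MorphismProperty.of_isPullback sq hlft
    exact (Groth.Agent.S1313.result ε τ π π' hτ sq).1 hπ
  · exact MorphismProperty.of_isPullback (P := RepWith (S := S) @IsClosedImmersion) F1.flip h
  · refine repWith_diagonal_of_thick @QuasiCompact ?_ hX' i j f f' hi hj w.symm h
    intro E E' T₀ T ε τ π π' hτ sq hlft hπ
    have hε : thick ε := MorphismProperty.of_isPullback sq.flip hτ
    exact (Groth.Agent.S1303.result ε τ π π' hε hτ sq.w).1 hπ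
  · exact MorphismProperty.of_isPullback (P := RepWith (S := S) @QuasiCompact) F1.flip h

end Groth.Agent.H52
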