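/-
Helper library (helper52): the descent engine for cofiltered limits of the base, in chart form
(good charts, base-change charts, surjectivity transfer).
-/
import Groth.Agent.H52.LimDescend
import Groth.Agent.H52.QC

set_option autoImplicit false
universe u
open CategoryTheory CategoryTheory.Limits AlgebraicGeometry Opposite
open AlgSp

namespace Groth.Agent.H52.LimDescend

variable {S : Scheme.{u}}

/-- A good affine chart of a morphism `f₀ : X₀ ⟶ Y₀`. -/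
structure GoodChart {X₀ Y₀ : Sp S} (f₀ : X₀ ⟶ Y₀) {U₀ V₀ : Over S} (u₀ : (yon S).obj U₀ ⟶ X₀)
    (v₀ : (yon S).obj V₀ ⟶ Y₀) (g₀ : U₀ ⟶ V₀) : Prop where
  affU : IsAffine U₀.left
  affV : IsAffine V₀.left
  ue : RepWith @Etale u₀
  us : RepWith @Surjective u₀
  ve : RepWith @Etale v₀
  vs : RepWith @Surjective v₀
  comm : u₀ ≫ f₀ = (yon S).map g₀ ≫ v₀
  surj : ∀ (x₀ : Points X₀) (v : ↥V₀.left), Points.map f₀ x₀ = Points.ofPt v₀ v →
    ∃ u : ↥U₀.left, g₀.left u = v ∧ Points.ofPt u₀ u = x₀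

theorem exists_goodChart [QuasiSeparatedSpace ↥S] {X₀ Y₀ : Sp S}
    (f₀ : X₀ ⟶ Y₀) (hXqc : IsQuasiCompactSp X₀) (hYqc : IsQuasiCompactSp Y₀)
    (hYqs : IsQuasiSeparatedSp Y₀) :
    ∃ (U₀ V₀ : Over S) (u₀ : (yon S).obj U₀ ⟶ X₀) (v₀ : (yon S).obj V₀ ⟶ Y₀) (g₀ : U₀ ⟶ V₀),
      GoodChart f₀ u₀ v₀ g₀ := by
  obtain ⟨V₀, v₀, hV₀, hv₀e, hv₀s⟩ := Groth.Agent.H52.UC.exists_affine_etale_chart' hYqc
  obtain ⟨U₁, u₁, hU₁, hu₁e, hu₁s⟩ := Groth.Agent.H52.UC.exists_affine_etale_chart' hXqc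
  have hrep := hv₀e.rep
  let P : Over S := hrep.pullback (u₁ ≫ f₀)
  let pr₁ : P ⟶ U₁ := hrep.snd (u₁ ≫ f₀)
  let pr₂ : P ⟶ V₀ := hrep.fst' (u₁ ≫ f₀)
  have sqP : IsPullback ((yon S).map pr₂) ((yon S).map pr₁) v₀ (u₁ ≫ f₀) := hrep.isPullback' _
  have hpr₁e : Etale pr₁.left := hv₀e.property_snd _
  have hpr₁s : Surjective pr₁.left := hv₀s.property_snd _
  haveI : IsAffine U₁.left := hU₁
  haveI : IsAffine V₀.left := hV₀
  haveI : CompactSpace ↥P.left :=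
    compactSpace_pullback_of_isQuasiSeparatedSp hYqs (u₁ ≫ f₀) v₀ pr₁ pr₂ sqP.flip
  obtain ⟨U', π, hU', hπe, hπs⟩ := Groth.Agent.H53.exists_affine_etale_surjective P.left
  let U₀ : Over S := Over.mk (π ≫ P.hom)
  let πO : U₀ ⟶ P := Over.homMk π rfl
  have hE : (RepWith (S := S) @Etale).IsMultiplicative := repWith_isMultiplicative _
  have hSj : (RepWith (S := S) @Surjective).IsMultiplicative := repWith_isMultiplicative _
  have h1e : Etale (πO ≫ pr₁).left := by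
    rw [Over.comp_left]
    have : Etale πO.left := hπe
    infer_instance
  have h1s : Surjective (πO ≫ pr₁).left := by
    rw [Over.comp_left]
    have : Surjective πO.left := hπs
    infer_instance
  refine ⟨U₀, V₀, (yon S).map (πO ≫ pr₁) ≫ u₁, v₀, πO ≫ pr₂, hU', hV₀, ?_, ?_, hv₀e, hv₀s, ?_, ?_⟩
  · exact (RepWith @Etale).comp_mem _ _ ((repWith_yon_map_iff _ _).2 h1e) hu₁e
  · exact (RepWith @Surjective).comp_mem _ _ ((repWith_yon_map_iff _ _).2 h1s) hu₁s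
  · rw [Functor.map_comp, Functor.map_comp, Category.assoc, Category.assoc, Category.assoc,
      sqP.w]
  · intro x₀ v hx₀
    obtain ⟨pu, hpu⟩ := surjective_points_of_repWith_surjective u₁ hu₁s x₀
    obtain ⟨p, hp1, hp2⟩ := exists_point_of_isPullback sqP (Points.ofScheme V₀ v) pu (by
      rw [← Points.ofPt_eq_map_ofScheme, Points.map_comp, hpu, hx₀])
    obtain ⟨p, rfl⟩ := (Points.schemeEquiv P).surjective p
    obtain ⟨u, hu⟩ := hπs.surj p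
    have hp1' : pr₂.left p = v := by
      apply (Points.schemeEquiv V₀).injective
      exact (points_map_ofScheme pr₂ p).symm.trans hp1
    refine ⟨u, ?_, ?_⟩
    · change pr₂.left (π u) = v
      rw [hu, hp1']
    · rw [ofPt_yon_map_comp]
      change Points.ofPt u₁ (pr₁.left (π u)) = x₀
      rw [hu, Points.ofPt_eq_map_ofScheme, ← points_map_ofScheme]
      exact (congrArg (Points.map u₁) hp2).trans hpu

/-- A chart of a base change `f'` of `f₀`, cartesian over a chart of `f₀`. -/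
structure BCChart {X₀ Y₀ : Sp S} (f₀ : X₀ ⟶ Y₀) {U₀ V₀ : Over S} (u₀ : (yon S).obj U₀ ⟶ X₀)
    (v₀ : (yon S).obj V₀ ⟶ Y₀) (g₀ : U₀ ⟶ V₀) {X' Y' : Sp S} (f' : X' ⟶ Y') (pX' : X' ⟶ X₀)
    (pY' : Y' ⟶ Y₀) where
  W : Over S
  E : Over S
  fW : W ⟶ E
  pW : W ⟶ U₀
  p : E ⟶ V₀
  α : (yon S).obj W ⟶ X'
  β : (yon S).obj E ⟶ Y'
  sqW : IsPullback pW fW g₀ p
  sqβ : IsPullback β ((yon S).map p) pY' v₀
  sqα : IsPullback α ((yon S).map pW) pX' u₀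
  comm : α ≫ f' = (yon S).map fW ≫ β

namespace BCChart

variable {X₀ Y₀ : Sp S} {f₀ : X₀ ⟶ Y₀} {U₀ V₀ : Over S} {u₀ : (yon S).obj U₀ ⟶ X₀}
  {v₀ : (yon S).obj V₀ ⟶ Y₀} {g₀ : U₀ ⟶ V₀} {X' Y' : Sp S} {f' : X' ⟶ Y'} {pX' : X' ⟶ X₀}
  {pY' : Y' ⟶ Y₀} (B : BCChart f₀ u₀ v₀ g₀ f' pX' pY') (hc : GoodChart f₀ u₀ v₀ g₀)

include hc

theorem αe : RepWith @Etale B.α := MorphismProperty.of_isPullback B.sqα.flip hc.ue
theorem αs : RepWith @Surjective B.α := MorphismProperty.of_isPullback B.sqα.flip hc.us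
theorem βe : RepWith @Etale B.β := MorphismProperty.of_isPullback B.sqβ.flip hc.ve
theorem βs : RepWith @Surjective B.β := MorphismProperty.of_isPullback B.sqβ.flip hc.vs

/-- If `f'` is surjective on points, then the chart map is surjective. -/
theorem surjective_fW (hX' : IsPullback pX' f' f₀ pY') (hf' : IsSurjectiveMor f') :
    Surjective B.fW.left := by
  refine ⟨fun e => ?_⟩
  obtain ⟨x, hx⟩ := hf' (Points.ofPt B.β e)
  have h1 : Points.map f₀ (Points.map pX' x) = Points.ofPt v₀ (B.p.left e) := by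
    rw [← Points.map_comp, hX'.w, Points.map_comp, hx, Points.map_ofPt, B.sqβ.w,
      ofPt_yon_map_comp]
  obtain ⟨u, hu, -⟩ := hc.surj _ _ h1
  obtain ⟨w, -, hw⟩ := exists_preimage_of_isPullback_yon (B.sqW.map (yon S)) u e hu
  exact ⟨w, hw⟩

omit hc in
/-- If the chart map is surjective, then `f'` is surjective on points. -/
theorem isSurjectiveMor_of_surjective_fW (hc : GoodChart f₀ u₀ v₀ g₀)
    (h : Surjective B.fW.left) : IsSurjectiveMor f' := by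
  intro y
  obtain ⟨pe, hpe⟩ := surjective_points_of_repWith_surjective B.β (B.βs hc) y
  obtain ⟨e, rfl⟩ := (Points.schemeEquiv B.E).surjective pe
  obtain ⟨w, hw⟩ := h.surj e
  refine ⟨Points.ofPt B.α w, ?_⟩
  rw [Points.map_ofPt, B.comm, ofPt_yon_map_comp, hw, Points.ofPt_eq_map_ofScheme]
  exact hpe

end BCChart

open Groth.Agent.H52.LimChart in
/-- The descent engine, in chart form. -/
theorem exists_bcChart [QuasiSeparatedSpace ↥S] {I : Type u} [SmallCategory I] [IsCofiltered I]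
    (D : I ⥤ Sp S) (hDa : ∀ (i j : I) (φ : i ⟶ j), IsAffineMor (D.map φ)) (c : Cone D)
    (hc : IsLimit c) (i₀ : I) {X₀ Y₀ : Sp S} (f₀ : X₀ ⟶ Y₀) (b₀ : Y₀ ⟶ D.obj i₀)
    (hXqc : IsQuasiCompactSp X₀) (hYqc : IsQuasiCompactSp Y₀) (hYqs : IsQuasiSeparatedSp Y₀)
    {X Y : Sp S} (f : X ⟶ Y) (pY : Y ⟶ Y₀) (qY : Y ⟶ c.pt)
    (hY : IsPullback pY qY b₀ (c.π.app i₀)) (pX : X ⟶ X₀) (hX : IsPullback pX f f₀ pY)
    (hf₀ : LocP @LocallyOfFinitePresentation f₀) :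
    ∃ (U₀ V₀ : Over S) (u₀ : (yon S).obj U₀ ⟶ X₀) (v₀ : (yon S).obj V₀ ⟶ Y₀) (g₀ : U₀ ⟶ V₀)
      (_ : GoodChart f₀ u₀ v₀ g₀) (B : BCChart f₀ u₀ v₀ g₀ f pX pY),
      ∀ (P : MorphismProperty Scheme.{u}) [P.RespectsIso], SchDescendsAff P → P B.fW.left →
        ∃ (i : I) (φ : i ⟶ i₀), ∀ (Xi Yi : Sp S) (fi : Xi ⟶ Yi) (pYi : Yi ⟶ Y₀)
          (qYi : Yi ⟶ D.obj i) (_ : IsPullback pYi qYi b₀ (D.map φ)) (pXi : Xi ⟶ X₀)
          (_ : IsPullback pXi fi f₀ pYi), ∃ Bi : BCChart f₀ u₀ v₀ g₀ fi pXi pYi, P Bi.fW.left := by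
  obtain ⟨U₀, V₀, u₀, v₀, g₀, hch⟩ := exists_goodChart f₀ hXqc hYqc hYqs
  haveI : IsAffine U₀.left := hch.affU
  haveI : IsAffine V₀.left := hch.affV
  haveI : LocallyOfFinitePresentation g₀.left := hf₀ u₀ v₀ g₀ hch.ue hch.ve hch.comm
  obtain ⟨cs⟩ := nonempty_chartSystem D c hc i₀ (v₀ ≫ b₀) (fun j => hDa _ _ j.hom)
  have sqW' : IsPullback (pullback.fst g₀ cs.q) (pullback.snd g₀ cs.q) g₀ cs.q :=
    IsPullback.of_hasPullback _ _
  obtain ⟨βE, α, -, sqβ, hα, sqα⟩ := chart_transfer hY hX cs.sqlim hch.comm (sqW'.map (yon S))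
  refine ⟨U₀, V₀, u₀, v₀, g₀, hch, ⟨_, _, _, _, _, α, βE, sqW', sqβ, sqα, hα⟩, ?_⟩
  intro P _ hPs hfW'
  obtain ⟨j, W, pW, fW, sqW, hfW⟩ := sch_step hPs cs g₀ _ _ sqW' hfW'
  refine ⟨j.left, j.hom, fun Xi Yi fi pYi qYi hYi pXi hXi => ?_⟩
  obtain ⟨βj, αj, -, sqβj, hαj, sqαj⟩ :=
    chart_transfer hYi hXi (cs.sq j) hch.comm (sqW.map (yon S))
  exact ⟨⟨_, _, _, _, _, αj, βj, sqW, sqβj, sqαj, hαj⟩, hfW⟩

end Groth.Agent.H52.LimDescend
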