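/-
Helper library (helper52): scheme-level descent instance (surjective) for the descent engine.
-/
import Groth.Agent.H52.LimDescend3
import Groth.Agent.S2581

set_option autoImplicit false
universe u
open CategoryTheory CategoryTheory.Limits AlgebraicGeometry Opposite
open AlgSp

namespace Groth.Agent.H52.LimDescend

theorem schDescendsAff_surjective : SchDescendsAff.{u} @Surjective := by
  intro I _ _ D c hc _ i₀ X₀ Y₀ f₀ g₀ _ _ _ _ X Y f g qY qX hY hX hf
  haveI : Surjective f := hf
  haveI : IsAffine (D.obj i₀) := IsAffine.of_isIso (inv g₀)
  exact Groth.Agent.S2581.result D c hc i₀ f₀ g₀ f g qY qX hY hX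

end Groth.Agent.H52.LimDescend
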