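/-
Helper library (helper52): a cofiltered limit of qcqs algebraic spaces with affine transition maps
which is an affine scheme has an affine stage.  Step 3: the main argument.
-/
import Groth.Agent.H52.AffLim3
import Groth.Agent.H52.ImmOpen
import Groth.Agent.H52.LocPCalc3
import Groth.Agent.H53.QSDecentMor
import Groth.Agent.Lib.Helper54.AffineDescent
import Groth.Agent.S10021
import Groth.Agent.S10533

set_option autoImplicit false
universe u
open CategoryTheory CategoryTheory.Limits AlgebraicGeometry Opposite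
open AlgSp

namespace Groth.Agent.H52.AffLim

open Groth.Agent.H52.LimChart Groth.Agent.H52.LfpLim

variable {S : Scheme.{u}}

/-- morphisms between sheaves represented by affine schemes are affine -/
theorem isAffineMor_yon_map_of_isAffine {A B : Over S} (hA : IsAffine A.left) (hB : IsAffine B.left)
    (f : A ⟶ B) : IsAffineMor ((yon S).map f) := by
  have : IsAffine A.left := hA
  have : IsAffine B.left := hB
  exact Groth.Agent.H52.isAffineMor_of_repWith_isAffineHom _
    ((repWith_yon_map_iff _ _).2 (inferInstance : IsAffineHom f.left))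

theorem isAffineMor_of_isIso {F G : Sp S} (f : F ⟶ G) [IsIso f] : IsAffineMor f :=
  Groth.Agent.H52.isAffineMor_of_repWith_isAffineHom _ (Groth.Agent.H52.repWith_of_isIso _ f)

/-- an affine morphism to a sheaf represented by an affine scheme has source represented by an
affine scheme -/
theorem exists_iso_yon_of_isAffineMor {F : Sp S} {Y : Over S} (hY : IsAffine Y.left)
    (g : F ⟶ (yon S).obj Y) (hg : IsAffineMor g) :
    ∃ T' : Over S, IsAffine T'.left ∧ Nonempty ((yon S).obj T' ≅ F) := by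
  obtain ⟨W, i, fst, sq, hW⟩ := hg hY (𝟙 _)
  have : IsIso fst := sq.isIso_fst_of_isIso
  exact ⟨W, hW, ⟨asIso fst⟩⟩

variable {I : Type u} [SmallCategory I] [IsCofiltered I]

/-- **Limit affine implies a stage affine**, for cofiltered systems of qcqs algebraic spaces with
affine transition maps over a quasi-separated base. -/
theorem exists_affine_stage [QuasiSeparatedSpace S] (D : I ⥤ Sp S)
    (hD : ∀ i, IsAlgSpace (D.obj i)) (hDa : ∀ (i j : I) (φ : i ⟶ j), IsAffineMor (D.map φ))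
    (hqc : ∀ i, IsQuasiCompactSp (D.obj i)) (hqs : ∀ i, IsQuasiSeparatedSp (D.obj i))
    (c : Cone D) (hc : IsLimit c) (T : Over S) (hT : IsAffine T.left)
    (e : (yon S).obj T ≅ c.pt) :
    ∃ (i : I) (T' : Over S), IsAffine T'.left ∧ Nonempty ((yon S).obj T' ≅ D.obj i) := by
  -- the chart system of an affine etale chart of a stage
  obtain ⟨i₀⟩ := IsCofiltered.nonempty (C := I)
  obtain ⟨U₀, ξU, hU₀, hξe, hξs⟩ := Groth.Agent.H52.UC.exists_affine_etale_chart' (hqc i₀)
  have hDa' : ∀ j : Over i₀, IsAffineMor (D.map j.hom) := fun j => hDa _ _ j.hom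
  obtain ⟨cs⟩ := nonempty_chartSystem D c hc i₀ ξU hDa'
  have hUj : ∀ j, IsAffine (cs.E.obj j).left := cs.isAffine_E hU₀
  have hUlim : IsAffine cs.cE.pt.left := cs.isAffine_pt hU₀
  have hbe : RepWith @Etale cs.b := cs.repWith_b @Etale hξe
  have hbs : RepWith @Surjective cs.b := cs.repWith_b @Surjective hξs
  have hae : ∀ j, RepWith @Etale (cs.a j) := fun j => cs.repWith_a @Etale hξe j
  -- the chart of the limit, as a morphism of schemes
  obtain ⟨u, hu⟩ := (yon S).map_surjective (cs.b ≫ e.inv)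
  have hue : Etale u.left := (repWith_yon_map_iff @Etale u).1 (by
    rw [hu]
    exact MorphismProperty.RespectsIso.postcomp _ _ _ hbe)
  have hus : Surjective u.left := (repWith_yon_map_iff @Surjective u).1 (by
    rw [hu]
    exact MorphismProperty.RespectsIso.postcomp _ _ _ hbs)
  -- its finitely presented model
  obtain ⟨Y, V, v, πY, q, hYaff, hVaff, hYlfp, hve, hvs, sq0⟩ :=
    exists_fp_model hT hUlim u hue hus
  have sq0' : IsPullback ((yon S).map q) cs.b ((yon S).map v) (e.inv ≫ (yon S).map πY) := by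
    refine IsPullback.of_iso (sq0.map (yon S)) (Iso.refl _) (Iso.refl _) e (Iso.refl _)
      (by simp) ?_ (by simp) ?_
    · rw [hu]; simp
    · simp
  -- the map from a stage to the model
  obtain ⟨k, g, hg⟩ := exists_factor_of_lfp hD hDa hqc hqs hc Y hYlfp (e.inv ≫ (yon S).map πY)
  let m : I := IsCofiltered.min i₀ k
  let j₁ : Over i₀ := Over.mk (IsCofiltered.minToLeft i₀ k)
  let g₁ : D.obj j₁.left ⟶ (yon S).obj Y := D.map (IsCofiltered.minToRight i₀ k) ≫ g
  have hg₁ : c.π.app j₁.left ≫ g₁ = e.inv ≫ (yon S).map πY := by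
    change c.π.app m ≫ D.map (IsCofiltered.minToRight i₀ k) ≫ g = _
    rw [← Category.assoc, c.w, hg]
  -- the map from the chart of a stage to the model of the chart
  have hvlfp : LocP @LocallyOfFinitePresentation ((yon S).map v) :=
    Groth.Agent.H52.isEtLocal_lfp.locP_of_repWith' _ ((repWith_yon_map_iff _ _).2
      (by have := hve; infer_instance))
  obtain ⟨-, hsurjU⟩ := hInj_hSurj_affine (IsAlgSpace.yon_obj V) (IsAlgSpace.yon_obj Y)
    ((yon S).map v) hvlfp cs.E cs.cE cs.hcE' hUj hUlim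
  obtain ⟨j₂, φ, ε, hε1, hε2⟩ := hsurjU j₁ (cs.a j₁ ≫ g₁) ((yon S).map q) (by
    change (yon S).map q ≫ (yon S).map v = (yon S).map (cs.cE.π.app j₁) ≫ cs.a j₁ ≫ g₁
    rw [← Category.assoc, cs.hb, Category.assoc, hg₁, sq0'.w])
  have hε1' : (yon S).map (cs.cE.π.app j₂) ≫ ε = (yon S).map q := hε1
  let g₂ : D.obj j₂.left ⟶ (yon S).obj Y := D.map φ.left ≫ g₁
  have hg₂ : c.π.app j₂.left ≫ g₂ = e.inv ≫ (yon S).map πY := by
    change c.π.app j₂.left ≫ D.map φ.left ≫ g₁ = _
    rw [← Category.assoc, c.w]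
    exact hg₁
  have hε2' : ε ≫ (yon S).map v = cs.a j₂ ≫ g₂ := by
    have : ε ≫ (yon S).map v = (yon S).map (cs.E.map φ) ≫ cs.a j₁ ≫ g₁ := hε2
    rw [this, ← Category.assoc, cs.ha φ, Category.assoc]
  -- the comparison map at the stage `j₂`
  let yv : (yon S).obj V ⟶ (yon S).obj Y := (yon S).map v
  have hyv : IsAffineMor yv := isAffineMor_yon_map_of_isAffine hVaff hYaff v
  have hyve : RepWith @Etale yv := (repWith_yon_map_iff _ _).2 hve
  let P : Sp S := pullback g₂ yv
  let b₀ : P ⟶ D.obj j₂.left := pullback.fst g₂ yv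
  let f₀ : (yon S).obj (cs.E.obj j₂) ⟶ P := pullback.lift (cs.a j₂) ε hε2'.symm
  have hf₀1 : f₀ ≫ b₀ = cs.a j₂ := pullback.lift_fst _ _ _
  have hf₀2 : f₀ ≫ pullback.snd g₂ yv = ε := pullback.lift_snd _ _ _
  have hb₀aff : IsAffineMor b₀ :=
    Groth.Agent.H52.isAffineMor_of_isPullback (IsPullback.of_hasPullback g₂ yv).flip hyv
  have hb₀e : RepWith @Etale b₀ :=
    MorphismProperty.of_isPullback (IsPullback.of_hasPullback g₂ yv).flip hyve
  have hP : IsAlgSpace P :=
    Groth.Agent.H52.isAlgSpace_of_isPullback (IsPullback.of_hasPullback g₂ yv) (hD _)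
      (IsAlgSpace.yon_obj Y) (IsAlgSpace.yon_obj V)
  have hPqc : IsQuasiCompactSp P :=
    Groth.Agent.H52.ImmOpen.isQuasiCompactSp_of_isAffineMor (hD _) b₀ hb₀aff (hqc _)
  have hPqs : IsQuasiSeparatedSp P := by
    refine Groth.Agent.H52.isQuasiSeparatedSp_of_isQuasiSeparatedMor b₀ ?_ (hqs _)
    have h1 : RepWith @IsSeparated b₀ := Groth.Agent.H53.repWith_of_le (fun A B φ hφ => by
      have : IsAffineHom φ := hφ
      infer_instance) (Groth.Agent.H53.ZarGlue.repWith_isAffineHom_of_isAffineMor hb₀aff)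
    have h2 : IsSeparatedMor b₀ := Groth.Agent.H53.isSeparatedMor_of_repWith_isSeparated b₀ h1
    exact Groth.Agent.H53.repWith_of_le (fun A B φ hφ => by
      have : IsClosedImmersion φ := hφ
      infer_instance) h2
  have hf₀lfp : LocP @LocallyOfFinitePresentation f₀ := by
    refine Groth.Agent.H52.isEtLocal_lfp.locP_of_comp' (Q := @LocallyOfFiniteType)
      (fun A B C f g h hg => Groth.Agent.H52.lfp_of_comp_of_lft h hg) (hD _) f₀ b₀ ?_ ?_
    · rw [hf₀1]
      exact Groth.Agent.H52.isEtLocal_lfp.locP_of_repWith' _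
        (Groth.Agent.H53.repWith_of_le (fun A B φ hφ => by
          have : Etale φ := hφ
          infer_instance) (hae j₂))
    · exact Groth.Agent.H52.isEtLocal_lft.locP_of_repWith' _
        (Groth.Agent.H53.repWith_of_le (fun A B φ hφ => by
          have : Etale φ := hφ
          infer_instance) hb₀e)
  -- the limit level squares
  let pY : (yon S).obj cs.cE.pt ⟶ P :=
    pullback.lift (cs.b ≫ c.π.app j₂.left) ((yon S).map q) (by
      rw [Category.assoc, hg₂]
      exact sq0'.w.symm)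
  have hpY1 : pY ≫ b₀ = cs.b ≫ c.π.app j₂.left := pullback.lift_fst _ _ _
  have hpY2 : pY ≫ pullback.snd g₂ yv = (yon S).map q := pullback.lift_snd _ _ _
  have sqY : IsPullback pY cs.b b₀ (c.π.app j₂.left) := by
    have hbig : IsPullback (pY ≫ pullback.snd g₂ yv) cs.b yv (c.π.app j₂.left ≫ g₂) := by
      rw [hpY2, hg₂]
      exact sq0'
    exact IsPullback.of_right hbig hpY1 (IsPullback.of_hasPullback g₂ yv).flip
  have hcomm : (yon S).map (cs.cE.π.app j₂) ≫ f₀ = 𝟙 _ ≫ pY := by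
    rw [Category.id_comp]
    apply pullback.hom_ext
    · rw [Category.assoc, hf₀1, hpY1]
      exact cs.hb j₂
    · rw [Category.assoc, hf₀2, hpY2]
      exact hε1'
  have sqX : IsPullback ((yon S).map (cs.cE.π.app j₂)) (𝟙 ((yon S).obj cs.cE.pt)) f₀ pY := by
    have hbig : IsPullback ((yon S).map (cs.cE.π.app j₂)) (𝟙 ((yon S).obj cs.cE.pt) ≫ cs.b)
        (f₀ ≫ b₀) (c.π.app j₂.left) := by
      have e1 : 𝟙 ((yon S).obj cs.cE.pt) ≫ cs.b = cs.b := Category.id_comp _
      rw [e1, hf₀1]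
      exact cs.isPullback_lim j₂
    exact IsPullback.of_bot hbig hcomm sqY
  obtain ⟨i, φ', hiso⟩ := Groth.Agent.S10021.result S D hD hDa c hc j₂.left (hqc _) (hqs _)
    ⟨(yon S).obj (cs.E.obj j₂), IsAlgSpace.yon_obj _⟩ ⟨P, hP⟩ f₀ b₀
    (by
      have : IsAffine (cs.E.obj j₂).left := hUj j₂
      exact Groth.Agent.H52.isQuasiCompactSp_yon _)
    (by
      have : IsAffine (cs.E.obj j₂).left := hUj j₂
      exact Groth.Agent.H53.FieldQuot.isQuasiSeparatedSp_yon_of_isAffine _)
    hPqc hPqs ((yon S).obj cs.cE.pt) ((yon S).obj cs.cE.pt) (𝟙 _) pY cs.b sqY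
    ((yon S).map (cs.cE.π.app j₂)) sqX hf₀lfp
  -- the stage `i`
  let j₃ : Over i₀ := Over.mk (φ' ≫ j₂.hom)
  let ψ : j₃ ⟶ j₂ := Over.homMk φ' rfl
  let g₃ : D.obj i ⟶ (yon S).obj Y := D.map φ' ≫ g₂
  let P₃ : Sp S := pullback g₃ yv
  let pYi : P₃ ⟶ P := pullback.lift (pullback.fst g₃ yv ≫ D.map φ') (pullback.snd g₃ yv) (by
    rw [Category.assoc]
    exact pullback.condition)
  have hpYi1 : pYi ≫ b₀ = pullback.fst g₃ yv ≫ D.map φ' := pullback.lift_fst _ _ _
  have hpYi2 : pYi ≫ pullback.snd g₂ yv = pullback.snd g₃ yv := pullback.lift_snd _ _ _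
  have sqYi : IsPullback pYi (pullback.fst g₃ yv) b₀ (D.map φ') := by
    have hbig : IsPullback (pYi ≫ pullback.snd g₂ yv) (pullback.fst g₃ yv) yv (D.map φ' ≫ g₂) := by
      rw [hpYi2]
      exact (IsPullback.of_hasPullback g₃ yv).flip
    exact IsPullback.of_right hbig hpYi1 (IsPullback.of_hasPullback g₂ yv).flip
  have hψ : cs.a j₃ ≫ D.map φ' = (yon S).map (cs.E.map ψ) ≫ cs.a j₂ := (cs.ha ψ).symm
  let fi : (yon S).obj (cs.E.obj j₃) ⟶ P₃ :=
    pullback.lift (cs.a j₃) ((yon S).map (cs.E.map ψ) ≫ ε) (by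
      change cs.a j₃ ≫ D.map φ' ≫ g₂ = ((yon S).map (cs.E.map ψ) ≫ ε) ≫ yv
      rw [← Category.assoc, hψ, Category.assoc, Category.assoc, hε2'])
  have hfi1 : fi ≫ pullback.fst g₃ yv = cs.a j₃ := pullback.lift_fst _ _ _
  have hfi2 : fi ≫ pullback.snd g₃ yv = (yon S).map (cs.E.map ψ) ≫ ε := pullback.lift_snd _ _ _
  have hcommi : (yon S).map (cs.E.map ψ) ≫ f₀ = fi ≫ pYi := by
    apply pullback.hom_ext
    · rw [Category.assoc, hf₀1, Category.assoc, hpYi1, ← Category.assoc, hfi1]
      exact hψ.symm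
    · rw [Category.assoc, hf₀2, Category.assoc, hpYi2, hfi2]
  have sqXi : IsPullback ((yon S).map (cs.E.map ψ)) fi f₀ pYi := by
    have hbig : IsPullback ((yon S).map (cs.E.map ψ)) (fi ≫ pullback.fst g₃ yv) (f₀ ≫ b₀)
        (D.map φ') := by
      rw [hfi1, hf₀1]
      exact cs.isPullback_map ψ
    exact IsPullback.of_bot hbig hcommi sqYi
  have hfiso : IsIso fi := hiso _ _ fi pYi (pullback.fst g₃ yv) sqYi _ sqXi
  -- the base change of `g₃` along the cover is affine
  have hsnd : IsAffineMor (pullback.snd g₃ yv) := by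
    have e1 : pullback.snd g₃ yv = inv fi ≫ (yon S).map (cs.E.map ψ) ≫ ε := by
      rw [← hfi2, IsIso.inv_hom_id_assoc]
    obtain ⟨ε', hε'⟩ := (yon S).map_surjective ((yon S).map (cs.E.map ψ) ≫ ε)
    rw [e1, ← hε']
    exact Groth.Agent.H52.isAffineMor_comp _ _ (isAffineMor_of_isIso _)
      (isAffineMor_yon_map_of_isAffine (hUj j₃) hVaff ε')
  -- fpqc descent of affineness
  have hcov := Groth.Agent.Lib.Helper54.isFpqcCover_yon_of_finite_flat_family (S := S) hYaff
    (fun _ : Fin 1 => V) (fun _ => v) (fun _ => hVaff)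
    (fun _ => by have := hve; infer_instance)
    (fun z => by
      obtain ⟨w, hw⟩ := hvs.surj z
      exact ⟨0, w, hw⟩)
  have hg₃ : IsAffineMor g₃ :=
    ((Groth.Agent.S10533.result S _ _ (IsAlgSpace.yon_obj Y) (fun _ => IsAlgSpace.yon_obj V) hcov
      g₃ (hD i) (fun _ => P₃) (fun _ => pullback.snd g₃ yv) (fun _ => pullback.fst g₃ yv)
      (fun _ => Groth.Agent.H52.isAlgSpace_of_isPullback (IsPullback.of_hasPullback g₃ yv) (hD _)
        (IsAlgSpace.yon_obj Y) (IsAlgSpace.yon_obj V))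
      (fun _ => IsPullback.of_hasPullback g₃ yv)).2 (fun _ => hsnd))
  obtain ⟨T', hT', hiso'⟩ := exists_iso_yon_of_isAffineMor hYaff g₃ hg₃
  exact ⟨i, T', hT', hiso'⟩

end Groth.Agent.H52.AffLim
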