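import Groth.Agent.H52.InfRestrict
import Groth.Agent.H52.CoverGlue

set_option autoImplicit false
universe u
open CategoryTheory CategoryTheory.Limits AlgebraicGeometry Opposite

namespace Groth.Agent.H52

open AlgSp

variable {S : Scheme.{u}}

/-- Affine refinement: every point of a scheme `W` over `Spec A` (over `S`) lies in an affine open
`Spec B`, with `B` an `A`-algebra. -/
theorem exists_affine_refinement {A : Type u} [CommRing A] (str : Spec (.of A) ⟶ S) {W : Over S}
    (π : W ⟶ ptA str) (w : ↥W.left) :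
    ∃ (B : Type u) (_ : CommRing B) (φ : A →+* B)
      (ι : ptA (Spec.map (CommRingCat.ofHom φ) ≫ str) ⟶ W),
      ι ≫ π = rho str φ ∧ IsOpenImmersion ι.left ∧ w ∈ Set.range ι.left := by
  obtain ⟨_, ⟨O, hO, rfl⟩, hwO, -⟩ :=
    W.left.isBasis_affineOpens.exists_subset_of_mem_open (Set.mem_univ w) isOpen_univ
  obtain ⟨ψ, hψ⟩ := Spec.map_surjective (hO.fromSpec ≫ π.left)
  have hψ' : Spec.map (CommRingCat.ofHom ψ.hom) = hO.fromSpec ≫ π.left := hψ
  have hw : hO.fromSpec ≫ W.hom = Spec.map (CommRingCat.ofHom ψ.hom) ≫ str := by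
    rw [hψ', Category.assoc]
    congr 1
    exact (Over.w π).symm
  refine ⟨↑Γ(W.left, O), inferInstance, ψ.hom, Over.homMk hO.fromSpec hw, ?_, ?_, ?_⟩
  · ext
    exact hψ'.symm
  · change IsOpenImmersion hO.fromSpec
    infer_instance
  · change w ∈ Set.range hO.fromSpec
    rw [hO.range_fromSpec]
    exact hwO

end Groth.Agent.H52
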