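/-
Helper library (helper52): morphisms from spectra of Artinian rings to quasi-separated algebraic
spaces are affine.
-/
import Groth.Agent.H52.AffineMor
import Groth.Agent.H52.AffineLocal
import Groth.Agent.H52.QC5
import Groth.Agent.H53.SourceLocal
import Groth.Agent.S0082

set_option autoImplicit false
universe u
open CategoryTheory CategoryTheory.Limits AlgebraicGeometry Opposite MorphismProperty
open AlgSp

namespace Groth.Agent.H52

variable {S : Scheme.{u}}

/-- A quasi-compact scheme etale over the spectrum of an Artinian ring is affine. -/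
theorem isAffine_of_etale_of_isArtinian {V : Scheme.{u}} {A : Type u} [CommRing A]
    [IsArtinianRing A] (g : V ⟶ Spec (CommRingCat.of A)) [Etale g] [CompactSpace ↥V] :
    IsAffine V := by
  have : LocallyQuasiFinite g := H53.locallyQuasiFinite_of_formallyUnramified g
  have : IsFinite g := IsFinite.of_locallyQuasiFinite g
  exact isAffine_of_isAffineHom g

theorem descendsAlong_isAffineHom_fppf :
    MorphismProperty.DescendsAlong @IsAffineHom
      (@Surjective ⊓ @Flat ⊓ @LocallyOfFinitePresentation : MorphismProperty Scheme.{u}) := by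
  have := Groth.Agent.S0082.result.{u}
  infer_instance

/-- Over a base with quasi-separated underlying space, a morphism from the spectrum of an Artinian
ring to an algebraic space quasi-separated over the base is representable by affine morphisms. -/
theorem repWith_isAffineHom_of_isArtinian [QuasiSeparatedSpace ↥S] {X : Sp S} (hX : IsAlgSpace X)
    (hXqs : IsQuasiSeparatedSp X) (A : Type u) [CommRing A] [IsArtinianRing A]
    (str : Spec (CommRingCat.of A) ⟶ S) (a : (yon S).obj (Over.mk str) ⟶ X) :
    RepWith @IsAffineHom a := by
  have := descendsAlong_isAffineHom_fppf.{u}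
  obtain ⟨U, c, hce, hcs⟩ := hX.atlas
  have hrepa := hX.representable_from_yon a
  have sq := hrepa.isPullback c
  refine repWith_of_etale_surjective_base_change @IsAffineHom sq hrepa hce hcs ?_
  rw [repWith_yon_map_iff]
  -- `V ⟶ U` is an affine morphism: check over affine opens of `U`
  obtain ⟨fst, hfst⟩ := (yon S).map_surjective (hrepa.fst c)
  have sq' : IsPullback ((yon S).map (hrepa.snd c)) ((yon S).map fst) c a := by
    rw [hfst]; exact sq.flip
  have hfste : Etale fst.left := hce.2 a _ _ sq'
  refine IsZariskiLocalAtTarget.of_iSup_eq_top (fun i : U.left.affineOpens => (i : U.left.Opens))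
    (iSup_affineOpens_eq_top _) fun i => ?_
  have hpb := isPullback_morphismRestrict (hrepa.snd c).left (i : U.left.Opens)
  have sq1 := (isPullback_over_of_left (hrepa.snd c) _ _ _ hpb).map (yon S)
  have big := sq1.flip.paste_horiz sq
  -- the restricted source is quasi-compact
  have : IsAffine (Over.mk ((i : U.left.Opens).ι ≫ U.hom)).left := i.2
  have : CompactSpace ↥(Over.mk ((i : U.left.Opens).ι ≫ U.hom)).left := inferInstance
  have hqc : IsQuasiCompactMor ((yon S).map (Over.homMk (i : U.left.Opens).ι rfl :
      Over.mk ((i : U.left.Opens).ι ≫ U.hom) ⟶ U) ≫ c) :=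
    isQuasiCompactMor_of_isQuasiSeparatedSp (IsAlgSpace.yon_obj _) hX _
      (isQuasiCompactSp_yon _) hXqs
  have : CompactSpace ↥(Over.mk str).left := inferInstanceAs (CompactSpace ↥(Spec (CommRingCat.of A)))
  have hW := hqc (IsAlgSpace.yon_obj (Over.mk str)) (isQuasiCompactSp_yon _) a _ _ big.flip
  have hcpt := compactSpace_of_isQuasiCompactSp_yon _ hW
  -- it is etale over `Spec A`
  have hrestr : IsAffine ((hrepa.snd c).left ⁻¹ᵁ (i : U.left.Opens)).toScheme := by
    have hcpt' : CompactSpace ↥((hrepa.snd c).left ⁻¹ᵁ (i : U.left.Opens)).toScheme := hcpt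
    have : Etale (((hrepa.snd c).left ⁻¹ᵁ (i : U.left.Opens)).ι ≫ fst.left) := by
      have := hfste
      infer_instance
    exact isAffine_of_etale_of_isArtinian (A := A)
      (((hrepa.snd c).left ⁻¹ᵁ (i : U.left.Opens)).ι ≫ fst.left)
  have : IsAffine (i : U.left.Opens).toScheme := i.2
  exact (HasAffineProperty.iff_of_isAffine (P := @IsAffineHom)).2 hrestr

end Groth.Agent.H52
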