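import Groth.Agent.Lib.Helper51.SpPullbackPts
import Groth.Agent.Lib.Helper51.AlgSpBasic
import Groth.Agent.H52.Basic

/-!
# Change of base scheme for algebraic spaces, part 1

For `g : S ⟶ S'`, the restriction functor `j⁻¹` from fppf sheaves over `S'` to fppf sheaves over `S`
preserves representability of morphisms (with a property).
-/

set_option autoImplicit false
universe u
open CategoryTheory CategoryTheory.Limits AlgebraicGeometry Opposite
open AlgSp Groth.Agent.Lib.Helper51

namespace Groth.Agent.H52.BaseChange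

variable {S S' : Scheme.{u}} (g : S ⟶ S')

/-- The restriction functor from sheaves over `S'` to sheaves over `S`. -/
noncomputable abbrev jinv : Sp S' ⥤ Sp S := Scheme.fppfTopology.overMapPullback (Type (u + 1)) g

/-- Morphisms `h_T ⟶ j⁻¹ F'` over `S` are morphisms `h_T ⟶ F'` over `S'`. -/
noncomputable def adjEquiv {T : Over S} {F' : Sp S'} :
    ((yon S).obj T ⟶ (jinv g).obj F') ≃ ((yon S').obj ((Over.map g).obj T) ⟶ F') :=
  (yonEquiv (S := S)).trans (yonEquiv (S := S')).symm

theorem yonEquiv_adjEquiv {T : Over S} {F' : Sp S'} (a : (yon S).obj T ⟶ (jinv g).obj F') :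
    yonEquiv (adjEquiv g a) = yonEquiv a := by
  have h := (yonEquiv (S := S') (T := (Over.map g).obj T) (F := F')).apply_symm_apply
    (yonEquiv (S := S) a)
  exact h

theorem adjEquiv_comp {T : Over S} {F' G' : Sp S'} (a : (yon S).obj T ⟶ (jinv g).obj F')
    (f : F' ⟶ G') : adjEquiv g (a ≫ (jinv g).map f) = adjEquiv g a ≫ f := by
  apply yonEquiv.injective
  rw [yonEquiv_adjEquiv, yonEquiv_comp, yonEquiv_comp, yonEquiv_adjEquiv]
  rfl

theorem adjEquiv_naturality {T T1 : Over S} {F' : Sp S'} (r : T1 ⟶ T)
    (a : (yon S).obj T ⟶ (jinv g).obj F') :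
    adjEquiv g ((yon S).map r ≫ a) = (yon S').map ((Over.map g).map r) ≫ adjEquiv g a := by
  apply yonEquiv.injective
  rw [yonEquiv_adjEquiv, ← yonEquiv_naturality, ← yonEquiv_naturality, yonEquiv_adjEquiv]
  rfl

/-- `j⁻¹` preserves representable morphisms with property `P`. -/
theorem repWith_jinv_map (P : MorphismProperty Scheme.{u}) [P.RespectsIso] {G' F' : Sp S'}
    (f' : G' ⟶ F') (hf : RepWith P f') : RepWith P ((jinv g).map f') := by
  apply MorphismProperty.relative.of_exists
  intro T a
  have hrep := hf.rep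
  let b : hrep.pullback (adjEquiv g a) ⟶ (Over.map g).obj T := hrep.snd (adjEquiv g a)
  have sq' : IsPullback (hrep.fst (adjEquiv g a)) ((yon S').map b) f' (adjEquiv g a) :=
    hrep.isPullback (adjEquiv g a)
  have hP : P b.left := hf.property_snd (adjEquiv g a)
  let V : Over S := Over.mk (b.left ≫ T.hom)
  let bS : V ⟶ T := Over.homMk b.left rfl
  let e : (Over.map g).obj V ≅ hrep.pullback (adjEquiv g a) :=
    Over.isoMk (Iso.refl _) (by
      have := Over.w b
      simp only [Over.map_obj_hom] at this
      simp [V, this])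
  have heb : e.hom ≫ b = (Over.map g).map bS := by
    ext
    simp [e, bS]
  let fst : (yon S).obj V ⟶ (jinv g).obj G' :=
    (adjEquiv g).symm ((yon S').map e.hom ≫ hrep.fst (adjEquiv g a))
  have hfst : adjEquiv g fst = (yon S').map e.hom ≫ hrep.fst (adjEquiv g a) :=
    Equiv.apply_symm_apply _ _
  refine ⟨V, fst, bS, ?_, hP⟩
  have w : fst ≫ (jinv g).map f' = (yon S).map bS ≫ a := by
    apply (adjEquiv g).injective
    rw [adjEquiv_comp, adjEquiv_naturality, hfst, Category.assoc, sq'.w, ← Category.assoc,
      ← Functor.map_comp, heb]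
  refine isPullback_of_forall_yon _ _ _ _ w ?_
  intro T1 β c hβc
  obtain ⟨c0, rfl⟩ := (yon S).map_surjective c
  have h1 : adjEquiv g β ≫ f' = (yon S').map ((Over.map g).map c0) ≫ adjEquiv g a := by
    rw [← adjEquiv_comp, hβc, adjEquiv_naturality]
  obtain ⟨d0, hd0⟩ := (yon S').map_surjective (sq'.lift _ _ h1)
  have hd0f : (yon S').map d0 ≫ hrep.fst (adjEquiv g a) = adjEquiv g β := by
    rw [hd0, sq'.lift_fst]
  have hd0b : d0 ≫ b = (Over.map g).map c0 := by
    apply (yon S').map_injective
    rw [Functor.map_comp, hd0, sq'.lift_snd]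
  have hd0l : d0.left ≫ b.left = c0.left := by
    have := congrArg (fun k => k.left) hd0b
    simpa using this
  let d : T1 ⟶ V := Over.homMk d0.left (by
    change d0.left ≫ b.left ≫ T.hom = T1.hom
    rw [← Category.assoc, hd0l]
    exact Over.w c0)
  have hde : (Over.map g).map d ≫ e.hom = d0 := by
    ext
    simp [d, e]
  refine ⟨(yon S).map d, ⟨?_, ?_⟩, ?_⟩
  · apply (adjEquiv g).injective
    rw [adjEquiv_naturality, hfst, ← Category.assoc, ← Functor.map_comp, hde, hd0f]
  · rw [← Functor.map_comp]
    congr 1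
    ext
    exact hd0l
  · rintro a1 ⟨ha1, ha2⟩
    obtain ⟨d1, rfl⟩ := (yon S).map_surjective a1
    congr 1
    have h2 : (Over.map g).map d1 ≫ e.hom = d0 := by
      apply (yon S').map_injective
      apply sq'.hom_ext
      · rw [hd0f, Functor.map_comp, Category.assoc, ← hfst, ← adjEquiv_naturality, ha1]
      · have h3 : d1 ≫ bS = c0 := (yon S).map_injective (by rw [Functor.map_comp]; exact ha2)
        rw [← Functor.map_comp, ← Functor.map_comp, hd0b, Category.assoc, heb,
          ← Functor.map_comp, h3]
    ext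
    have := congrArg (fun k => k.left) h2
    simpa [e, d] using this

end Groth.Agent.H52.BaseChange
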