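import Groth.Agent.H52.MonoField
import Groth.Agent.H52.QC
import Groth.Agent.H53.SourceLocal
import Mathlib.CategoryTheory.Sites.RegularEpi
import Mathlib.CategoryTheory.Sites.LocallySurjective

set_option autoImplicit false
universe u
open CategoryTheory CategoryTheory.Limits AlgebraicGeometry Opposite Topology
open AlgSp

namespace Groth.Agent.H52

variable {S : Scheme.{u}}

/-- Covering sieves for the fppf topology over `S` are jointly surjective. -/
theorem exists_mem_sieve_of_mem_J {W : Over S} {R : Sieve W} (hR : R ∈ AlgSp.J S W)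
    (w : ↥W.left) : ∃ (W' : Over S) (g : W' ⟶ W), R g ∧ w ∈ Set.range g.left := by
  rw [GrothendieckTopology.mem_over_iff] at hR
  have hle : Scheme.fppfTopology.{u} ≤ Scheme.grothendieckTopology @Flat :=
    Scheme.grothendieckTopology_monotone (P := (@Flat ⊓ @LocallyOfFinitePresentation :
      MorphismProperty Scheme.{u})) inf_le_left
  obtain ⟨𝒰, h𝒰⟩ := (Scheme.mem_grothendieckTopology_iff (P := @Flat)).1 (hle _ hR)
  obtain ⟨i, y, hy⟩ := 𝒰.exists_eq w
  have h1 := h𝒰 _ _ (Presieve.ofArrows.mk i)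
  rw [Sieve.overEquiv_iff] at h1
  exact ⟨_, _, h1, ⟨y, hy⟩⟩

/-- Sections of the target of an epimorphism of sheaves lift locally. -/
theorem exists_local_lift_of_epi {F G : Sp S} (e : F ⟶ G) [Epi e] {W : Over S}
    (s : (yon S).obj W ⟶ G) (w : ↥W.left) :
    ∃ (W' : Over S) (g : W' ⟶ W) (u : (yon S).obj W' ⟶ F),
      w ∈ Set.range g.left ∧ u ≫ e = (yon S).map g ≫ s := by
  have : Sheaf.IsLocallySurjective e := (Sheaf.isLocallySurjective_iff_epi e).2 inferInstance
  have hR := Presheaf.imageSieve_mem (AlgSp.J S) e.hom ((AlgSp.J S).uliftYonedaEquiv s)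
  obtain ⟨W', g, ⟨t, ht⟩, hw⟩ := exists_mem_sieve_of_mem_J hR w
  refine ⟨W', g, (AlgSp.J S).uliftYonedaEquiv.symm t, hw, ?_⟩
  apply (AlgSp.J S).uliftYonedaEquiv.injective
  rw [GrothendieckTopology.uliftYonedaEquiv_comp, Equiv.apply_symm_apply,
    ← GrothendieckTopology.uliftYonedaEquiv_naturality]
  exact ht

/-- Strong-epi lifting in the topos `Sp S`. -/
theorem exists_lift_of_epi_of_mono {A B C D : Sp S} (π : A ⟶ B) [Epi π] (k : A ⟶ C) (m : C ⟶ D)
    [Mono m] (d : B ⟶ D) (w : k ≫ m = π ≫ d) : ∃ l : B ⟶ C, π ≫ l = k ∧ l ≫ m = d := by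
  have : StrongEpi π := strongEpi_of_epi π
  have sq : CommSq k π m d := ⟨w⟩
  exact ⟨sq.lift, sq.fac_left, sq.fac_right⟩


/-- Factor an etale morphism over `S` through its open image. -/
theorem exists_factor_open_image {V T : Over S} (p : V ⟶ T) [Etale p.left] :
    ∃ (T0 : T.left.Opens) (p0 : V ⟶ overOpen T T0), (T0 : Set ↥T.left) = Set.range p.left ∧
      p0 ≫ overOpenι T T0 = p ∧ Etale p0.left ∧ Surjective p0.left := by
  let N : T.left.Opens := ⟨Set.range p.left, p.left.isOpenMap.isOpen_range⟩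
  have hNr : Set.range N.ι = Set.range p.left := Scheme.Opens.range_ι N
  have hle : Set.range p.left ⊆ Set.range N.ι := by rw [hNr]
  have hl₀ : IsOpenImmersion.lift N.ι p.left hle ≫ N.ι = p.left := IsOpenImmersion.lift_fac _ _ _
  generalize IsOpenImmersion.lift N.ι p.left hle = l at hl₀
  have hle' : Etale l := by
    have : Etale (l ≫ N.ι) := by rw [hl₀]; infer_instance
    exact Etale.of_comp l N.ι
  have hls : Surjective l := ⟨fun n => by
    have : N.ι n ∈ Set.range p.left := by rw [← hNr]; exact ⟨n, rfl⟩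
    obtain ⟨w, hw⟩ := this
    refine ⟨w, N.ι.injective ?_⟩
    rw [← Scheme.Hom.comp_apply, hl₀]; exact hw⟩
  refine ⟨N, Over.homMk l (by
    change l ≫ N.ι ≫ T.hom = V.hom
    rw [← Category.assoc, hl₀, Over.w]), rfl, ?_, hle', hls⟩
  ext1
  exact hl₀

/-- If `e` is an epimorphism of sheaves, every scheme-valued base change of `e` is surjective. -/
theorem surjective_of_isPullback_epi {F G : Sp S} (e : F ⟶ G) [Epi e] {V T : Over S}
    (g : (yon S).obj T ⟶ G) (fst : (yon S).obj V ⟶ F) (snd : V ⟶ T)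
    (sq : IsPullback fst ((yon S).map snd) e g) : Surjective snd.left := by
  refine ⟨fun t => ?_⟩
  obtain ⟨W', g', u, ⟨x', rfl⟩, hu⟩ := exists_local_lift_of_epi e g t
  obtain ⟨v, hv⟩ := (yon S).map_surjective (sq.lift u ((yon S).map g') hu)
  have hv2 : v ≫ snd = g' := (yon S).map_injective (by rw [Functor.map_comp, hv, sq.lift_snd])
  refine ⟨v.left x', ?_⟩
  rw [← hv2]
  rfl

theorem repWith_surjective_of_epi {F G : Sp S} (e : F ⟶ G) [Epi e] (hrep : Representable e) :
    RepWith @Surjective e :=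
  ⟨hrep, fun _ _ g fst snd sq => surjective_of_isPullback_epi e g fst snd sq⟩

/-- A subsheaf of a sheaf with representable diagonal has representable diagonal. -/
theorem representable_diag_of_mono {X' X : Sp S} (j : X' ⟶ X) [Mono j]
    (hX : Representable (Limits.diag X)) : Representable (Limits.diag X') := by
  refine Functor.relativelyRepresentable.diag_iff.2 fun T a' T' b => ?_
  obtain ⟨V, snd, fst, sq⟩ := Functor.relativelyRepresentable.of_diag hX (a' ≫ j) (b ≫ j)
  exact ⟨V, snd, fst, Groth.Agent.H53.isPullback_of_comp_mono j sq⟩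

/-- The base change of the image of an etale map `a : h_U ⟶ X` along `ξ : h_T ⟶ X` is the open
subscheme of `T` which is the image of `U ×_X T ⟶ T`. -/
theorem isPullback_image_open {X : Sp S} {U : Over S} (a : (yon S).obj U ⟶ X)
    (ha : RepWith @Etale a) {T : Over S} (ξ : (yon S).obj T ⟶ X) :
    ∃ (T0 : T.left.Opens) (η : (yon S).obj (overOpen T T0) ⟶ Sheaf.image a),
      IsPullback η ((yon S).map (overOpenι T T0)) (Sheaf.imageι a) ξ := by
  have hrep := ha.rep
  have sq : IsPullback (hrep.fst ξ) ((yon S).map (hrep.snd ξ)) a ξ := hrep.isPullback ξ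
  have hpe : Etale (hrep.snd ξ).left := ha.property_snd ξ
  generalize hrep.snd ξ = p at sq hpe
  generalize hrep.fst ξ = q at sq
  obtain ⟨T0, p0, hT0, hp0, hp0e, hp0s⟩ := exists_factor_open_image p
  have hej : Sheaf.toImage a ≫ Sheaf.imageι a = a := Sheaf.toImage_ι a
  have hepi : Epi ((yon S).map p0) := epi_yon_map_of_fppf p0
  obtain ⟨η, hη1, hη2⟩ := exists_lift_of_epi_of_mono ((yon S).map p0) (q ≫ Sheaf.toImage a)
    (Sheaf.imageι a) ((yon S).map (overOpenι T T0) ≫ ξ) (by
      rw [Category.assoc, hej, sq.w, ← Category.assoc, ← Functor.map_comp, hp0])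
  refine ⟨T0, η, ?_⟩
  let c : (yon S).obj (overOpen T T0) ⟶ pullback (Sheaf.imageι a) ξ :=
    pullback.lift η ((yon S).map (overOpenι T T0)) hη2
  have hc2 : c ≫ pullback.snd (Sheaf.imageι a) ξ = (yon S).map (overOpenι T T0) :=
    pullback.lift_snd _ _ _
  have hmι : Mono (overOpenι T T0) := by
    have : Mono (overOpenι T T0).left := by
      change Mono T0.ι
      infer_instance
    exact mono_over_of_mono_left _
  have hmy : Mono ((yon S).map (overOpenι T T0)) := mono_yon_map _
  have hcm : Mono c := by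
    have : Mono (c ≫ pullback.snd (Sheaf.imageι a) ξ) := by rw [hc2]; exact hmy
    exact mono_of_mono c (pullback.snd (Sheaf.imageι a) ξ)
  have hce : Epi c := by
    constructor
    intro Z g h hgh
    apply sp_hom_ext
    intro W w
    obtain ⟨t', ht'⟩ := (yon S).map_surjective (w ≫ pullback.snd (Sheaf.imageι a) ξ)
    have hrange : Set.range t'.left ⊆ (T0 : Set ↥T.left) := by
      rintro _ ⟨x, rfl⟩
      obtain ⟨W', g', u, ⟨x', rfl⟩, hu⟩ :=
        exists_local_lift_of_epi (Sheaf.toImage a) (w ≫ pullback.fst (Sheaf.imageι a) ξ) x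
      have h1 : u ≫ a = (yon S).map (g' ≫ t') ≫ ξ := by
        rw [← hej, ← Category.assoc, hu, Functor.map_comp, ht', Category.assoc, Category.assoc,
          Category.assoc, Category.assoc, pullback.condition]
      obtain ⟨v, hv⟩ := (yon S).map_surjective (sq.lift u ((yon S).map (g' ≫ t')) h1)
      have hv2 : v ≫ p = g' ≫ t' :=
        (yon S).map_injective (by rw [Functor.map_comp, hv, sq.lift_snd])
      rw [hT0]
      refine ⟨v.left x', ?_⟩
      have := congrArg (fun m => m.left x') hv2
      simpa using this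
    have hle : Set.range t'.left ⊆ Set.range T0.ι := by
      rw [Scheme.Opens.range_ι]; exact hrange
    have ht0l : IsOpenImmersion.lift T0.ι t'.left hle ≫ T0.ι = t'.left :=
      IsOpenImmersion.lift_fac _ _ _
    generalize IsOpenImmersion.lift T0.ι t'.left hle = t0l at ht0l
    let t0 : W ⟶ overOpen T T0 := Over.homMk t0l (by
      change t0l ≫ T0.ι ≫ T.hom = W.hom
      rw [← Category.assoc, ht0l, Over.w])
    have ht0 : t0 ≫ overOpenι T T0 = t' := by
      ext1
      exact ht0l
    have hw : w = (yon S).map t0 ≫ c := by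
      rw [← cancel_mono (pullback.snd (Sheaf.imageι a) ξ), Category.assoc, hc2,
        ← Functor.map_comp, ht0, ht']
    rw [hw, Category.assoc, Category.assoc, hgh]
  have hci : IsIso c := isIso_of_mono_of_epi c
  exact IsPullback.of_iso_pullback ⟨hη2⟩ (asIso c) (pullback.lift_fst _ _ _) hc2


/-- The image of an etale map from a scheme to a sheaf is an open subsheaf. -/
theorem repWith_isOpenImmersion_imageι {X : Sp S} {U : Over S} (a : (yon S).obj U ⟶ X)
    (ha : RepWith @Etale a) : RepWith @IsOpenImmersion (Sheaf.imageι a) := by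
  apply MorphismProperty.relative.of_exists
  intro T ξ
  obtain ⟨T0, η, sq⟩ := isPullback_image_open a ha ξ
  exact ⟨overOpen T T0, η, overOpenι T T0, sq, (inferInstance : IsOpenImmersion T0.ι)⟩

theorem repWith_etale_toImage {X : Sp S} {U : Over S} (a : (yon S).obj U ⟶ X)
    (ha : RepWith @Etale a) : RepWith @Etale (Sheaf.toImage a) := by
  have hej : Sheaf.toImage a ≫ Sheaf.imageι a = a := Sheaf.toImage_ι a
  refine ⟨fun T g => ?_, fun T V g fst snd sq => ?_⟩
  · obtain ⟨V, snd, fst, sq⟩ := ha.rep (g ≫ Sheaf.imageι a)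
    refine ⟨V, snd, fst, Groth.Agent.H53.isPullback_of_comp_mono (Sheaf.imageι a) ?_⟩
    rwa [hej]
  · have := isPullback_comp_mono (Sheaf.imageι a) sq
    rw [hej] at this
    exact ha.property _ _ _ this

theorem repWith_surjective_toImage {X : Sp S} {U : Over S} (a : (yon S).obj U ⟶ X)
    (ha : RepWith @Etale a) : RepWith @Surjective (Sheaf.toImage a) :=
  repWith_surjective_of_epi _ (repWith_etale_toImage a ha).rep

/-- The image of an etale map from a scheme to an algebraic space is an algebraic space. -/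
theorem isAlgSpace_image {X : Sp S} (hX : IsAlgSpace X) {U : Over S} (a : (yon S).obj U ⟶ X)
    (ha : RepWith @Etale a) : IsAlgSpace (Sheaf.image a) :=
  ⟨representable_diag_of_mono (Sheaf.imageι a) hX.diag, U, Sheaf.toImage a,
    repWith_etale_toImage a ha, repWith_surjective_toImage a ha⟩

theorem range_points_map_imageι {X : Sp S} {U : Over S} (a : (yon S).obj U ⟶ X)
    (ha : RepWith @Etale a) :
    Set.range (Points.map (Sheaf.imageι a)) = Set.range (Points.ofPt a) := by
  have hej : Sheaf.toImage a ≫ Sheaf.imageι a = a := Sheaf.toImage_ι a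
  have hs := surjective_points_of_repWith_surjective _ (repWith_surjective_toImage a ha)
  ext x
  constructor
  · rintro ⟨y, rfl⟩
    obtain ⟨z, rfl⟩ := hs y
    obtain ⟨u, rfl⟩ := (Points.schemeEquiv U).surjective z
    refine ⟨u, ?_⟩
    rw [← Points.map_comp, hej, Points.ofPt_eq_map_ofScheme]
    rfl
  · rintro ⟨u, rfl⟩
    refine ⟨Points.map (Sheaf.toImage a) (Points.ofScheme U u), ?_⟩
    rw [← Points.map_comp, hej, Points.ofPt_eq_map_ofScheme]

/-- Open subsets of `|X|` are the images of open subspaces. -/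
theorem exists_open_subspace_of_isOpen {X : Sp S} (hX : IsAlgSpace X) (W : Set (Points X))
    (hW : IsOpen W) :
    ∃ (X' : Sp S) (j : X' ⟶ X), IsAlgSpace X' ∧ Mono j ∧ RepWith @IsOpenImmersion j ∧
      Set.range (Points.map j) = W := by
  obtain ⟨U0, a0, ha0e, ha0s⟩ := hX.atlas
  let W0 : U0.left.Opens := ⟨Points.ofPt a0 ⁻¹' W, hW.preimage (Points.continuous_ofPt a0)⟩
  let a : (yon S).obj (overOpen U0 W0) ⟶ X := (yon S).map (overOpenι U0 W0) ≫ a0
  have ha : RepWith @Etale a :=
    (RepWith (S := S) @Etale).comp_mem _ _ (repWith_etale_overOpenι U0 W0) ha0e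
  refine ⟨Sheaf.image a, Sheaf.imageι a, isAlgSpace_image hX a ha, inferInstance,
    repWith_isOpenImmersion_imageι a ha, ?_⟩
  rw [range_points_map_imageι a ha]
  ext x
  constructor
  · rintro ⟨u, rfl⟩
    have : Points.ofPt a u = Points.ofPt a0 (W0.ι u) := by
      rw [Points.ofPt_eq_map_ofScheme, Points.ofPt_eq_map_ofScheme, Points.map_comp,
        points_map_ofScheme]
      rfl
    rw [this]
    exact u.2
  · intro hx
    obtain ⟨z, rfl⟩ := surjective_points_of_repWith_surjective a0 ha0s x
    obtain ⟨u, rfl⟩ := (Points.schemeEquiv U0).surjective z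
    have hu : u ∈ W0 := by
      change Points.ofPt a0 u ∈ W
      rw [Points.ofPt_eq_map_ofScheme]
      exact hx
    refine ⟨⟨u, hu⟩, ?_⟩
    rw [Points.ofPt_eq_map_ofScheme, Points.map_comp, points_map_ofScheme]
    rfl

end Groth.Agent.H52
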