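import Groth.Agent.H52.BaseChange1
import Groth.Agent.Lib.Helper54.MonoDescentRep
import Groth.Agent.S10531

/-!
# Change of base scheme for algebraic spaces, part 2: the restriction functor `j⁻¹` (S9897)
-/

set_option autoImplicit false
universe u
open CategoryTheory CategoryTheory.Limits AlgebraicGeometry Opposite
open AlgSp Groth.Agent.Lib.Helper51

namespace Groth.Agent.H52.BaseChange

variable {S S' : Scheme.{u}} (g : S ⟶ S')

/-- The base change `X' ×_{S'} S` as a scheme over `S`. -/
noncomputable abbrev bcObj (X' : Over S') : Over S := Over.mk (pullback.snd X'.hom g)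

/-- The projection `X' ×_{S'} S ⟶ X'` over `S'`. -/
noncomputable abbrev bcProj (X' : Over S') : (Over.map g).obj (bcObj g X') ⟶ X' :=
  Over.homMk (pullback.fst X'.hom g) (by simp [pullback.condition])

/-- `j⁻¹ h_{X'}` is represented by `X' ×_{S'} S`. -/
noncomputable def jinvYonRepresentableBy (X' : Over S') :
    ((jinv g).obj ((yon S').obj X')).obj.RepresentableBy (bcObj g X') where
  homEquiv {T} :=
    { toFun := fun d => ⟨(Over.map g).map d ≫ bcProj g X'⟩
      invFun := fun m => Over.homMk (pullback.lift m.down.left T.hom (by
        have := Over.w m.down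
        simpa using this)) (pullback.lift_snd _ _ _)
      left_inv := fun d => by
        ext
        apply pullback.hom_ext
        · exact pullback.lift_fst _ _ _
        · refine (pullback.lift_snd _ _ _).trans ?_
          exact (Over.w d).symm
      right_inv := fun m => by
        apply ULift.ext
        apply Over.OverMorphism.ext
        exact pullback.lift_fst _ _ _ }
  homEquiv_comp {T T1} f d := by
    apply ULift.ext
    change (Over.map g).map (f ≫ d) ≫ bcProj g X' = (Over.map g).map f ≫ (Over.map g).map d ≫ bcProj g X'
    rw [Functor.map_comp, Category.assoc]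

/-- The iso `h_{X' ×_{S'} S} ≅ j⁻¹ h_{X'}`. -/
noncomputable def jinvYonIso (X' : Over S') :
    (yon S).obj (bcObj g X') ≅ (jinv g).obj ((yon S').obj X') :=
  isoOfRepresentableBy (jinvYonRepresentableBy g X')

/-- `j⁻¹` preserves algebraic spaces. -/
theorem isAlgSpace_jinv {F' : Sp S'} (hF' : IsAlgSpace F') : IsAlgSpace ((jinv g).obj F') := by
  obtain ⟨U', p', hpe, hps⟩ := hF'.atlas
  have h1 : RepWith @Etale ((jinv g).map p') := repWith_jinv_map g @Etale p' hpe
  have h2 : RepWith @Surjective ((jinv g).map p') := repWith_jinv_map g @Surjective p' hps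
  refine Groth.Agent.Lib.Helper54.isAlgSpace_of_chart (Groth.Agent.S10531.result S)
    ((jinvYonIso g U').hom ≫ (jinv g).map p') ?_ ?_
  · exact (MorphismProperty.cancel_left_of_respectsIso (RepWith (S := S) @Etale) _ _).2 h1
  · exact (MorphismProperty.cancel_left_of_respectsIso (RepWith (S := S) @Surjective) _ _).2 h2

end Groth.Agent.H52.BaseChange
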