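import Groth.Agent.H52.BaseChange2
import Groth.Agent.H52.FibreProd

/-!
# Change of base scheme for algebraic spaces, part 3 (S9893)

`j⁻¹ F'` is an algebraic space over `S` iff `h_S × F'` is an algebraic space over `S'`.
-/

set_option autoImplicit false
universe u
open CategoryTheory CategoryTheory.Limits AlgebraicGeometry Opposite
open AlgSp Groth.Agent.Lib.Helper51

namespace Groth.Agent.H52.BaseChange

variable {S S' : Scheme.{u}} (g : S ⟶ S')

/-- The structure morphism of `T` over `S`, as a morphism over `S'` to `S`. -/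
noncomputable abbrev strHom (T : Over S) : (Over.map g).obj T ⟶ Over.mk g := Over.homMk T.hom

theorem map_comp_strHom {T T1 : Over S} (r : T1 ⟶ T) :
    (Over.map g).map r ≫ strHom g T = strHom g T1 := by
  ext
  simp

/-- The canonical point `h_T ⟶ j⁻¹ h_S`. -/
noncomputable def canPt (T : Over S) : (yon S).obj T ⟶ (jinv g).obj ((yon S').obj (Over.mk g)) :=
  (adjEquiv g).symm ((yon S').map (strHom g T))

theorem adjEquiv_canPt (T : Over S) : adjEquiv g (canPt g T) = (yon S').map (strHom g T) :=
  Equiv.apply_symm_apply _ _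

theorem map_comp_canPt {T T1 : Over S} (r : T1 ⟶ T) :
    (yon S).map r ≫ canPt g T = canPt g T1 := by
  apply (adjEquiv g).injective
  rw [adjEquiv_naturality, adjEquiv_canPt, adjEquiv_canPt, ← Functor.map_comp, map_comp_strHom]

variable (F' : Sp S')

/-- The section `j⁻¹ F' ⟶ j⁻¹ (h_S × F')`, `ξ ↦ (structure map, ξ)`. -/
noncomputable def sectionHom :
    (jinv g).obj F' ⟶ (jinv g).obj ((yon S').obj (Over.mk g) ⨯ F') :=
  homOfYon (fun T a => (adjEquiv g).symm (prod.lift ((yon S').map (strHom g T)) (adjEquiv g a)))
    (by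
      intro T T1 r a
      apply (adjEquiv g).injective
      rw [Equiv.apply_symm_apply, adjEquiv_naturality, adjEquiv_naturality, Equiv.apply_symm_apply]
      ext
      · simp only [prod.lift_fst, Category.assoc, ← Functor.map_comp, map_comp_strHom]
      · simp only [prod.lift_snd, Category.assoc])

theorem comp_sectionHom {T : Over S} (a : (yon S).obj T ⟶ (jinv g).obj F') :
    adjEquiv g (a ≫ sectionHom g F') =
      prod.lift ((yon S').map (strHom g T)) (adjEquiv g a) := by
  rw [sectionHom, comp_homOfYon, Equiv.apply_symm_apply]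

/-- `j⁻¹ F'` is the fibre of `j⁻¹(h_S × F') ⟶ j⁻¹ h_S` over the canonical point. -/
theorem isPullback_sectionHom :
    IsPullback (sectionHom g F') ((yonBaseIsTerminal S).from _)
      ((jinv g).map (prod.fst : (yon S').obj (Over.mk g) ⨯ F' ⟶ _)) (canPt g (Over.mk (𝟙 S))) := by
  have hc : ∀ {T : Over S} (c : (yon S).obj T ⟶ (yon S).obj (Over.mk (𝟙 S))),
      c ≫ canPt g (Over.mk (𝟙 S)) = canPt g T := by
    intro T c
    obtain ⟨c0, rfl⟩ := (yon S).map_surjective c
    exact map_comp_canPt g c0
  refine isPullback_of_forall_yon _ _ _ _ ?_ ?_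
  · apply H52.sp_hom_ext
    intro T a
    rw [← Category.assoc, ← Category.assoc, hc]
    apply (adjEquiv g).injective
    rw [adjEquiv_comp, comp_sectionHom, prod.lift_fst, adjEquiv_canPt]
  · intro T b c hbc
    have h1 : adjEquiv g b ≫ prod.fst = (yon S').map (strHom g T) := by
      rw [← adjEquiv_comp, hbc, hc, adjEquiv_canPt]
    refine ⟨(adjEquiv g).symm (adjEquiv g b ≫ prod.snd), ⟨?_, (yonBaseIsTerminal S).hom_ext _ _⟩,
      ?_⟩
    · apply (adjEquiv g).injective
      rw [comp_sectionHom, Equiv.apply_symm_apply]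
      ext
      · rw [prod.lift_fst, h1]
      · rw [prod.lift_snd]
    · rintro a ⟨ha, -⟩
      apply (adjEquiv g).injective
      rw [Equiv.apply_symm_apply, ← ha, comp_sectionHom, prod.lift_snd]

/-- If `h_S × F'` is an algebraic space over `S'` then `j⁻¹ F'` is an algebraic space over `S`. -/
theorem isAlgSpace_jinv_of_prod (h : IsAlgSpace ((yon S').obj (Over.mk g) ⨯ F')) :
    IsAlgSpace ((jinv g).obj F') :=
  isAlgSpace_of_isPullback (isPullback_sectionHom g F') (isAlgSpace_jinv g h)
    (isAlgSpace_jinv g (IsAlgSpace.yon_obj _)) (IsAlgSpace.yon_obj _)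

/-- The map `h_{U/S'} ⟶ h_S × F'` adjoint to `p : h_U ⟶ j⁻¹ F'`. -/
noncomputable def flatHom {U : Over S} (p : (yon S).obj U ⟶ (jinv g).obj F') :
    (yon S').obj ((Over.map g).obj U) ⟶ (yon S').obj (Over.mk g) ⨯ F' :=
  prod.lift ((yon S').map (strHom g U)) (adjEquiv g p)

/-- If `p : h_U ⟶ j⁻¹ F'` is representable with `P` then so is `h_{U/S'} ⟶ h_S × F'`. -/
theorem repWith_flatHom (P : MorphismProperty Scheme.{u}) [P.RespectsIso] {U : Over S}
    (p : (yon S).obj U ⟶ (jinv g).obj F') (hp : RepWith P p) : RepWith P (flatHom g F' p) := by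
  apply MorphismProperty.relative.of_exists
  intro T' ξ
  obtain ⟨φ0, hφ0⟩ := (yon S').map_surjective (ξ ≫ prod.fst)
  let T : Over S := Over.mk φ0.left
  let ε : (Over.map g).obj T ≅ T' := Over.isoMk (Iso.refl _) (by
    have := Over.w φ0
    simp only [Over.mk_hom] at this
    simp [T, this])
  have hεφ : ε.hom ≫ φ0 = strHom g T := by
    ext
    simp [ε, T]
  let a : (yon S).obj T ⟶ (jinv g).obj F' :=
    (adjEquiv g).symm ((yon S').map ε.hom ≫ ξ ≫ prod.snd)
  have ha : adjEquiv g a = (yon S').map ε.hom ≫ ξ ≫ prod.snd := Equiv.apply_symm_apply _ _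
  have hrep := hp.rep
  let b : hrep.pullback a ⟶ T := hrep.snd a
  obtain ⟨q, hq⟩ := (yon S).map_surjective (hrep.fst a)
  have sq : IsPullback ((yon S).map q) ((yon S).map b) p a := by
    rw [hq]
    exact hrep.isPullback a
  have hP : P b.left := hp.property_snd a
  let b' : (Over.map g).obj (hrep.pullback a) ⟶ T' := (Over.map g).map b ≫ ε.hom
  have hb'φ : b' ≫ φ0 = strHom g (hrep.pullback a) := by
    rw [Category.assoc, hεφ, map_comp_strHom]
  refine ⟨(Over.map g).obj (hrep.pullback a), (yon S').map ((Over.map g).map q), b', ?_, ?_⟩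
  · have w : (yon S').map ((Over.map g).map q) ≫ flatHom g F' p = (yon S').map b' ≫ ξ := by
      apply Limits.prod.hom_ext
      · rw [Category.assoc, Category.assoc, flatHom, prod.lift_fst, ← hφ0, ← Functor.map_comp,
          ← Functor.map_comp, map_comp_strHom, hb'φ]
      · rw [Category.assoc, Category.assoc, flatHom, prod.lift_snd, ← adjEquiv_naturality, sq.w,
          adjEquiv_naturality, ha, Functor.map_comp, Category.assoc]
    refine isPullback_of_forall_yon _ _ _ _ w ?_
    intro T1' β c hβc
    obtain ⟨β0, rfl⟩ := (yon S').map_surjective β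
    obtain ⟨c0, rfl⟩ := (yon S').map_surjective c
    have h1 : β0 ≫ strHom g U = c0 ≫ φ0 := by
      apply (yon S').map_injective
      have := congrArg (· ≫ prod.fst) hβc
      simp only [Category.assoc, flatHom, prod.lift_fst] at this
      rw [Functor.map_comp, Functor.map_comp, this, hφ0]
    have h1l : β0.left ≫ U.hom = c0.left ≫ φ0.left := by
      have := congrArg (fun k => k.left) h1
      simpa using this
    have h2 : (yon S').map β0 ≫ adjEquiv g p = (yon S').map c0 ≫ ξ ≫ prod.snd := by
      have := congrArg (· ≫ prod.snd) hβc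
      simpa only [Category.assoc, flatHom, prod.lift_snd] using this
    let T1 : Over S := Over.mk (c0.left ≫ φ0.left)
    let ε1 : (Over.map g).obj T1 ≅ T1' := Over.isoMk (Iso.refl _) (by
      have h3 := Over.w φ0
      have h4 := Over.w c0
      simp only [Over.mk_hom] at h3
      simp [T1, h3, h4])
    let c0S : T1 ⟶ T := Over.homMk c0.left rfl
    let β0S : T1 ⟶ U := Over.homMk β0.left h1l
    have e1 : (Over.map g).map β0S = ε1.hom ≫ β0 := by
      ext
      simp [ε1, β0S]
    have e2 : (Over.map g).map c0S ≫ ε.hom = ε1.hom ≫ c0 := by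
      ext
      simp [ε1, ε, c0S]
    have h3 : (yon S).map β0S ≫ p = (yon S).map c0S ≫ a := by
      apply (adjEquiv g).injective
      rw [adjEquiv_naturality, adjEquiv_naturality, ha, e1, Functor.map_comp, Category.assoc, h2,
        ← Category.assoc ((yon S').map ((Over.map g).map c0S)), ← Functor.map_comp, e2,
        Functor.map_comp, Category.assoc]
    obtain ⟨d0, hd0⟩ := (yon S).map_surjective (sq.lift _ _ h3)
    have hd0q : d0 ≫ q = β0S :=
      (yon S).map_injective (by rw [Functor.map_comp, hd0, sq.lift_fst])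
    have hd0b : d0 ≫ b = c0S :=
      (yon S).map_injective (by rw [Functor.map_comp, hd0, sq.lift_snd])
    refine ⟨(yon S').map (ε1.inv ≫ (Over.map g).map d0), ⟨?_, ?_⟩, ?_⟩
    · rw [← Functor.map_comp, Category.assoc, ← Functor.map_comp, hd0q, e1,
        Iso.inv_hom_id_assoc]
    · rw [← Functor.map_comp]
      congr 1
      change (ε1.inv ≫ (Over.map g).map d0) ≫ (Over.map g).map b ≫ ε.hom = c0
      rw [Category.assoc, ← Category.assoc ((Over.map g).map d0), ← Functor.map_comp, hd0b, e2,
        Iso.inv_hom_id_assoc]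
    · rintro a1 ⟨ha1, ha2⟩
      obtain ⟨d1', rfl⟩ := (yon S').map_surjective a1
      congr 1
      have hq' : d1' ≫ (Over.map g).map q = β0 :=
        (yon S').map_injective (by rw [Functor.map_comp]; exact ha1)
      have hb' : d1' ≫ b' = c0 :=
        (yon S').map_injective (by rw [Functor.map_comp]; exact ha2)
      have hb'l : d1'.left ≫ b.left = c0.left := by
        have := congrArg (fun k => k.left) hb'
        simpa [b', ε] using this
      have hq'l : d1'.left ≫ q.left = β0.left := by
        have := congrArg (fun k => k.left) hq'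
        simpa using this
      let d1 : T1 ⟶ hrep.pullback a := Over.homMk d1'.left (by
        change d1'.left ≫ (hrep.pullback a).hom = c0.left ≫ φ0.left
        rw [← Over.w b, ← Category.assoc, hb'l]
        rfl)
      have hd : d1 = d0 := by
        apply (yon S).map_injective
        apply sq.hom_ext
        · rw [← Functor.map_comp, ← Functor.map_comp, hd0q]
          congr 1
          ext
          exact hq'l
        · rw [← Functor.map_comp, ← Functor.map_comp, hd0b]
          congr 1
          ext
          exact hb'l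
      ext
      have h5 : d1'.left = d0.left := congrArg (fun k => k.left) hd
      have h6 : (ε1.inv ≫ (Over.map g).map d0).left = d0.left := by
        simp [ε1]
        exact Category.id_comp _
      rw [h6]
      exact h5
  · change P b'.left
    have : b'.left = b.left := by
      simp [b', ε]
    rw [this]
    exact hP

/-- If `j⁻¹ F'` is an algebraic space over `S` then `h_S × F'` is an algebraic space over `S'`. -/
theorem isAlgSpace_prod_of_jinv (h : IsAlgSpace ((jinv g).obj F')) :
    IsAlgSpace ((yon S').obj (Over.mk g) ⨯ F') := by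
  obtain ⟨U, p, hpe, hps⟩ := h.atlas
  exact Groth.Agent.Lib.Helper54.isAlgSpace_of_chart (Groth.Agent.S10531.result S')
    (flatHom g F' p) (repWith_flatHom g F' @Etale p hpe) (repWith_flatHom g F' @Surjective p hps)

end Groth.Agent.H52.BaseChange
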