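import Groth.Agent.H52.Bootstrap4
import Groth.Agent.H53.Residual
import Groth.Agent.H52.CoverGlue
import Groth.Agent.H52.OpenSub

/-!
# Bootstrap, part 5

An epimorphism `h_U ⟶ Q` of fppf sheaves whose kernel pair is a scheme `R` with `t : R ⟶ U`
locally of finite type is representable by schemes.
-/

set_option autoImplicit false
universe u v
open CategoryTheory CategoryTheory.Limits AlgebraicGeometry Opposite
open AlgSp

namespace Groth.Agent.H52.Bootstrap

section Cat

variable {C : Type v} [Category C] [HasBinaryProducts C]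

/-- Base change of a graph-type monomorphism. -/
theorem isPullback_graph_baseChange {H T U T' V : C} (hT : H ⟶ T) (hU : H ⟶ U) (r : T' ⟶ T)
    (e : V ⟶ H) (v : V ⟶ T') (sq : IsPullback e v hT r) :
    IsPullback (prod.lift v (e ≫ hU)) e (prod.map r (𝟙 U)) (prod.lift hT hU) := by
  have hex : ∀ s : PullbackCone (prod.map r (𝟙 U)) (prod.lift hT hU),
      ∃ l : s.pt ⟶ V, l ≫ e = s.snd ∧ l ≫ v = s.fst ≫ prod.fst := by
    intro s
    have h := congrArg (· ≫ prod.fst) s.condition
    simp only [Category.assoc, prod.map_fst, prod.lift_fst] at h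
    exact ⟨sq.lift s.snd (s.fst ≫ prod.fst) (by rw [Category.assoc]; exact h.symm),
      sq.lift_fst _ _ _, sq.lift_snd _ _ _⟩
  choose lft hl1 hl2 using hex
  refine ⟨⟨?_⟩, ⟨PullbackCone.IsLimit.mk _ lft (fun s => ?_) (fun s => hl1 s)
    (fun s m h1 h2 => ?_)⟩⟩
  · apply Limits.prod.hom_ext
    · rw [Category.assoc, Category.assoc, prod.map_fst, prod.lift_fst, prod.lift_fst_assoc, sq.w]
    · rw [Category.assoc, Category.assoc, prod.map_snd, prod.lift_snd, Category.comp_id,
        prod.lift_snd]
  · have h := congrArg (· ≫ prod.snd) s.condition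
    simp only [Category.assoc, prod.map_snd, prod.lift_snd, Category.comp_id] at h
    apply Limits.prod.hom_ext
    · rw [Category.assoc, prod.lift_fst, hl2]
    · rw [Category.assoc, prod.lift_snd, ← Category.assoc, hl1, h]
  · apply sq.hom_ext
    · rw [h2, hl1]
    · rw [hl2, ← h1, Category.assoc, prod.lift_fst]

end Cat

variable {S : Scheme.{u}}

/-- Sections of the target of an epimorphism out of a representable sheaf lift along a single
surjective, flat, locally finitely presented morphism. -/
theorem exists_fppf_lift_of_epi {U : Over S} {G : Sp S} (π : (yon S).obj U ⟶ G) [Epi π]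
    {T : Over S} (ξ : (yon S).obj T ⟶ G) :
    ∃ (T' : Over S) (r : T' ⟶ T) (x : T' ⟶ U), Flat r.left ∧
      LocallyOfFinitePresentation r.left ∧ Surjective r.left ∧
      (yon S).map x ≫ π = (yon S).map r ≫ ξ := by
  have key := fun t : ↥T.left => Groth.Agent.H53.Residual.exists_flat_affine_lift_of_epi π ξ t
  choose W g l _ hfl hfp hrange hl using key
  have hx : ∀ t, ∃ x : W t ⟶ U, (yon S).map x = l t := fun t => (yon S).map_surjective (l t)
  choose x hx using hx
  let X : ↥T.left → Scheme.{u} := fun t => (W t).left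
  let r₀ : (∐ X) ⟶ T.left := Sigma.desc (fun t => (g t).left)
  let x₀ : (∐ X) ⟶ U.left := Sigma.desc (fun t => (x t).left)
  have hx₀ : x₀ ≫ U.hom = r₀ ≫ T.hom := by
    refine Sigma.hom_ext _ _ (fun t => ?_)
    rw [Sigma.ι_desc_assoc, Sigma.ι_desc_assoc, Over.w, Over.w]
  let T' : Over S := Over.mk (r₀ ≫ T.hom)
  let r : T' ⟶ T := Over.homMk r₀ rfl
  let x' : T' ⟶ U := Over.homMk x₀ hx₀
  let ι : ∀ t, W t ⟶ T' := fun t => Over.homMk (Sigma.ι X t) (by
    change Sigma.ι X t ≫ r₀ ≫ T.hom = (W t).hom
    rw [Sigma.ι_desc_assoc, Over.w])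
  have hιr : ∀ t, ι t ≫ r = g t := fun t => by
    apply Over.OverMorphism.ext
    exact Sigma.ι_desc _ _
  have hιx : ∀ t, ι t ≫ x' = x t := fun t => by
    apply Over.OverMorphism.ext
    exact Sigma.ι_desc _ _
  have hfam : IsFppfFamily ι :=
    { flat := fun t => by
        change Flat (Sigma.ι X t)
        infer_instance
      lfp := fun t => by
        change LocallyOfFinitePresentation (Sigma.ι X t)
        infer_instance
      surj := fun z => by
        obtain ⟨t, y, hy⟩ := (sigmaOpenCover X).exists_eq z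
        exact ⟨t, y, hy⟩ }
  refine ⟨T', r, x', ?_, ?_, ?_, ?_⟩
  · change Flat r₀
    refine IsZariskiLocalAtSource.of_openCover (P := @Flat) (sigmaOpenCover X) (fun t => ?_)
    change Flat (Sigma.ι X t ≫ r₀)
    rw [Sigma.ι_desc]
    exact hfl t
  · change LocallyOfFinitePresentation r₀
    refine IsZariskiLocalAtSource.of_openCover (P := @LocallyOfFinitePresentation)
      (sigmaOpenCover X) (fun t => ?_)
    change LocallyOfFinitePresentation (Sigma.ι X t ≫ r₀)
    rw [Sigma.ι_desc]
    exact hfp t
  · refine ⟨fun t => ?_⟩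
    obtain ⟨w, hw⟩ := hrange t
    refine ⟨(Sigma.ι X t) w, ?_⟩
    change r₀ ((Sigma.ι X t) w) = t
    rw [← Scheme.Hom.comp_apply, Sigma.ι_desc]
    exact hw
  · refine hfam.hom_ext _ _ (fun t => ?_)
    rw [← Category.assoc, ← Category.assoc, ← Functor.map_comp, ← Functor.map_comp, hιr, hιx, hx,
      hl]

/-- An epimorphism from a representable sheaf whose kernel pair is a scheme locally of finite type
over the source is representable by schemes. -/
theorem representable_of_epi_of_kernelPair {U R : Over S} {Q : Sp S} (π : (yon S).obj U ⟶ Q)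
    [Epi π] (s t : R ⟶ U) (sq : IsPullback ((yon S).map t) ((yon S).map s) π π)
    (ht : LocallyOfFiniteType t.left) : Representable π := by
  intro T ξ
  obtain ⟨T', r, x, hrfl, hrfp, hrs, hx⟩ := exists_fppf_lift_of_epi π ξ
  -- the scheme `V' = T' ×_U R`
  have sqV0 := (IsPullback.of_hasPullback x t).map (yon S)
  have hv : LocallyOfFiniteType (pullback.fst x t).left :=
    MorphismProperty.of_isPullback (P := @LocallyOfFiniteType)
      ((IsPullback.of_hasPullback x t).map (Over.forget S)).flip ht
  have sq2 : IsPullback ((yon S).map (pullback.snd x t) ≫ (yon S).map s)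
      ((yon S).map (pullback.fst x t)) π ((yon S).map x ≫ π) := sqV0.flip.paste_horiz sq.flip
  rw [hx] at sq2
  -- factor through `H = h_U ×_Q h_T`
  let e' : (yon S).obj (pullback x t) ⟶ pullback π ξ :=
    pullback.lift ((yon S).map (pullback.snd x t) ≫ (yon S).map s)
      ((yon S).map (pullback.fst x t) ≫ (yon S).map r) (by rw [sq2.w, Category.assoc])
  have he'1 : e' ≫ pullback.fst π ξ = (yon S).map (pullback.snd x t) ≫ (yon S).map s :=
    pullback.lift_fst _ _ _
  have he'2 : e' ≫ pullback.snd π ξ = (yon S).map (pullback.fst x t) ≫ (yon S).map r :=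
    pullback.lift_snd _ _ _
  rw [← he'1] at sq2
  have sq3 : IsPullback e' ((yon S).map (pullback.fst x t)) (pullback.snd π ξ) ((yon S).map r) :=
    IsPullback.of_right sq2 he'2 (IsPullback.of_hasPullback π ξ)
  have sq4 := isPullback_graph_baseChange (pullback.snd π ξ) (pullback.fst π ξ) ((yon S).map r)
    e' ((yon S).map (pullback.fst x t)) sq3
  -- algebraic spaces
  have tB := yonBaseIsTerminal S
  have hBase : IsAlgSpace ((yon S).obj (Over.mk (𝟙 S))) := IsAlgSpace.yon_obj _
  have hprod : ∀ A B : Over S, IsAlgSpace ((yon S).obj A ⨯ (yon S).obj B) := fun A B =>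
    isAlgSpace_of_isPullback
      (IsPullback.of_is_product (limit.isLimit (pair ((yon S).obj A) ((yon S).obj B))) tB)
      (IsAlgSpace.yon_obj A) hBase (IsAlgSpace.yon_obj B)
  have hF := hprod T' U
  have hG := hprod T U
  -- the fppf cover `h_{T'} × h_U ⟶ h_T × h_U`
  have sqg := IsPullback.of_prod_fst_with_id ((yon S).map r) ((yon S).obj U)
  have hrS : IsSurjectiveMor ((yon S).map r) :=
    surjective_points_of_repWith_surjective _ ((repWith_yon_map_iff @Surjective r).2 hrs)
  have hrF : LocP @Flat ((yon S).map r) :=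
    isEtLocal_flat.locP_of_repWith' _ ((repWith_yon_map_iff @Flat r).2 hrfl)
  have hrP : LocP @LocallyOfFinitePresentation ((yon S).map r) :=
    isEtLocal_lfp.locP_of_repWith' _ ((repWith_yon_map_iff @LocallyOfFinitePresentation r).2 hrfp)
  have hg := repBySpWith_fppf_of_isAlgSpace hF hG (prod.map ((yon S).map r) (𝟙 ((yon S).obj U)))
    (surjective_points_of_isPullback sqg hrS)
    (isEtLocal_flat.locP_of_isPullback (IsAlgSpace.yon_obj T') (IsAlgSpace.yon_obj T) hG sqg hrF)
    (isEtLocal_lfp.locP_of_isPullback (IsAlgSpace.yon_obj T') (IsAlgSpace.yon_obj T) hG sqg hrP)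
  -- the monomorphism `h_{V'} ⟶ h_{T'} × h_U`
  have hmono_m : Mono (prod.lift (pullback.snd π ξ) (pullback.fst π ξ)) := by
    constructor
    intro Z a b hab
    apply pullback.hom_ext
    · have h1 : (a ≫ prod.lift (pullback.snd π ξ) (pullback.fst π ξ)) ≫ prod.snd =
          (b ≫ prod.lift (pullback.snd π ξ) (pullback.fst π ξ)) ≫ prod.snd := by rw [hab]
      rwa [Category.assoc, Category.assoc, prod.lift_snd] at h1
    · have h1 : (a ≫ prod.lift (pullback.snd π ξ) (pullback.fst π ξ)) ≫ prod.fst =
          (b ≫ prod.lift (pullback.snd π ξ) (pullback.fst π ξ)) ≫ prod.fst := by rw [hab]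
      rwa [Category.assoc, Category.assoc, prod.lift_fst] at h1
  have hmono_a : Mono (prod.lift ((yon S).map (pullback.fst x t)) (e' ≫ pullback.fst π ξ)) :=
    sq4.mono_fst_of_mono
  have hlft_a : LocP @LocallyOfFiniteType
      (prod.lift ((yon S).map (pullback.fst x t)) (e' ≫ pullback.fst π ξ)) := by
    refine isEtLocal_lft.locP_of_comp (fun A B C f g hfg => ?_) (IsAlgSpace.yon_obj T') _
      prod.fst ?_
    · have : LocallyOfFiniteType (f ≫ g) := hfg
      exact locallyOfFiniteType_of_comp f g
    · rw [prod.lift_fst]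
      exact isEtLocal_lft.locP_of_repWith' _ ((repWith_yon_map_iff @LocallyOfFiniteType _).2 hv)
  have ha := repBySpWith_sep_lqf_of_mono_lft (IsAlgSpace.yon_obj (pullback x t)) hF
    (prod.lift ((yon S).map (pullback.fst x t)) (e' ≫ pullback.fst π ξ)) hlft_a
  -- descent
  let ε := PreservesLimitPair.iso (yon S) T U
  obtain ⟨W, fst, snd, sqW, -, -⟩ := exists_isPullback_of_fppf_of_sep_lqf _ _ _ _ sq4 hg ha ε.hom
  have hiso : IsIso fst := sqW.isIso_fst_of_isIso
  obtain ⟨w, hw⟩ := (yon S).map_surjective (fst ≫ pullback.snd π ξ)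
  refine ⟨W, w, fst ≫ pullback.fst π ξ, ?_⟩
  rw [hw]
  exact IsPullback.of_iso (IsPullback.of_hasPullback π ξ) (asIso fst).symm
    (Iso.refl _) (Iso.refl _) (Iso.refl _) (by simp) (by simp) (by simp) (by simp)

end Groth.Agent.H52.Bootstrap
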