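import Groth.Agent.H52.BaseChange3
import Groth.Agent.S9868
import Groth.Agent.S9872

/-!
# Change of base scheme for algebraic spaces, part 4: the left adjoint `j_!` (S9896)
-/

set_option autoImplicit false
universe u
open CategoryTheory CategoryTheory.Limits AlgebraicGeometry Opposite
open AlgSp Groth.Agent.Lib.Helper51

namespace Groth.Agent.H52.BaseChange

variable {S S' : Scheme.{u}} (g : S ⟶ S')

/-- The left adjoint `j_!` of the restriction functor. -/
noncomputable abbrev jshriek : Sp S ⥤ Sp S' :=
  (Over.map g).sheafPullback (Type (u + 1)) (AlgSp.J S) (AlgSp.J S')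

/-- The adjunction `j_! ⊣ j⁻¹`. -/
noncomputable def jadj : jshriek g ⊣ jinv g :=
  (Over.map g).sheafAdjunctionContinuous (Type (u + 1)) (AlgSp.J S) (AlgSp.J S')

/-- `h_{X/S'} ⟶ j_! h_X`. -/
noncomputable def shriekYonHom (X : Over S) :
    (yon S').obj ((Over.map g).obj X) ⟶ (jshriek g).obj ((yon S).obj X) :=
  adjEquiv g ((jadj g).unit.app ((yon S).obj X))

/-- `j_! h_X ⟶ h_{X/S'}`. -/
noncomputable def shriekYonInv (X : Over S) :
    (jshriek g).obj ((yon S).obj X) ⟶ (yon S').obj ((Over.map g).obj X) :=
  ((jadj g).homEquiv _ _).symm ((adjEquiv g).symm (𝟙 _))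

theorem shriekYonHom_inv (X : Over S) : shriekYonHom g X ≫ shriekYonInv g X = 𝟙 _ := by
  rw [shriekYonHom, ← adjEquiv_comp, ← Adjunction.homEquiv_unit, shriekYonInv,
    Equiv.apply_symm_apply, Equiv.apply_symm_apply]

theorem shriekYonInv_hom (X : Over S) : shriekYonInv g X ≫ shriekYonHom g X = 𝟙 _ := by
  have h1 : (adjEquiv g).symm (𝟙 ((yon S').obj ((Over.map g).obj X))) ≫
      (jinv g).map (shriekYonHom g X) = (jadj g).unit.app ((yon S).obj X) := by
    apply (adjEquiv g).injective
    rw [adjEquiv_comp, Equiv.apply_symm_apply, Category.id_comp]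
    rfl
  apply ((jadj g).homEquiv _ _).injective
  rw [Adjunction.homEquiv_naturality_right, shriekYonInv, Equiv.apply_symm_apply, h1,
    Adjunction.homEquiv_unit, CategoryTheory.Functor.map_id]
  exact (Category.comp_id _).symm

/-- The iso `h_{X/S'} ≅ j_! h_X`. -/
noncomputable def shriekYonIso (X : Over S) :
    (yon S').obj ((Over.map g).obj X) ≅ (jshriek g).obj ((yon S).obj X) where
  hom := shriekYonHom g X
  inv := shriekYonInv g X
  hom_inv_id := shriekYonHom_inv g X
  inv_hom_id := shriekYonInv_hom g X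

theorem shriekYonHom_naturality {X Y : Over S} (r : X ⟶ Y) :
    (yon S').map ((Over.map g).map r) ≫ shriekYonHom g Y =
      shriekYonHom g X ≫ (jshriek g).map ((yon S).map r) := by
  rw [shriekYonHom, shriekYonHom, ← adjEquiv_naturality, ← adjEquiv_comp]
  congr 1
  exact ((jadj g).unit.naturality ((yon S).map r))

section EqvRel

variable {R U : Over S} (s t : R ⟶ U)

/-- A morphism over `S'` into `X` (over `S`) makes its source a scheme over `S`. -/
noncomputable abbrev ovr {X : Over S} {T' : Over S'} (a : T' ⟶ (Over.map g).obj X) : Over S :=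
  Over.mk (a.left ≫ X.hom)

noncomputable abbrev ovrHom {X : Over S} {T' : Over S'} (a : T' ⟶ (Over.map g).obj X) :
    ovr g a ⟶ X := Over.homMk a.left rfl

/-- A morphism over `S` from `ovr a` gives a morphism over `S'` from `T'`. -/
noncomputable abbrev ovrBack {X Y : Over S} {T' : Over S'} (a : T' ⟶ (Over.map g).obj X)
    (r : ovr g a ⟶ Y) : T' ⟶ (Over.map g).obj Y :=
  Over.homMk r.left (by
    have h1 := Over.w r
    have h2 := Over.w a
    simp only [Over.mk_hom, Over.map_obj_hom] at h1 h2 ⊢
    rw [← Category.assoc, h1, Category.assoc, h2])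

theorem isEtaleEqvRel_map (h : IsEtaleEqvRel s t) :
    IsEtaleEqvRel ((Over.map g).map s) ((Over.map g).map t) := by
  have hsU : s.left ≫ U.hom = R.hom := Over.w s
  have htU : t.left ≫ U.hom = R.hom := Over.w t
  refine ⟨⟨?_, ?_⟩, h.etale_left, h.etale_right⟩
  · intro T' r r' hrt hrs
    have hrtl : r.left ≫ t.left = r'.left ≫ t.left := by
      have := congrArg (fun k => k.left) hrt
      simpa using this
    have hrsl : r.left ≫ s.left = r'.left ≫ s.left := by
      have := congrArg (fun k => k.left) hrs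
      simpa using this
    let r'S : ovr g r ⟶ R := Over.homMk r'.left (by
      change r'.left ≫ R.hom = r.left ≫ R.hom
      rw [← hsU, ← Category.assoc, ← hrsl, Category.assoc])
    have := h.injective (ovr g r) (ovrHom g r) r'S (by ext; exact hrtl) (by ext; exact hrsl)
    ext
    exact congrArg (fun k => k.left) this
  · intro T'
    refine ⟨fun a => ?_, fun {a b} hab => ?_, fun {a b c} hab hbc => ?_⟩
    · obtain ⟨r, h1, h2⟩ := (h.equivalence (ovr g a)).refl (ovrHom g a)
      refine ⟨ovrBack g a r, ?_, ?_⟩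
      · ext
        have := congrArg (fun k => k.left) h1
        simpa using this
      · ext
        have := congrArg (fun k => k.left) h2
        simpa using this
    · obtain ⟨r, rfl, rfl⟩ := hab
      obtain ⟨r2, h1, h2⟩ := (h.equivalence (ovr g r)).symm ⟨ovrHom g r, rfl, rfl⟩
      refine ⟨ovrBack g r r2, ?_, ?_⟩
      · ext
        have := congrArg (fun k => k.left) h1
        simpa using this
      · ext
        have := congrArg (fun k => k.left) h2
        simpa using this
    · obtain ⟨r1, rfl, h1s⟩ := hab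
      obtain ⟨r2, h2t, rfl⟩ := hbc
      have h1sl : r1.left ≫ s.left = b.left := by
        have := congrArg (fun k => k.left) h1s
        simpa using this
      have h2tl : r2.left ≫ t.left = b.left := by
        have := congrArg (fun k => k.left) h2t
        simpa using this
      let r1S : ovr g b ⟶ R := Over.homMk r1.left (by
        change r1.left ≫ R.hom = b.left ≫ U.hom
        rw [← hsU, ← Category.assoc, h1sl])
      let r2S : ovr g b ⟶ R := Over.homMk r2.left (by
        change r2.left ≫ R.hom = b.left ≫ U.hom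
        rw [← htU, ← Category.assoc, h2tl])
      obtain ⟨r3, h3t, h3s⟩ := (h.equivalence (ovr g b)).trans
        (⟨r1S, rfl, by ext; exact h1sl⟩ : ∃ r : ovr g b ⟶ R, r ≫ t = r1S ≫ t ∧ r ≫ s = ovrHom g b)
        (⟨r2S, by ext; exact h2tl, rfl⟩ : ∃ r : ovr g b ⟶ R, r ≫ t = ovrHom g b ∧ r ≫ s = r2S ≫ s)
      refine ⟨ovrBack g b r3, ?_, ?_⟩
      · ext
        have := congrArg (fun k => k.left) h3t
        simpa [r1S] using this
      · ext
        have := congrArg (fun k => k.left) h3s
        simpa [r2S] using this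

end EqvRel

theorem shriekYonInv_naturality {X Y : Over S} (r : X ⟶ Y) :
    shriekYonInv g X ≫ (yon S').map ((Over.map g).map r) =
      (jshriek g).map ((yon S).map r) ≫ shriekYonInv g Y := by
  have h := shriekYonHom_naturality g r
  calc shriekYonInv g X ≫ (yon S').map ((Over.map g).map r)
      = shriekYonInv g X ≫ ((yon S').map ((Over.map g).map r) ≫ shriekYonHom g Y) ≫
          shriekYonInv g Y := by
        rw [Category.assoc, shriekYonHom_inv, Category.comp_id]
    _ = (shriekYonInv g X ≫ shriekYonHom g X) ≫ (jshriek g).map ((yon S).map r) ≫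
          shriekYonInv g Y := by
        rw [h, Category.assoc, Category.assoc]
    _ = _ := by rw [shriekYonInv_hom, Category.id_comp]

/-- `j_!` preserves algebraic spaces. -/
theorem isAlgSpace_jshriek {F : Sp S} (hF : IsAlgSpace F) :
    IsAlgSpace ((jshriek g).obj F) := by
  obtain ⟨U, p, hpe, hps⟩ := hF.atlas
  have hrep := hpe.rep
  let t : hrep.pullback p ⟶ U := hrep.fst' p
  let s : hrep.pullback p ⟶ U := hrep.snd p
  have sq : IsPullback ((yon S).map t) ((yon S).map s) p p := hrep.isPullback' p
  obtain ⟨heq, -⟩ := Groth.Agent.S9872.result S F hF p hpe hps s t sq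
  obtain ⟨-, ⟨hcol⟩⟩ := Groth.Agent.S9872.result S F hF p hpe hps t s sq.flip
  have : PreservesColimitsOfSize.{0, 0} (jshriek g) := (jadj g).leftAdjoint_preservesColimits
  have hcol' := isColimitCoforkMapOfIsColimit (jshriek g) sq.flip.w hcol
  let e₀ : (jshriek g).obj ((yon S).obj (hrep.pullback p)) ≅
      QuotSh.rep Scheme.fppfPrecoverage ((Over.map g).obj (hrep.pullback p)) :=
    (shriekYonIso g _).symm ≪≫ (QuotSh.repIsoUliftYoneda Scheme.fppfPrecoverage _).symm
  let e₁ : (jshriek g).obj ((yon S).obj U) ≅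
      QuotSh.rep Scheme.fppfPrecoverage ((Over.map g).obj U) :=
    (shriekYonIso g _).symm ≪≫ (QuotSh.repIsoUliftYoneda Scheme.fppfPrecoverage _).symm
  have comm : ∀ (r : hrep.pullback p ⟶ U),
      e₀.hom ≫ QuotSh.repMap Scheme.fppfPrecoverage ((Over.map g).map r) =
        (jshriek g).map ((yon S).map r) ≫ e₁.hom := by
    intro r
    change (shriekYonInv g _ ≫ (QuotSh.repIsoUliftYoneda Scheme.fppfPrecoverage _).inv) ≫ _ =
      _ ≫ shriekYonInv g _ ≫ (QuotSh.repIsoUliftYoneda Scheme.fppfPrecoverage _).inv
    rw [Category.assoc, repIsoUliftYoneda_inv_naturality, ← Category.assoc]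
    change (shriekYonInv g _ ≫ (yon S').map ((Over.map g).map r)) ≫ _ = _
    rw [shriekYonInv_naturality, Category.assoc]
  let π' : QuotSh.rep Scheme.fppfPrecoverage ((Over.map g).obj U) ⟶ (jshriek g).obj F :=
    e₁.inv ≫ (jshriek g).map p
  have hπ' : QuotSh.repMap Scheme.fppfPrecoverage ((Over.map g).map s) ≫ π' =
      QuotSh.repMap Scheme.fppfPrecoverage ((Over.map g).map t) ≫ π' := by
    have h1 : ∀ r : hrep.pullback p ⟶ U,
        e₀.hom ≫ QuotSh.repMap Scheme.fppfPrecoverage ((Over.map g).map r) ≫ π' =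
          (jshriek g).map ((yon S).map r) ≫ (jshriek g).map p := by
      intro r
      rw [← Category.assoc, comm r, Category.assoc, Iso.hom_inv_id_assoc]
    rw [← cancel_epi e₀.hom, h1, h1, ← Functor.map_comp, ← Functor.map_comp, sq.flip.w]
  have hc' : IsColimit (Cofork.ofπ π' hπ') :=
    Cofork.isColimitOfIsos _ hcol' (Cofork.ofπ π' hπ') e₀ e₁ (Iso.refl _) (comm s) (comm t)
      (by simp [π'])
  let iso : (jshriek g).obj F ≅
      QuotSh.quot Scheme.fppfPrecoverage ((Over.map g).map s) ((Over.map g).map t) :=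
    hc'.coconePointUniqueUpToIso (colimit.isColimit _)
  exact (Groth.Agent.S9868.result S' _ _ (isEtaleEqvRel_map g s t heq)).of_iso iso.symm

end Groth.Agent.H52.BaseChange
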