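import Groth.Agent.H52.BaseChange4
import Groth.Agent.S9869

/-!
# Change of base scheme for algebraic spaces, part 5: points of `j_! F`

The structure map `j_! F ⟶ h_S`, the points `h_{T/S'} ⟶ j_! F` attached to points `h_T ⟶ F`, and
the presentation of `j_! F` obtained from a presentation of `F`.
-/

set_option autoImplicit false
universe u
open CategoryTheory CategoryTheory.Limits AlgebraicGeometry Opposite
open AlgSp Groth.Agent.Lib.Helper51

namespace Groth.Agent.H52.BaseChange

variable {S S' : Scheme.{u}} (g : S ⟶ S')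

/-- The canonical section `F ⟶ j⁻¹ h_S`. -/
noncomputable def canSec (F : Sp S) : F ⟶ (jinv g).obj ((yon S').obj (Over.mk g)) :=
  (yonBaseIsTerminal S).from F ≫ canPt g (Over.mk (𝟙 S))

theorem comp_canSec {F G : Sp S} (α : F ⟶ G) : α ≫ canSec g G = canSec g F := by
  rw [canSec, canSec, ← Category.assoc]
  congr 1
  exact (yonBaseIsTerminal S).hom_ext _ _

theorem canSec_yon (T : Over S) : canSec g ((yon S).obj T) = canPt g T := by
  have h : (yonBaseIsTerminal S).from ((yon S).obj T) =
      (yon S).map (Over.homMk T.hom : T ⟶ Over.mk (𝟙 S)) := (yonBaseIsTerminal S).hom_ext _ _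
  rw [canSec, h, map_comp_canPt]

/-- The structure map `j_! F ⟶ h_S`. -/
noncomputable def strMap (F : Sp S) : (jshriek g).obj F ⟶ (yon S').obj (Over.mk g) :=
  ((jadj g).homEquiv _ _).symm (canSec g F)

theorem map_comp_strMap {F G : Sp S} (α : F ⟶ G) :
    (jshriek g).map α ≫ strMap g G = strMap g F := by
  rw [strMap, ← Adjunction.homEquiv_naturality_left_symm, comp_canSec, strMap]

/-- The point of `j_! F` over `S'` attached to a point of `F` over `S`. -/
noncomputable def pt {F : Sp S} {T : Over S} (a : (yon S).obj T ⟶ F) :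
    (yon S').obj ((Over.map g).obj T) ⟶ (jshriek g).obj F :=
  shriekYonHom g T ≫ (jshriek g).map a

theorem pt_comp {F G : Sp S} {T : Over S} (a : (yon S).obj T ⟶ F) (β : F ⟶ G) :
    pt g (a ≫ β) = pt g a ≫ (jshriek g).map β := by
  rw [pt, pt, Functor.map_comp, Category.assoc]

theorem pt_map_comp {F : Sp S} {T T1 : Over S} (r : T1 ⟶ T) (a : (yon S).obj T ⟶ F) :
    pt g ((yon S).map r ≫ a) = (yon S').map ((Over.map g).map r) ≫ pt g a := by
  rw [pt, pt, Functor.map_comp, ← Category.assoc, ← shriekYonHom_naturality, Category.assoc]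

/-- Transposing along the adjunction, on points. -/
theorem adjEquiv_comp_homEquiv {F : Sp S} {F' : Sp S'} {T : Over S} (a : (yon S).obj T ⟶ F)
    (h : (jshriek g).obj F ⟶ F') :
    adjEquiv g (a ≫ (jadj g).homEquiv _ _ h) = pt g a ≫ h := by
  have h1 : a ≫ (jadj g).unit.app F =
      (jadj g).unit.app ((yon S).obj T) ≫ (jinv g).map ((jshriek g).map a) :=
    (jadj g).unit.naturality a
  rw [Adjunction.homEquiv_unit, ← Category.assoc, h1, Category.assoc, ← Functor.map_comp,
    adjEquiv_comp, pt, shriekYonHom, Category.assoc]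

theorem pt_comp_strMap {F : Sp S} {T : Over S} (a : (yon S).obj T ⟶ F) :
    pt g a ≫ strMap g F = (yon S').map (strHom g T) := by
  rw [← adjEquiv_comp_homEquiv, strMap, Equiv.apply_symm_apply, comp_canSec, canSec_yon,
    adjEquiv_canPt]

/-- Morphisms out of `j_! F` are determined by their values on the points `pt a`. -/
theorem jshriek_hom_ext {F : Sp S} {F' : Sp S'} (h1 h2 : (jshriek g).obj F ⟶ F')
    (h : ∀ ⦃T : Over S⦄ (a : (yon S).obj T ⟶ F), pt g a ≫ h1 = pt g a ≫ h2) : h1 = h2 := by
  apply ((jadj g).homEquiv _ _).injective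
  apply H52.sp_hom_ext
  intro T a
  apply (adjEquiv g).injective
  rw [adjEquiv_comp_homEquiv, adjEquiv_comp_homEquiv, h]

/-- A presentation of `F` over `S` gives a presentation of `j_! F` over `S'`. -/
theorem isPresentation_jshriek {F : Sp S} (hF : IsAlgSpace F) {R U : Over S} (s t : R ⟶ U)
    (p : (yon S).obj U ⟶ F) (hpe : RepWith @Etale p) (hps : RepWith @Surjective p)
    (sq : IsPullback ((yon S).map t) ((yon S).map s) p p) :
    IsPresentation ((Over.map g).map s) ((Over.map g).map t) (pt g p) := by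
  obtain ⟨heq, -⟩ := Groth.Agent.S9872.result S F hF p hpe hps s t sq
  obtain ⟨-, ⟨hcol⟩⟩ := Groth.Agent.S9872.result S F hF p hpe hps t s sq.flip
  have : PreservesColimitsOfSize.{0, 0} (jshriek g) := (jadj g).leftAdjoint_preservesColimits
  have hcol' := isColimitCoforkMapOfIsColimit (jshriek g) sq.flip.w hcol
  let e₀ : (jshriek g).obj ((yon S).obj R) ≅
      QuotSh.rep Scheme.fppfPrecoverage ((Over.map g).obj R) :=
    (shriekYonIso g _).symm ≪≫ (QuotSh.repIsoUliftYoneda Scheme.fppfPrecoverage _).symm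
  let e₁ : (jshriek g).obj ((yon S).obj U) ≅
      QuotSh.rep Scheme.fppfPrecoverage ((Over.map g).obj U) :=
    (shriekYonIso g _).symm ≪≫ (QuotSh.repIsoUliftYoneda Scheme.fppfPrecoverage _).symm
  have comm : ∀ (r : R ⟶ U),
      e₀.hom ≫ QuotSh.repMap Scheme.fppfPrecoverage ((Over.map g).map r) =
        (jshriek g).map ((yon S).map r) ≫ e₁.hom := by
    intro r
    change (shriekYonInv g _ ≫ (QuotSh.repIsoUliftYoneda Scheme.fppfPrecoverage _).inv) ≫ _ =
      _ ≫ shriekYonInv g _ ≫ (QuotSh.repIsoUliftYoneda Scheme.fppfPrecoverage _).inv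
    rw [Category.assoc, repIsoUliftYoneda_inv_naturality, ← Category.assoc]
    change (shriekYonInv g _ ≫ (yon S').map ((Over.map g).map r)) ≫ _ = _
    rw [shriekYonInv_naturality, Category.assoc]
  let π' : QuotSh.rep Scheme.fppfPrecoverage ((Over.map g).obj U) ⟶ (jshriek g).obj F :=
    e₁.inv ≫ (jshriek g).map p
  have hπ' : QuotSh.repMap Scheme.fppfPrecoverage ((Over.map g).map s) ≫ π' =
      QuotSh.repMap Scheme.fppfPrecoverage ((Over.map g).map t) ≫ π' := by
    have h1 : ∀ r : R ⟶ U,
        e₀.hom ≫ QuotSh.repMap Scheme.fppfPrecoverage ((Over.map g).map r) ≫ π' =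
          (jshriek g).map ((yon S).map r) ≫ (jshriek g).map p := by
      intro r
      rw [← Category.assoc, comm r, Category.assoc, Iso.hom_inv_id_assoc]
    rw [← cancel_epi e₀.hom, h1, h1, ← Functor.map_comp, ← Functor.map_comp, sq.flip.w]
  have hc' : IsColimit (Cofork.ofπ π' hπ') :=
    Cofork.isColimitOfIsos _ hcol' (Cofork.ofπ π' hπ') e₀ e₁ (Iso.refl _) (comm s) (comm t)
      (by simp [π'])
  let iso : (jshriek g).obj F ≅
      QuotSh.quot Scheme.fppfPrecoverage ((Over.map g).map s) ((Over.map g).map t) :=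
    hc'.coconePointUniqueUpToIso (colimit.isColimit _)
  have hiso : π' ≫ iso.hom =
      QuotSh.quotπ Scheme.fppfPrecoverage ((Over.map g).map s) ((Over.map g).map t) :=
    IsColimit.comp_coconePointUniqueUpToIso_hom hc' (colimit.isColimit _) WalkingParallelPair.one
  have heq' := isEtaleEqvRel_map g s t heq
  have hQ := Groth.Agent.S9868.result S' _ _ heq'
  have hP := Groth.Agent.S9869.result S' _ _ heq' hQ
  have hpt : pt g p = ((QuotSh.repIsoUliftYoneda Scheme.fppfPrecoverage ((Over.map g).obj U)).inv ≫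
      QuotSh.quotπ Scheme.fppfPrecoverage ((Over.map g).map s) ((Over.map g).map t)) ≫
        iso.inv := by
    rw [← hiso, Category.assoc, Category.assoc, Iso.hom_inv_id, Category.comp_id]
    change pt g p = _ ≫ ((QuotSh.repIsoUliftYoneda Scheme.fppfPrecoverage _).hom ≫
      shriekYonHom g U) ≫ (jshriek g).map p
    rw [Category.assoc, Iso.inv_hom_id_assoc]
    rfl
  rw [hpt]
  refine ⟨heq', ?_, ?_, ?_⟩
  · exact (MorphismProperty.cancel_right_of_respectsIso (RepWith (S := S') @Etale) _ iso.inv).2
      hP.etale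
  · exact (MorphismProperty.cancel_right_of_respectsIso (RepWith (S := S') @Surjective) _
      iso.inv).2 hP.surjective
  · exact IsPullback.of_iso hP.isPullback (Iso.refl _) (Iso.refl _) (Iso.refl _) iso.symm
      (by simp) (by simp) (by simp) (by simp)

end Groth.Agent.H52.BaseChange
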