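import Groth.Agent.H52.BaseChange5
import Groth.Agent.H52.CoverGlue

/-!
# Change of base scheme for algebraic spaces, part 6: the points of `j_! F`

For an algebraic space `F` over `S`, the points of `j_! F` from `T/S'` lying over the structure
map of `T` are exactly the points of `F` from `T`.
-/

set_option autoImplicit false
universe u
open CategoryTheory CategoryTheory.Limits AlgebraicGeometry Opposite
open AlgSp Groth.Agent.Lib.Helper51

namespace Groth.Agent.H52.BaseChange

variable {S S' : Scheme.{u}} (g : S ⟶ S')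

/-- A scheme over `S'` with a morphism to `S` over `S'`, as a scheme over `S`. -/
noncomputable abbrev ovrOf {T' : Over S'} (φ : T' ⟶ Over.mk g) : Over S := Over.mk φ.left

/-- `ovrOf φ`, viewed over `S'`, is `T'`. -/
noncomputable def ovrIso {T' : Over S'} (φ : T' ⟶ Over.mk g) :
    (Over.map g).obj (ovrOf g φ) ≅ T' :=
  Over.isoMk (Iso.refl _) (by
    have := Over.w φ
    simp only [Over.mk_hom] at this
    simp [this])

@[simp] theorem ovrIso_hom_left {T' : Over S'} (φ : T' ⟶ Over.mk g) :
    (ovrIso g φ).hom.left = 𝟙 _ := rfl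

@[simp] theorem ovrIso_inv_left {T' : Over S'} (φ : T' ⟶ Over.mk g) :
    (ovrIso g φ).inv.left = 𝟙 _ := rfl

theorem ovrIso_hom_comp {T' : Over S'} (φ : T' ⟶ Over.mk g) :
    (ovrIso g φ).hom ≫ φ = strHom g (ovrOf g φ) := by
  ext
  simp

/-- A morphism over `S'` between schemes over `S` which is compatible with the structure maps
to `S` is a morphism over `S`. -/
noncomputable def descHom {T V : Over S} (r' : (Over.map g).obj T ⟶ (Over.map g).obj V)
    (h : r' ≫ strHom g V = strHom g T) : T ⟶ V :=
  Over.homMk r'.left (by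
    have := congrArg (fun k => k.left) h
    simpa using this)

theorem map_descHom {T V : Over S} (r' : (Over.map g).obj T ⟶ (Over.map g).obj V)
    (h : r' ≫ strHom g V = strHom g T) : (Over.map g).map (descHom g r' h) = r' := by
  ext
  rfl

theorem map_injective' {T V : Over S} {r₁ r₂ : T ⟶ V}
    (h : (Over.map g).map r₁ = (Over.map g).map r₂) : r₁ = r₂ := by
  ext
  exact congrArg (fun k => k.left) h

variable {F : Sp S} (hF : IsAlgSpace F)

include hF in
/-- `a ↦ pt a` is injective. -/
theorem pt_injective {T : Over S} (a₁ a₂ : (yon S).obj T ⟶ F) (h : pt g a₁ = pt g a₂) :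
    a₁ = a₂ := by
  obtain ⟨U, p, hpe, hps⟩ := hF.atlas
  have hrep := hpe.rep
  let t : hrep.pullback p ⟶ U := hrep.fst' p
  let s : hrep.pullback p ⟶ U := hrep.snd p
  have sq : IsPullback ((yon S).map t) ((yon S).map s) p p := hrep.isPullback' p
  have hP' := isPresentation_jshriek g hF s t p hpe hps sq
  -- a common etale cover on which both points lift to `U`
  let w₁ : hrep.pullback a₁ ⟶ T := hrep.snd a₁
  let b₁ : hrep.pullback a₁ ⟶ U := hrep.fst' a₁
  have hb₁ : (yon S).map b₁ ≫ p = (yon S).map w₁ ≫ a₁ := (hrep.isPullback' a₁).w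
  let a₂' : (yon S).obj (hrep.pullback a₁) ⟶ F := (yon S).map w₁ ≫ a₂
  let w₂ : hrep.pullback a₂' ⟶ hrep.pullback a₁ := hrep.snd a₂'
  let b₂ : hrep.pullback a₂' ⟶ U := hrep.fst' a₂'
  have hb₂ : (yon S).map b₂ ≫ p = (yon S).map w₂ ≫ (yon S).map w₁ ≫ a₂ :=
    (hrep.isPullback' a₂').w
  have hw₁e : Etale w₁.left := hpe.property_snd a₁
  have hw₁s : Surjective w₁.left := hps.property_snd a₁
  have hw₂e : Etale w₂.left := hpe.property_snd a₂'
  have hw₂s : Surjective w₂.left := hps.property_snd a₂'
  have hwl : (w₂ ≫ w₁).left = w₂.left ≫ w₁.left := rfl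
  have hwf : Flat (w₂ ≫ w₁).left := by rw [hwl]; infer_instance
  have hws : Surjective (w₂ ≫ w₁).left := by rw [hwl]; infer_instance
  have hwp : LocallyOfFinitePresentation (w₂ ≫ w₁).left := by rw [hwl]; infer_instance
  have := epi_yon_map_of_fppf (w₂ ≫ w₁)
  rw [← cancel_epi ((yon S).map (w₂ ≫ w₁))]
  have e₁ : (yon S).map (w₂ ≫ w₁) ≫ a₁ = (yon S).map (w₂ ≫ b₁) ≫ p := by
    rw [Functor.map_comp, Functor.map_comp, Category.assoc, Category.assoc, hb₁]
  have e₂ : (yon S).map (w₂ ≫ w₁) ≫ a₂ = (yon S).map b₂ ≫ p := by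
    rw [Functor.map_comp, Category.assoc, hb₂]
  rw [e₁, e₂]
  -- the two lifts are equivalent over `S'`, hence over `S`
  have h3 : (yon S').map ((Over.map g).map (w₂ ≫ b₁)) ≫ pt g p =
      (yon S').map ((Over.map g).map b₂) ≫ pt g p := by
    rw [← pt_map_comp, ← pt_map_comp, ← e₁, ← e₂, pt_map_comp, pt_map_comp, h]
  obtain ⟨r₀, hr₀⟩ := (yon S').map_surjective (hP'.isPullback.lift _ _ h3)
  have hr₀t : r₀ ≫ (Over.map g).map t = (Over.map g).map (w₂ ≫ b₁) := by
    apply (yon S').map_injective
    rw [Functor.map_comp, hr₀, IsPullback.lift_fst]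
  have hr₀s : r₀ ≫ (Over.map g).map s = (Over.map g).map b₂ := by
    apply (yon S').map_injective
    rw [Functor.map_comp, hr₀, IsPullback.lift_snd]
  have hr₀S : r₀ ≫ strHom g (hrep.pullback p) = strHom g (hrep.pullback a₂') := by
    rw [← map_comp_strHom g s, ← Category.assoc, hr₀s, map_comp_strHom]
  let r : hrep.pullback a₂' ⟶ hrep.pullback p := descHom g r₀ hr₀S
  have hr : (Over.map g).map r = r₀ := map_descHom g r₀ hr₀S
  have hrt : r ≫ t = w₂ ≫ b₁ := by
    apply map_injective' g
    rw [Functor.map_comp, hr, hr₀t]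
  have hrs : r ≫ s = b₂ := by
    apply map_injective' g
    rw [Functor.map_comp, hr, hr₀s]
  rw [← hrt, ← hrs, Functor.map_comp, Functor.map_comp, Category.assoc, Category.assoc, sq.w]

include hF in
/-- Every point of `j_! F` over the structure map comes from a point of `F`. -/
theorem exists_pt_eq {T : Over S} (x : (yon S').obj ((Over.map g).obj T) ⟶ (jshriek g).obj F)
    (hx : x ≫ strMap g F = (yon S').map (strHom g T)) : ∃ a : (yon S).obj T ⟶ F, pt g a = x := by
  obtain ⟨U, p, hpe, hps⟩ := hF.atlas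
  have hrep := hpe.rep
  let t : hrep.pullback p ⟶ U := hrep.fst' p
  let s : hrep.pullback p ⟶ U := hrep.snd p
  have sq : IsPullback ((yon S).map t) ((yon S).map s) p p := hrep.isPullback' p
  have hP' := isPresentation_jshriek g hF s t p hpe hps sq
  have hrep' := hP'.etale.rep
  -- the cover of `T` on which `x` lifts to `U`
  let w₀ : hrep'.pullback x ⟶ (Over.map g).obj T := hrep'.snd x
  let b₀ : hrep'.pullback x ⟶ (Over.map g).obj U := hrep'.fst' x
  have hb₀ : (yon S').map b₀ ≫ pt g p = (yon S').map w₀ ≫ x := (hrep'.isPullback' x).w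
  have hw₀e : Etale w₀.left := hP'.etale.property_snd x
  have hw₀s : Surjective w₀.left := hP'.surjective.property_snd x
  let φ : hrep'.pullback x ⟶ Over.mk g := w₀ ≫ strHom g T
  let W : Over S := ovrOf g φ
  let ε : (Over.map g).obj W ≅ hrep'.pullback x := ovrIso g φ
  have hεφ : ε.hom ≫ φ = strHom g W := ovrIso_hom_comp g φ
  have hwS : (ε.hom ≫ w₀) ≫ strHom g T = strHom g W := by rw [Category.assoc]; exact hεφ
  let w : W ⟶ T := descHom g (ε.hom ≫ w₀) hwS
  have hw : (Over.map g).map w = ε.hom ≫ w₀ := map_descHom g _ hwS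
  have hbS : (ε.hom ≫ b₀) ≫ strHom g U = strHom g W := by
    rw [← hεφ, Category.assoc]
    congr 1
    apply (yon S').map_injective
    rw [Functor.map_comp, ← pt_comp_strMap g p, ← Category.assoc, hb₀, Category.assoc, hx,
      ← Functor.map_comp]
  let b : W ⟶ U := descHom g (ε.hom ≫ b₀) hbS
  have hb : (Over.map g).map b = ε.hom ≫ b₀ := map_descHom g _ hbS
  obtain ⟨aW, haWdef⟩ : ∃ aW : (yon S).obj W ⟶ F, aW = (yon S).map b ≫ p := ⟨_, rfl⟩
  have haW : pt g aW = (yon S').map ((Over.map g).map w) ≫ x := by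
    rw [haWdef, pt_map_comp, hb, hw, Functor.map_comp, Functor.map_comp, Category.assoc,
      Category.assoc, hb₀]
  have hwl : w.left = w₀.left := by
    change (ε.hom ≫ w₀).left = _
    simp [ε]
    exact Category.id_comp _
  have hwf : Flat w.left := by rw [hwl]; infer_instance
  have hws : Surjective w.left := by rw [hwl]; infer_instance
  have hwp : LocallyOfFinitePresentation w.left := by rw [hwl]; infer_instance
  have hfam : IsFppfFamily (fun _ : Unit => w) :=
    ⟨fun _ => hwf, fun _ => hwp, fun t => ⟨(), hws.surj t⟩⟩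
  obtain ⟨a, ha⟩ := hfam.exists_glue (fun _ => aW) (by
    intro _ _ Rr r₁ r₂ h12
    apply pt_injective g hF
    rw [pt_map_comp, pt_map_comp, haW, ← Category.assoc, ← Category.assoc, ← Functor.map_comp,
      ← Functor.map_comp, ← Functor.map_comp, ← Functor.map_comp, h12])
  refine ⟨a, ?_⟩
  have hwl' : ((Over.map g).map w).left = w.left := rfl
  have hwf' : Flat ((Over.map g).map w).left := by rw [hwl']; exact hwf
  have hws' : Surjective ((Over.map g).map w).left := by rw [hwl']; exact hws
  have hwp' : LocallyOfFinitePresentation ((Over.map g).map w).left := by rw [hwl']; exact hwp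
  have := epi_yon_map_of_fppf ((Over.map g).map w)
  rw [← cancel_epi ((yon S').map ((Over.map g).map w)), ← pt_map_comp, ha (), haW]

end Groth.Agent.H52.BaseChange
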