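import Groth.Agent.H52.BaseChange6

/-!
# Change of base scheme for algebraic spaces, part 7: `j_!` and representable properties (S9899)
-/

set_option autoImplicit false
universe u
open CategoryTheory CategoryTheory.Limits AlgebraicGeometry Opposite
open AlgSp Groth.Agent.Lib.Helper51

namespace Groth.Agent.H52.BaseChange

variable {S S' : Scheme.{u}} (g : S ⟶ S') {F : Sp S} (hF : IsAlgSpace F)

include hF in
/-- `j_!` preserves the fibre products `h_V ×_F h_T`. -/
theorem isPullback_pt {T V W : Over S} (f : (yon S).obj T ⟶ F) (a : (yon S).obj V ⟶ F)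
    (pr₂ : W ⟶ T) (pr₁ : W ⟶ V) (sq : IsPullback ((yon S).map pr₂) ((yon S).map pr₁) f a) :
    IsPullback ((yon S').map ((Over.map g).map pr₂)) ((yon S').map ((Over.map g).map pr₁))
      (pt g f) (pt g a) := by
  refine isPullback_of_forall_yon _ _ _ _ ?_ ?_
  · rw [← pt_map_comp, ← pt_map_comp, sq.w]
  · intro Z' c b hcb
    obtain ⟨c₀, rfl⟩ := (yon S').map_surjective c
    obtain ⟨b₀, rfl⟩ := (yon S').map_surjective b
    have hφ : c₀ ≫ strHom g T = b₀ ≫ strHom g V := by
      apply (yon S').map_injective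
      rw [Functor.map_comp, Functor.map_comp, ← pt_comp_strMap g f, ← pt_comp_strMap g a,
        ← Category.assoc, hcb, Category.assoc]
    let φ : Z' ⟶ Over.mk g := c₀ ≫ strHom g T
    let Z : Over S := ovrOf g φ
    let ε : (Over.map g).obj Z ≅ Z' := ovrIso g φ
    have hεφ : ε.hom ≫ φ = strHom g Z := ovrIso_hom_comp g φ
    have hcS : (ε.hom ≫ c₀) ≫ strHom g T = strHom g Z := by rw [Category.assoc]; exact hεφ
    have hbS : (ε.hom ≫ b₀) ≫ strHom g V = strHom g Z := by
      rw [Category.assoc, ← hφ]; exact hεφ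
    let c₁ : Z ⟶ T := descHom g _ hcS
    let b₁ : Z ⟶ V := descHom g _ hbS
    have hc₁ : (Over.map g).map c₁ = ε.hom ≫ c₀ := map_descHom g _ hcS
    have hb₁ : (Over.map g).map b₁ = ε.hom ≫ b₀ := map_descHom g _ hbS
    have h1 : (yon S).map c₁ ≫ f = (yon S).map b₁ ≫ a := by
      apply pt_injective g hF
      rw [pt_map_comp, pt_map_comp, hc₁, hb₁, Functor.map_comp, Functor.map_comp, Category.assoc,
        Category.assoc, hcb]
    obtain ⟨d, hd⟩ := (yon S).map_surjective (sq.lift _ _ h1)
    have hd₂ : d ≫ pr₂ = c₁ := by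
      apply (yon S).map_injective
      rw [Functor.map_comp, hd, IsPullback.lift_fst]
    have hd₁ : d ≫ pr₁ = b₁ := by
      apply (yon S).map_injective
      rw [Functor.map_comp, hd, IsPullback.lift_snd]
    refine ⟨(yon S').map (ε.inv ≫ (Over.map g).map d), ⟨?_, ?_⟩, ?_⟩
    · rw [← Functor.map_comp, Category.assoc, ← Functor.map_comp, hd₂, hc₁, Iso.inv_hom_id_assoc]
    · rw [← Functor.map_comp, Category.assoc, ← Functor.map_comp, hd₁, hb₁, Iso.inv_hom_id_assoc]
    · rintro d' ⟨hd'₂, hd'₁⟩
      obtain ⟨d₀, rfl⟩ := (yon S').map_surjective d'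
      rw [← Functor.map_comp] at hd'₂ hd'₁
      have hd₀₂ : d₀ ≫ (Over.map g).map pr₂ = c₀ := (yon S').map_injective hd'₂
      have hd₀₁ : d₀ ≫ (Over.map g).map pr₁ = b₀ := (yon S').map_injective hd'₁
      have hdS : (ε.hom ≫ d₀) ≫ strHom g W = strHom g Z := by
        rw [← map_comp_strHom g pr₂, ← Category.assoc, Category.assoc ε.hom, hd₀₂]
        exact hcS
      let d₁ : Z ⟶ W := descHom g _ hdS
      have hd₁' : (Over.map g).map d₁ = ε.hom ≫ d₀ := map_descHom g _ hdS
      have hdd : d₁ = d := by
        apply (yon S).map_injective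
        apply sq.hom_ext
        · rw [← Functor.map_comp, ← Functor.map_comp, hd₂]
          congr 1
          apply map_injective' g
          rw [Functor.map_comp, hd₁', hc₁, Category.assoc, hd₀₂]
        · rw [← Functor.map_comp, ← Functor.map_comp, hd₁]
          congr 1
          apply map_injective' g
          rw [Functor.map_comp, hd₁', hb₁, Category.assoc, hd₀₁]
      congr 1
      rw [← hdd, hd₁', Iso.inv_hom_id_assoc]

include hF in
/-- `h_{T/S'} ⟶ j_! F` is representable with `P` if and only if `h_T ⟶ F` is. -/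
theorem repWith_pt_iff (P : MorphismProperty Scheme.{u}) [P.IsStableUnderBaseChange] {T : Over S}
    (f : (yon S).obj T ⟶ F) : RepWith (S := S') P (pt g f) ↔ RepWith P f := by
  have : P.RespectsIso := MorphismProperty.IsStableUnderBaseChange.respectsIso
  constructor
  · intro h
    refine ⟨fun V a => ?_, ?_⟩
    · obtain ⟨W, snd, fst, sq⟩ := hF.representable_from_yon f a
      exact ⟨W, snd, fst, sq⟩
    · intro V W a fst snd sq
      obtain ⟨pr₂, rfl⟩ := (yon S).map_surjective fst
      have sq' := isPullback_pt g hF f a pr₂ snd sq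
      exact h.property (pt g a) _ _ sq'
  · intro h
    apply MorphismProperty.relative.of_exists
    intro T₀' x
    obtain ⟨φ, hφ⟩ := (yon S').map_surjective (x ≫ strMap g F)
    let V : Over S := ovrOf g φ
    let ε : (Over.map g).obj V ≅ T₀' := ovrIso g φ
    have hεφ : ε.hom ≫ φ = strHom g V := ovrIso_hom_comp g φ
    obtain ⟨a, ha⟩ := exists_pt_eq g hF ((yon S').map ε.hom ≫ x) (by
      rw [Category.assoc, ← hφ, ← Functor.map_comp, hεφ])
    have hrep := h.rep
    let pr₁ : hrep.pullback a ⟶ V := hrep.snd a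
    let pr₂ : hrep.pullback a ⟶ T := hrep.fst' a
    have sq : IsPullback ((yon S).map pr₂) ((yon S).map pr₁) f a := hrep.isPullback' a
    have hP : P pr₁.left := h.property_snd a
    have sq' := isPullback_pt g hF f a pr₂ pr₁ sq
    rw [ha] at sq'
    refine ⟨(Over.map g).obj (hrep.pullback a), (yon S').map ((Over.map g).map pr₂),
      (Over.map g).map pr₁ ≫ ε.hom, ?_, ?_⟩
    · rw [Functor.map_comp]
      exact IsPullback.of_iso sq' (Iso.refl _) (Iso.refl _) ((yon S').mapIso ε) (Iso.refl _)
        (by simp) (by simp) (by simp) (by simp)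
    · change P ((Over.map g).map pr₁ ≫ ε.hom).left
      have h1 : ((Over.map g).map pr₁ ≫ ε.hom).left = pr₁.left := by
        simp [ε]
        exact Category.comp_id _
      rw [h1]
      exact hP

end Groth.Agent.H52.BaseChange
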