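import Groth.Agent.H52.BaseChange7
import Groth.Agent.Lib.Helper51.QuotSpEff

/-!
# Change of base scheme for algebraic spaces, part 8: `j_!` as an equivalence onto the slice (S9898)
-/

set_option autoImplicit false
universe u
open CategoryTheory CategoryTheory.Limits AlgebraicGeometry Opposite
open AlgSp Groth.Agent.Lib.Helper51

namespace Groth.Agent.H52.BaseChange

variable {S S' : Scheme.{u}} (g : S ⟶ S')

/-- `F ↦ (j_! F ⟶ h_S)` from algebraic spaces over `S` to algebraic spaces over `S'` over `h_S`. -/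
noncomputable def shriekOver : AlgSp.Space S ⥤ Over ((AlgSp.ofScheme S').obj (Over.mk g)) where
  obj F := Over.mk (Y := ⟨(jshriek g).obj F.obj, isAlgSpace_jshriek g F.property⟩)
    (ObjectProperty.homMk (strMap g F.obj))
  map {F G} α := Over.homMk (ObjectProperty.homMk ((jshriek g).map α.hom)) (by
    apply ObjectProperty.hom_ext
    exact map_comp_strMap g α.hom)
  map_id F := by
    apply Over.OverMorphism.ext
    apply ObjectProperty.hom_ext
    exact (jshriek g).map_id F.obj
  map_comp α β := by
    apply Over.OverMorphism.ext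
    apply ObjectProperty.hom_ext
    exact (jshriek g).map_comp α.hom β.hom

theorem shriekOver_map_left_hom {F G : AlgSp.Space S} (α : F ⟶ G) :
    ((shriekOver g).map α).left.hom = (jshriek g).map α.hom := rfl

instance : (shriekOver g).Faithful where
  map_injective {F G α₁ α₂} h := by
    have h1 : (jshriek g).map α₁.hom = (jshriek g).map α₂.hom :=
      congrArg (fun k => k.left.hom) h
    apply ObjectProperty.hom_ext
    apply H52.sp_hom_ext
    intro T a
    apply pt_injective g G.property
    rw [pt_comp, pt_comp, h1]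

instance : (shriekOver g).Full where
  map_surjective {F G} β := by
    obtain ⟨βh, hβh⟩ : ∃ βh : (jshriek g).obj F.obj ⟶ (jshriek g).obj G.obj, βh = β.left.hom :=
      ⟨_, rfl⟩
    have hβ : βh ≫ strMap g G.obj = strMap g F.obj := by
      rw [hβh]
      exact congrArg (fun k => k.hom) (Over.w β)
    have hex : ∀ ⦃T : Over S⦄ (a : (yon S).obj T ⟶ F.obj),
        ∃ a' : (yon S).obj T ⟶ G.obj, pt g a' = pt g a ≫ βh := fun T a =>
      exists_pt_eq g G.property _ (by rw [Category.assoc, hβ, pt_comp_strMap])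
    let Gf : ∀ ⦃T : Over S⦄, ((yon S).obj T ⟶ F.obj) → ((yon S).obj T ⟶ G.obj) :=
      fun T a => (hex a).choose
    have hGf : ∀ ⦃T : Over S⦄ (a : (yon S).obj T ⟶ F.obj), pt g (Gf a) = pt g a ≫ βh :=
      fun T a => (hex a).choose_spec
    have hnat : ∀ ⦃T T1 : Over S⦄ (r : T1 ⟶ T) (a : (yon S).obj T ⟶ F.obj),
        Gf ((yon S).map r ≫ a) = (yon S).map r ≫ Gf a := by
      intro T T1 r a
      apply pt_injective g G.property
      rw [hGf, pt_map_comp, pt_map_comp, hGf, Category.assoc]
    refine ⟨ObjectProperty.homMk (homOfYon Gf hnat), ?_⟩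
    apply Over.OverMorphism.ext
    apply ObjectProperty.hom_ext
    change (jshriek g).map (homOfYon Gf hnat) = β.left.hom
    rw [← hβh]
    apply jshriek_hom_ext
    intro T a
    rw [← pt_comp, comp_homOfYon, hGf]

section EssSurj

variable {G' : Sp S'} (hG' : IsAlgSpace G') (q : G' ⟶ (yon S').obj (Over.mk g))

/-- The fibre of `j⁻¹ G' ⟶ j⁻¹ h_S` over the canonical point. -/
noncomputable abbrev fibreSp : Sp S :=
  Limits.pullback ((jinv g).map q) (canPt g (Over.mk (𝟙 S)))

include hG' in
theorem isAlgSpace_fibreSp : IsAlgSpace (fibreSp g q) :=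
  isAlgSpace_of_isPullback (IsPullback.of_hasPullback _ _) (isAlgSpace_jinv g hG')
    (isAlgSpace_jinv g (IsAlgSpace.yon_obj _)) (IsAlgSpace.yon_obj _)

/-- The counit `j_! (fibre) ⟶ G'`. -/
noncomputable def fibreCounit : (jshriek g).obj (fibreSp g q) ⟶ G' :=
  ((jadj g).homEquiv _ _).symm (pullback.fst _ _)

theorem pt_comp_fibreCounit {T : Over S} (a : (yon S).obj T ⟶ fibreSp g q) :
    pt g a ≫ fibreCounit g q = adjEquiv g (a ≫ pullback.fst _ _) := by
  rw [← adjEquiv_comp_homEquiv, fibreCounit, Equiv.apply_symm_apply]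

theorem fibreCounit_comp : fibreCounit g q ≫ q = strMap g (fibreSp g q) := by
  apply ((jadj g).homEquiv _ _).injective
  rw [Adjunction.homEquiv_naturality_right, fibreCounit, Equiv.apply_symm_apply, strMap,
    Equiv.apply_symm_apply, pullback.condition, canSec]
  congr 1
  exact (yonBaseIsTerminal S).hom_ext _ _

/-- Points of the fibre from points of `G'` lying over the structure map. -/
theorem exists_fibre_point {T : Over S} (y : (yon S').obj ((Over.map g).obj T) ⟶ G')
    (hy : y ≫ q = (yon S').map (strHom g T)) :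
    ∃ a : (yon S).obj T ⟶ fibreSp g q, a ≫ pullback.fst _ _ = (adjEquiv g).symm y := by
  refine ⟨pullback.lift ((adjEquiv g).symm y)
    ((yon S).map (Over.homMk T.hom : T ⟶ Over.mk (𝟙 S))) ?_, pullback.lift_fst _ _ _⟩
  rw [map_comp_canPt]
  apply (adjEquiv g).injective
  rw [adjEquiv_comp, Equiv.apply_symm_apply, hy, adjEquiv_canPt]

include hG' in
theorem isIso_fibreCounit : IsIso (fibreCounit g q) := by
  have hF := isAlgSpace_fibreSp g hG' q
  -- injectivity on points
  have hinj : ∀ ⦃T' : Over S'⦄ (x₁ x₂ : (yon S').obj T' ⟶ (jshriek g).obj (fibreSp g q)),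
      x₁ ≫ fibreCounit g q = x₂ ≫ fibreCounit g q → x₁ = x₂ := by
    intro T' x₁ x₂ h
    obtain ⟨φ, hφ⟩ := (yon S').map_surjective (x₁ ≫ strMap g (fibreSp g q))
    have hφ₂ : (yon S').map φ = x₂ ≫ strMap g (fibreSp g q) := by
      rw [hφ, ← fibreCounit_comp, ← Category.assoc, h, Category.assoc]
    let ε : (Over.map g).obj (ovrOf g φ) ≅ T' := ovrIso g φ
    have hεφ : ε.hom ≫ φ = strHom g (ovrOf g φ) := ovrIso_hom_comp g φ
    obtain ⟨a₁, ha₁⟩ := exists_pt_eq g hF ((yon S').map ε.hom ≫ x₁) (by
      rw [Category.assoc, ← hφ, ← Functor.map_comp, hεφ])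
    obtain ⟨a₂, ha₂⟩ := exists_pt_eq g hF ((yon S').map ε.hom ≫ x₂) (by
      rw [Category.assoc, ← hφ₂, ← Functor.map_comp, hεφ])
    have h12 : a₁ = a₂ := by
      apply pullback.hom_ext
      · apply (adjEquiv g).injective
        rw [← pt_comp_fibreCounit, ← pt_comp_fibreCounit, ha₁, ha₂, Category.assoc, Category.assoc,
          h]
      · exact (yonBaseIsTerminal S).hom_ext _ _
    have h3 : (yon S').map ε.hom ≫ x₁ = (yon S').map ε.hom ≫ x₂ := by rw [← ha₁, ← ha₂, h12]
    have : IsIso ((yon S').map ε.hom) := inferInstance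
    exact (cancel_epi ((yon S').map ε.hom)).1 h3
  -- surjectivity on points
  have hsurj : ∀ ⦃T' : Over S'⦄ (y : (yon S').obj T' ⟶ G'),
      ∃ x : (yon S').obj T' ⟶ (jshriek g).obj (fibreSp g q), x ≫ fibreCounit g q = y := by
    intro T' y
    obtain ⟨φ, hφ⟩ := (yon S').map_surjective (y ≫ q)
    let ε : (Over.map g).obj (ovrOf g φ) ≅ T' := ovrIso g φ
    have hεφ : ε.hom ≫ φ = strHom g (ovrOf g φ) := ovrIso_hom_comp g φ
    obtain ⟨a, ha⟩ := exists_fibre_point g q ((yon S').map ε.hom ≫ y) (by
      rw [Category.assoc, ← hφ, ← Functor.map_comp, hεφ])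
    refine ⟨(yon S').map ε.inv ≫ pt g a, ?_⟩
    rw [Category.assoc, pt_comp_fibreCounit, ha, Equiv.apply_symm_apply, ← Category.assoc,
      ← Functor.map_comp, Iso.inv_hom_id, CategoryTheory.Functor.map_id, Category.id_comp]
  have hmono : Mono (fibreCounit g q) := by
    constructor
    intro W a₁ a₂ h
    apply H52.sp_hom_ext
    intro T' w
    apply hinj
    rw [Category.assoc, Category.assoc, h]
  have hepi : Epi (fibreCounit g q) := by
    constructor
    intro H b₁ b₂ h
    apply H52.sp_hom_ext
    intro T' y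
    obtain ⟨x, rfl⟩ := hsurj y
    rw [Category.assoc, Category.assoc, h]
  exact isIso_of_mono_of_epi_sp _

end EssSurj

instance : (shriekOver g).EssSurj where
  mem_essImage Y := by
    have hF := isAlgSpace_fibreSp g Y.left.property Y.hom.hom
    have := isIso_fibreCounit g Y.left.property Y.hom.hom
    let e : (jshriek g).obj (fibreSp g Y.hom.hom) ≅ Y.left.obj := asIso (fibreCounit g Y.hom.hom)
    refine ⟨⟨fibreSp g Y.hom.hom, hF⟩, ⟨Over.isoMk (ObjectProperty.isoMk _ e) ?_⟩⟩
    apply ObjectProperty.hom_ext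
    exact fibreCounit_comp g Y.hom.hom

instance : (shriekOver g).IsEquivalence where

/-- The equivalence between algebraic spaces over `S` and algebraic spaces over `S'` over `h_S`. -/
noncomputable def shriekEquiv : AlgSp.Space S ≌ Over ((AlgSp.ofScheme S').obj (Over.mk g)) :=
  (shriekOver g).asEquivalence

/-- The equivalence followed by the forgetful functors is `j_!`. -/
noncomputable def shriekEquivIso :
    (shriekEquiv g).functor ⋙ Over.forget _ ⋙ ObjectProperty.ι (AlgSp.IsAlgSpace (S := S')) ≅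
      ObjectProperty.ι (AlgSp.IsAlgSpace (S := S)) ⋙ jshriek g :=
  NatIso.ofComponents (fun F => Iso.refl _) (by
    intro F G α
    exact (Category.comp_id ((jshriek g).map α.hom)).trans
      (Category.id_comp ((jshriek g).map α.hom)).symm)

end Groth.Agent.H52.BaseChange
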