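/-
Helper library (helper52): pointed invariants of morphisms of schemes that are etale local on
source and target do not depend on the chart diagram of a morphism of algebraic spaces.
-/
import Groth.Agent.H52.ThickFlat
import Groth.Agent.H52.LocPCalc5
import Groth.Agent.S7408
import Groth.Agent.S7407
import Groth.Prelude.Def_Dual3

set_option autoImplicit false
universe u v
open CategoryTheory CategoryTheory.Limits AlgebraicGeometry Opposite

namespace Groth.Agent.H52

open AlgSp

variable {S : Scheme.{u}}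

/-- A pointed invariant of morphisms of schemes which is etale local on source and target. -/
def IsEtaleSquareInvariant {α : Type v} (T : ∀ {U V : Scheme.{u}}, (U ⟶ V) → ↥U → α) : Prop :=
  ∀ ⦃U U' V V' : Scheme.{u}⦄ (h : U ⟶ V) (h' : U' ⟶ V') (a : U' ⟶ U) (b : V' ⟶ V),
    Etale a → Etale b → h' ≫ b = a ≫ h → ∀ u' : U', T h (a u') = T h' u'

theorem isEtaleSquareInvariant_fibreDimAt :
    IsEtaleSquareInvariant.{u} (fun {_ _} h u => FlatMor.fibreDimAt h u) := by
  intro U U' V V' h h' a b ha hb comm u'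
  exact Groth.Agent.S7408.result h h' a b comm u'

theorem isEtaleSquareInvariant_resTrdeg :
    IsEtaleSquareInvariant.{u} (fun {_ _} h u => Dual3.resTrdeg h u) := by
  intro U U' V V' h h' a b ha hb comm u'
  exact Groth.Agent.S7407.result h h' a b comm u'

/-- An etale-square invariant takes the same value on any two chart diagrams through the same
point. -/
theorem IsEtaleSquareInvariant.eq_of_two_charts {α : Type v}
    {T : ∀ {U V : Scheme.{u}}, (U ⟶ V) → ↥U → α} (hT : IsEtaleSquareInvariant T)
    {F G : Sp S} (f : F ⟶ G) {U V : Over S}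
    (a : (yon S).obj U ⟶ F) (b : (yon S).obj V ⟶ G) (h : U ⟶ V) (ha : RepWith @Etale a)
    (hb : RepWith @Etale b) (comm : a ≫ f = (yon S).map h ≫ b)
    {U' V' : Over S} (a' : (yon S).obj U' ⟶ F) (b' : (yon S).obj V' ⟶ G) (h' : U' ⟶ V')
    (ha' : RepWith @Etale a') (hb' : RepWith @Etale b')
    (comm' : a' ≫ f = (yon S).map h' ≫ b')
    (u : ↥U.left) (u' : ↥U'.left) (hu : Points.ofPt a u = Points.ofPt a' u') :
    T h.left u = T h'.left u' := by
  have hrepa := ha.rep
  have sqW := hrepa.isPullback a'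
  obtain ⟨w1, hw1⟩ := (yon S).map_surjective (hrepa.fst a')
  have sqW' : IsPullback ((yon S).map (hrepa.snd a')) ((yon S).map w1) a' a := by
    rw [hw1]; exact sqW.flip
  have hW1e : Etale w1.left := ha'.2 a _ _ sqW'
  have hW2e : Etale (hrepa.snd a').left := ha.property_snd a'
  have hrepb := hb.rep
  have sqZ := hrepb.isPullback b'
  have hZ2e : Etale (hrepb.snd b').left := hb.property_snd b'
  obtain ⟨z1, hz1⟩ := (yon S).map_surjective (hrepb.fst b')
  have sqZ' : IsPullback ((yon S).map (hrepb.snd b')) ((yon S).map z1) b' b := by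
    rw [hz1]; exact sqZ.flip
  have hZ1e : Etale z1.left := hb'.2 b _ _ sqZ'
  obtain ⟨k, hk⟩ := (yon S).map_surjective
    (sqZ.lift ((yon S).map (w1 ≫ h)) ((yon S).map (hrepa.snd a' ≫ h')) (by
      rw [Functor.map_comp, Functor.map_comp, Category.assoc, Category.assoc, ← comm, ← comm',
        hw1, ← Category.assoc, ← Category.assoc, sqW.w]))
  have hk1 : k ≫ z1 = w1 ≫ h := by
    apply (yon S).map_injective
    rw [Functor.map_comp, hk, hz1, sqZ.lift_fst]
  have hk2 : k ≫ hrepb.snd b' = hrepa.snd a' ≫ h' := by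
    apply (yon S).map_injective
    rw [Functor.map_comp, hk, sqZ.lift_snd]
  rw [Points.ofPt_eq_map_ofScheme, Points.ofPt_eq_map_ofScheme a'] at hu
  obtain ⟨p, hp1, hp2⟩ := exists_point_of_isPullback sqW (Points.ofScheme U u)
    (Points.ofScheme U' u') hu
  obtain ⟨w, rfl⟩ := (Points.schemeEquiv _).surjective p
  have hwu : w1.left w = u := by
    apply (Points.schemeEquiv U).injective
    rw [← hw1] at hp1
    exact (points_map_ofScheme w1 w).symm.trans hp1
  have hwu' : (hrepa.snd a').left w = u' := by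
    apply (Points.schemeEquiv U').injective
    exact (points_map_ofScheme (hrepa.snd a') w).symm.trans hp2
  have c1 : k.left ≫ z1.left = w1.left ≫ h.left := congrArg (fun t => t.left) hk1
  have c2 : k.left ≫ (hrepb.snd b').left = (hrepa.snd a').left ≫ h'.left :=
    congrArg (fun t => t.left) hk2
  have e1 : T h.left (w1.left w) = T k.left w :=
    hT h.left k.left w1.left z1.left hW1e hZ1e c1 w
  have e2 : T h'.left ((hrepa.snd a').left w) = T k.left w :=
    hT h'.left k.left (hrepa.snd a').left (hrepb.snd b').left hW2e hZ2e c2 w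
  rw [← hwu, ← hwu', e1, e2]

/-- Every point of the source of a morphism of algebraic spaces lies on a chart diagram. -/
theorem exists_diagram_through_point {X Y : Sp S} (hX : IsAlgSpace X) (hY : IsAlgSpace Y)
    (f : X ⟶ Y) (x : Points X) :
    ∃ (U V : Over S) (a : (yon S).obj U ⟶ X) (b : (yon S).obj V ⟶ Y) (h : U ⟶ V) (u : ↥U.left),
      RepWith @Etale a ∧ RepWith @Etale b ∧ a ≫ f = (yon S).map h ≫ b ∧ Points.ofPt a u = x := by
  obtain ⟨V, b, v, hbe, hbv⟩ := exists_chart_through_point hY (Points.map f x)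
  obtain ⟨U, a, k, u, hae, hak, hau, -⟩ := exists_chart_over_through_point hX hY f b hbe x v hbv
  exact ⟨U, V, a, b, k, u, hae, hbe, hak, hau⟩

/-- For an etale-square invariant `T`, "`T = t` on some chart diagram through `x`" is the same as
"`T = t` on every chart diagram through `x`". -/
theorem IsEtaleSquareInvariant.hasAtMor_iff_forall {α : Type v}
    {T : ∀ {U V : Scheme.{u}}, (U ⟶ V) → ↥U → α} (hT : IsEtaleSquareInvariant T)
    {X Y : Sp S} (hX : IsAlgSpace X) (hY : IsAlgSpace Y) (f : X ⟶ Y) (x : Points X) (t : α) :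
    HasAtMor (fun _ _ h u => T h u = t) f x ↔
      ∀ ⦃U V : Over S⦄ (a : (yon S).obj U ⟶ X) (b : (yon S).obj V ⟶ Y) (h : U ⟶ V) (u : ↥U.left),
        RepWith @Etale a → RepWith @Etale b → a ≫ f = (yon S).map h ≫ b → Points.ofPt a u = x →
          T h.left u = t := by
  constructor
  · rintro ⟨U₁, V₁, a₁, b₁, h₁, u₁, ha₁, hb₁, comm₁, hu₁, hQ⟩ U V a b h u ha hb comm hu
    rw [hT.eq_of_two_charts f a b h ha hb comm a₁ b₁ h₁ ha₁ hb₁ comm₁ u u₁ (hu.trans hu₁.symm)]
    exact hQ
  · intro H
    obtain ⟨U, V, a, b, h, u, ha, hb, comm, hu⟩ := exists_diagram_through_point hX hY f x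
    exact ⟨U, V, a, b, h, u, ha, hb, comm, hu, H a b h u ha hb comm hu⟩

end Groth.Agent.H52
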