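/-
Helper library (helper52): compatible chart diagrams for a base change square of algebraic spaces,
with cartesian square of scheme charts, through a prescribed point of the base-changed source.
-/
import Groth.Agent.H52.TwoCharts
import Groth.Agent.H52.FibreProd
import Groth.Agent.H52.Top

set_option autoImplicit false
universe u
open CategoryTheory CategoryTheory.Limits AlgebraicGeometry Opposite

namespace Groth.Agent.H52

open AlgSp

variable {S : Scheme.{u}}

/-- For a cartesian square of algebraic spaces and a point `x'` of the base-changed source there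
are chart diagrams of `f'` through `x'` and of `f`, with a morphism between them which is a
cartesian square of schemes. -/
theorem exists_baseChange_charts {X Y Y' X' : Sp S} (hX : IsAlgSpace X) (hY : IsAlgSpace Y)
    (hY' : IsAlgSpace Y') {f : X ⟶ Y} {g : Y' ⟶ Y} {g' : X' ⟶ X} {f' : X' ⟶ Y'}
    (sq : IsPullback g' f' f g) (x' : Points X') :
    ∃ (U V U' V' : Over S) (a : (yon S).obj U ⟶ X) (b : (yon S).obj V ⟶ Y)
      (a' : (yon S).obj U' ⟶ X') (b' : (yon S).obj V' ⟶ Y')
      (h : U ⟶ V) (h' : U' ⟶ V') (α : U' ⟶ U) (β : V' ⟶ V) (u' : ↥U'.left),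
      RepWith @Etale a ∧ RepWith @Etale b ∧ RepWith @Etale a' ∧ RepWith @Etale b' ∧
      a ≫ f = (yon S).map h ≫ b ∧ a' ≫ f' = (yon S).map h' ≫ b' ∧
      a' ≫ g' = (yon S).map α ≫ a ∧ b' ≫ g = (yon S).map β ≫ b ∧
      IsPullback α.left h'.left h.left β.left ∧ Points.ofPt a' u' = x' := by
  obtain ⟨V, b, v, hbe, hbv⟩ := exists_chart_through_point hY (Points.map g (Points.map f' x'))
  obtain ⟨V', b', β, v', hb'e, hb'β, hb'v', hβv⟩ :=
    exists_chart_over_through_point hY' hY g b hbe (Points.map f' x') v hbv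
  -- `N = X ×_Y V`
  have sqN := IsPullback.of_hasPullback f b
  have hN : IsAlgSpace (pullback f b) := isAlgSpace_of_isPullback sqN hX hY (IsAlgSpace.yon_obj V)
  have hn₁ : RepWith @Etale (pullback.fst f b) := MorphismProperty.of_isPullback sqN.flip hbe
  -- `M = N ×_V V'`
  have sqM := IsPullback.of_hasPullback (pullback.snd f b) ((yon S).map β)
  have hM : IsAlgSpace (pullback (pullback.snd f b) ((yon S).map β)) :=
    isAlgSpace_of_isPullback sqM hN (IsAlgSpace.yon_obj V) (IsAlgSpace.yon_obj V')
  set m₁ := pullback.fst (pullback.snd f b) ((yon S).map β) with hm₁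
  set m₂ := pullback.snd (pullback.snd f b) ((yon S).map β) with hm₂
  have hcompat : (m₁ ≫ pullback.fst f b) ≫ f = (m₂ ≫ b') ≫ g := by
    rw [Category.assoc, sqN.w, ← Category.assoc, sqM.w, Category.assoc, Category.assoc, hb'β]
  let μ : pullback (pullback.snd f b) ((yon S).map β) ⟶ X' := sq.lift _ _ hcompat
  have hμ1 : μ ≫ g' = m₁ ≫ pullback.fst f b := sq.lift_fst _ _ _
  have hμ2 : μ ≫ f' = m₂ ≫ b' := sq.lift_snd _ _ _
  have sqL : IsPullback μ m₂ f' b' := by
    have big : IsPullback (m₁ ≫ pullback.fst f b) m₂ f ((yon S).map β ≫ b) :=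
      sqM.paste_horiz sqN
    rw [← hb'β, ← hμ1] at big
    exact IsPullback.of_right big hμ2 sq
  have hμe : RepWith @Etale μ := MorphismProperty.of_isPullback sqL.flip hb'e
  -- the point of `M`
  obtain ⟨m, hmx, hmv⟩ := exists_point_of_isPullback sqL x' (Points.ofScheme V' v')
    (by rw [← Points.ofPt_eq_map_ofScheme, hb'v'])
  obtain ⟨U, c, u, hce, hcu⟩ := exists_chart_through_point hN (Points.map m₁ m)
  obtain ⟨h, hh⟩ := (yon S).map_surjective (c ≫ pullback.snd f b)
  -- the scheme `U' = U ×_V V'`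
  let U' : Over S := Over.mk (pullback.fst h.left β.left ≫ U.hom)
  let α : U' ⟶ U := Over.homMk (pullback.fst h.left β.left) rfl
  have hw : pullback.snd h.left β.left ≫ V'.hom = pullback.fst h.left β.left ≫ U.hom := by
    rw [← Over.w β, ← Over.w h, ← Category.assoc, ← Category.assoc, pullback.condition]
  let h' : U' ⟶ V' := Over.homMk (pullback.snd h.left β.left) hw
  have sqS : IsPullback α.left h'.left h.left β.left := IsPullback.of_hasPullback h.left β.left
  have sqO : IsPullback α h' h β :=
    IsPullback.of_map (Over.forget S) (by ext; exact pullback.condition) sqS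
  have sqU' := sqO.map (yon S)
  have hcompat2 : ((yon S).map α ≫ c) ≫ pullback.snd f b = (yon S).map h' ≫ (yon S).map β := by
    rw [Category.assoc, ← hh]; exact sqU'.w
  let ψ : (yon S).obj U' ⟶ pullback (pullback.snd f b) ((yon S).map β) := sqM.lift _ _ hcompat2
  have hψ1 : ψ ≫ m₁ = (yon S).map α ≫ c := sqM.lift_fst _ _ _
  have hψ2 : ψ ≫ m₂ = (yon S).map h' := sqM.lift_snd _ _ _
  have sqψ : IsPullback ψ ((yon S).map α) m₁ c := by
    have big : IsPullback ((yon S).map h') ((yon S).map α) ((yon S).map β) ((yon S).map h) :=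
      sqU'.flip
    rw [← hψ2, hh] at big
    exact IsPullback.of_right big hψ1 sqM.flip
  have hψe : RepWith @Etale ψ := MorphismProperty.of_isPullback sqψ.flip hce
  obtain ⟨p, hpm, hpu⟩ := exists_point_of_isPullback sqψ m (Points.ofScheme U u)
    (by rw [← Points.ofPt_eq_map_ofScheme, hcu])
  obtain ⟨u', rfl⟩ := (Points.schemeEquiv U').surjective p
  refine ⟨U, V, U', V', c ≫ pullback.fst f b, b, ψ ≫ μ, b', h, h', α, β, u',
    (RepWith (S := S) @Etale).comp_mem _ _ hce hn₁, hbe,
    (RepWith (S := S) @Etale).comp_mem _ _ hψe hμe, hb'e, ?_, ?_, ?_, hb'β, sqS, ?_⟩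
  · rw [Category.assoc, sqN.w, ← Category.assoc, hh]
  · rw [Category.assoc, hμ2, ← Category.assoc, hψ2]
  · rw [Category.assoc, hμ1, ← Category.assoc, hψ1, Category.assoc]
  · rw [Points.ofPt_eq_map_ofScheme, Points.map_comp]
    change Points.map μ (Points.map ψ (Points.schemeEquiv U' u')) = x'
    rw [hpm, hmx]

end Groth.Agent.H52
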