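import Groth.Agent.Lib.Helper54.LqfSepScheme
import Groth.Agent.Lib.Helper51.RepBySp5
import Groth.Agent.H52.Basic

/-!
# Bootstrap, part 1

`h_X ⟶ F` representable by algebraic spaces and locally quasi-finite ⇒ representable by schemes
(Stacks, Bootstrap: via "separated locally quasi-finite over a scheme is a scheme").
-/

set_option autoImplicit false
universe u
open CategoryTheory CategoryTheory.Limits AlgebraicGeometry Opposite
open AlgSp

namespace Groth.Agent.H52.Bootstrap

variable {S : Scheme.{u}}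

/-- Cancellation: if `X ⟶ h_W ⟶ h_T` is locally quasi-finite (and lft), so is `X ⟶ h_W`. -/
theorem locP_lqf_of_comp_yon {X : Sp S} {W T : Over S} (m : X ⟶ (yon S).obj W) (w : W ⟶ T)
    (h : LocP (@LocallyQuasiFinite ⊓ @LocallyOfFiniteType) (m ≫ (yon S).map w)) :
    LocP (@LocallyQuasiFinite ⊓ @LocallyOfFiniteType) m := by
  intro U V a b h' ha hb e
  obtain ⟨b', rfl⟩ := (yon S).map_surjective b
  have h1 := h a (𝟙 _) (h' ≫ b' ≫ w) ha (repWith_id _ T) (by
    rw [← Category.assoc, e, Category.comp_id, Functor.map_comp, Functor.map_comp,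
      Category.assoc])
  obtain ⟨h2, h3⟩ := h1
  have h2' : LocallyQuasiFinite (h'.left ≫ (b' ≫ w).left) := by simpa using h2
  have h3' : LocallyOfFiniteType (h'.left ≫ (b' ≫ w).left) := by simpa using h3
  exact ⟨LocallyQuasiFinite.of_comp h'.left (b' ≫ w).left,
    locallyOfFiniteType_of_comp h'.left (b' ≫ w).left⟩

/-- Stacks, Bootstrap: a map `h_X ⟶ F` to a presheaf that is representable by algebraic spaces and
locally quasi-finite is representable by schemes. -/
theorem relativelyRepresentable_of_repBySpWith_lqf (F : PSp S) (X : Over S)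
    (p : (pyon S).obj X ⟶ F)
    (hp : RepBySpWith (LocP (@LocallyQuasiFinite ⊓ @LocallyOfFiniteType)) p) :
    (pyon S).relativelyRepresentable p := by
  intro T ξ
  have sq := IsPullback.of_hasPullback p ξ
  obtain ⟨hsh, halg, hloc⟩ := hp ξ (pullback.fst p ξ) (pullback.snd p ξ) sq
  let e := PreservesLimitPair.iso (pyon S) X T
  let m0 : pullback p ξ ⟶ (pyon S).obj (X ⨯ T) :=
    prod.lift (pullback.fst p ξ) (pullback.snd p ξ) ≫ e.inv
  let m : (⟨pullback p ξ, hsh⟩ : Sp S) ⟶ (yon S).obj (X ⨯ T) := ObjectProperty.homMk m0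
  have he_snd : e.inv ≫ (pyon S).map prod.snd = prod.snd := by
    rw [Iso.inv_comp_eq, PreservesLimitPair.iso_hom, prodComparison_snd]
  have hm_snd : m ≫ (yon S).map prod.snd =
      (ObjectProperty.homMk (pullback.snd p ξ) :
        (⟨pullback p ξ, hsh⟩ : Sp S) ⟶ (yon S).obj T) := by
    apply ObjectProperty.hom_ext
    change m0 ≫ (pyon S).map prod.snd = pullback.snd p ξ
    rw [Category.assoc, he_snd, prod.lift_snd]
  have hmono0 : Mono m0 := by
    have : Mono (prod.lift (pullback.fst p ξ) (pullback.snd p ξ)) := by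
      constructor
      intro Z a b hab
      apply pullback.hom_ext
      · have h1 : (a ≫ prod.lift (pullback.fst p ξ) (pullback.snd p ξ)) ≫ prod.fst =
            (b ≫ prod.lift (pullback.fst p ξ) (pullback.snd p ξ)) ≫ prod.fst := by rw [hab]
        rwa [Category.assoc, Category.assoc, prod.lift_fst] at h1
      · have h1 : (a ≫ prod.lift (pullback.fst p ξ) (pullback.snd p ξ)) ≫ prod.snd =
            (b ≫ prod.lift (pullback.fst p ξ) (pullback.snd p ξ)) ≫ prod.snd := by rw [hab]
        rwa [Category.assoc, Category.assoc, prod.lift_snd] at h1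
    exact mono_comp _ _
  have hmono : Mono m :=
    (sheafToPresheaf (J S) (Type (u + 1))).mono_of_mono_map (by exact hmono0)
  have hsep : IsSeparatedMor m := Groth.Agent.H52.isSeparatedMor_of_repWith_mono m
  have hlqf : LocP (@LocallyQuasiFinite ⊓ @LocallyOfFiniteType) m :=
    locP_lqf_of_comp_yon m prod.snd (by rw [hm_snd]; exact hloc)
  obtain ⟨⟨W, ⟨r⟩⟩⟩ := Groth.Agent.Lib.Helper54.isRepresentable_of_lqf_separated halg m hlqf hsep
  let i := isoOfRepresentableBy r
  let iP : (pyon S).obj W ≅ pullback p ξ :=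
    (sheafToPresheaf (J S) (Type (u + 1))).mapIso i
  obtain ⟨s, hs⟩ := (pyon S).map_surjective (iP.hom ≫ pullback.snd p ξ)
  refine ⟨W, s, iP.hom ≫ pullback.fst p ξ, ?_⟩
  rw [hs]
  exact IsPullback.of_iso sq iP.symm (Iso.refl _) (Iso.refl _) (Iso.refl _)
    (by simp) (by simp) (by simp) (by simp)

end Groth.Agent.H52.Bootstrap
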