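import Groth.Agent.H52.LocPCalc4
import Groth.Agent.H52.QC5
import Groth.Agent.H52.Top3
import Groth.Agent.H52.Compact
import Groth.Agent.H52.LocPInst

set_option autoImplicit false
universe u
open CategoryTheory CategoryTheory.Limits AlgebraicGeometry Opposite Topology
open AlgSp

namespace Groth.Agent.H52

variable {S : Scheme.{u}}

theorem isQuotientMap_points_of_left {T T' : Over S} (φ : T ⟶ T')
    (h : IsQuotientMap φ.left) : IsQuotientMap (Points.map ((yon S).map φ)) := by
  rw [Points.map_yon_map_eq]
  exact ((Points.schemeHomeo T').isQuotientMap.comp h).comp (Points.schemeHomeo T).symm.isQuotientMap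

theorem surjective_left_of_points {T T' : Over S} (φ : T ⟶ T')
    (h : Function.Surjective (Points.map ((yon S).map φ))) : Function.Surjective φ.left := by
  rw [Points.map_yon_map_eq] at h
  have := ((Points.schemeHomeo T').symm.surjective.comp h).comp (Points.schemeHomeo T).surjective
  convert this using 1
  ext t
  simp

/-- A flat, quasi-compact, surjective morphism of algebraic spaces is submersive. -/
theorem isQuotientMap_points_of_flat_qc_surjective {X Y : Sp S} (hX : IsAlgSpace X)
    (hY : IsAlgSpace Y) (f : X ⟶ Y) (hfl : LocP @Flat f) (hqc : IsQuasiCompactMor f)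
    (hs : IsSurjectiveMor f) : IsQuotientMap (Points.map f) := by
  rw [isQuotientMap_iff, isCoinducing_iff]
  refine ⟨fun T => ⟨fun hT => ?_, fun h => h.preimage (Points.continuous_map f)⟩, hs⟩
  rw [isOpen_iff_forall_mem_open]
  intro y hy
  obtain ⟨V, b, hbe, hbs⟩ := hY.atlas
  obtain ⟨pv, hpv⟩ := surjective_points_of_repWith_surjective b hbs y
  obtain ⟨v, rfl⟩ := (Points.schemeEquiv V).surjective pv
  obtain ⟨V0, hV0, hv, -⟩ := exists_isAffineOpen_mem_and_subset (x := v) (U := ⊤) trivial
  let b0 : (yon S).obj (overOpen V V0) ⟶ Y := (yon S).map (overOpenι V V0) ≫ b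
  have hb0e : RepWith @Etale b0 :=
    (RepWith (S := S) @Etale).comp_mem _ _ (repWith_etale_overOpenι V V0) hbe
  have sq := IsPullback.of_hasPullback f b0
  have hX0 : IsAlgSpace (pullback f b0) :=
    isAlgSpace_of_isPullback sq hX hY (IsAlgSpace.yon_obj _)
  have : IsAffine (overOpen V V0).left := hV0
  have hqc0 : IsQuasiCompactSp (pullback f b0) :=
    hqc (IsAlgSpace.yon_obj _) (isQuasiCompactSp_yon _) b0 _ _ sq
  obtain ⟨U0, c, hce, hcs, hU0⟩ := hqc0
  obtain ⟨h, hh⟩ := (yon S).map_surjective (c ≫ pullback.snd f b0)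
  have hfst_e : RepWith @Etale (pullback.fst f b0) := MorphismProperty.of_isPullback sq.flip hb0e
  have hcomm : (c ≫ pullback.fst f b0) ≫ f = (yon S).map h ≫ b0 := by
    rw [Category.assoc, pullback.condition, ← Category.assoc, hh]
  have hflat : Flat h.left := hfl (c ≫ pullback.fst f b0) b0 h
    ((RepWith (S := S) @Etale).comp_mem _ _ hce hfst_e) hb0e hcomm
  have hsurjP : Function.Surjective (Points.map ((yon S).map h)) := by
    rw [hh]
    intro z
    obtain ⟨p, hp⟩ := surjective_points_of_isPullback sq hs z
    obtain ⟨q, hq⟩ := surjective_points_of_repWith_surjective c hcs p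
    exact ⟨q, by rw [Points.map_comp, hq, hp]⟩
  have hsurj : Surjective h.left := ⟨surjective_left_of_points h hsurjP⟩
  have hqcm : QuasiCompact h.left := (HasAffineProperty.iff_of_isAffine (P := @QuasiCompact)).2 hU0
  have hquot := isQuotientMap_points_of_left h (Flat.isQuotientMap_of_surjective h.left)
  have hopen : IsOpen (Points.map b0 ⁻¹' T) := by
    rw [← hquot.isOpen_preimage]
    have : Points.map ((yon S).map h) ⁻¹' (Points.map b0 ⁻¹' T) =
        Points.map (c ≫ pullback.fst f b0) ⁻¹' (Points.map f ⁻¹' T) := by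
      ext q
      simp only [Set.mem_preimage, ← Points.map_comp, hcomm]
    rw [this]
    exact hT.preimage (Points.continuous_map _)
  refine ⟨Points.map b0 '' (Points.map b0 ⁻¹' T), Set.image_preimage_subset _ _,
    isOpenMap_points_of_etale b0 hb0e _ hopen, ?_⟩
  have key : Points.map b0 (Points.ofScheme (overOpen V V0) ⟨v, hv⟩) = y := by
    rw [Points.map_comp, points_map_ofScheme]
    exact hpv
  refine ⟨Points.ofScheme (overOpen V V0) ⟨v, hv⟩, ?_, key⟩
  rw [Set.mem_preimage, key]
  exact hy

/-- A flat, quasi-compact, surjective morphism of algebraic spaces is universally submersive. -/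
theorem isUnivSubmersiveMor_of_flat_qc_surjective {X Y : Sp S} (hX : IsAlgSpace X)
    (hY : IsAlgSpace Y) (f : X ⟶ Y) (hfl : LocP @Flat f) (hqc : IsQuasiCompactMor f)
    (hs : IsSurjectiveMor f) : IsUnivSubmersiveMor f := by
  intro Z Z' hZ g fst snd sq
  have hZ' : IsAlgSpace Z' := isAlgSpace_of_isPullback sq hX hY hZ
  exact isQuotientMap_points_of_flat_qc_surjective hZ' hZ snd
    (isEtLocal_flat.locP_of_isPullback hX hY hZ sq hfl)
    (isQuasiCompactMor_of_isPullback sq hqc) (surjective_points_of_isPullback sq hs)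

end Groth.Agent.H52
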