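import Groth.Agent.H52.ThickLift

set_option autoImplicit false
universe u
open CategoryTheory CategoryTheory.Limits AlgebraicGeometry Opposite

namespace Groth.Agent.H52

open AlgSp

variable {S : Scheme.{u}}

/-- First order thickenings are stable under etale base change. -/
theorem isFOThickMor_of_isPullback_etale {T T' P R' : Sp S} {j : T ⟶ T'} {r : R' ⟶ T'}
    {fst : P ⟶ T} {snd : P ⟶ R'} (sq : IsPullback fst snd j r) (hj : IsFOThickMor j)
    (hr : IsEtaleMor r) : IsFOThickMor snd := by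
  refine ⟨MorphismProperty.of_isPullback (P := RepWith (S := S) thick) sq hj.1, ?_⟩
  intro V W b fst' snd' hAff hb sq'
  exact hj.2 (b ≫ r) (fst' ≫ fst) snd' hAff (hr b hb) (sq'.paste_horiz sq)

/-- A representable etale morphism is etale in the sense of the reference. -/
theorem isEtaleMor_of_repWith_etale {F G : Sp S} (r : F ⟶ G) (hr : RepWith @Etale r) :
    IsEtaleMor r := fun _ φ hφ => (RepWith (S := S) @Etale).comp_mem _ _ hφ hr

section LocLift

variable {X Y T T' : Sp S} {f : X ⟶ Y} {j : T ⟶ T'} {a : T ⟶ X} {b : T' ⟶ Y}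

/-- The lifting problem `(j, a, b)` for `f` has exactly one local solution on every affine etale
scheme chart of `T'`. -/
def AffLocSolvable (f : X ⟶ Y) (j : T ⟶ T') (a : T ⟶ X) (b : T' ⟶ Y) : Prop :=
  ∀ (R : Over S), IsAffine R.left → ∀ r : (yon S).obj R ⟶ T', RepWith @Etale r →
    ∃! m : (yon S).obj R ⟶ X, IsLocLift f j a b r m

theorem IsLocLift.unique' (H : AffLocSolvable f j a b) {R : Over S}
    {r : (yon S).obj R ⟶ T'} (hr : RepWith @Etale r) {m m' : (yon S).obj R ⟶ X}
    (hm : IsLocLift f j a b r m) (hm' : IsLocLift f j a b r m') : m = m' := by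
  refine (isFppfFamily_affineOpens R).hom_ext m m' fun O => ?_
  have hrO : RepWith @Etale ((yon S).map (overOpenι R O.1) ≫ r) :=
    (RepWith (S := S) @Etale).comp_mem _ _ (repWith_etale_overOpenι R O.1) hr
  have hAff : IsAffine (overOpen R O.1).left := O.2
  exact (H _ hAff _ hrO).unique (hm.precomp (overOpenι R O.1)) (hm'.precomp (overOpenι R O.1))

theorem exists_isLocLift' (H : AffLocSolvable f j a b) {R : Over S} (r : (yon S).obj R ⟶ T')
    (hr : RepWith @Etale r) : ∃ m : (yon S).obj R ⟶ X, IsLocLift f j a b r m := by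
  have hrO : ∀ O : R.left.Opens, RepWith @Etale ((yon S).map (overOpenι R O) ≫ r) := fun O =>
    (RepWith (S := S) @Etale).comp_mem _ _ (repWith_etale_overOpenι R O) hr
  have hex : ∀ O : R.left.affineOpens, ∃ g : (yon S).obj (overOpen R O.1) ⟶ X,
      IsLocLift f j a b ((yon S).map (overOpenι R O.1) ≫ r) g := fun O => by
    have hAff : IsAffine (overOpen R O.1).left := O.2
    exact (H _ hAff _ (hrO O.1)).exists
  choose g hg using hex
  have hfam := isFppfFamily_affineOpens R
  obtain ⟨m, hm⟩ := hfam.exists_glue g (by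
    intro O O' R' r1 r2 h12
    have hk : ∀ x : ↥R'.left, (r1 ≫ overOpenι R O.1).left x ∈ O.1 ⊓ O'.1 := by
      intro x
      refine ⟨?_, ?_⟩
      · exact ((r1.left x : ↥O.1)).2
      · rw [h12]
        exact ((r2.left x : ↥O'.1)).2
    obtain ⟨ρ, hρ⟩ := exists_factor_overOpen (r1 ≫ overOpenι R O.1) (O.1 ⊓ O'.1) hk
    have hρ1 : ρ ≫ overOpenHom R (inf_le_left : O.1 ⊓ O'.1 ≤ O.1) = r1 := by
      rw [← cancel_mono (overOpenι R O.1), Category.assoc, overOpenHom_ι, hρ]
    have hρ2 : ρ ≫ overOpenHom R (inf_le_right : O.1 ⊓ O'.1 ≤ O'.1) = r2 := by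
      rw [← cancel_mono (overOpenι R O'.1), Category.assoc, overOpenHom_ι, hρ, h12]
    have h1 := ((hg O).precomp (overOpenHom R (inf_le_left : O.1 ⊓ O'.1 ≤ O.1))).congr_chart
      (r' := (yon S).map (overOpenι R (O.1 ⊓ O'.1)) ≫ r) (by
        rw [← Category.assoc, ← Functor.map_comp, overOpenHom_ι])
    have h2 := ((hg O').precomp (overOpenHom R (inf_le_right : O.1 ⊓ O'.1 ≤ O'.1))).congr_chart
      (r' := (yon S).map (overOpenι R (O.1 ⊓ O'.1)) ≫ r) (by
        rw [← Category.assoc, ← Functor.map_comp, overOpenHom_ι])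
    have h3 := IsLocLift.unique' H (hrO _) h1 h2
    rw [← hρ1, ← hρ2, Functor.map_comp, Functor.map_comp, Category.assoc, Category.assoc, h3])
  refine ⟨m, ?_, ?_⟩
  · refine hfam.hom_ext _ _ fun O => ?_
    rw [← Category.assoc, hm O, (hg O).1, Category.assoc]
  · intro R₀ fst snd hc
    refine (isFppfFamily_preimage_affineOpens snd).hom_ext _ _ fun O => ?_
    let sndO : overOpen R₀ (snd.left ⁻¹ᵁ O.1) ⟶ overOpen R O.1 :=
      Over.homMk (snd.left ∣_ O.1) (by
        change (snd.left ∣_ O.1) ≫ O.1.ι ≫ R.hom = (snd.left ⁻¹ᵁ O.1).ι ≫ R₀.hom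
        rw [← Category.assoc, morphismRestrict_ι, Category.assoc, Over.w snd])
    have hsndO : sndO ≫ overOpenι R O.1 = overOpenι R₀ (snd.left ⁻¹ᵁ O.1) ≫ snd := by
      ext
      exact morphismRestrict_ι _ _
    have h1 := (hg O).2 _ ((yon S).map (overOpenι R₀ (snd.left ⁻¹ᵁ O.1)) ≫ fst) sndO (by
      rw [Category.assoc, hc, ← Category.assoc, ← Functor.map_comp, ← hsndO, Functor.map_comp,
        Category.assoc])
    rw [← Category.assoc, ← Functor.map_comp, ← hsndO, Functor.map_comp, Category.assoc, hm O, h1,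
      Category.assoc]

/-- If the lifting problem is uniquely solvable on affine etale charts of `T'`, it is uniquely
solvable on `T'`. -/
theorem existsUnique_lift_of_affLocSolvable (hT' : IsAlgSpace T') (hj : IsThickMor j)
    (H : AffLocSolvable f j a b) : ∃! l : T' ⟶ X, j ≫ l = a ∧ l ≫ f = b := by
  obtain ⟨V, c, hce, hcs⟩ := hT'.atlas
  have hcepi : Epi c := epi_of_repWith_etale_surjective c hce hcs
  obtain ⟨m, hm⟩ := exists_isLocLift' H c hce
  obtain ⟨l, hl⟩ := exists_desc_of_epi c m (by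
    intro P p₁ p₂ h12
    apply sp_hom_ext
    intro R x
    obtain ⟨r₁, hr₁⟩ := (yon S).map_surjective (x ≫ p₁)
    obtain ⟨r₂, hr₂⟩ := (yon S).map_surjective (x ≫ p₂)
    rw [← Category.assoc, ← Category.assoc, ← hr₁, ← hr₂]
    have h12' : (yon S).map r₁ ≫ c = (yon S).map r₂ ≫ c := by
      rw [hr₁, hr₂, Category.assoc, Category.assoc, h12]
    have hrep := hce.rep
    have sqW := hrep.isPullback c
    obtain ⟨w₁, hw₁⟩ := (yon S).map_surjective (hrep.fst c)
    have hsnd : Etale (hrep.snd c).left := hce.property_snd c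
    have hsnd' : RepWith @Etale ((yon S).map (hrep.snd c)) := by
      rw [repWith_yon_map_iff]
      exact hsnd
    have hchart : RepWith @Etale ((yon S).map (hrep.snd c) ≫ c) :=
      (RepWith (S := S) @Etale).comp_mem _ _ hsnd' hce
    have hw : (yon S).map w₁ ≫ c = (yon S).map (hrep.snd c) ≫ c := by
      rw [hw₁]
      exact sqW.w
    have e := IsLocLift.unique' H hchart ((hm.precomp w₁).congr_chart hw)
      (hm.precomp (hrep.snd c))
    obtain ⟨ρ, hρ⟩ := (yon S).map_surjective (sqW.lift ((yon S).map r₁) ((yon S).map r₂) h12')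
    have hρ1 : ρ ≫ w₁ = r₁ := by
      apply (yon S).map_injective
      rw [Functor.map_comp, hρ, hw₁]
      exact sqW.lift_fst _ _ _
    have hρ2 : ρ ≫ hrep.snd c = r₂ := by
      apply (yon S).map_injective
      rw [Functor.map_comp, hρ]
      exact sqW.lift_snd _ _ _
    rw [← hρ1, ← hρ2, Functor.map_comp, Functor.map_comp, Category.assoc, Category.assoc, e])
  have hl2 : l ≫ f = b := by
    rw [← cancel_epi c, ← Category.assoc, hl, hm.1]
  have hl1 : j ≫ l = a := by
    have hrep := hj.rep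
    have sq := hrep.isPullback c
    have hfe : RepWith @Etale (hrep.fst c) := MorphismProperty.of_isPullback sq.flip hce
    have hfs : RepWith @Surjective (hrep.fst c) := MorphismProperty.of_isPullback sq.flip hcs
    have : Epi (hrep.fst c) := epi_of_repWith_etale_surjective _ hfe hfs
    rw [← cancel_epi (hrep.fst c), ← Category.assoc, sq.w, Category.assoc, hl]
    exact hm.2 _ _ _ sq.w
  refine ⟨l, ⟨hl1, hl2⟩, fun l' hl' => ?_⟩
  rw [← cancel_epi c]
  have h1 : IsLocLift f j a b c (c ≫ l') := ⟨by rw [Category.assoc, hl'.2],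
    fun R₀ fst snd hc => by rw [← Category.assoc, ← hc, Category.assoc, hl'.1]⟩
  have h2 : IsLocLift f j a b c (c ≫ l) := ⟨by rw [Category.assoc, hl2],
    fun R₀ fst snd hc => by rw [← Category.assoc, ← hc, Category.assoc, hl1]⟩
  exact IsLocLift.unique' H hce h1 h2

end LocLift

/-- The universal property of a universal first order thickening may be tested on first order
thickenings of schemes with affine target. -/
theorem isUnivFOThick_of_affine {Z Z' X : Sp S} (h : Z ⟶ X) (i : Z ⟶ Z') (h' : Z' ⟶ X)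
    (hi : IsFOThickMor i) (w : i ≫ h' = h)
    (H : ∀ (T T' : Over S) (j : T ⟶ T'), IsAffine T'.left → IsFOThickMor ((yon S).map j) →
      ∀ (a : (yon S).obj T ⟶ Z) (b : (yon S).obj T' ⟶ X), (yon S).map j ≫ b = a ≫ h →
        ∃! a' : (yon S).obj T' ⟶ Z', (yon S).map j ≫ a' = a ≫ i ∧ a' ≫ h' = b) :
    IsUnivFOThick h i h' := by
  refine ⟨hi, w, ?_⟩
  intro T T' hT hT' j a b hj hw
  refine existsUnique_lift_of_affLocSolvable hT' hj.1 ?_
  intro R hR r hr
  have hrep := hj.1.rep
  have sq := hrep.isPullback r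
  have hsnd : IsFOThickMor ((yon S).map (hrep.snd r)) :=
    isFOThickMor_of_isPullback_etale sq hj (isEtaleMor_of_repWith_etale r hr)
  obtain ⟨m, ⟨hm1, hm2⟩, hmu⟩ := H _ _ (hrep.snd r) hR hsnd (hrep.fst r ≫ a) (r ≫ b) (by
    rw [← Category.assoc, ← sq.w, Category.assoc, hw, Category.assoc])
  refine ⟨m, IsLocLift.of_isPullback sq (by rw [hm1, Category.assoc]) hm2, fun m' hm' => ?_⟩
  exact hmu m' ⟨by rw [hm'.2 _ _ _ sq.w, Category.assoc], hm'.1⟩

end Groth.Agent.H52
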