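import Groth.Agent.H52.Bootstrap1
import Groth.Agent.S9873
import Groth.Agent.H53.EtaleMor
import Groth.Agent.H52.Points
import Groth.Agent.H52.Submersive
import Groth.Agent.H52.ThickLift2
import Groth.Agent.H52.FibreProd
import Groth.Agent.Lib.Helper54.LocalST

/-!
# Bootstrap, part 2

A sheaf `F` receiving a surjective étale map, representable by algebraic spaces, from an algebraic
space is an algebraic space (Stacks, Bootstrap, Theorem 6.1).
-/

set_option autoImplicit false
universe u
open CategoryTheory CategoryTheory.Limits AlgebraicGeometry Opposite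
open AlgSp

namespace Groth.Agent.H52.Bootstrap

variable {S : Scheme.{u}}

/-- An étale morphism of sheaves (prelude sense) is locally quasi-finite (in the `LocP` sense). -/
theorem locP_lqf_of_isEtaleMor {X Y : Sp S} (f : X ⟶ Y) (hf : IsEtaleMor f) :
    LocP (@LocallyQuasiFinite ⊓ @LocallyOfFiniteType) f := by
  intro U V a b h ha hb w
  have : Etale h.left :=
    Groth.Agent.H53.etale_of_repWith_etale_triangle (a ≫ f) b (hf a ha) hb h w.symm
  exact ⟨Groth.Agent.H53.locallyQuasiFinite_of_etale h.left, inferInstance⟩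

/-- Factor a pullback square along a composite `q ≫ p` through the pullback of `p`. -/
theorem exists_factor_of_isPullback_comp {A X F T E : Sp S} (q : A ⟶ X) (p : X ⟶ F) (ξ : T ⟶ F)
    (fst : E ⟶ A) (snd : E ⟶ T) (sq : IsPullback fst snd (q ≫ p) ξ) :
    ∃ l : E ⟶ pullback p ξ, IsPullback fst l q (pullback.fst p ξ) ∧ l ≫ pullback.snd p ξ = snd := by
  let l : E ⟶ pullback p ξ := pullback.lift (fst ≫ q) snd (by rw [Category.assoc, sq.w])
  have h1 : l ≫ pullback.fst p ξ = fst ≫ q := pullback.lift_fst _ _ _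
  have h2 : l ≫ pullback.snd p ξ = snd := pullback.lift_snd _ _ _
  refine ⟨l, ?_, h2⟩
  have big : IsPullback fst (l ≫ pullback.snd p ξ) (q ≫ p) ξ := by rw [h2]; exact sq
  exact IsPullback.of_bot big h1.symm (IsPullback.of_hasPullback p ξ)

/-- Stacks, Bootstrap Theorem 6.1 (sheaf form). -/
theorem isAlgSpace_of_repBySpWith_etale_surjective {F X : Sp S} (hX : IsAlgSpace X) (p : X ⟶ F)
    (hp : RepBySpWith (IsSurjectiveMor ⊓ IsEtaleMor) p.hom) : IsAlgSpace F := by
  rw [repBySpWith_hom_iff] at hp
  obtain ⟨U, q, hqe, hqs⟩ := hX.atlas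
  -- the composite chart is representable by algebraic spaces and étale
  have key : ∀ ⦃T : Over S⦄ (ξ : (yon S).obj T ⟶ F) ⦃E : Sp S⦄ (fst : E ⟶ (yon S).obj U)
      (snd : E ⟶ (yon S).obj T), IsPullback fst snd (q ≫ p) ξ →
      IsAlgSpace E ∧ IsEtaleMor snd ∧ IsSurjectiveMor snd := by
    intro T ξ E fst snd sq
    obtain ⟨l, sql, hl⟩ := exists_factor_of_isPullback_comp q p ξ fst snd sq
    obtain ⟨hP', hPs, hPe⟩ := hp ξ (pullback.fst p ξ) (pullback.snd p ξ)
      (IsPullback.of_hasPullback p ξ)
    have hle : RepWith @Etale l := MorphismProperty.of_isPullback sql hqe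
    have hls : RepWith @Surjective l := MorphismProperty.of_isPullback sql hqs
    refine ⟨isAlgSpace_of_isPullback sql (IsAlgSpace.yon_obj U) hX hP', ?_, ?_⟩
    · rw [← hl]
      exact Groth.Agent.Lib.Helper54.isEtaleMor_comp (isEtaleMor_of_repWith_etale l hle) hPe
    · rw [← hl]
      change Function.Surjective (Points.map (l ≫ pullback.snd p ξ))
      intro t
      obtain ⟨y, hy⟩ := hPs t
      obtain ⟨x, hx⟩ := surjective_points_of_repWith_surjective l hls y
      exact ⟨x, by rw [Points.map_comp, hx, hy]⟩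
  have hrel : (pyon S).relativelyRepresentable (q ≫ p).hom := by
    apply relativelyRepresentable_of_repBySpWith_lqf
    refine (repBySpWith_hom_iff _ (q ≫ p)).2 ?_
    intro T ξ E fst snd sq
    obtain ⟨h1, h2, -⟩ := key ξ fst snd sq
    exact ⟨h1, locP_lqf_of_isEtaleMor snd h2⟩
  have hrep : Representable (q ≫ p) := by
    intro T ξ
    obtain ⟨V, snd, fst, sq⟩ := hrel ξ.hom
    exact ⟨V, snd, ObjectProperty.homMk fst,
      IsPullback.of_map_of_faithful (sheafToPresheaf (J S) (Type (u + 1))) sq⟩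
  have he : RepWith @Etale (q ≫ p) := by
    refine ⟨hrep, fun T V ξ fst snd sq => ?_⟩
    obtain ⟨-, h2, -⟩ := key ξ fst ((yon S).map snd) sq
    exact (isEtaleMor_yon_map_iff snd).1 h2
  have hs : RepWith @Surjective (q ≫ p) := by
    refine ⟨hrep, fun T V ξ fst snd sq => ?_⟩
    obtain ⟨-, -, h3⟩ := key ξ fst ((yon S).map snd) sq
    exact ⟨surjective_left_of_points snd h3⟩
  exact Groth.Agent.S9873.result S ((ofScheme S).obj U) F (q ≫ p) he hs

end Groth.Agent.H52.Bootstrap
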