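import Groth.Agent.H52.Bootstrap2
import Groth.Agent.Lib.Helper51.ChartDescent
import Groth.Agent.Lib.Helper26.SepLqfDescent
import Groth.Agent.Lib.Helper51.FppfLocalSurj
import Groth.Agent.Lib.Helper54.EtLocalInst
import Groth.Agent.Lib.Helper1.AffineAndDescent

/-!
# Bootstrap, part 3

fppf descent of representability for separated locally quasi-finite maps (Stacks, Bootstrap
Lemma 04S? "cartesian square with fppf `g` and separated lqf `a`").
-/

set_option autoImplicit false
universe u
open CategoryTheory CategoryTheory.Limits AlgebraicGeometry Opposite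
open AlgSp

namespace Groth.Agent.H52.Bootstrap

variable {S : Scheme.{u}}

instance isLocalAtTarget_fppf_isSeparated :
    MorphismProperty.IsLocalAtTarget (@IsSeparated : MorphismProperty Scheme.{u})
      Scheme.fppfPrecoverage := by
  haveI := Groth.Agent.Lib.Helper1.descendsAlong_isClosedImmersion_fpqc.{u}
  haveI : MorphismProperty.DescendsAlong (@IsSeparated : MorphismProperty Scheme.{u})
      (@Surjective ⊓ @Flat ⊓ @QuasiCompact) := by
    rw [IsSeparated.isSeparated_eq_diagonal_isClosedImmersion]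
    infer_instance
  exact Groth.Agent.Lib.Helper51.isLocalAtTarget_fppf_of_descendsAlong _

instance isLocalAtTarget_fppf_lqf :
    MorphismProperty.IsLocalAtTarget
      (@LocallyQuasiFinite ⊓ @LocallyOfFiniteType : MorphismProperty Scheme.{u})
      Scheme.fppfPrecoverage := by
  haveI := Groth.Agent.Lib.Helper54.descendsAlong_locallyQuasiFinite_fpqc.{u}
  haveI : IsZariskiLocalAtTarget
      (@LocallyQuasiFinite ⊓ @LocallyOfFiniteType : MorphismProperty Scheme.{u}) :=
    Groth.Agent.Lib.Helper26.SepLqfDescent.isZariskiLocalAtTarget_inf _ _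
  exact Groth.Agent.Lib.Helper51.isLocalAtTarget_fppf_of_descendsAlong _

/-- `LocP` is invariant under precomposition with an isomorphism. -/
theorem locP_iso_comp {P : MorphismProperty Scheme.{u}} {X X' Y : Sp S} (i : X' ≅ X) (f : X ⟶ Y)
    (hf : LocP P f) : LocP P (i.hom ≫ f) := by
  intro U V a b h ha hb w
  refine hf (a ≫ i.hom) b h ?_ hb (by rw [Category.assoc, w])
  exact (MorphismProperty.cancel_right_of_respectsIso (RepWith (S := S) @Etale) a i.hom).2 ha

/-- Stacks, Bootstrap: in a cartesian square `E = H ×_G F` of fppf sheaves with `g : F ⟶ G`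
representable by algebraic spaces, flat, surjective and locally of finite presentation and
`a : E ⟶ F` representable by algebraic spaces, separated and locally quasi-finite, the map
`b : H ⟶ G` is representable by schemes, separated and locally quasi-finite. -/
theorem exists_isPullback_of_fppf_of_sep_lqf {E F G H : Sp S}
    (a : E ⟶ F) (f : E ⟶ H) (g : F ⟶ G) (b : H ⟶ G) (sq : IsPullback a f g b)
    (hg : RepBySpWith (IsSurjectiveMor ⊓ LocP @Flat ⊓ LocP @LocallyOfFinitePresentation) g.hom)
    (ha : RepBySpWith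
      (IsSeparatedMor ⊓ LocP (@LocallyQuasiFinite ⊓ @LocallyOfFiniteType)) a.hom)
    {T : Over S} (ξ : (yon S).obj T ⟶ G) :
    ∃ (W : Over S) (fst : (yon S).obj W ⟶ H) (snd : W ⟶ T)
      (_ : IsPullback fst ((yon S).map snd) b ξ),
      IsSeparated snd.left ∧ (@LocallyQuasiFinite ⊓ @LocallyOfFiniteType) snd.left := by
  rw [repBySpWith_hom_iff] at hg ha
  -- base change of `g` to `T`
  obtain ⟨hFT, ⟨hπs, hπf⟩, hπp⟩ := hg ξ (pullback.fst g ξ) (pullback.snd g ξ)
    (IsPullback.of_hasPullback g ξ)
  -- an étale chart of `F_T`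
  obtain ⟨U, c, hce, hcs⟩ := hFT.atlas
  obtain ⟨r, hr⟩ := (yon S).map_surjective (c ≫ pullback.snd g ξ)
  have hrfl : Flat r.left :=
    hπf c (𝟙 _) r hce (repWith_id _ T) (by rw [hr, Category.comp_id])
  have hrfp : LocallyOfFinitePresentation r.left :=
    hπp c (𝟙 _) r hce (repWith_id _ T) (by rw [hr, Category.comp_id])
  have hrs : Surjective r.left := by
    refine ⟨surjective_left_of_points r ?_⟩
    rw [hr]
    intro t
    obtain ⟨y, hy⟩ := hπs t
    obtain ⟨x, hx⟩ := surjective_points_of_repWith_surjective c hcs y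
    exact ⟨x, by rw [Points.map_comp, hx, hy]⟩
  -- base change of `a` to `U`
  obtain ⟨hEU, hρsep, hρlqf⟩ := ha (c ≫ pullback.fst g ξ) (pullback.fst a (c ≫ pullback.fst g ξ))
    (pullback.snd a (c ≫ pullback.fst g ξ)) (IsPullback.of_hasPullback a _)
  obtain ⟨⟨V, ⟨rep⟩⟩⟩ := Groth.Agent.Lib.Helper54.isRepresentable_of_lqf_separated hEU
    (pullback.snd a (c ≫ pullback.fst g ξ)) hρlqf hρsep
  let i := isoOfRepresentableBy rep
  obtain ⟨g', hg'⟩ := (yon S).map_surjective (i.hom ≫ pullback.snd a (c ≫ pullback.fst g ξ))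
  have hg'sep : IsSeparated g'.left := by
    rw [← isSeparatedMor_yon_map_iff, hg']
    exact ((RepWith (S := S) @IsClosedImmersion).diagonal.cancel_left_of_respectsIso i.hom _).2 hρsep
  have hg'lqf : (@LocallyQuasiFinite ⊓ @LocallyOfFiniteType) g'.left := by
    apply locP_yon_map
    rw [hg']
    exact locP_iso_comp i _ hρlqf
  -- the big pullback square
  have sq1 : IsPullback (pullback.fst a (c ≫ pullback.fst g ξ) ≫ f)
      (pullback.snd a (c ≫ pullback.fst g ξ)) b ((c ≫ pullback.fst g ξ) ≫ g) :=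
    (IsPullback.of_hasPullback a (c ≫ pullback.fst g ξ)).paste_horiz sq.flip
  have hbase : (c ≫ pullback.fst g ξ) ≫ g = (yon S).map r ≫ ξ := by
    rw [Category.assoc, pullback.condition, ← Category.assoc, hr]
  rw [hbase] at sq1
  have sqBig : IsPullback (i.hom ≫ pullback.fst a (c ≫ pullback.fst g ξ) ≫ f)
      ((yon S).map g') b ((yon S).map r ≫ ξ) := by
    rw [hg']
    exact IsPullback.of_iso sq1 i.symm (Iso.refl _) (Iso.refl _) (Iso.refl _)
      (by simp) (by simp) (by simp) (by simp)
  -- effectivity of the descent datum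
  haveI := hrfl
  haveI := hrfp
  haveI := hrs
  let D := Groth.Agent.Lib.Helper51.ChartDescent.descDatum b ξ r g' _ sqBig
  haveI : IsSeparated D.obj.hom := hg'sep
  haveI : LocallyQuasiFinite D.obj.hom := hg'lqf.1
  haveI : LocallyOfFiniteType D.obj.hom := hg'lqf.2
  obtain ⟨W₀, ⟨e⟩⟩ := Groth.Agent.Lib.Helper26.SepLqfDescent.exists_of_sep_lqf r.left D
  exact ⟨_, _, _,
    Groth.Agent.Lib.Helper51.ChartDescent.isPullback_of_iso b ξ r g' _ sqBig W₀ e,
    Groth.Agent.Lib.Helper51.ChartDescent.prop_of_iso b ξ r g' _ sqBig W₀ e @IsSeparated hg'sep,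
    Groth.Agent.Lib.Helper51.ChartDescent.prop_of_iso b ξ r g' _ sqBig W₀ e
      (@LocallyQuasiFinite ⊓ @LocallyOfFiniteType) hg'lqf⟩

end Groth.Agent.H52.Bootstrap
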