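import Groth.Agent.H52.Bootstrap3
import Groth.Agent.Lib.Helper54.MonoUnram
import Groth.Agent.H52.LocPCalc4
import Groth.Agent.H52.QC5
import Groth.Agent.H52.QC2

/-!
# Bootstrap, part 4

The diagonal of a sheaf with an fppf cover (representable by algebraic spaces) from an algebraic
space is representable by schemes.
-/

set_option autoImplicit false
universe u v
open CategoryTheory CategoryTheory.Limits AlgebraicGeometry Opposite
open AlgSp

namespace Groth.Agent.H52.Bootstrap

section Cat

variable {C : Type v} [Category C] [HasPullbacks C] [HasBinaryProducts C]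

/-- If `H` is the equalizer of `α β : T ⟶ F` (written as the pullback of the diagonal), `A` and `B`
the pullbacks of `p : X ⟶ F` along `α` and `β`, then `A ×_T H` is the fibre product of `A` and `B`
over `X × T`. -/
theorem exists_isPullback_of_diag {X F T H : C} (p : X ⟶ F) (α β : T ⟶ F) (h₁ : H ⟶ F)
    (h₂ : H ⟶ T) (sqH : IsPullback h₁ h₂ (diag F) (prod.lift α β)) :
    ∃ ε : pullback (pullback.snd p α) h₂ ⟶ pullback p β,
      IsPullback (pullback.fst (pullback.snd p α) h₂) ε
        (prod.lift (pullback.fst p α) (pullback.snd p α))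
        (prod.lift (pullback.fst p β) (pullback.snd p β)) := by
  have hα : h₂ ≫ α = h₁ := by
    have h := congrArg (· ≫ prod.fst) sqH.w
    simp only [Category.assoc, prod.lift_fst, Limits.diag] at h
    rw [← h, Category.comp_id]
  have hβ : h₂ ≫ β = h₁ := by
    have h := congrArg (· ≫ prod.snd) sqH.w
    simp only [Category.assoc, prod.lift_snd, Limits.diag] at h
    rw [← h, Category.comp_id]
  have hmono : Mono h₂ := sqH.mono_snd_of_mono
  have hc : (pullback.fst (pullback.snd p α) h₂ ≫ pullback.fst p α) ≫ p =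
      (pullback.fst (pullback.snd p α) h₂ ≫ pullback.snd p α) ≫ β := by
    have e1 : pullback.fst (pullback.snd p α) h₂ ≫ pullback.snd p α =
        pullback.snd (pullback.snd p α) h₂ ≫ h₂ := pullback.condition
    rw [e1, Category.assoc _ h₂ β, hβ, ← hα, ← Category.assoc _ h₂ α, ← e1, Category.assoc,
      Category.assoc, pullback.condition]
  have c1 : ∀ s : PullbackCone (prod.lift (pullback.fst p α) (pullback.snd p α))
      (prod.lift (pullback.fst p β) (pullback.snd p β)),
      s.fst ≫ pullback.fst p α = s.snd ≫ pullback.fst p β := by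
    intro s
    have h := congrArg (· ≫ prod.fst) s.condition
    simpa only [Category.assoc, prod.lift_fst] using h
  have c2 : ∀ s : PullbackCone (prod.lift (pullback.fst p α) (pullback.snd p α))
      (prod.lift (pullback.fst p β) (pullback.snd p β)),
      s.fst ≫ pullback.snd p α = s.snd ≫ pullback.snd p β := by
    intro s
    have h := congrArg (· ≫ prod.snd) s.condition
    simpa only [Category.assoc, prod.lift_snd] using h
  have hw : ∀ s : PullbackCone (prod.lift (pullback.fst p α) (pullback.snd p α))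
      (prod.lift (pullback.fst p β) (pullback.snd p β)),
      (s.fst ≫ pullback.snd p α) ≫ α = (s.fst ≫ pullback.snd p α) ≫ β := by
    intro s
    rw [Category.assoc, ← pullback.condition, ← Category.assoc, c1 s, c2 s, Category.assoc,
      Category.assoc, pullback.condition]
  have hex : ∀ s : PullbackCone (prod.lift (pullback.fst p α) (pullback.snd p α))
      (prod.lift (pullback.fst p β) (pullback.snd p β)),
      ∃ l : s.pt ⟶ H, l ≫ h₂ = s.fst ≫ pullback.snd p α := by
    intro s
    refine ⟨sqH.lift ((s.fst ≫ pullback.snd p α) ≫ α) (s.fst ≫ pullback.snd p α) ?_,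
      sqH.lift_snd _ _ _⟩
    apply Limits.prod.hom_ext
    · simp only [Category.assoc, prod.lift_fst, Limits.diag, Category.comp_id]
    · simp only [Category.assoc, prod.lift_snd, Limits.diag, Category.comp_id]
      rw [← Category.assoc, ← Category.assoc, hw s, Category.assoc]
  choose lH hlH using hex
  refine ⟨pullback.lift _ _ hc, ⟨⟨?_⟩, ⟨PullbackCone.IsLimit.mk _
    (fun s => pullback.lift s.fst (lH s) (hlH s).symm) (fun s => ?_)
    (fun s => ?_) (fun s m h1 h2 => ?_)⟩⟩⟩
  · apply Limits.prod.hom_ext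
    · rw [Category.assoc, Category.assoc, prod.lift_fst, prod.lift_fst, pullback.lift_fst]
    · rw [Category.assoc, Category.assoc, prod.lift_snd, prod.lift_snd, pullback.lift_snd]
  · exact pullback.lift_fst _ _ _
  · apply pullback.hom_ext
    · rw [Category.assoc, pullback.lift_fst, ← Category.assoc, pullback.lift_fst, c1 s]
    · rw [Category.assoc, pullback.lift_snd, ← Category.assoc, pullback.lift_fst, c2 s]
  · apply pullback.hom_ext
    · rw [h1, pullback.lift_fst]
    · rw [← cancel_mono h₂, Category.assoc, ← pullback.condition, ← Category.assoc, h1,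
        pullback.lift_snd, hlH s]

end Cat

variable {S : Scheme.{u}}

/-- A surjective flat lfp morphism of algebraic spaces is so after any base change to a scheme. -/
theorem repBySpWith_fppf_of_isAlgSpace {X Y : Sp S} (hX : IsAlgSpace X) (hY : IsAlgSpace Y)
    (g : X ⟶ Y) (hs : IsSurjectiveMor g) (hf : LocP @Flat g)
    (hp : LocP @LocallyOfFinitePresentation g) :
    RepBySpWith (IsSurjectiveMor ⊓ LocP @Flat ⊓ LocP @LocallyOfFinitePresentation) g.hom := by
  refine (repBySpWith_hom_iff _ g).2 ?_
  intro U ξ F' fst snd sq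
  exact ⟨isAlgSpace_of_isPullback sq hX hY (IsAlgSpace.yon_obj U),
    ⟨surjective_points_of_isPullback sq hs,
      isEtLocal_flat.locP_of_isPullback hX hY (IsAlgSpace.yon_obj U) sq hf⟩,
    isEtLocal_lfp.locP_of_isPullback hX hY (IsAlgSpace.yon_obj U) sq hp⟩

/-- A monomorphism locally of finite type of algebraic spaces is, after any base change to a
scheme, separated and locally quasi-finite. -/
theorem repBySpWith_sep_lqf_of_mono_lft {X Y : Sp S} (hX : IsAlgSpace X) (hY : IsAlgSpace Y)
    (f : X ⟶ Y) [Mono f] (h : LocP @LocallyOfFiniteType f) :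
    RepBySpWith (IsSeparatedMor ⊓ LocP (@LocallyQuasiFinite ⊓ @LocallyOfFiniteType)) f.hom := by
  refine (repBySpWith_hom_iff _ f).2 ?_
  intro U ξ F' fst snd sq
  have hF' := isAlgSpace_of_isPullback sq hX hY (IsAlgSpace.yon_obj U)
  have : Mono snd := sq.mono_snd_of_mono
  have hl : LocP @LocallyOfFiniteType snd :=
    isEtLocal_lft.locP_of_isPullback hX hY (IsAlgSpace.yon_obj U) sq h
  obtain ⟨-, h1, h2⟩ :=
    Groth.Agent.Lib.Helper54.representable_of_mono_lft hF' (IsAlgSpace.yon_obj U) snd hl
  exact ⟨hF', h1, h2⟩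

/-- Stacks, Bootstrap: if an fppf sheaf `F` receives a map from an algebraic space which is
representable by algebraic spaces, flat, surjective and locally of finite presentation, then the
diagonal of `F` is representable by schemes. -/
theorem representable_diag_of_fppf_cover {F X : Sp S} (hX : IsAlgSpace X) (p : X ⟶ F)
    (hp : RepBySpWith (IsSurjectiveMor ⊓ LocP @Flat ⊓ LocP @LocallyOfFinitePresentation) p.hom) :
    Representable (Limits.diag F) := by
  intro T ζ
  have hp' := (repBySpWith_hom_iff _ p).1 hp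
  have hζ : ζ = prod.lift (ζ ≫ prod.fst) (ζ ≫ prod.snd) := by
    apply Limits.prod.hom_ext
    · rw [prod.lift_fst]
    · rw [prod.lift_snd]
  have sqH : IsPullback (pullback.fst (Limits.diag F) ζ) (pullback.snd (Limits.diag F) ζ)
      (Limits.diag F) (prod.lift (ζ ≫ prod.fst) (ζ ≫ prod.snd)) := by
    rw [← hζ]; exact IsPullback.of_hasPullback _ _
  obtain ⟨hA, ⟨hAs, hAf⟩, hAp⟩ := hp' (ζ ≫ prod.fst) (pullback.fst p (ζ ≫ prod.fst))
    (pullback.snd p (ζ ≫ prod.fst)) (IsPullback.of_hasPullback _ _)
  obtain ⟨hB, ⟨-, -⟩, hBp⟩ := hp' (ζ ≫ prod.snd) (pullback.fst p (ζ ≫ prod.snd))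
    (pullback.snd p (ζ ≫ prod.snd)) (IsPullback.of_hasPullback _ _)
  obtain ⟨ε, sqE⟩ := exists_isPullback_of_diag p (ζ ≫ prod.fst) (ζ ≫ prod.snd) _ _ sqH
  have hmono : Mono (pullback.snd (Limits.diag F) ζ) := sqH.mono_snd_of_mono
  -- `X × h_T` is an algebraic space
  have tB := yonBaseIsTerminal S
  have hBase : IsAlgSpace ((yon S).obj (Over.mk (𝟙 S))) := IsAlgSpace.yon_obj _
  have sqP : IsPullback (prod.fst : X ⨯ (yon S).obj T ⟶ X) prod.snd (tB.from X)
      (tB.from ((yon S).obj T)) :=
    IsPullback.of_is_product (limit.isLimit (pair X ((yon S).obj T))) tB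
  have hXT : IsAlgSpace (X ⨯ (yon S).obj T) :=
    isAlgSpace_of_isPullback sqP hX hBase (IsAlgSpace.yon_obj T)
  -- `B ⟶ X × h_T` is locally of finite type
  have hBlft : LocP @LocallyOfFiniteType (pullback.snd p (ζ ≫ prod.snd)) := by
    intro U V a b h ha hb w
    have : LocallyOfFinitePresentation h.left := hBp a b h ha hb w
    infer_instance
  have hmB : LocP @LocallyOfFiniteType
      (prod.lift (pullback.fst p (ζ ≫ prod.snd)) (pullback.snd p (ζ ≫ prod.snd))) := by
    refine isEtLocal_lft.locP_of_comp (fun A B C f g hfg => ?_) (IsAlgSpace.yon_obj T) _ prod.snd ?_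
    · have : LocallyOfFiniteType (f ≫ g) := hfg
      exact locallyOfFiniteType_of_comp f g
    · rw [prod.lift_snd]; exact hBlft
  have he₁ : LocP @LocallyOfFiniteType
      (pullback.fst (pullback.snd p (ζ ≫ prod.fst)) (pullback.snd (Limits.diag F) ζ)) :=
    isEtLocal_lft.locP_of_isPullback hB hXT hA sqE.flip hmB
  have hE : IsAlgSpace (pullback (pullback.snd p (ζ ≫ prod.fst)) (pullback.snd (Limits.diag F) ζ)) :=
    isAlgSpace_of_isPullback sqE.flip hB hXT hA
  have hg := repBySpWith_fppf_of_isAlgSpace hA (IsAlgSpace.yon_obj T)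
    (pullback.snd p (ζ ≫ prod.fst)) hAs hAf hAp
  have ha := repBySpWith_sep_lqf_of_mono_lft hE hA
    (pullback.fst (pullback.snd p (ζ ≫ prod.fst)) (pullback.snd (Limits.diag F) ζ)) he₁
  obtain ⟨W, fst, snd, sqW, -, -⟩ := exists_isPullback_of_fppf_of_sep_lqf _ _ _ _
    (IsPullback.of_hasPullback (pullback.snd p (ζ ≫ prod.fst)) (pullback.snd (Limits.diag F) ζ))
    hg ha (𝟙 ((yon S).obj T))
  have hiso : IsIso fst := sqW.isIso_fst_of_isIso
  have hsnd : fst ≫ pullback.snd (Limits.diag F) ζ = (yon S).map snd := by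
    rw [sqW.w, Category.comp_id]
  refine ⟨W, snd, fst ≫ pullback.fst (Limits.diag F) ζ, ?_⟩
  rw [← hsnd]
  exact IsPullback.of_iso (IsPullback.of_hasPullback (Limits.diag F) ζ) (asIso fst).symm
    (Iso.refl _) (Iso.refl _) (Iso.refl _) (by simp) (by simp) (by simp) (by simp)

end Groth.Agent.H52.Bootstrap
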