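import Groth.Agent.H52.Bootstrap5
import Groth.Agent.S9868
import Groth.Agent.S9869
import Mathlib.CategoryTheory.Sites.RegularEpi

/-!
# Bootstrap, part 6

Algebraic spaces defined via the étale topology are algebraic spaces: an étale sheaf with a
representable étale surjective chart from a scheme is an fppf sheaf and an algebraic space.
-/

set_option autoImplicit false
universe u
open CategoryTheory CategoryTheory.Limits AlgebraicGeometry Opposite
open AlgSp

namespace Groth.Agent.H52.Bootstrap

variable {S : Scheme.{u}}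

/-- The big étale topology on schemes over `S`. -/
abbrev Jet (S : Scheme.{u}) : GrothendieckTopology (Over S) := QuotSh.J Scheme.etalePrecoverage S

theorem jet_le_J : Jet S ≤ AlgSp.J S := BigSite.J_mono BigSite.etalePrecoverage_le_fppfPrecoverage S

/-- A map from a representable presheaf along which every section lifts étale locally is locally
surjective for the étale topology. -/
theorem imageSieve_mem_jet {X : Over S} {F : PSp S} (p : (pyon S).obj X ⟶ F)
    (h : ∀ ⦃T : Over S⦄ (ξ : (pyon S).obj T ⟶ F), ∃ (V : Over S) (v : V ⟶ T)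
      (fst : (pyon S).obj V ⟶ (pyon S).obj X),
        fst ≫ p = (pyon S).map v ≫ ξ ∧ Etale v.left ∧ Surjective v.left)
    {T : Over S} (x : F.obj (op T)) : Presheaf.imageSieve p x ∈ Jet S T := by
  obtain ⟨V, v, fst, hc, he, hs⟩ := h (uliftYonedaEquiv.{u + 1}.symm x)
  have hv : Presheaf.imageSieve p x v := by
    refine ⟨uliftYonedaEquiv.{u + 1} fst, ?_⟩
    have h1 : p.app _ (uliftYonedaEquiv.{u + 1} fst) = uliftYonedaEquiv.{u + 1} (fst ≫ p) :=
      (uliftYonedaEquiv_comp.{u + 1} fst p).symm
    rw [h1, hc]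
    have h2 := uliftYonedaEquiv_naturality.{u + 1} (uliftYonedaEquiv.{u + 1}.symm x) v.op
    rw [Equiv.apply_symm_apply] at h2
    exact h2.symm
  rw [GrothendieckTopology.mem_over_iff]
  refine GrothendieckTopology.superset_covering _ ?_
    (Precoverage.generate_mem_toGrothendieck
      ((Scheme.singleton_mem_precoverage_iff (P := @Etale) v.left).2 ⟨hs.surj, he⟩))
  rw [Sieve.generate_le_iff]
  rintro Z g ⟨⟩
  rw [Sieve.overEquiv_iff]
  have e : (Over.homMk v.left : Over.mk (v.left ≫ T.hom) ⟶ T) =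
      (Over.homMk (𝟙 V.left) (by simp) : Over.mk (v.left ≫ T.hom) ⟶ V) ≫ v := by
    ext
    simp
  rw [e]
  exact (Presheaf.imageSieve p x).downward_closed hv _

/-- An étale sheaf on schemes over `S` with a representable, étale, surjective map from a scheme
is an algebraic space (in particular an fppf sheaf). -/
theorem isAlgSpaceP_of_etale_sheaf_chart (F : PSp S) (h1 : Presheaf.IsSheaf (Jet S) F)
    (U : Over S) (p : (pyon S).obj U ⟶ F) (hrel : (pyon S).relativelyRepresentable p)
    (het : ∀ ⦃a b : Over S⦄ (g : (pyon S).obj a ⟶ F) (fst : (pyon S).obj b ⟶ (pyon S).obj U)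
      (snd : b ⟶ a), IsPullback fst ((pyon S).map snd) p g → Etale snd.left)
    (hsurj : ∀ ⦃a b : Over S⦄ (g : (pyon S).obj a ⟶ F) (fst : (pyon S).obj b ⟶ (pyon S).obj U)
      (snd : b ⟶ a), IsPullback fst ((pyon S).map snd) p g → Surjective snd.left) :
    IsAlgSpaceP F := by
  -- the kernel pair
  obtain ⟨R, s, fst, sqR⟩ := hrel p
  obtain ⟨t, rfl⟩ := (pyon S).map_surjective fst
  have hrelpts : ∀ {T : Over S} (a b : T ⟶ U),
      (∃ r : T ⟶ R, r ≫ t = a ∧ r ≫ s = b) ↔ (pyon S).map a ≫ p = (pyon S).map b ≫ p := by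
    intro T a b
    constructor
    · rintro ⟨r, rfl, rfl⟩
      rw [Functor.map_comp, Functor.map_comp, Category.assoc, Category.assoc, sqR.w]
    · intro hab
      refine ⟨(pyon S).preimage (sqR.lift _ _ hab), ?_, ?_⟩
      · apply (pyon S).map_injective
        rw [Functor.map_comp, Functor.map_preimage, sqR.lift_fst]
      · apply (pyon S).map_injective
        rw [Functor.map_comp, Functor.map_preimage, sqR.lift_snd]
  have hEq : IsEtaleEqvRel s t := by
    refine ⟨⟨?_, ?_⟩, het p _ s sqR, het p _ t sqR.flip⟩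
    · intro T r r' e1 e2
      apply (pyon S).map_injective
      apply sqR.hom_ext
      · rw [← Functor.map_comp, ← Functor.map_comp, e1]
      · rw [← Functor.map_comp, ← Functor.map_comp, e2]
    · intro T
      exact ⟨fun a ↦ (hrelpts a a).2 rfl, fun {a b} hab ↦ (hrelpts b a).2 ((hrelpts a b).1 hab).symm,
        fun {a b c} hab hbc ↦ (hrelpts a c).2 (((hrelpts a b).1 hab).trans ((hrelpts b c).1 hbc))⟩
  -- the fppf quotient
  have hQ := Groth.Agent.S9868.result S s t hEq
  have hpres := Groth.Agent.S9869.result S s t hEq hQ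
  obtain ⟨-, hπe, hπs, hπpb⟩ := hpres
  set Q := QuotSh.quot Scheme.fppfPrecoverage s t with hQdef
  set π : (yon S).obj U ⟶ Q := (QuotSh.repIsoUliftYoneda Scheme.fppfPrecoverage U).inv ≫
    QuotSh.quotπ Scheme.fppfPrecoverage s t with hπdef
  -- étale sheaves
  have shY : ∀ V : Over S, Presheaf.IsSheaf (Jet S) ((pyon S).obj V) := fun V =>
    (isSheaf_iff_isSheaf_of_type _ _).2 (Presieve.isSheaf_of_le _ jet_le_J
      ((isSheaf_iff_isSheaf_of_type _ _).1 ((yon S).obj V).property))
  let Fe : Sheaf (Jet S) (Type (u + 1)) := ⟨F, h1⟩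
  let Qe : Sheaf (Jet S) (Type (u + 1)) := ⟨Q.obj, (isSheaf_iff_isSheaf_of_type _ _).2
    (Presieve.isSheaf_of_le _ jet_le_J ((isSheaf_iff_isSheaf_of_type _ _).1 Q.property))⟩
  let Ye : Sheaf (Jet S) (Type (u + 1)) := ⟨(pyon S).obj U, shY U⟩
  let Re : Sheaf (Jet S) (Type (u + 1)) := ⟨(pyon S).obj R, shY R⟩
  let pe : Ye ⟶ Fe := ObjectProperty.homMk p
  let πe : Ye ⟶ Qe := ObjectProperty.homMk π.hom
  let te : Re ⟶ Ye := ObjectProperty.homMk ((pyon S).map t)
  let se : Re ⟶ Ye := ObjectProperty.homMk ((pyon S).map s)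
  have sq1 : IsPullback te se pe pe :=
    IsPullback.of_map_of_faithful (sheafToPresheaf (Jet S) (Type (u + 1))) sqR
  have sq2 : IsPullback te se πe πe :=
    IsPullback.of_map_of_faithful (sheafToPresheaf (Jet S) (Type (u + 1)))
      (hπpb.map (sheafToPresheaf (J S) (Type (u + 1))))
  -- both maps are epimorphisms of étale sheaves
  have hls1 : Sheaf.IsLocallySurjective pe := by
    refine ⟨fun {T} x => ?_⟩
    refine imageSieve_mem_jet p (fun T ξ => ?_) x
    obtain ⟨V, v, fst, sq⟩ := hrel ξ
    exact ⟨V, v, fst, sq.w, het ξ fst v sq, hsurj ξ fst v sq⟩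
  have hls2 : Sheaf.IsLocallySurjective πe := by
    refine ⟨fun {T} x => ?_⟩
    refine imageSieve_mem_jet π.hom (fun T ξ => ?_) x
    have hrep := hπe.rep
    have sq := hrep.isPullback (ObjectProperty.homMk ξ : (yon S).obj T ⟶ Q)
    exact ⟨_, hrep.snd _, (hrep.fst _).hom,
      congrArg (fun m => m.hom) sq.w, hπe.property_snd _, hπs.property_snd _⟩
  have hepi1 : Epi pe := Sheaf.epi_of_isLocallySurjective pe
  have hepi2 : Epi πe := Sheaf.epi_of_isLocallySurjective πe
  have hreg1 : IsRegularEpi pe := IsRegularEpiCategory.regularEpiOfEpi pe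
  have hreg2 : IsRegularEpi πe := IsRegularEpiCategory.regularEpiOfEpi πe
  have heff1 : EffectiveEpi pe := inferInstance
  have heff2 : EffectiveEpi πe := inferInstance
  have c1 := heff1.effectiveEpi.some.isColimitCoforkOfIsPullback sq1
  have c2 := heff2.effectiveEpi.some.isColimitCoforkOfIsPullback sq2
  let iso : Fe ≅ Qe := c1.coconePointUniqueUpToIso c2
  have isoP : Q.obj ≅ F := ((sheafToPresheaf (Jet S) (Type (u + 1))).mapIso iso).symm
  exact ((isAlgSpaceP_obj_iff Q).2 hQ).of_iso isoP

end Groth.Agent.H52.Bootstrap
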