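import Groth.Agent.H52.Bootstrap6

/-!
# Bootstrap, part 7

An étale sheaf receiving a surjective étale map, representable by algebraic spaces, from an
algebraic space is an algebraic space.
-/

set_option autoImplicit false
universe u
open CategoryTheory CategoryTheory.Limits AlgebraicGeometry Opposite
open AlgSp

namespace Groth.Agent.H52.Bootstrap

variable {S : Scheme.{u}}

theorem isAlgSpaceP_of_etale_sheaf_of_repBySpWith (F : PSp S)
    (h1 : Presheaf.IsSheaf (Jet S) F) (X : Sp S) (hX : IsAlgSpace X) (p : X.obj ⟶ F)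
    (h2 : RepBySpWith (IsSurjectiveMor ⊓ IsEtaleMor) p) : IsAlgSpaceP F := by
  obtain ⟨U, q, hqe, hqs⟩ := hX.atlas
  have key : ∀ ⦃T : Over S⦄ (ξ : (pyon S).obj T ⟶ F) ⦃E : PSp S⦄ (fst : E ⟶ (pyon S).obj U)
      (snd : E ⟶ (pyon S).obj T), IsPullback fst snd (q.hom ≫ p) ξ →
      ∃ h : Presheaf.IsSheaf (J S) E, IsAlgSpace (⟨E, h⟩ : Sp S) ∧
        IsEtaleMor (ObjectProperty.homMk snd : (⟨E, h⟩ : Sp S) ⟶ (yon S).obj T) ∧
        IsSurjectiveMor (ObjectProperty.homMk snd : (⟨E, h⟩ : Sp S) ⟶ (yon S).obj T) := by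
    intro T ξ E fst snd sq
    obtain ⟨hsh', halg', hPs, hPe⟩ := h2 ξ (pullback.fst p ξ) (pullback.snd p ξ)
      (IsPullback.of_hasPullback p ξ)
    let l : E ⟶ pullback p ξ := pullback.lift (fst ≫ q.hom) snd (by rw [Category.assoc, sq.w])
    have hl1 : l ≫ pullback.fst p ξ = fst ≫ q.hom := pullback.lift_fst _ _ _
    have hl2 : l ≫ pullback.snd p ξ = snd := pullback.lift_snd _ _ _
    have big : IsPullback fst (l ≫ pullback.snd p ξ) (q.hom ≫ p) ξ := by rw [hl2]; exact sq
    have sql : IsPullback fst l q.hom (pullback.fst p ξ) :=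
      IsPullback.of_bot big hl1.symm (IsPullback.of_hasPullback p ξ)
    have hE : Presheaf.IsSheaf (J S) E :=
      isSheaf_of_isPullback (F := (yon S).obj U) (G := X) (H := ⟨pullback p ξ, hsh'⟩) sql
    refine ⟨hE, ?_⟩
    let P' : Sp S := ⟨pullback p ξ, hsh'⟩
    let E' : Sp S := ⟨E, hE⟩
    let fstS : E' ⟶ (yon S).obj U := ObjectProperty.homMk fst
    let lS : E' ⟶ P' := ObjectProperty.homMk l
    let π₁ : P' ⟶ X := ObjectProperty.homMk (pullback.fst p ξ)
    let π₂ : P' ⟶ (yon S).obj T := ObjectProperty.homMk (pullback.snd p ξ)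
    have sqS : IsPullback fstS lS q π₁ :=
      IsPullback.of_map_of_faithful (sheafToPresheaf (J S) (Type (u + 1))) sql
    have hle : RepWith @Etale lS := MorphismProperty.of_isPullback sqS hqe
    have hls : RepWith @Surjective lS := MorphismProperty.of_isPullback sqS hqs
    have hsnd : (ObjectProperty.homMk snd : E' ⟶ (yon S).obj T) = lS ≫ π₂ := by
      apply ObjectProperty.hom_ext
      exact hl2.symm
    refine ⟨isAlgSpace_of_isPullback sqS (IsAlgSpace.yon_obj U) hX halg', ?_, ?_⟩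
    · rw [hsnd]
      exact Groth.Agent.Lib.Helper54.isEtaleMor_comp (isEtaleMor_of_repWith_etale lS hle) hPe
    · rw [hsnd]
      change Function.Surjective (Points.map (lS ≫ π₂))
      intro t
      obtain ⟨y, hy⟩ := hPs t
      obtain ⟨x, hx⟩ := surjective_points_of_repWith_surjective lS hls y
      exact ⟨x, by rw [Points.map_comp, hx, hy]⟩
  have hrel : (pyon S).relativelyRepresentable (q.hom ≫ p) := by
    apply relativelyRepresentable_of_repBySpWith_lqf
    intro T ξ E fst snd sq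
    obtain ⟨h, hA, hE, -⟩ := key ξ fst snd sq
    exact ⟨h, hA, locP_lqf_of_isEtaleMor _ hE⟩
  refine isAlgSpaceP_of_etale_sheaf_chart F h1 U (q.hom ≫ p) hrel ?_ ?_
  · intro a b g fst snd sq
    obtain ⟨h, -, hE, -⟩ := key g fst ((pyon S).map snd) sq
    exact (isEtaleMor_yon_map_iff snd).1 hE
  · intro a b g fst snd sq
    obtain ⟨h, -, -, hS⟩ := key g fst ((pyon S).map snd) sq
    exact ⟨surjective_left_of_points snd hS⟩

end Groth.Agent.H52.Bootstrap
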