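import Groth.Agent.H52.Bootstrap7
import Groth.Agent.H52.ThickLift
import Groth.Agent.Lib.Helper51.SheafGlue
import Groth.Agent.Lib.Helper51.OpenImmDescent
import Groth.Agent.Lib.Helper51.QuotSpFppf

/-!
# Bootstrap, part 8

A Zariski sheaf covered (fppf locally) by subfunctors which are fppf sheaves with inclusions
representable by algebraic spaces is an fppf sheaf (towards S10111).
-/

set_option autoImplicit false
universe v u
open CategoryTheory CategoryTheory.Limits AlgebraicGeometry Opposite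
open AlgSp

namespace Groth.Agent.H52.Bootstrap

variable {S : Scheme.{u}}

section

variable {F : PSp S} {ι : Type v} {Fi : ι → PSp S} (m : ∀ i, Fi i ⟶ F)

/-- The section `x` of `F` lies in the subfunctor `F_i`. -/
def InSub (i : ι) {T : Over S} (x : F.obj (op T)) : Prop :=
  x ∈ Set.range ((m i).app (op T))

variable {m}

theorem InSub.map {i : ι} {T T' : Over S} (f : T' ⟶ T) {x : F.obj (op T)} (h : InSub m i x) :
    InSub m i (F.map f.op x) := by
  obtain ⟨y, rfl⟩ := h
  exact ⟨(Fi i).map f.op y, FunctorToTypes.naturality (m i) f.op y⟩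

theorem app_injective [∀ i, Mono (m i)] (i : ι) (T : Over S) :
    Function.Injective ((m i).app (op T)) := by
  have h1 : Mono ((m i).app (op T)) := (NatTrans.mono_iff_mono_app (m i)).1 inferInstance (op T)
  exact (mono_iff_injective _).1 h1

theorem uliftYonedaEquiv_pyon_map_comp {G : PSp S} {T T' : Over S} (k : T' ⟶ T)
    (ξ : (pyon S).obj T ⟶ G) :
    uliftYonedaEquiv.{u + 1} ((pyon S).map k ≫ ξ) = G.map k.op (uliftYonedaEquiv.{u + 1} ξ) :=
  (uliftYonedaEquiv_naturality.{u + 1} ξ k.op).symm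

/-- Key lemma: a section lying in `F_i` on a covering sieve lies in `F_i`, since `h_T ×_F F_i` is
an fppf sheaf. -/
theorem inSub_of_sieve [∀ i, Mono (m i)] (hb : ∀ i, RepBySp (m i)) (i : ι) {T : Over S}
    (x : F.obj (op T)) (R : Sieve T) (hR : R ∈ AlgSp.J S T)
    (h : ∀ ⦃T' : Over S⦄ (f : T' ⟶ T), R f → InSub m i (F.map f.op x)) : InSub m i x := by
  let ξ : (pyon S).obj T ⟶ F := uliftYonedaEquiv.{u + 1}.symm x
  have hξ : uliftYonedaEquiv.{u + 1} ξ = x := Equiv.apply_symm_apply _ _
  have sqP := IsPullback.of_hasPullback (m i) ξ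
  obtain ⟨hP, -⟩ := hb i ξ _ _ sqP
  let P' : Sp S := ⟨pullback (m i) ξ, hP⟩
  let snd' : P' ⟶ (yon S).obj T := ⟨pullback.snd (m i) ξ⟩
  have hmono : Mono snd' := by
    have : Mono snd'.hom := by
      change Mono (pullback.snd (m i) ξ)
      infer_instance
    exact Sheaf.Hom.mono_of_presheaf_mono _ _ snd'
  have hl : ∀ ⦃Y : Over S⦄ (k : Y ⟶ T), R k →
      ∃ l : (yon S).obj Y ⟶ P', l ≫ snd' = (yon S).map k := by
    intro Y k hk
    obtain ⟨y, hy⟩ := h k hk
    let η : (pyon S).obj Y ⟶ Fi i := uliftYonedaEquiv.{u + 1}.symm y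
    have comm : η ≫ m i = (pyon S).map k ≫ ξ := by
      apply uliftYonedaEquiv.{u + 1}.injective
      rw [uliftYonedaEquiv_comp.{u + 1}, Equiv.apply_symm_apply, hy,
        uliftYonedaEquiv_pyon_map_comp, hξ]
    refine ⟨⟨pullback.lift η ((pyon S).map k) comm⟩, ?_⟩
    apply Sheaf.hom_ext
    exact pullback.lift_snd _ _ _
  choose l hl using hl
  obtain ⟨σ, hσ⟩ := Groth.Agent.Lib.Helper51.exists_yon_glue hR l (by
    intro Y Z k hk m'
    rw [← cancel_mono snd', Category.assoc, hl, hl, Functor.map_comp])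
  have hσs : σ ≫ snd' = 𝟙 _ := Groth.Agent.Lib.Helper51.yon_hom_ext_of_mem_J hR (fun Y k hk => by
    rw [← Category.assoc, hσ k hk, hl, Category.comp_id])
  let σh : (pyon S).obj T ⟶ pullback (m i) ξ := σ.hom
  have h1 : σh ≫ pullback.snd (m i) ξ = 𝟙 _ := congrArg (fun f => f.hom) hσs
  refine ⟨uliftYonedaEquiv.{u + 1} (σh ≫ pullback.fst (m i) ξ), ?_⟩
  rw [← uliftYonedaEquiv_comp.{u + 1}, Category.assoc, pullback.condition, ← Category.assoc, h1,
    Category.id_comp, hξ]

end

/-- The big Zariski topology on schemes over `S`. -/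
abbrev Jzar (S : Scheme.{u}) : GrothendieckTopology (Over S) :=
  QuotSh.J Scheme.zariskiPrecoverage S

/-- An open cover generates a covering sieve of the big Zariski topology. -/
theorem generate_ofArrows_mem_jzar {T : Over S} {κ : Type*} (W : κ → T.left.Opens)
    (hW : ∀ t : ↥T.left, ∃ k, t ∈ W k) :
    Sieve.generate (Presieve.ofArrows (fun k => overOpen T (W k)) (fun k => overOpenι T (W k))) ∈
      Jzar S T := by
  rw [GrothendieckTopology.mem_over_iff]
  have hmem : Presieve.ofArrows (fun k => (overOpen T (W k)).left)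
      (fun k => (overOpenι T (W k)).left) ∈ Scheme.zariskiPrecoverage T.left := by
    change _ ∈ Scheme.precoverage @IsOpenImmersion T.left
    rw [Scheme.ofArrows_mem_precoverage_iff]
    refine ⟨fun t => ?_, fun k => ?_⟩
    · obtain ⟨k, hk⟩ := hW t
      refine ⟨k, ?_⟩
      change t ∈ Set.range (W k).ι
      rw [Scheme.Opens.range_ι]
      exact hk
    · change IsOpenImmersion (W k).ι
      infer_instance
  refine GrothendieckTopology.superset_covering _ ?_
    (Precoverage.generate_mem_toGrothendieck hmem)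
  rw [Sieve.generate_le_iff]
  intro Z g hg
  obtain ⟨k⟩ := hg
  rw [Sieve.overEquiv_iff]
  refine ⟨overOpen T (W k), Over.homMk (𝟙 _) (by simp), overOpenι T (W k),
    Presieve.ofArrows.mk k, ?_⟩
  ext
  simp

/-- A flat morphism locally of finite presentation factors as an fppf cover of its open image. -/
theorem exists_open_image_factor {V T : Over S} (f : V ⟶ T) (hfl : Flat f.left)
    (hfp : LocallyOfFinitePresentation f.left) :
    ∃ (W : T.left.Opens) (f' : V ⟶ overOpen T W), f' ≫ overOpenι T W = f ∧ Flat f'.left ∧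
      LocallyOfFinitePresentation f'.left ∧ Surjective f'.left ∧
      (W : Set ↥T.left) = Set.range f.left := by
  have ho : IsOpenMap f.left := f.left.isOpenMap
  let W : T.left.Opens := ⟨Set.range f.left, ho.isOpen_range⟩
  obtain ⟨f', hf'⟩ := exists_factor_overOpen f W (fun x => ⟨x, rfl⟩)
  have hl : f'.left ≫ W.ι = f.left := by
    have := congrArg (fun k => k.left) hf'
    simpa using this
  refine ⟨W, f', hf', ?_, ?_, ⟨fun w => ?_⟩, rfl⟩
  · exact MorphismProperty.of_postcomp (W := @Flat) (W' := @IsOpenImmersion) f'.left W.ι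
      inferInstance (by rw [hl]; exact hfl)
  · exact MorphismProperty.of_postcomp (W := @LocallyOfFinitePresentation)
      (W' := @IsOpenImmersion) f'.left W.ι inferInstance (by rw [hl]; exact hfp)
  · obtain ⟨v, hv⟩ : (W.ι w) ∈ Set.range f.left := by
      have := w.2
      exact this
    refine ⟨v, ?_⟩
    apply W.ι.isOpenEmbedding.injective
    rw [← Scheme.Hom.comp_apply]
    change (f'.left ≫ W.ι) v = _
    rw [hl, hv]

section Main

variable {F : PSp S} {ι : Type v} {Fi : ι → PSp S} {m : ∀ i, Fi i ⟶ F} [∀ i, Mono (m i)]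

/-- Restriction along a composite. -/
theorem map_comp_op_apply {T T' T'' : Over S} (g : T'' ⟶ T') (f : T' ⟶ T) (x : F.obj (op T)) :
    F.map (g ≫ f).op x = F.map g.op (F.map f.op x) := by
  rw [op_comp, FunctorToTypes.map_comp_apply]

/-- `F` is separated for the fppf topology. -/
theorem eq_of_eq_on_sieve (hzar : Presieve.IsSheaf (Jzar S) F)
    (ha : ∀ i, Presieve.IsSheaf (AlgSp.J S) (Fi i)) (hb : ∀ i, RepBySp (m i))
    (hc : ∀ (T : Over S) (x : F.obj (op T)), ∃ R ∈ AlgSp.J S T,
      ∀ ⦃T' : Over S⦄ (f : T' ⟶ T), R.arrows f → ∃ i, InSub m i (F.map f.op x))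
    {T : Over S} (R : Sieve T) (hR : R ∈ AlgSp.J S T) (x y : F.obj (op T))
    (hxy : ∀ ⦃T' : Over S⦄ (f : T' ⟶ T), R f → F.map f.op x = F.map f.op y) : x = y := by
  let R1 : Sieve T :=
    { arrows := fun T' f => R f ∧ ∃ i, InSub m i (F.map f.op x)
      downward_closed := by
        rintro Y Z f ⟨hf, i, hi⟩ g
        refine ⟨R.downward_closed hf g, i, ?_⟩
        rw [map_comp_op_apply]
        exact hi.map g }
  have hR1 : R1 ∈ AlgSp.J S T := by
    refine (AlgSp.J S).transitive hR R1 (fun T' f hf => ?_)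
    obtain ⟨Rf, hRf, hRf'⟩ := hc T' (F.map f.op x)
    refine (AlgSp.J S).superset_covering ?_ hRf
    intro T'' g hg
    refine ⟨R.downward_closed hf g, ?_⟩
    obtain ⟨i, hi⟩ := hRf' g hg
    refine ⟨i, ?_⟩
    rw [map_comp_op_apply]
    exact hi
  have key : ∀ t : ↥T.left, ∃ W : T.left.Opens, t ∈ W ∧
      F.map (overOpenι T W).op x = F.map (overOpenι T W).op y := by
    intro t
    obtain ⟨V, f, ⟨hfR, i, hi⟩, ht, hfl, hfp⟩ :=
      Groth.Agent.Lib.Helper51.exists_fppf_mem_of_mem_J hR1 t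
    obtain ⟨W, f', hf', hfl', hfp', hs', hW⟩ := exists_open_image_factor f hfl hfp
    refine ⟨W, by rw [← SetLike.mem_coe, hW]; exact ht, ?_⟩
    have hcov : Sieve.generate (Presieve.singleton f') ∈ AlgSp.J S (overOpen T W) :=
      generate_singleton_mem_J f'
    have hfx : ∀ z : F.obj (op T), F.map f'.op (F.map (overOpenι T W).op z) = F.map f.op z := by
      intro z
      rw [← map_comp_op_apply, hf']
    have hx : InSub m i (F.map (overOpenι T W).op x) := by
      refine inSub_of_sieve hb i _ _ hcov ?_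
      rintro T' g ⟨Y, a, b, ⟨⟩, rfl⟩
      rw [map_comp_op_apply, hfx]
      exact hi.map a
    have hy : InSub m i (F.map (overOpenι T W).op y) := by
      refine inSub_of_sieve hb i _ _ hcov ?_
      rintro T' g ⟨Y, a, b, ⟨⟩, rfl⟩
      rw [map_comp_op_apply, hfx, ← hxy f hfR]
      exact hi.map a
    obtain ⟨a, ha'⟩ := hx
    obtain ⟨b, hb'⟩ := hy
    rw [← ha', ← hb']
    congr 1
    refine ((ha i) _ hcov).isSeparatedFor.ext ?_
    rintro T' g ⟨Y, c, d, ⟨⟩, rfl⟩
    apply app_injective (m := m) i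
    rw [FunctorToTypes.naturality, FunctorToTypes.naturality, ha', hb', map_comp_op_apply,
      map_comp_op_apply, hfx, hfx, hxy f hfR]
  choose W hW hWxy using key
  have hcovZ := generate_ofArrows_mem_jzar W (fun t => ⟨t, hW t⟩)
  refine (hzar _ hcovZ).isSeparatedFor.ext ?_
  rintro T' g ⟨Y, a, b, ⟨t⟩, rfl⟩
  rw [map_comp_op_apply, map_comp_op_apply, hWxy]

/-- Compatible families for fppf covering sieves have amalgamations in `F`. -/
theorem exists_amalgamation (hzar : Presieve.IsSheaf (Jzar S) F)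
    (ha : ∀ i, Presieve.IsSheaf (AlgSp.J S) (Fi i)) (hb : ∀ i, RepBySp (m i))
    (hc : ∀ (T : Over S) (x : F.obj (op T)), ∃ R ∈ AlgSp.J S T,
      ∀ ⦃T' : Over S⦄ (f : T' ⟶ T), R.arrows f → ∃ i, InSub m i (F.map f.op x))
    {T : Over S} (R : Sieve T) (hR : R ∈ AlgSp.J S T)
    (x : Presieve.FamilyOfElements F R.arrows) (hx : x.Compatible) :
    ∃ z, x.IsAmalgamation z := by
  have hxs := (Presieve.compatible_iff_sieveCompatible x).1 hx
  have hcongr : ∀ {Y : Over S} (f f' : Y ⟶ T) (_ : f = f') (hf : R f) (hf' : R f'),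
      x f hf = x f' hf' := by
    intro Y f f' e hf hf'
    subst e
    rfl
  -- the subsieve where the sections lie in some `F_i`
  let R1 : Sieve T :=
    { arrows := fun T' f => ∃ (hf : R f) (i : ι), InSub m i (x f hf)
      downward_closed := by
        rintro Y Z f ⟨hf, i, hi⟩ g
        refine ⟨R.downward_closed hf g, i, ?_⟩
        rw [hxs]
        exact hi.map g }
  have hR1 : R1 ∈ AlgSp.J S T := by
    refine (AlgSp.J S).transitive hR R1 (fun T' f hf => ?_)
    obtain ⟨Rf, hRf, hRf'⟩ := hc T' (x f hf)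
    refine (AlgSp.J S).superset_covering ?_ hRf
    intro T'' g hg
    obtain ⟨i, hi⟩ := hRf' g hg
    refine ⟨R.downward_closed hf g, i, ?_⟩
    rw [hxs]
    exact hi
  have key : ∀ t : ↥T.left, ∃ (W : T.left.Opens) (Q : Sieve (overOpen T W))
      (z : F.obj (op (overOpen T W))) (V : Over S) (f' : V ⟶ overOpen T W),
      Q ∈ AlgSp.J S (overOpen T W) ∧ (∀ ⦃Y : Over S⦄ (g : Y ⟶ overOpen T W), Q g →
        ∃ hg : R (g ≫ overOpenι T W), F.map g.op z = x (g ≫ overOpenι T W) hg) ∧
      Q f' ∧ t ∈ Set.range (f' ≫ overOpenι T W).left ∧ Flat (f' ≫ overOpenι T W).left ∧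
      LocallyOfFinitePresentation (f' ≫ overOpenι T W).left := by
    intro t
    obtain ⟨V, f, ⟨hfR, i, hi⟩, ht, hfl, hfp⟩ :=
      Groth.Agent.Lib.Helper51.exists_fppf_mem_of_mem_J hR1 t
    obtain ⟨W, f', hf', hfl', hfp', hs', hW⟩ := exists_open_image_factor f hfl hfp
    let Q : Sieve (overOpen T W) :=
      { arrows := fun Y g => ∃ hg : R (g ≫ overOpenι T W), InSub m i (x (g ≫ overOpenι T W) hg)
        downward_closed := by
          rintro Y Z g ⟨hg, hi'⟩ k
          have hk : R ((k ≫ g) ≫ overOpenι T W) := by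
            rw [Category.assoc]
            exact R.downward_closed hg k
          refine ⟨hk, ?_⟩
          rw [hcongr ((k ≫ g) ≫ overOpenι T W) (k ≫ g ≫ overOpenι T W) (Category.assoc _ _ _) hk
            (R.downward_closed hg k), hxs]
          exact hi'.map k }
    have hQf' : Q f' := by
      have h1 : R (f' ≫ overOpenι T W) := by rw [hf']; exact hfR
      refine ⟨h1, ?_⟩
      rw [hcongr _ f hf' h1 hfR]
      exact hi
    have hQ : Q ∈ AlgSp.J S (overOpen T W) := by
      refine (AlgSp.J S).superset_covering ?_ (generate_singleton_mem_J f')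
      rw [Sieve.generate_le_iff]
      rintro Y g ⟨⟩
      exact hQf'
    have hex : ∀ ⦃Y : Over S⦄ (g : Y ⟶ overOpen T W) (hg : Q g),
        ∃ y : (Fi i).obj (op Y), (m i).app _ y = x (g ≫ overOpenι T W) hg.1 := fun Y g hg => hg.2
    choose y hy using hex
    let fam : Presieve.FamilyOfElements (Fi i) Q.arrows := fun Y g hg => y g hg
    have hfam : fam.Compatible := by
      rw [Presieve.compatible_iff_sieveCompatible]
      intro Y Z g k hg
      apply app_injective (m := m) i
      change (m i).app _ (y (k ≫ g) _) = (m i).app _ ((Fi i).map k.op (y g hg))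
      rw [FunctorToTypes.naturality, hy, hy, ← hxs]
      exact hcongr _ _ (Category.assoc _ _ _) _ _
    have hsh := (ha i) _ hQ
    refine ⟨W, Q, (m i).app _ (hsh.amalgamate fam hfam), V, f', hQ, ?_, hQf', ?_, ?_, ?_⟩
    · intro Y g hg
      refine ⟨hg.1, ?_⟩
      rw [← FunctorToTypes.naturality, hsh.valid_glue hfam g hg]
      exact hy g hg
    · rw [hf']; exact ht
    · rw [hf']; exact hfl
    · rw [hf']; exact hfp
  choose W Q z V f' hQ hz hQf' ht hfl hfp using key
  have hWt : ∀ t : ↥T.left, t ∈ W t := by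
    intro t
    obtain ⟨v, hv⟩ := ht t
    have h3 : (W t).ι ((f' t).left v) ∈ W t := ((f' t).left v).2
    have h2 : (W t).ι ((f' t).left v) = t := by
      rw [← Scheme.Hom.comp_apply]
      exact hv
    rw [h2] at h3
    exact h3
  -- Zariski gluing
  have hcovZ := generate_ofArrows_mem_jzar W (fun t => ⟨t, hWt t⟩)
  have hshZ := (Presieve.isSheafFor_iff_generate _).2 (hzar _ hcovZ)
  have hcompZ : Presieve.Arrows.Compatible F (fun t => overOpenι T (W t)) z := by
    intro t t' Z g g' hgg'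
    let Q' : Sieve Z := (Q t).pullback g ⊓ (Q t').pullback g'
    have hQ' : Q' ∈ AlgSp.J S Z := by
      exact (AlgSp.J S).intersection_covering ((AlgSp.J S).pullback_stable g (hQ t))
        ((AlgSp.J S).pullback_stable g' (hQ t'))
    refine eq_of_eq_on_sieve hzar ha hb hc Q' hQ' _ _ ?_
    rintro Y k ⟨hk, hk'⟩
    obtain ⟨h1, e1⟩ := hz t (k ≫ g) hk
    obtain ⟨h2, e2⟩ := hz t' (k ≫ g') hk'
    rw [← map_comp_op_apply, ← map_comp_op_apply, e1, e2]
    exact hcongr _ _ (by rw [Category.assoc, Category.assoc, hgg']) _ _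
  obtain ⟨w, hw, -⟩ := (Presieve.isSheafFor_arrows_iff F _).1 hshZ z hcompZ
  refine ⟨w, ?_⟩
  -- the sieve of arrows factoring through some `Q t`
  let QT : Sieve T :=
    { arrows := fun Y k => ∃ (t : ↥T.left) (g : Y ⟶ overOpen T (W t)), Q t g ∧
        g ≫ overOpenι T (W t) = k
      downward_closed := by
        rintro Y Z k ⟨t, g, hg, rfl⟩ l
        exact ⟨t, l ≫ g, (Q t).downward_closed hg l, Category.assoc _ _ _⟩ }
  have hQT : QT ∈ AlgSp.J S T :=
    Groth.Agent.Lib.Helper51.mem_J_of_fppf_family V (fun t => f' t ≫ overOpenι T (W t)) hfl hfp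
      (fun t => ⟨t, ht t⟩) QT (fun t => ⟨t, f' t, hQf' t, rfl⟩)
  intro Y f hf
  refine eq_of_eq_on_sieve hzar ha hb hc (QT.pullback f) ((AlgSp.J S).pullback_stable f hQT) _ _ ?_
  rintro Z h ⟨t, g, hg, hgk⟩
  obtain ⟨h1, e1⟩ := hz t g hg
  rw [← map_comp_op_apply, ← hgk, map_comp_op_apply, hw t, e1, ← hxs]
  exact hcongr _ _ hgk _ _

/-- S10111: a Zariski sheaf which is covered, fppf locally, by subfunctors which are fppf sheaves
with inclusions representable by algebraic spaces, is an fppf sheaf. -/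
theorem isSheaf_of_zariski_of_cover (h1 : Presheaf.IsSheaf (Jzar S) F)
    (ha : ∀ i, Presheaf.IsSheaf (AlgSp.J S) (Fi i)) (hb : ∀ i, RepBySp (m i))
    (hc : ∀ (T : Over S) (x : F.obj (op T)), ∃ R ∈ AlgSp.J S T,
      ∀ ⦃T' : Over S⦄ (f : T' ⟶ T), R.arrows f →
        ∃ i, F.map f.op x ∈ Set.range ((m i).app (op T'))) :
    Presheaf.IsSheaf (AlgSp.J S) F := by
  rw [isSheaf_iff_isSheaf_of_type] at h1 ⊢
  have ha' := fun i => (isSheaf_iff_isSheaf_of_type _ _).1 (ha i)
  intro T R hR
  rw [← Presieve.isSeparatedFor_and_exists_isAmalgamation_iff_isSheafFor]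
  refine ⟨?_, fun x hx => exists_amalgamation h1 ha' hb hc R hR x hx⟩
  intro x y₁ y₂ h₁ h₂
  exact eq_of_eq_on_sieve h1 ha' hb hc R hR _ _ (fun T' f hf => by rw [h₁ f hf, h₂ f hf])

end Main

end Groth.Agent.H52.Bootstrap
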