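import Groth.Agent.H52.LocPCalc6
import Groth.Agent.H52.LocPInst
import Groth.Agent.H52.QC5
import Groth.Agent.H52.Compact
import Mathlib.AlgebraicGeometry.Morphisms.FinitePresentation

set_option autoImplicit false
universe u
open CategoryTheory CategoryTheory.Limits AlgebraicGeometry Opposite Topology
open AlgSp

namespace Groth.Agent.H52

variable {S : Scheme.{u}}

/-- Chevalley for algebraic spaces, over an affine etale chart of the target. -/
theorem isLocallyConstructible_preimage_image_of_affine {X Y : Sp S} (hX : IsAlgSpace X)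
    (hY : IsAlgSpace Y) (f : X ⟶ Y) (hq : IsQuasiCompactMor f)
    (hfp : LocP @LocallyOfFinitePresentation f) (E : Set (Points X))
    (hE : ∀ (U : Over S) (φ : (yon S).obj U ⟶ X), RepWith @Etale φ →
      IsLocallyConstructible (Points.ofPt φ ⁻¹' E))
    (V : Over S) [IsAffine V.left] (φ : (yon S).obj V ⟶ Y) (hφ : RepWith @Etale φ) :
    IsLocallyConstructible (Points.ofPt φ ⁻¹' (Points.map f '' E)) := by
  have sq := IsPullback.of_hasPullback f φ
  have hX0 : IsAlgSpace (pullback f φ) := isAlgSpace_of_isPullback sq hX hY (IsAlgSpace.yon_obj _)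
  have hqc0 : IsQuasiCompactSp (pullback f φ) :=
    hq (IsAlgSpace.yon_obj _) (isQuasiCompactSp_yon _) φ _ _ sq
  obtain ⟨U, c, hce, hcs, hU⟩ := hqc0
  obtain ⟨g, hg⟩ := (yon S).map_surjective (c ≫ pullback.snd f φ)
  have hfst_e : RepWith @Etale (pullback.fst f φ) := MorphismProperty.of_isPullback sq.flip hφ
  have hcomm : (c ≫ pullback.fst f φ) ≫ f = (yon S).map g ≫ φ := by
    rw [Category.assoc, pullback.condition, ← Category.assoc, hg]
  have hae : RepWith @Etale (c ≫ pullback.fst f φ) :=
    (RepWith (S := S) @Etale).comp_mem _ _ hce hfst_e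
  have hlfp : LocallyOfFinitePresentation g.left := hfp (c ≫ pullback.fst f φ) φ g hae hφ hcomm
  have hqcm : QuasiCompact g.left := (HasAffineProperty.iff_of_isAffine (P := @QuasiCompact)).2 hU
  have hE' := hE U (c ≫ pullback.fst f φ) hae
  have himg := g.left.isLocallyConstructible_image hE'
  convert himg using 1
  ext v
  simp only [Set.mem_preimage, Set.mem_image]
  constructor
  · rintro ⟨e, he, hev⟩
    obtain ⟨p, hp1, hp2⟩ := exists_point_of_isPullback sq e (Points.ofScheme V v)
      (by rw [hev, Points.ofPt_eq_map_ofScheme])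
    obtain ⟨pu, hpu⟩ := surjective_points_of_repWith_surjective c hcs p
    obtain ⟨u, rfl⟩ := (Points.schemeEquiv U).surjective pu
    refine ⟨u, ?_, ?_⟩
    · change Points.ofPt (c ≫ pullback.fst f φ) u ∈ E
      rw [Points.ofPt_eq_map_ofScheme, Points.map_comp]
      change Points.map (pullback.fst f φ) (Points.map c (Points.schemeEquiv U u)) ∈ E
      rw [hpu, hp1]
      exact he
    · apply (Points.schemeEquiv V).injective
      change Points.ofScheme V (g.left u) = Points.ofScheme V v
      rw [← points_map_ofScheme, hg, Points.map_comp]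
      change Points.map (pullback.snd f φ) (Points.map c (Points.schemeEquiv U u)) = _
      rw [hpu, hp2]
  · rintro ⟨u, hu, rfl⟩
    refine ⟨Points.ofPt (c ≫ pullback.fst f φ) u, hu, ?_⟩
    rw [Points.map_ofPt, hcomm, ofPt_yon_map_comp]

/-- Chevalley for algebraic spaces: a quasi-compact morphism locally of finite presentation maps
etale locally constructible sets to etale locally constructible sets. -/
theorem isLocallyConstructible_preimage_image {X Y : Sp S} (hX : IsAlgSpace X)
    (hY : IsAlgSpace Y) (f : X ⟶ Y) (hq : IsQuasiCompactMor f)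
    (hfp : LocP @LocallyOfFinitePresentation f) (E : Set (Points X))
    (hE : ∀ (U : Over S) (φ : (yon S).obj U ⟶ X), RepWith @Etale φ →
      IsLocallyConstructible (Points.ofPt φ ⁻¹' E))
    (V : Over S) (φ : (yon S).obj V ⟶ Y) (hφ : RepWith @Etale φ) :
    IsLocallyConstructible (Points.ofPt φ ⁻¹' (Points.map f '' E)) := by
  intro v
  obtain ⟨V0, hV0, hv, -⟩ := exists_isAffineOpen_mem_and_subset (x := v) (U := ⊤) trivial
  refine ⟨V0, V0.2.mem_nhds hv, V0.2, ?_⟩
  have : IsAffine (overOpen V V0).left := hV0
  have hφ0 : RepWith @Etale ((yon S).map (overOpenι V V0) ≫ φ) :=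
    (RepWith (S := S) @Etale).comp_mem _ _ (repWith_etale_overOpenι V V0) hφ
  have h1 := isLocallyConstructible_preimage_image_of_affine hX hY f hq hfp E hE (overOpen V V0)
    ((yon S).map (overOpenι V V0) ≫ φ) hφ0
  have h2 : IsConstructible (Points.ofPt ((yon S).map (overOpenι V V0) ≫ φ) ⁻¹'
      (Points.map f '' E)) := by
    have : CompactSpace ↥(overOpen V V0).left := inferInstance
    exact h1.isConstructible
  have h3 : IsConstructible (X := ↥(overOpen V V0).left)
      ((fun t : ↥(overOpen V V0).left => (overOpenι V V0).left t) ⁻¹'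
        (Points.ofPt φ ⁻¹' (Points.map f '' E))) := by
    convert h2 using 1
    ext t
    simp only [Set.mem_preimage, ofPt_yon_map_comp]
  exact h3

end Groth.Agent.H52
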