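import Groth.Agent.H52.Constr

set_option autoImplicit false
universe u
open CategoryTheory CategoryTheory.Limits AlgebraicGeometry Opposite Topology
open AlgSp

namespace Groth.Agent.H52

/-- The preimage of a locally constructible set under a morphism of schemes is locally
constructible. -/
theorem isLocallyConstructible_preimage {X Y : Scheme.{u}} (f : X ⟶ Y) {s : Set ↥Y}
    (hs : IsLocallyConstructible s) : IsLocallyConstructible (f ⁻¹' s) := by
  intro x
  obtain ⟨U, hxU, hU, H⟩ := hs (f x)
  let Uo : Y.Opens := ⟨U, hU⟩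
  refine ⟨f ⁻¹' U, f.continuous.continuousAt.preimage_mem_nhds hxU, hU.preimage f.continuous, ?_⟩
  have H' : IsConstructible (X := ↥Uo.toScheme) (Subtype.val ⁻¹' s) := H
  have := (f ∣_ Uo).isConstructible_preimage H'
  have h3 : IsConstructible (X := ↥(f ⁻¹ᵁ Uo).toScheme)
      (Subtype.val ⁻¹' (f ⁻¹' s)) := by
    convert this using 1
    ext t
    simp only [Set.mem_preimage]
    rw [morphismRestrict_base_coe]
  exact h3

/-- Local constructibility descends along etale surjective morphisms. -/
theorem isLocallyConstructible_of_etale_surjective_preimage {W U : Scheme.{u}} (p : W ⟶ U)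
    [Etale p] [Surjective p] {T : Set ↥U} (hT : IsLocallyConstructible (p ⁻¹' T)) :
    IsLocallyConstructible T := by
  intro u
  obtain ⟨w, rfl⟩ := p.surjective u
  obtain ⟨U0, hU0, hu, -⟩ := exists_isAffineOpen_mem_and_subset (x := p w) (U := ⊤) trivial
  obtain ⟨W0, hW0, hw, hW0U⟩ := exists_isAffineOpen_mem_and_subset (x := w) (U := p ⁻¹ᵁ U0) hu
  let N : U.Opens := ⟨p '' W0, p.isOpenMap _ W0.2⟩
  have hNU0 : N ≤ U0 := by rintro _ ⟨w', hw', rfl⟩; exact hW0U hw'
  have hWN : W0 ≤ p ⁻¹ᵁ N := fun w' hw' => ⟨w', hw', rfl⟩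
  have hcW : CompactSpace ↥W0 := isCompact_iff_compactSpace.mp hW0.isCompact
  have hcN : CompactSpace ↥N := isCompact_iff_compactSpace.mp (hW0.isCompact.image p.continuous)
  have hqsU0 : QuasiSeparatedSpace ↥U0 := by
    have : IsAffine U0.toScheme := hU0
    exact inferInstanceAs (QuasiSeparatedSpace ↥U0.toScheme)
  have hqsN : QuasiSeparatedSpace ↥N := by
    have : QuasiSeparatedSpace ↥U0.toScheme := hqsU0
    exact QuasiSeparatedSpace.of_isOpenEmbedding (U.homOfLE hNU0).isOpenEmbedding
  have key : ∀ x : ↥W0.toScheme, ((p.resLE N W0 hWN) x).1 = p x.1 := by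
    intro x
    have h := congrArg (fun q : W0.toScheme ⟶ U => q x) (p.resLE_comp_ι hWN)
    simpa [Scheme.Hom.comp_apply] using h
  have hqc : QuasiCompact (p.resLE N W0 hWN) := by
    have : CompactSpace ↥W0.toScheme := hcW
    have : QuasiSeparatedSpace ↥N.toScheme := hqsN
    exact quasiCompact_of_compactSpace _
  refine ⟨N, N.2.mem_nhds ⟨w, hw, rfl⟩, N.2, ?_⟩
  have h1 : IsLocallyConstructible (X := ↥W0.toScheme) (Subtype.val ⁻¹' (p ⁻¹' T)) :=
    hT.preimage_of_isOpenEmbedding W0.2.isOpenEmbedding_subtypeVal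
  have h2 := (p.resLE N W0 hWN).isLocallyConstructible_image h1
  have : CompactSpace ↥N.toScheme := hcN
  have : QuasiSeparatedSpace ↥N.toScheme := hqsN
  have h3 := h2.isConstructible
  have h4 : IsConstructible (X := ↥N.toScheme) (Subtype.val ⁻¹' T) := by
    convert h3 using 1
    ext n
    simp only [Set.mem_preimage, Set.mem_image]
    constructor
    · intro hn
      obtain ⟨w', hw', hwn⟩ := n.2
      refine ⟨⟨w', hw'⟩, ?_, ?_⟩
      · change p w' ∈ T
        rw [hwn]; exact hn
      · apply Subtype.ext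
        rw [key]
        exact hwn
    · rintro ⟨w', hw', rfl⟩
      rw [key]
      exact hw'
  exact h4

variable {S : Scheme.{u}}

/-- The inverse image of an etale locally constructible set under a morphism to an algebraic space
is etale locally constructible. -/
theorem isLocallyConstructible_preimage_preimage {X Y : Sp S} (hY : IsAlgSpace Y) (f : X ⟶ Y)
    (E : Set (Points Y))
    (hE : ∀ (U : Over S) (φ : (yon S).obj U ⟶ Y), RepWith @Etale φ →
      IsLocallyConstructible (Points.ofPt φ ⁻¹' E))
    (U : Over S) (φ : (yon S).obj U ⟶ X) :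
    IsLocallyConstructible (Points.ofPt φ ⁻¹' (Points.map f ⁻¹' E)) := by
  obtain ⟨V, b, hbe, hbs⟩ := hY.atlas
  have sq := hbe.rep.isPullback (φ ≫ f)
  obtain ⟨p2, hp2⟩ := (yon S).map_surjective (hbe.rep.fst (φ ≫ f))
  have h1 : Etale (hbe.rep.snd (φ ≫ f)).left := hbe.property_snd _
  have h2 : Surjective (hbe.rep.snd (φ ≫ f)).left := hbs.2 _ _ _ sq
  apply isLocallyConstructible_of_etale_surjective_preimage (hbe.rep.snd (φ ≫ f)).left
  have := isLocallyConstructible_preimage p2.left (hE V b hbe)
  convert this using 1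
  ext w
  simp only [Set.mem_preimage]
  rw [Points.map_ofPt, ← ofPt_yon_map_comp, ← sq.w, ← hp2, ofPt_yon_map_comp]

end Groth.Agent.H52
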