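import Groth.Agent.H52.DVRSep
import Groth.Agent.Lib.Helper78.QCSpecialize
import Groth.Agent.H52.UCAssembly
import Groth.Agent.H53.FibrePts

/-!
# Discrete valuation rings through points of the closure of the image (Noetherian case)
-/

set_option autoImplicit false
universe u
open CategoryTheory CategoryTheory.Limits AlgebraicGeometry
open AlgSp

namespace Groth.Agent.H52

variable {S : Scheme.{u}}

/-- Scheme level: for a quasi-compact morphism locally of finite type to a locally Noetherian
scheme and a point `v` of the closure of the image there is a discrete valuation ring `A` with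
`Spec A ⟶ V₁` hitting `v` at the closed point and `Spec (Frac A) ⟶ U₁` compatible with it. -/
theorem exists_dvr_of_mem_closure_range {U₁ V₁ : Over S} (g : U₁ ⟶ V₁)
    [LocallyOfFiniteType g.left] [QuasiCompact g.left] [IsLocallyNoetherian V₁.left]
    (v : ↥V₁.left) (hv : v ∈ closure (Set.range g.left)) :
    ∃ (A : Type u) (_ : CommRing A) (_ : IsDomain A) (_ : IsDiscreteValuationRing A)
      (a : Spec (CommRingCat.of A) ⟶ S) (t : Over.mk a ⟶ V₁)
      (k : Over.mk (Spec.map (CommRingCat.ofHom (algebraMap A (FractionRing A))) ≫ a) ⟶ U₁),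
      k ≫ g = (Over.homMk (Spec.map (CommRingCat.ofHom (algebraMap A (FractionRing A)))) rfl :
        Over.mk (Spec.map (CommRingCat.ofHom (algebraMap A (FractionRing A))) ≫ a) ⟶
          Over.mk a) ≫ t ∧
      t.left (IsLocalRing.closedPoint A) = v := by
  obtain ⟨u, hu⟩ := Groth.Agent.Lib.Helper78.exists_specializes_of_mem_closure_range g.left v hv
  by_cases hne : v = g.left u
  · -- trivial specialization: use a power series ring over the residue field
    let k₀ := U₁.left.residueField u
    let A := PowerSeries k₀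
    let c : Spec (CommRingCat.of A) ⟶ U₁.left :=
      Spec.map (CommRingCat.ofHom (PowerSeries.C : k₀ →+* A)) ≫ U₁.left.fromSpecResidueField u
    refine ⟨A, inferInstance, inferInstance, inferInstance, c ≫ U₁.hom,
      (Over.homMk c rfl : Over.mk (c ≫ U₁.hom) ⟶ U₁) ≫ g,
      Over.homMk (Spec.map (CommRingCat.ofHom (algebraMap A (FractionRing A))) ≫ c)
        (by simp only [Category.assoc, Over.mk_hom, c]), ?_, ?_⟩
    · apply Over.OverMorphism.ext
      exact Category.assoc _ _ _
    · rw [hne]
      change g.left (c (IsLocalRing.closedPoint A)) = g.left u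
      congr 1
      change (U₁.left.fromSpecResidueField u) _ = u
      exact Scheme.fromSpecResidueField_apply _ _
  · obtain ⟨A₀, h, hA₀, hcl, hgen⟩ :=
      Groth.Agent.Lib.Helper78.exists_dvr_specialization g.left u v hu hne
    let e : FractionRing A₀ ≃ₐ[A₀] U₁.left.residueField u :=
      FractionRing.algEquiv A₀ (U₁.left.residueField u)
    let ι : U₁.left.residueField u →+* FractionRing A₀ :=
      (e.symm : U₁.left.residueField u →+* FractionRing A₀)
    have hι : ι.comp A₀.subtype = algebraMap A₀ (FractionRing A₀) := by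
      ext a
      change e.symm (algebraMap A₀ (U₁.left.residueField u) a) = _
      exact e.symm.commutes a
    have hmap : Spec.map (CommRingCat.ofHom (algebraMap A₀ (FractionRing A₀))) =
        Spec.map (CommRingCat.ofHom ι) ≫ Spec.map (CommRingCat.ofHom A₀.subtype) := by
      rw [← Spec.map_comp, ← CommRingCat.ofHom_comp, hι]
    have hw : (Spec.map (CommRingCat.ofHom ι) ≫ U₁.left.fromSpecResidueField u) ≫ U₁.hom =
        Spec.map (CommRingCat.ofHom (algebraMap A₀ (FractionRing A₀))) ≫ h ≫ V₁.hom := by
      rw [hmap, Category.assoc, Category.assoc, ← Category.assoc (Spec.map (CommRingCat.ofHom A₀.subtype)),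
        hgen, Category.assoc, Over.w g]
    refine ⟨A₀, inferInstance, inferInstance, hA₀, h ≫ V₁.hom, Over.homMk h rfl,
      Over.homMk (Spec.map (CommRingCat.ofHom ι) ≫ U₁.left.fromSpecResidueField u) hw, ?_, hcl⟩
    apply Over.OverMorphism.ext
    change (Spec.map (CommRingCat.ofHom ι) ≫ U₁.left.fromSpecResidueField u) ≫ g.left =
      Spec.map (CommRingCat.ofHom (algebraMap A₀ (FractionRing A₀))) ≫ h
    rw [hmap, Category.assoc, Category.assoc, hgen]

end Groth.Agent.H52

namespace Groth.Agent.H52

variable {S : Scheme.{u}}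

/-- A closed subscheme with prescribed closed support, as an object over `S`. -/
theorem exists_closed_subscheme_range {U₁ : Over S} (T' : Set ↥U₁.left) (hT' : IsClosed T') :
    ∃ (U₂ : Over S) (ι : U₂ ⟶ U₁), IsClosedImmersion ι.left ∧ Set.range ι.left = T' := by
  let I := Scheme.IdealSheafData.vanishingIdeal (X := U₁.left) ⟨T', hT'⟩
  refine ⟨Over.mk (I.subschemeι ≫ U₁.hom), Over.homMk I.subschemeι rfl, ?_, ?_⟩
  · change IsClosedImmersion I.subschemeι
    infer_instance
  · change Set.range I.subschemeι = T'
    rw [Scheme.IdealSheafData.range_subschemeι, Scheme.IdealSheafData.coe_support_vanishingIdeal]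
    rfl

/-- Space level: for a quasi-compact algebraic space `P` locally of finite type over a locally
Noetherian scheme `W₁`, a closed subset `T` of `|P|` and a point `w` of the closure of the image of
`T`, there is a discrete valuation ring `A` with `Spec A ⟶ W₁` hitting `w` at the closed point and
`Spec (Frac A) ⟶ P` landing in `T`, compatible with `q`. -/
theorem exists_dvr_of_mem_closure_image {P : Sp S} {W₁ : Over S} (q : P ⟶ (yon S).obj W₁)
    [IsLocallyNoetherian W₁.left] (hqc : IsQuasiCompactSp P) (hlft : LocP @LocallyOfFiniteType q)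
    (T : Set (Points P)) (hT : IsClosed T) (w : ↥W₁.left)
    (hw : Points.ofScheme W₁ w ∈ closure (Points.map q '' T)) :
    ∃ (A : Type u) (_ : CommRing A) (_ : IsDomain A) (_ : IsDiscreteValuationRing A)
      (a : Spec (CommRingCat.of A) ⟶ S) (t : Over.mk a ⟶ W₁)
      (κ : (yon S).obj (Over.mk (Spec.map (CommRingCat.ofHom (algebraMap A (FractionRing A))) ≫ a))
        ⟶ P),
      κ ≫ q = (yon S).map ((Over.homMk (Spec.map (CommRingCat.ofHom
        (algebraMap A (FractionRing A)))) rfl :
          Over.mk (Spec.map (CommRingCat.ofHom (algebraMap A (FractionRing A))) ≫ a) ⟶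
            Over.mk a) ≫ t) ∧
      t.left (IsLocalRing.closedPoint A) = w ∧ ∀ x, Points.ofPt κ x ∈ T := by
  obtain ⟨U₁, c₁, hU₁, hc₁e, hc₁s⟩ := UC.exists_affine_etale_chart' hqc
  obtain ⟨g, hg⟩ := (yon S).map_surjective (c₁ ≫ q)
  have hT' : IsClosed (Points.ofPt c₁ ⁻¹' T) := hT.preimage (Points.continuous_ofPt c₁)
  obtain ⟨U₂, ι, hι, hrange⟩ := exists_closed_subscheme_range _ hT'
  have hglft : LocallyOfFiniteType g.left :=
    hlft c₁ (𝟙 _) g hc₁e (repWith_id _ W₁) (by rw [hg, Category.comp_id])
  have : IsAffine U₂.left := isAffine_of_isAffineHom ι.left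
  have : LocallyOfFiniteType (ι ≫ g).left := by
    change LocallyOfFiniteType (ι.left ≫ g.left)
    infer_instance
  have : QuasiCompact (ι ≫ g).left := by
    change QuasiCompact (ι.left ≫ g.left)
    infer_instance
  -- the image of `T` is the range of `ι ≫ g`
  have himg : (Points.schemeHomeo W₁) ⁻¹' (Points.map q '' T) = Set.range (ι ≫ g).left := by
    ext v
    constructor
    · rintro ⟨p, hp, hpv⟩
      obtain ⟨u, rfl⟩ := Groth.Agent.H53.surjective_ofPt_of_surjective c₁ hc₁s p
      have hu : u ∈ Set.range ι.left := by rw [hrange]; exact hp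
      obtain ⟨u₂, rfl⟩ := hu
      refine ⟨u₂, ?_⟩
      apply (Points.schemeHomeo W₁).injective
      rw [← hpv, Points.map_ofPt, ← hg]
      exact (Groth.Agent.H53.FibrePts.ofPt_yon_map g _).symm
    · rintro ⟨u₂, rfl⟩
      refine ⟨Points.ofPt c₁ (ι.left u₂), ?_, ?_⟩
      · have : ι.left u₂ ∈ Points.ofPt c₁ ⁻¹' T := by rw [← hrange]; exact ⟨u₂, rfl⟩
        exact this
      · rw [Points.map_ofPt, ← hg]
        exact Groth.Agent.H53.FibrePts.ofPt_yon_map g _
  have hv : w ∈ closure (Set.range (ι ≫ g).left) := by
    rw [← himg, ← (Points.schemeHomeo W₁).isOpenMap.preimage_closure_eq_closure_preimage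
      (Points.schemeHomeo W₁).continuous]
    exact hw
  obtain ⟨A, iA, iD, iV, a, t, k, hk, ht⟩ := exists_dvr_of_mem_closure_range (ι ≫ g) w hv
  refine ⟨A, iA, iD, iV, a, t, (yon S).map (k ≫ ι) ≫ c₁, ?_, ht, ?_⟩
  · rw [Category.assoc, ← hg, ← Functor.map_comp, Category.assoc, hk]
  · intro x
    rw [Groth.Agent.H53.FibrePts.ofPt_yon_map_comp]
    have : ι.left (k.left x) ∈ Points.ofPt c₁ ⁻¹' T := by rw [← hrange]; exact ⟨_, rfl⟩
    exact this

end Groth.Agent.H52
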