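import Groth.Agent.H52.UCGeom
import Groth.Agent.H52.CoverGlue
import Groth.Agent.H53.Valuative
import Mathlib.RingTheory.Flat.FaithfullyFlat.Algebra

/-!
# Descending lifts of valuative squares along fppf extensions of the valuation ring

For a separated morphism of sheaves, a lift of a valuative square after a dominating extension
`A → A'` that is flat and of finite presentation (with `K → K'` of finite presentation) descends
to a lift of the original square: `Spec A' ⟶ Spec A` is an fppf covering, and the two pullbacks of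
the lift to `Spec (A' ⊗ A')` agree because they agree on the schematically dense
`Spec (K' ⊗ K')`.
-/

set_option autoImplicit false
universe u
open CategoryTheory CategoryTheory.Limits AlgebraicGeometry TensorProduct
open AlgSp

namespace Groth.Agent.H52

variable {S : Scheme.{u}}

theorem isFppfFamily_single {T' T : Over S} (c : T' ⟶ T) (h1 : Flat c.left)
    (h2 : LocallyOfFinitePresentation c.left) (h3 : Function.Surjective c.left) :
    IsFppfFamily (fun _ : Unit => c) :=
  ⟨fun _ => h1, fun _ => h2, fun t => ⟨(), h3 t⟩⟩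

theorem flat_SpecMap_of_flat {A A' : Type u} [CommRing A] [CommRing A'] (φ : A →+* A')
    (h : φ.Flat) : Flat (Spec.map (CommRingCat.ofHom φ)) := by
  rw [HasRingHomProperty.Spec_iff (P := @Flat)]
  exact h

theorem lfp_SpecMap_of_finitePresentation {A A' : Type u} [CommRing A] [CommRing A']
    (φ : A →+* A') (h : φ.FinitePresentation) :
    LocallyOfFinitePresentation (Spec.map (CommRingCat.ofHom φ)) := by
  rw [HasRingHomProperty.Spec_iff (P := @LocallyOfFinitePresentation)]
  exact h

theorem surjective_SpecMap_of_flat_local {A A' : Type u} [CommRing A] [CommRing A']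
    [IsLocalRing A] [IsLocalRing A'] (φ : A →+* A') (hflat : φ.Flat) (hloc : IsLocalHom φ) :
    Function.Surjective (Spec.map (CommRingCat.ofHom φ)) := by
  intro t
  letI : Algebra A A' := φ.toAlgebra
  haveI : Module.Flat A A' := hflat
  haveI : IsLocalHom (algebraMap A A') := hloc
  haveI : Module.FaithfullyFlat A A' := Module.FaithfullyFlat.of_flat_of_isLocalHom
  exact PrimeSpectrum.comap_surjective_of_faithfullyFlat (A := A) (B := A') t

/-- Two morphisms from an affine scheme to the source of a separated morphism that agree over the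
target and on a schematically dominant test scheme are equal. -/
theorem eq_of_isSeparatedMor_of_appTop_injective {X Y : Sp S} (f : X ⟶ Y) (hf : IsSeparatedMor f)
    {R₀ D : Over S} [IsAffine R₀.left] (dO : D ⟶ R₀) (hd : Function.Injective dO.left.appTop)
    (g₁ g₂ : (yon S).obj R₀ ⟶ X) (hfg : g₁ ≫ f = g₂ ≫ f)
    (hdg : (yon S).map dO ≫ g₁ = (yon S).map dO ≫ g₂) : g₁ = g₂ := by
  have hm1 : pullback.lift g₁ g₂ hfg ≫ pullback.fst f f = g₁ := pullback.lift_fst _ _ _
  have hm2 : pullback.lift g₁ g₂ hfg ≫ pullback.snd f f = g₂ := pullback.lift_snd _ _ _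
  generalize pullback.lift g₁ g₂ hfg = m at hm1 hm2
  have sqE := hf.rep.isPullback m
  have hι : IsClosedImmersion (hf.rep.snd m).left := hf.property_snd m
  have hw : ((yon S).map dO ≫ g₁) ≫ pullback.diagonal f = (yon S).map dO ≫ m := by
    apply pullback.hom_ext
    · rw [Category.assoc, pullback.diagonal_fst, Category.comp_id, Category.assoc, hm1]
    · rw [Category.assoc, pullback.diagonal_snd, Category.comp_id, Category.assoc, hm2, hdg]
  obtain ⟨d', hd'⟩ := (yon S).map_surjective (sqE.lift _ _ hw)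
  have hd'2 : d' ≫ hf.rep.snd m = dO :=
    (yon S).map_injective (by rw [Functor.map_comp, hd', sqE.lift_snd])
  have hinj : Function.Injective (hf.rep.snd m).left.appTop := by
    have h1 : dO.left.appTop = (hf.rep.snd m).left.appTop ≫ d'.left.appTop := by
      rw [← hd'2]
      exact Scheme.Hom.comp_appTop _ _
    rw [h1] at hd
    intro x y hxy
    apply hd
    change d'.left.appTop ((hf.rep.snd m).left.appTop x) =
      d'.left.appTop ((hf.rep.snd m).left.appTop y)
    rw [hxy]
  have hiso : IsIso (hf.rep.snd m).left :=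
    IsClosedImmersion.isIso_of_injective_of_isAffine hinj
  have hisoO : IsIso (hf.rep.snd m) := by
    haveI : IsIso ((Over.forget S).map (hf.rep.snd m)) := hiso
    exact isIso_of_reflects_iso _ (Over.forget S)
  have hm : m = inv ((yon S).map (hf.rep.snd m)) ≫ hf.rep.fst m ≫ pullback.diagonal f := by
    rw [IsIso.eq_inv_comp]
    exact sqE.w.symm
  rw [← hm1, ← hm2, hm]
  simp

theorem injective_appTop_SpecMap {A B : Type u} [CommRing A] [CommRing B] (θ : A →+* B)
    (hθ : Function.Injective θ) :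
    Function.Injective (Spec.map (CommRingCat.ofHom θ)).appTop := by
  have h := Scheme.ΓSpecIso_inv_naturality (CommRingCat.ofHom θ)
  have h2 : (Spec.map (CommRingCat.ofHom θ)).appTop =
      (Scheme.ΓSpecIso (CommRingCat.of A)).hom ≫ CommRingCat.ofHom θ ≫
        (Scheme.ΓSpecIso (CommRingCat.of B)).inv := by
    rw [h, Iso.hom_inv_id_assoc]
  rw [h2]
  intro x y hxy
  have e1 : Function.Injective (Scheme.ΓSpecIso (CommRingCat.of A)).hom :=
    (ConcreteCategory.bijective_of_isIso _).1
  have e2 : Function.Injective (Scheme.ΓSpecIso (CommRingCat.of B)).inv :=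
    (ConcreteCategory.bijective_of_isIso _).1
  apply e1
  apply hθ
  apply e2
  exact hxy

/-- For a separated morphism, a lift of a valuative square after an fppf dominating extension of
the valuation ring descends to a lift of the square. -/
theorem hasLift_of_domExt_fppf {X Y : Sp S} (f : X ⟶ Y) (hf : IsSeparatedMor f) (sq : ValSq f)
    (e : sq.DomExt) (hflat : e.φ.Flat) (hfp : e.φ.FinitePresentation)
    (hψfp : e.ψ.FinitePresentation) (he : e.HasLift) : sq.HasLift := by
  obtain ⟨l', hl1, hl2⟩ := he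
  letI : Algebra sq.A e.A' := e.φ.toAlgebra
  letI : Algebra sq.A e.K' := ((algebraMap e.A' e.K').comp e.φ).toAlgebra
  haveI : IsScalarTower sq.A e.A' e.K' := IsScalarTower.of_algebraMap_eq' rfl
  haveI : Module.Flat sq.A e.A' := hflat
  haveI : Module.Flat e.A' e.K' := IsLocalization.flat e.K' (nonZeroDivisors e.A')
  haveI : Module.Flat sq.A e.K' := Module.Flat.trans sq.A e.A' e.K'
  have hloc := e.isLocalHom
  have hinjK : Function.Injective (algebraMap e.A' e.K') := IsFractionRing.injective e.A' e.K'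
  let jAlg : e.A' →ₐ[sq.A] e.K' := IsScalarTower.toAlgHom sq.A e.A' e.K'
  let θ : e.A' ⊗[sq.A] e.A' →ₐ[sq.A] e.K' ⊗[sq.A] e.K' := Algebra.TensorProduct.map jAlg jAlg
  have hθ : Function.Injective θ :=
    TensorProduct.map_injective_of_flat_flat jAlg.toLinearMap jAlg.toLinearMap hinjK hinjK
  -- the covering
  let c : e.ptA' ⟶ sq.ptA := Over.homMk (Spec.map (CommRingCat.ofHom e.φ)) rfl
  have hc : IsFppfFamily (fun _ : Unit => c) :=
    isFppfFamily_single c (flat_SpecMap_of_flat e.φ hflat)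
      (lfp_SpecMap_of_finitePresentation e.φ hfp)
      (surjective_SpecMap_of_flat_local e.φ hflat hloc)
  -- the two projections and the generic part
  let p1 : UC.ZA sq.str (e.A' ⊗[sq.A] e.A') ⟶ e.ptA' :=
    UC.zMap sq.str (Algebra.TensorProduct.includeLeft : e.A' →ₐ[sq.A] e.A' ⊗[sq.A] e.A')
  let p2 : UC.ZA sq.str (e.A' ⊗[sq.A] e.A') ⟶ e.ptA' :=
    UC.zMap sq.str (Algebra.TensorProduct.includeRight : e.A' →ₐ[sq.A] e.A' ⊗[sq.A] e.A')
  have hpb : IsPullback p1 p2 c c := UC.isPullback_tensor sq.str e.A' e.A'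
  let dO : UC.ZA sq.str (e.K' ⊗[sq.A] e.K') ⟶ UC.ZA sq.str (e.A' ⊗[sq.A] e.A') := UC.zMap sq.str θ
  let q1 : UC.ZA sq.str (e.K' ⊗[sq.A] e.K') ⟶ UC.ZA sq.str e.K' :=
    UC.zMap sq.str (Algebra.TensorProduct.includeLeft : e.K' →ₐ[sq.A] e.K' ⊗[sq.A] e.K')
  let q2 : UC.ZA sq.str (e.K' ⊗[sq.A] e.K') ⟶ UC.ZA sq.str e.K' :=
    UC.zMap sq.str (Algebra.TensorProduct.includeRight : e.K' →ₐ[sq.A] e.K' ⊗[sq.A] e.K')
  let jK : UC.ZA sq.str e.K' ⟶ e.ptA' := UC.zMap sq.str jAlg
  have hd1 : dO ≫ p1 = q1 ≫ jK := by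
    rw [← UC.zMap_comp, ← UC.zMap_comp]
    congr 1
    exact Algebra.TensorProduct.map_comp_includeLeft jAlg jAlg
  have hd2 : dO ≫ p2 = q2 ≫ jK := by
    rw [← UC.zMap_comp, ← UC.zMap_comp]
    congr 1
    exact Algebra.TensorProduct.map_comp_includeRight jAlg jAlg
  -- comparison with the square's `Spec K'`
  let κ : UC.ZA sq.str e.K' ⟶ e.ptK' := Over.homMk (𝟙 _) (by
    change 𝟙 _ ≫ Spec.map (CommRingCat.ofHom (algebraMap e.A' e.K')) ≫
      Spec.map (CommRingCat.ofHom e.φ) ≫ sq.str =
      Spec.map (CommRingCat.ofHom ((algebraMap e.A' e.K').comp e.φ)) ≫ sq.str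
    rw [Category.id_comp, CommRingCat.ofHom_comp, Spec.map_comp, Category.assoc])
  let jK'O : e.ptK' ⟶ e.ptA' :=
    Over.homMk (Spec.map (CommRingCat.ofHom (algebraMap e.A' e.K'))) rfl
  let ψO : e.ptK' ⟶ sq.ptK := Over.homMk (Spec.map (CommRingCat.ofHom e.ψ)) (by
    change Spec.map _ ≫ Spec.map _ ≫ _ = Spec.map _ ≫ Spec.map _ ≫ _
    rw [← Spec.map_comp_assoc, ← Spec.map_comp_assoc, ← CommRingCat.ofHom_comp,
      ← CommRingCat.ofHom_comp, e.comm])
  have hl1' : (yon S).map jK'O ≫ l' = (yon S).map ψO ≫ sq.top := hl1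
  have hjK : jK = κ ≫ jK'O := by
    apply Over.OverMorphism.ext
    change Spec.map (CommRingCat.ofHom jAlg.toRingHom) =
      𝟙 _ ≫ Spec.map (CommRingCat.ofHom (algebraMap e.A' e.K'))
    rw [Category.id_comp]
    rfl
  have hq : q1 ≫ κ ≫ ψO = q2 ≫ κ ≫ ψO := by
    apply Over.OverMorphism.ext
    change Spec.map (CommRingCat.ofHom (Algebra.TensorProduct.includeLeft :
        e.K' →ₐ[sq.A] e.K' ⊗[sq.A] e.K').toRingHom) ≫ 𝟙 _ ≫ Spec.map (CommRingCat.ofHom e.ψ) =
      Spec.map (CommRingCat.ofHom (Algebra.TensorProduct.includeRight :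
        e.K' →ₐ[sq.A] e.K' ⊗[sq.A] e.K').toRingHom) ≫ 𝟙 _ ≫ Spec.map (CommRingCat.ofHom e.ψ)
    rw [Category.id_comp, ← Spec.map_comp, ← Spec.map_comp,
      ← CommRingCat.ofHom_comp, ← CommRingCat.ofHom_comp]
    congr 2
    apply IsLocalization.ringHom_ext (nonZeroDivisors sq.A)
    ext a
    have h1 : e.ψ (algebraMap sq.A sq.K a) = algebraMap sq.A e.K' a := by
      have := congrArg (fun g => g a) e.comm
      exact this.symm
    change (Algebra.TensorProduct.includeLeft : e.K' →ₐ[sq.A] e.K' ⊗[sq.A] e.K')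
        (e.ψ (algebraMap sq.A sq.K a)) =
      (Algebra.TensorProduct.includeRight : e.K' →ₐ[sq.A] e.K' ⊗[sq.A] e.K')
        (e.ψ (algebraMap sq.A sq.K a))
    rw [h1, AlgHom.commutes, AlgHom.commutes]
  have hgen : ∀ (qi : UC.ZA sq.str (e.K' ⊗[sq.A] e.K') ⟶ UC.ZA sq.str e.K'),
      (yon S).map (qi ≫ jK) ≫ l' = (yon S).map (qi ≫ κ ≫ ψO) ≫ sq.top := by
    intro qi
    rw [hjK, ← Category.assoc, Functor.map_comp, Category.assoc, hl1', ← Category.assoc,
      ← Functor.map_comp, Category.assoc]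
  have hpc : p1 ≫ c = p2 ≫ c := hpb.w
  have hmain : (yon S).map p1 ≫ l' = (yon S).map p2 ≫ l' := by
    haveI : IsAffine (UC.ZA sq.str (e.A' ⊗[sq.A] e.A')).left :=
      inferInstanceAs (IsAffine (Spec _))
    refine eq_of_isSeparatedMor_of_appTop_injective f hf dO
      (injective_appTop_SpecMap θ.toRingHom hθ) _ _ ?_ ?_
    · rw [Category.assoc, Category.assoc, hl2]
      change (yon S).map p1 ≫ (yon S).map c ≫ sq.bot = (yon S).map p2 ≫ (yon S).map c ≫ sq.bot
      rw [← Category.assoc, ← Category.assoc, ← Functor.map_comp, ← Functor.map_comp, hpc]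
    · rw [← Category.assoc, ← Category.assoc, ← Functor.map_comp, ← Functor.map_comp, hd1, hd2,
        hgen q1, hgen q2, hq]
  -- glue
  obtain ⟨l, hl⟩ := hc.exists_glue (X := X) (fun _ => l') (by
    intro _ _ R r1 r2 hr
    have h1 : hpb.lift r1 r2 hr ≫ p1 = r1 := hpb.lift_fst _ _ _
    have h2 : hpb.lift r1 r2 hr ≫ p2 = r2 := hpb.lift_snd _ _ _
    generalize hpb.lift r1 r2 hr = u at h1 h2
    rw [← h1, ← h2, Functor.map_comp, Functor.map_comp, Category.assoc, Category.assoc, hmain])
  have hl' : (yon S).map c ≫ l = l' := hl ()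
  refine ⟨l, ?_, ?_⟩
  · -- restriction to `Spec K`
    have hcK : IsFppfFamily (fun _ : Unit => ψO) := by
      refine isFppfFamily_single ψO ?_ (lfp_SpecMap_of_finitePresentation e.ψ hψfp) ?_
      · refine flat_SpecMap_of_flat e.ψ ?_
        letI : Algebra sq.K e.K' := e.ψ.toAlgebra
        change Module.Flat sq.K e.K'
        infer_instance
      · intro t
        refine ⟨IsLocalRing.closedPoint e.K', ?_⟩
        exact @Subsingleton.elim _ (inferInstanceAs (Subsingleton (PrimeSpectrum sq.K))) _ _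
    refine hcK.hom_ext _ _ fun _ => ?_
    have hsqj : ψO ≫ sq.j = jK'O ≫ c := by
      apply Over.OverMorphism.ext
      exact (Groth.Agent.H53.spec_comm_sq _ _ _ _ e.comm).symm
    rw [← Category.assoc, ← Functor.map_comp, hsqj, Functor.map_comp, Category.assoc, hl', hl1']
  · refine hc.hom_ext _ _ fun _ => ?_
    rw [← Category.assoc, hl', hl2]


/-- A lift of a valuative square is a lift after the trivial extension. -/
theorem hasLiftExt_of_hasLift {X Y : Sp S} {f : X ⟶ Y} (sq : ValSq f) (h : sq.HasLift) :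
    sq.HasLiftExt := by
  obtain ⟨l, hl1, hl2⟩ := h
  let e : sq.DomExt :=
    { A' := sq.A, K' := sq.K, φ := RingHom.id _, ψ := RingHom.id _, comm := rfl,
      isLocalHom := ⟨fun _ h => h⟩ }
  let φO : e.ptA' ⟶ sq.ptA := Over.homMk (Spec.map (CommRingCat.ofHom e.φ)) rfl
  let jO' : e.ptK' ⟶ e.ptA' :=
    Over.homMk (Spec.map (CommRingCat.ofHom (algebraMap e.A' e.K'))) rfl
  let ψO' : e.ptK' ⟶ sq.ptK := Over.homMk (Spec.map (CommRingCat.ofHom e.ψ)) (by
          change Spec.map _ ≫ Spec.map _ ≫ _ = Spec.map _ ≫ Spec.map _ ≫ _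
          rw [← Spec.map_comp_assoc, ← Spec.map_comp_assoc, ← CommRingCat.ofHom_comp,
            ← CommRingCat.ofHom_comp, e.comm])
  have hjφ : jO' ≫ φO = ψO' ≫ sq.j := by
    apply Over.OverMorphism.ext
    change Spec.map _ ≫ Spec.map _ = Spec.map _ ≫ Spec.map _
    rw [← Spec.map_comp, ← Spec.map_comp, ← CommRingCat.ofHom_comp, ← CommRingCat.ofHom_comp,
      e.comm]
  refine ⟨e, (yon S).map φO ≫ l, ?_, ?_⟩
  · change (yon S).map jO' ≫ (yon S).map φO ≫ l = (yon S).map ψO' ≫ sq.top
    rw [← Category.assoc, ← Functor.map_comp, hjφ, Functor.map_comp, Category.assoc, hl1]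
  · rw [Category.assoc, hl2]

end Groth.Agent.H52
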