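import Mathlib.RingTheory.DedekindDomain.IntegralClosure
import Mathlib.RingTheory.DedekindDomain.Dvr
import Mathlib.RingTheory.Valuation.ValuationRing
import Mathlib.RingTheory.DiscreteValuationRing.TFAE
import Mathlib.Algebra.GCDMonoid.IntegrallyClosed
import Mathlib.RingTheory.PrincipalIdealDomain

/-!
# Valuation rings dominating a discrete valuation ring in a finite separable extension
-/

set_option autoImplicit false
universe u

namespace Groth.Agent.H52

/-- A valuation ring dominating a discrete valuation ring in a finite separable extension of its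
fraction field is a discrete valuation ring. -/
theorem isDiscreteValuationRing_of_dominates
    {A K A' K' : Type u} [CommRing A] [IsDomain A] [IsDiscreteValuationRing A] [Field K]
    [Algebra A K] [IsFractionRing A K] [CommRing A'] [IsDomain A'] [ValuationRing A'] [Field K']
    [Algebra A' K'] [IsFractionRing A' K'] (φ : A →+* A') (ψ : K →+* K')
    (comm : (algebraMap A' K').comp φ = ψ.comp (algebraMap A K)) (hloc : IsLocalHom φ)
    (hfin : letI := ψ.toAlgebra; Module.Finite K K')
    (hsep : letI := ψ.toAlgebra; Algebra.IsSeparable K K') : IsDiscreteValuationRing A' := by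
  letI : Algebra K K' := ψ.toAlgebra
  letI : Algebra A A' := φ.toAlgebra
  letI : Algebra A K' := ((algebraMap A' K').comp φ).toAlgebra
  haveI : IsScalarTower A K K' := IsScalarTower.of_algebraMap_eq' comm
  haveI : IsScalarTower A A' K' := IsScalarTower.of_algebraMap_eq' rfl
  haveI : FiniteDimensional K K' := hfin
  haveI : Algebra.IsSeparable K K' := hsep
  haveI : IsDedekindDomain (integralClosure A K') := integralClosure.isDedekindDomain A K K'
  haveI : IsFractionRing (integralClosure A K') K' :=
    IsIntegralClosure.isFractionRing_of_finite_extension A K K' (integralClosure A K')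
  have hinj : Function.Injective (algebraMap A' K') := IsFractionRing.injective A' K'
  -- the map `B → A'`
  have hmem : ∀ b : integralClosure A K', ∃ z : A', algebraMap A' K' z = (b : K') := by
    intro b
    have hb : IsIntegral A (b : K') := b.2
    have hb' : IsIntegral A' (b : K') := hb.tower_top
    exact IsIntegrallyClosed.isIntegral_iff.mp hb'
  choose ι₀ hι₀ using hmem
  let ι : integralClosure A K' →+* A' :=
    { toFun := ι₀
      map_one' := hinj (by rw [hι₀, map_one]; rfl)
      map_mul' := fun x y => hinj (by rw [hι₀, map_mul, hι₀, hι₀]; rfl)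
      map_zero' := hinj (by rw [hι₀, map_zero]; rfl)
      map_add' := fun x y => hinj (by rw [hι₀, map_add, hι₀, hι₀]; rfl) }
  have hι : ∀ b, algebraMap A' K' (ι b) = (b : K') := hι₀
  have hιinj : Function.Injective ι := by
    intro x y hxy
    apply Subtype.ext
    rw [← hι, ← hι, hxy]
  letI : Algebra (integralClosure A K') A' := ι.toAlgebra
  have halg : ∀ b, algebraMap (integralClosure A K') A' b = ι b := fun _ => rfl
  let 𝔭 : Ideal (integralClosure A K') := (IsLocalRing.maximalIdeal A').comap ι
  haveI h𝔭prime : 𝔭.IsPrime := Ideal.comap_isPrime ι _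
  have hmem𝔭 : ∀ b, b ∈ 𝔭 ↔ ¬ IsUnit (ι b) := fun b => by
    change ι b ∈ IsLocalRing.maximalIdeal A' ↔ _
    rw [IsLocalRing.mem_maximalIdeal, mem_nonunits_iff]
  have h𝔭 : 𝔭 ≠ ⊥ := by
    obtain ⟨ϖ, hϖ⟩ := IsDiscreteValuationRing.exists_irreducible A
    have hne : algebraMap A (integralClosure A K') ϖ ≠ 0 := by
      intro h0
      have h1 : algebraMap A K' ϖ = 0 := by
        have := congrArg (algebraMap (integralClosure A K') K') h0
        rwa [← IsScalarTower.algebraMap_apply, map_zero] at this
      rw [IsScalarTower.algebraMap_apply A K K', map_eq_zero_iff _ (algebraMap K K').injective,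
        map_eq_zero_iff _ (IsFractionRing.injective A K)] at h1
      exact hϖ.ne_zero h1
    have hin : algebraMap A (integralClosure A K') ϖ ∈ 𝔭 := by
      rw [hmem𝔭]
      have h2 : ι (algebraMap A (integralClosure A K') ϖ) = φ ϖ := by
        apply hinj
        rw [hι]
        rfl
      rw [h2]
      intro hu
      exact hϖ.not_isUnit (hloc.map_nonunit ϖ hu)
    intro hbot
    rw [hbot] at hin
    exact hne ((Ideal.mem_bot).1 hin)
  haveI : IsLocalization.AtPrime A' 𝔭 := by
    refine ⟨?_, ?_, ?_⟩
    · rintro ⟨s, hs⟩
      rw [halg]
      by_contra hu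
      exact hs ((hmem𝔭 s).2 hu)
    · intro z
      obtain ⟨⟨b, s⟩, hbs⟩ := IsLocalization.surj (nonZeroDivisors (integralClosure A K'))
        (algebraMap A' K' z)
      have hs0 : (s : integralClosure A K') ≠ 0 := nonZeroDivisors.ne_zero s.2
      have hιs0 : ι (s : integralClosure A K') ≠ 0 := fun h => hs0 (hιinj (by rw [h, map_zero]))
      have hzs : z * ι s = ι b := by
        apply hinj
        rw [map_mul, hι, hι]
        exact hbs
      haveI : IsDiscreteValuationRing (Localization.AtPrime 𝔭) :=
        IsLocalization.AtPrime.isDiscreteValuationRing_of_dedekind_domain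
          (integralClosure A K') h𝔭 _
      have hLinj : Function.Injective
          (algebraMap (integralClosure A K') (Localization.AtPrime 𝔭)) :=
        IsLocalization.injective (Localization.AtPrime 𝔭) (Ideal.primeCompl_le_nonZeroDivisors 𝔭)
      obtain ⟨c, hc⟩ := ValuationRing.cond
        (algebraMap (integralClosure A K') (Localization.AtPrime 𝔭) b)
        (algebraMap (integralClosure A K') (Localization.AtPrime 𝔭) s)
      obtain ⟨⟨c₁, t⟩, hct⟩ := IsLocalization.surj 𝔭.primeCompl c
      have htunit : IsUnit (ι (t : integralClosure A K')) := by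
        by_contra hu
        exact t.2 ((hmem𝔭 t).2 hu)
      rcases hc with hc | hc
      · have h1 : b * c₁ = s * t := by
          apply hLinj
          rw [map_mul, map_mul, ← hct, ← mul_assoc, hc]
        have h2 : z * ι c₁ = ι t := by
          apply mul_left_cancel₀ hιs0
          calc ι s * (z * ι c₁) = (z * ι s) * ι c₁ := by ring
            _ = ι (b * c₁) := by rw [hzs, map_mul]
            _ = ι s * ι t := by rw [h1, map_mul]
        by_cases hc₁ : c₁ ∈ 𝔭
        · exfalso
          have hu : IsUnit (z * ι c₁) := by rw [h2]; exact htunit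
          exact (hmem𝔭 c₁).1 hc₁ (isUnit_of_mul_isUnit_right hu)
        · exact ⟨(t, ⟨c₁, hc₁⟩), h2⟩
      · have h1 : s * c₁ = b * t := by
          apply hLinj
          rw [map_mul, map_mul, ← hct, ← mul_assoc, hc]
        refine ⟨(c₁, t), ?_⟩
        change z * ι t = ι c₁
        apply mul_left_cancel₀ hιs0
        calc ι s * (z * ι t) = (z * ι s) * ι t := by ring
          _ = ι (b * t) := by rw [hzs, map_mul]
          _ = ι s * ι c₁ := by rw [← h1, map_mul]
    · intro x y hxy
      rw [halg, halg] at hxy
      exact ⟨1, by rw [hιinj hxy]⟩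
  exact IsLocalization.AtPrime.isDiscreteValuationRing_of_dedekind_domain
    (integralClosure A K') h𝔭 A'

end Groth.Agent.H52
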