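import Groth.Agent.H52.DVRExt
import Mathlib.RingTheory.QuasiFinite.Basic
import Mathlib.RingTheory.Flat.TorsionFree
import Mathlib.RingTheory.RingHom.FinitePresentation
import Mathlib.RingTheory.RingHom.Flat

/-!
# Dominating discrete valuation rings in finite separable extensions are fppf
-/

set_option autoImplicit false
universe u

namespace Groth.Agent.H52

/-- In a Dedekind domain with finitely many maximal ideals, the localization at a nonzero prime is
the localization away from a single element. -/
theorem exists_away_of_atPrime {B : Type*} [CommRing B] [IsDomain B] [IsDedekindDomain B]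
    (hfin : {𝔮 : Ideal B | 𝔮.IsMaximal}.Finite) (𝔭 : Ideal B) [h𝔭p : 𝔭.IsPrime] (h𝔭 : 𝔭 ≠ ⊥)
    (A' : Type*) [CommRing A'] [Algebra B A'] [IsLocalization.AtPrime A' 𝔭] :
    ∃ g : B, IsLocalization.Away g A' := by
  classical
  have h𝔭max : 𝔭.IsMaximal := h𝔭p.isMaximal h𝔭
  let Q : Finset (Ideal B) := hfin.toFinset.erase 𝔭
  have hQ : ∀ 𝔮 ∈ Q, 𝔮.IsMaximal ∧ 𝔮 ≠ 𝔭 := by
    intro 𝔮 h𝔮
    rw [Finset.mem_erase, Set.Finite.mem_toFinset] at h𝔮
    exact ⟨h𝔮.2, h𝔮.1⟩
  have hnot : ¬ (∏ 𝔮 ∈ Q, 𝔮) ≤ 𝔭 := by
    intro hle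
    obtain ⟨𝔮, h𝔮Q, h𝔮le⟩ := (Ideal.IsPrime.prod_le h𝔭p).1 hle
    obtain ⟨h𝔮max, h𝔮ne⟩ := hQ 𝔮 h𝔮Q
    exact h𝔮ne (h𝔮max.eq_of_le h𝔭max.ne_top h𝔮le)
  obtain ⟨g, hgP, hg𝔭⟩ := SetLike.not_le_iff_exists.1 hnot
  have hgQ : ∀ 𝔮 ∈ Q, g ∈ 𝔮 := fun 𝔮 h𝔮 =>
    (Ideal.prod_le_inf.trans (Finset.inf_le h𝔮)) hgP
  have hgpow : ∀ n : ℕ, g ^ n ∈ 𝔭.primeCompl := fun n hn => hg𝔭 (h𝔭p.mem_of_pow_mem n hn)
  refine ⟨g, ⟨?_, ?_, ?_⟩⟩
  · rintro ⟨_, n, rfl⟩
    exact IsLocalization.map_units A' (⟨g ^ n, hgpow n⟩ : 𝔭.primeCompl)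
  · intro z
    obtain ⟨⟨b, s⟩, hbs⟩ := IsLocalization.surj 𝔭.primeCompl z
    have hs0 : (s : B) ≠ 0 := fun h => s.2 (h ▸ 𝔭.zero_mem)
    have hgrad : g ∈ (Ideal.span {(s : B)}).radical := by
      rw [Ideal.radical_eq_sInf, Ideal.mem_sInf]
      rintro J ⟨hsJ, hJp⟩
      have hsJ' : (s : B) ∈ J := hsJ (Ideal.subset_span rfl)
      have hJ0 : J ≠ ⊥ := fun h => hs0 (by rw [h] at hsJ'; exact hsJ')
      have hJmax : J.IsMaximal := hJp.isMaximal hJ0
      have hJne : J ≠ 𝔭 := fun h => s.2 (h ▸ hsJ')
      exact hgQ J (by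
        rw [Finset.mem_erase, Set.Finite.mem_toFinset]
        exact ⟨hJne, hJmax⟩)
    obtain ⟨n, hn⟩ := hgrad
    obtain ⟨c, hc⟩ := Ideal.mem_span_singleton'.1 hn
    refine ⟨(b * c, ⟨g ^ n, n, rfl⟩), ?_⟩
    change z * algebraMap B A' (g ^ n) = algebraMap B A' (b * c)
    rw [← hc, map_mul, map_mul, ← hbs]
    ring
  · intro x y hxy
    obtain ⟨c, hc⟩ := (IsLocalization.eq_iff_exists 𝔭.primeCompl A').1 hxy
    have hc0 : (c : B) ≠ 0 := fun h => c.2 (h ▸ 𝔭.zero_mem)
    exact ⟨1, by rw [mul_left_cancel₀ hc0 hc]⟩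


/-- A valuation ring dominating a discrete valuation ring `A` in a finite separable extension of
its fraction field is flat and of finite presentation over `A`. -/
theorem flat_finitePresentation_of_dominates
    {A K A' K' : Type u} [CommRing A] [IsDomain A] [IsDiscreteValuationRing A] [Field K]
    [Algebra A K] [IsFractionRing A K] [CommRing A'] [IsDomain A'] [ValuationRing A'] [Field K']
    [Algebra A' K'] [IsFractionRing A' K'] (φ : A →+* A') (ψ : K →+* K')
    (comm : (algebraMap A' K').comp φ = ψ.comp (algebraMap A K)) (hloc : IsLocalHom φ)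
    (hfin : letI := ψ.toAlgebra; Module.Finite K K')
    (hsep : letI := ψ.toAlgebra; Algebra.IsSeparable K K') :
    φ.Flat ∧ φ.FinitePresentation := by
  letI : Algebra K K' := ψ.toAlgebra
  letI : Algebra A A' := φ.toAlgebra
  letI : Algebra A K' := ((algebraMap A' K').comp φ).toAlgebra
  haveI : IsScalarTower A K K' := IsScalarTower.of_algebraMap_eq' comm
  haveI : IsScalarTower A A' K' := IsScalarTower.of_algebraMap_eq' rfl
  haveI : FiniteDimensional K K' := hfin
  haveI : Algebra.IsSeparable K K' := hsep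
  haveI : IsDedekindDomain (integralClosure A K') := integralClosure.isDedekindDomain A K K'
  haveI : IsFractionRing (integralClosure A K') K' :=
    IsIntegralClosure.isFractionRing_of_finite_extension A K K' (integralClosure A K')
  have hinj : Function.Injective (algebraMap A' K') := IsFractionRing.injective A' K'
  -- the map `B → A'`
  have hmem : ∀ b : integralClosure A K', ∃ z : A', algebraMap A' K' z = (b : K') := by
    intro b
    have hb : IsIntegral A (b : K') := b.2
    have hb' : IsIntegral A' (b : K') := hb.tower_top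
    exact IsIntegrallyClosed.isIntegral_iff.mp hb'
  choose ι₀ hι₀ using hmem
  let ι : integralClosure A K' →+* A' :=
    { toFun := ι₀
      map_one' := hinj (by rw [hι₀, map_one]; rfl)
      map_mul' := fun x y => hinj (by rw [hι₀, map_mul, hι₀, hι₀]; rfl)
      map_zero' := hinj (by rw [hι₀, map_zero]; rfl)
      map_add' := fun x y => hinj (by rw [hι₀, map_add, hι₀, hι₀]; rfl) }
  have hι : ∀ b, algebraMap A' K' (ι b) = (b : K') := hι₀
  have hιinj : Function.Injective ι := by
    intro x y hxy
    apply Subtype.ext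
    rw [← hι, ← hι, hxy]
  letI : Algebra (integralClosure A K') A' := ι.toAlgebra
  have halg : ∀ b, algebraMap (integralClosure A K') A' b = ι b := fun _ => rfl
  let 𝔭 : Ideal (integralClosure A K') := (IsLocalRing.maximalIdeal A').comap ι
  haveI h𝔭prime : 𝔭.IsPrime := Ideal.comap_isPrime ι _
  have hmem𝔭 : ∀ b, b ∈ 𝔭 ↔ ¬ IsUnit (ι b) := fun b => by
    change ι b ∈ IsLocalRing.maximalIdeal A' ↔ _
    rw [IsLocalRing.mem_maximalIdeal, mem_nonunits_iff]
  have h𝔭 : 𝔭 ≠ ⊥ := by
    obtain ⟨ϖ, hϖ⟩ := IsDiscreteValuationRing.exists_irreducible A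
    have hne : algebraMap A (integralClosure A K') ϖ ≠ 0 := by
      intro h0
      have h1 : algebraMap A K' ϖ = 0 := by
        have := congrArg (algebraMap (integralClosure A K') K') h0
        rwa [← IsScalarTower.algebraMap_apply, map_zero] at this
      rw [IsScalarTower.algebraMap_apply A K K', map_eq_zero_iff _ (algebraMap K K').injective,
        map_eq_zero_iff _ (IsFractionRing.injective A K)] at h1
      exact hϖ.ne_zero h1
    have hin : algebraMap A (integralClosure A K') ϖ ∈ 𝔭 := by
      rw [hmem𝔭]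
      have h2 : ι (algebraMap A (integralClosure A K') ϖ) = φ ϖ := by
        apply hinj
        rw [hι]
        rfl
      rw [h2]
      intro hu
      exact hϖ.not_isUnit (hloc.map_nonunit ϖ hu)
    intro hbot
    rw [hbot] at hin
    exact hne ((Ideal.mem_bot).1 hin)
  haveI : IsLocalization.AtPrime A' 𝔭 := by
    refine ⟨?_, ?_, ?_⟩
    · rintro ⟨s, hs⟩
      rw [halg]
      by_contra hu
      exact hs ((hmem𝔭 s).2 hu)
    · intro z
      obtain ⟨⟨b, s⟩, hbs⟩ := IsLocalization.surj (nonZeroDivisors (integralClosure A K'))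
        (algebraMap A' K' z)
      have hs0 : (s : integralClosure A K') ≠ 0 := nonZeroDivisors.ne_zero s.2
      have hιs0 : ι (s : integralClosure A K') ≠ 0 := fun h => hs0 (hιinj (by rw [h, map_zero]))
      have hzs : z * ι s = ι b := by
        apply hinj
        rw [map_mul, hι, hι]
        exact hbs
      haveI : IsDiscreteValuationRing (Localization.AtPrime 𝔭) :=
        IsLocalization.AtPrime.isDiscreteValuationRing_of_dedekind_domain
          (integralClosure A K') h𝔭 _
      have hLinj : Function.Injective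
          (algebraMap (integralClosure A K') (Localization.AtPrime 𝔭)) :=
        IsLocalization.injective (Localization.AtPrime 𝔭) (Ideal.primeCompl_le_nonZeroDivisors 𝔭)
      obtain ⟨c, hc⟩ := ValuationRing.cond
        (algebraMap (integralClosure A K') (Localization.AtPrime 𝔭) b)
        (algebraMap (integralClosure A K') (Localization.AtPrime 𝔭) s)
      obtain ⟨⟨c₁, t⟩, hct⟩ := IsLocalization.surj 𝔭.primeCompl c
      have htunit : IsUnit (ι (t : integralClosure A K')) := by
        by_contra hu
        exact t.2 ((hmem𝔭 t).2 hu)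
      rcases hc with hc | hc
      · have h1 : b * c₁ = s * t := by
          apply hLinj
          rw [map_mul, map_mul, ← hct, ← mul_assoc, hc]
        have h2 : z * ι c₁ = ι t := by
          apply mul_left_cancel₀ hιs0
          calc ι s * (z * ι c₁) = (z * ι s) * ι c₁ := by ring
            _ = ι (b * c₁) := by rw [hzs, map_mul]
            _ = ι s * ι t := by rw [h1, map_mul]
        by_cases hc₁ : c₁ ∈ 𝔭
        · exfalso
          have hu : IsUnit (z * ι c₁) := by rw [h2]; exact htunit
          exact (hmem𝔭 c₁).1 hc₁ (isUnit_of_mul_isUnit_right hu)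
        · exact ⟨(t, ⟨c₁, hc₁⟩), h2⟩
      · have h1 : s * c₁ = b * t := by
          apply hLinj
          rw [map_mul, map_mul, ← hct, ← mul_assoc, hc]
        refine ⟨(c₁, t), ?_⟩
        change z * ι t = ι c₁
        apply mul_left_cancel₀ hιs0
        calc ι s * (z * ι t) = (z * ι s) * ι t := by ring
          _ = ι (b * t) := by rw [hzs, map_mul]
          _ = ι s * ι c₁ := by rw [← h1, map_mul]
    · intro x y hxy
      rw [halg, halg] at hxy
      exact ⟨1, by rw [hιinj hxy]⟩
  have hφinj : Function.Injective φ := by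
    intro x y hxy
    have h1 : (ψ.comp (algebraMap A K)) x = (ψ.comp (algebraMap A K)) y := by
      rw [← comm]
      exact congrArg (algebraMap A' K') hxy
    exact IsFractionRing.injective A K (ψ.injective h1)
  constructor
  · -- flatness: torsion-free over a principal ideal domain
    change Module.Flat A A'
    haveI : Module.IsTorsionFree A A' := by
      refine Module.IsTorsionFree.of_smul_eq_zero fun r m hrm => ?_
      rw [Algebra.smul_def, mul_eq_zero] at hrm
      rcases hrm with h | h
      · left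
        exact hφinj (by rw [map_zero]; exact h)
      · exact Or.inr h
    infer_instance
  · rw [← RingHom.FinitePresentation.of_finiteType]
    change Algebra.FiniteType A A'
    haveI : Module.Finite A (integralClosure A K') :=
      IsIntegralClosure.finite A K K' (integralClosure A K')
    -- the maximal ideals of `B` lie over the maximal ideal of `A`
    have hmaxfin : {𝔮 : Ideal (integralClosure A K') | 𝔮.IsMaximal}.Finite := by
      refine (Algebra.QuasiFinite.finite_primesOver (S := integralClosure A K')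
        (IsLocalRing.maximalIdeal A)).subset ?_
      intro 𝔮 h𝔮
      have h𝔮max : 𝔮.IsMaximal := h𝔮
      haveI : Algebra.IsIntegral A (integralClosure A K') := inferInstance
      have hcm : (𝔮.comap (algebraMap A (integralClosure A K'))).IsMaximal :=
        Ideal.isMaximal_comap_of_isIntegral_of_isMaximal 𝔮
      exact ⟨h𝔮max.isPrime, ⟨(IsLocalRing.eq_maximalIdeal hcm).symm⟩⟩
    obtain ⟨g, hg⟩ := exists_away_of_atPrime hmaxfin 𝔭 h𝔭 A'
    haveI : IsLocalization.Away g A' := hg
    haveI : Algebra.FinitePresentation (integralClosure A K') A' :=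
      IsLocalization.Away.finitePresentation g
    haveI : Algebra.FiniteType (integralClosure A K') A' :=
      Algebra.FiniteType.of_finitePresentation
    haveI : IsScalarTower A (integralClosure A K') A' := by
      refine IsScalarTower.of_algebraMap_eq' ?_
      ext a
      apply hinj
      change algebraMap A' K' (φ a) = algebraMap A' K' (ι (algebraMap A (integralClosure A K') a))
      rw [hι]
      rfl
    exact Algebra.FiniteType.trans (S := integralClosure A K') inferInstance inferInstance

end Groth.Agent.H52
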