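import Groth.Agent.H52.DVRUnivClosed
import Groth.Agent.H76.DVRThrough

/-!
# Refined Noetherian valuative criterion: closed immersions from lifts through a dense subspace
-/

set_option autoImplicit false
universe u
open CategoryTheory CategoryTheory.Limits AlgebraicGeometry
open AlgSp

namespace Groth.Agent.H52

variable {S : Scheme.{u}}

/-- Refined Noetherian valuative criterion for a monomorphism of schemes to be a closed immersion,
with test squares whose generic point comes from a dense finite type `h : U ⟶ X` through an etale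
`e : h_{W₁} ⟶ X`. -/
theorem isClosedImmersion_of_refined_dvr {U X : Sp S} (hU : IsAlgSpace U) (hX : IsAlgSpace X)
    (h : U ⟶ X) (hh : IsFiniteTypeMor h) (hdense : Dense (Set.range (Points.map h)))
    {W₁ T₁ : Over S} (Δ₁ : W₁ ⟶ T₁) [IsLocallyNoetherian T₁.left] [CompactSpace ↥W₁.left]
    [Mono Δ₁.left] [LocallyOfFiniteType Δ₁.left] [QuasiCompact Δ₁.left]
    (e : (yon S).obj W₁ ⟶ X) (he : RepWith @Etale e)
    (H : ∀ (A : Type u) [CommRing A] [IsDomain A] [IsDiscreteValuationRing A] (K : Type u)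
      [Field K] [Algebra A K] [IsFractionRing A K]
      (a : Spec (CommRingCat.of A) ⟶ S) (yO : Over.mk a ⟶ T₁)
      (t : (yon S).obj (Over.mk (Spec.map (CommRingCat.ofHom (algebraMap A K)) ≫ a)) ⟶ U)
      (wK : Over.mk (Spec.map (CommRingCat.ofHom (algebraMap A K)) ≫ a) ⟶ W₁),
      (yon S).map wK ≫ e = t ≫ h →
      wK ≫ Δ₁ = (Over.homMk (Spec.map (CommRingCat.ofHom (algebraMap A K))) rfl :
        Over.mk (Spec.map (CommRingCat.ofHom (algebraMap A K)) ≫ a) ⟶ Over.mk a) ≫ yO →
      ∃ l : Over.mk a ⟶ W₁, l ≫ Δ₁ = yO) :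
    IsClosedImmersion Δ₁.left := by
  have sqZ := IsPullback.of_hasPullback h e
  have hZ : IsAlgSpace (pullback h e) := isAlgSpace_of_isPullback sqZ hU hX (IsAlgSpace.yon_obj _)
  have hZqc : IsQuasiCompactSp (pullback h e) :=
    hh.2 (IsAlgSpace.yon_obj _) (isQuasiCompactSp_yon _) e _ _ sqZ
  obtain ⟨U₁, c₁, hU₁aff, hc₁e, hc₁s⟩ := UC.exists_affine_etale_chart' hZqc
  obtain ⟨h₁, hh₁⟩ := (yon S).map_surjective (c₁ ≫ pullback.snd h e)
  have hlft₂ : LocP @LocallyOfFiniteType (pullback.snd h e) :=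
    isEtLocal_lft.locP_of_isPullback hU hX (IsAlgSpace.yon_obj _) sqZ hh.1
  have hh₁lft : LocallyOfFiniteType h₁.left :=
    hlft₂ c₁ (𝟙 _) h₁ hc₁e (repWith_id _ W₁) (by rw [hh₁, Category.comp_id])
  have hW₁N : IsLocallyNoetherian W₁.left := LocallyOfFiniteType.isLocallyNoetherian Δ₁.left
  have hh₁qc : QuasiCompact h₁.left := inferInstance
  -- the image of `h₁`
  have hrange : Set.range h₁.left = Points.ofPt e ⁻¹' Set.range (Points.map h) := by
    ext w
    constructor
    · rintro ⟨u₁, rfl⟩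
      refine ⟨Points.ofPt (c₁ ≫ pullback.fst h e) u₁, ?_⟩
      rw [Points.map_ofPt, Category.assoc, sqZ.w, ← Category.assoc, ← hh₁,
        Groth.Agent.H53.FibrePts.ofPt_yon_map_comp]
    · rintro ⟨x, hx⟩
      obtain ⟨z, hz1, hz2⟩ := exists_point_of_isPullback sqZ x (Points.ofScheme W₁ w)
        (by rw [hx, ← Points.ofPt_eq_map_ofScheme])
      obtain ⟨u₁, rfl⟩ := Groth.Agent.H53.surjective_ofPt_of_surjective c₁ hc₁s z
      refine ⟨u₁, ?_⟩
      apply (Points.schemeEquiv W₁).injective
      change Points.ofScheme W₁ _ = Points.ofScheme W₁ w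
      rw [← hz2, Points.map_ofPt, ← hh₁]
      exact (Groth.Agent.H53.FibrePts.ofPt_yon_map h₁ u₁).symm
  have hd : Dense (Set.range h₁.left) := by
    rw [hrange]
    exact hdense.preimage (Groth.Agent.H53.isOpenMap_ofPt_of_etale e he)
  have hG : ∀ x : ↥W₁.left, ∃ u ∈ (Set.univ : Set ↥U₁.left), h₁.left u ⤳ x := by
    intro x
    obtain ⟨u, hu⟩ := Groth.Agent.Lib.Helper78.exists_specializes_of_mem_closure_range h₁.left x
      (by rw [hd.closure_eq]; trivial)
    exact ⟨u, trivial, hu⟩
  have hsep : IsSeparated Δ₁.left := inferInstance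
  have huc : UniversallyClosed Δ₁.left := by
    refine Groth.Agent.H76.DVRThrough.universallyClosed_of_dvr_through Δ₁.left h₁.left Set.univ hG ?_
    intro u _ A hA y hy
    haveI : IsDiscreteValuationRing A := hA
    have hstr : U₁.left.fromSpecResidueField u ≫ U₁.hom =
        Spec.map (CommRingCat.ofHom (algebraMap A (U₁.left.residueField u))) ≫ y ≫ T₁.hom := by
      rw [← Category.assoc]
      change _ = (Spec.map (CommRingCat.ofHom A.subtype) ≫ y) ≫ T₁.hom
      rw [hy, Category.assoc, Category.assoc, Over.w Δ₁, Over.w h₁]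
    have e1 : (yon S).map (Over.homMk (U₁.left.fromSpecResidueField u) hstr ≫ h₁) ≫ e =
        ((yon S).map (Over.homMk (U₁.left.fromSpecResidueField u) hstr :
          Over.mk (Spec.map (CommRingCat.ofHom (algebraMap A (U₁.left.residueField u))) ≫
            y ≫ T₁.hom) ⟶ U₁) ≫ c₁ ≫ pullback.fst h e) ≫ h := by
      rw [Functor.map_comp, Category.assoc, hh₁]
      simp only [Category.assoc]
      rw [sqZ.w]
    have e2 : (Over.homMk (U₁.left.fromSpecResidueField u) hstr ≫ h₁) ≫ Δ₁ =
        (Over.homMk (Spec.map (CommRingCat.ofHom (algebraMap A (U₁.left.residueField u)))) rfl :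
          Over.mk (Spec.map (CommRingCat.ofHom (algebraMap A (U₁.left.residueField u))) ≫
            y ≫ T₁.hom) ⟶ Over.mk (y ≫ T₁.hom)) ≫ (Over.homMk y rfl : Over.mk (y ≫ T₁.hom) ⟶ T₁) := by
      apply Over.OverMorphism.ext
      change (U₁.left.fromSpecResidueField u ≫ h₁.left) ≫ Δ₁.left =
        Spec.map (CommRingCat.ofHom A.subtype) ≫ y
      rw [hy, Category.assoc]
    obtain ⟨l, hl⟩ := H A (U₁.left.residueField u) (y ≫ T₁.hom) (Over.homMk y rfl) _ _ e1 e2
    refine ⟨l.left, congrArg (fun m => m.left) hl, ?_⟩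
    rw [← cancel_mono Δ₁.left, Category.assoc, Category.assoc]
    have h1 : l.left ≫ Δ₁.left = y := congrArg (fun m => m.left) hl
    rw [h1, hy]
  have hprop : IsProper Δ₁.left := {}
  have hlqf : LocallyQuasiFinite Δ₁.left := inferInstance
  have hfin : IsFinite Δ₁.left := IsFinite.of_isProper_of_locallyQuasiFinite Δ₁.left
  exact (IsClosedImmersion.iff_isFinite_and_mono Δ₁.left).2 ⟨inferInstance, inferInstance⟩

end Groth.Agent.H52
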