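import Groth.Agent.Lib.Helper54.LargestOpen
import Groth.Agent.Lib.Helper54.SourceLocal2
import Groth.Agent.H52.ThickLift2
import Groth.Agent.H52.Points
import Groth.Agent.H53.Proper

/-!
# Descent of immersions of algebraic spaces along fppf coverings of the base

Given that closed immersions are fppf local on the base, so are immersions: an immersion is a closed
immersion over the largest open subspace of the base over which it is a closed immersion.
-/

set_option autoImplicit false
universe u
open CategoryTheory CategoryTheory.Limits AlgebraicGeometry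
open AlgSp

namespace Groth.Agent.H52

variable {S : Scheme.{u}}

/-- If `k ≫ i = s` with `i` a monomorphism then the square with top the identity is a pullback. -/
theorem isPullback_id_of_mono_factor {C : Type*} [Category C] {A B D : C} (k : A ⟶ B) (i : B ⟶ D)
    [Mono i] (s : A ⟶ D) (h : k ≫ i = s) : IsPullback (𝟙 A) k s i :=
  ⟨⟨by rw [Category.id_comp, h]⟩,
   ⟨PullbackCone.IsLimit.mk _ (fun c => c.fst)
     (fun c => Category.comp_id _)
     (fun c => by
        rw [← cancel_mono i, Category.assoc, h]; exact c.condition)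
     (fun c m h1 _ => by rw [← h1, Category.comp_id])⟩⟩

/-- Immersions descend along fppf coverings of the base, given that closed immersions do. -/
theorem repWith_isImmersion_of_fppf_local
    (hCl : IsLocalOnBase (IsFppfCover (S := S)) (RepWith @IsClosedImmersion))
    {ι : Type u} {Y : Sp S} (Yi : ι → Sp S) (g : ∀ i, Yi i ⟶ Y)
    (hY : IsAlgSpace Y) (hYi : ∀ i, IsAlgSpace (Yi i)) (hcov : IsFppfCover Yi g)
    {X : Sp S} (f : X ⟶ Y) (hX : IsAlgSpace X)
    (Xi : ι → Sp S) (p : ∀ i, Xi i ⟶ Yi i) (q : ∀ i, Xi i ⟶ X)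
    (sq : ∀ i, IsPullback (q i) (p i) f (g i))
    (h : ∀ i, RepWith @IsImmersion (p i)) : RepWith @IsImmersion f := by
  obtain ⟨W, hA, -, hC, -⟩ :=
    Groth.Agent.Lib.Helper54.exists_largest_open Groth.Agent.Lib.Helper54.covClass_fppf hCl hX hY f
  -- the image of `f` lies in `W`
  have hrange : Set.range (Points.map f) ⊆ (W : Set (Points Y)) := by
    rintro _ ⟨x, rfl⟩
    obtain ⟨i, yi, hyi⟩ := hcov.2 (Points.map f x)
    obtain ⟨xi, hxi1, hxi2⟩ := exists_point_of_isPullback (sq i) x yi hyi.symm
    obtain ⟨A, c, hce, hcs⟩ := (hYi i).atlas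
    obtain ⟨a, ha⟩ := surjective_points_of_repWith_surjective c hcs yi
    obtain ⟨v, rfl⟩ := (Points.schemeEquiv A).surjective a
    have hrep := (h i).rep
    have sqB := hrep.isPullback c
    have himm : IsImmersion (hrep.snd c).left := (h i).property_snd c
    obtain ⟨z, -, hz2⟩ := exists_point_of_isPullback sqB xi (Points.schemeEquiv A v)
      (hxi2.trans ha.symm)
    obtain ⟨z₀, rfl⟩ := (Points.schemeEquiv (hrep.pullback c)).surjective z
    have hzv : (hrep.snd c).left z₀ = v := by
      apply (Points.schemeEquiv A).injective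
      exact (points_map_ofScheme (hrep.snd c) z₀).symm.trans hz2
    -- the open over which the immersion is closed
    let φ := (hrep.snd c).left
    let V₀ : Over S := Over.mk (φ.coborderRange.ι ≫ A.hom)
    let ι₀ : V₀ ⟶ A := Over.homMk φ.coborderRange.ι rfl
    let lft : hrep.pullback c ⟶ V₀ := Over.homMk φ.liftCoborder (by
      change φ.liftCoborder ≫ φ.coborderRange.ι ≫ A.hom = _
      rw [← Category.assoc, φ.liftCoborder_ι]
      exact Over.w (hrep.snd c))
    have hlft : lft ≫ ι₀ = hrep.snd c := by
      ext
      exact φ.liftCoborder_ι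
    have hι₀ : RepWith @IsOpenImmersion ((yon S).map ι₀) :=
      (repWith_yon_map_iff _ _).2 (inferInstanceAs (IsOpenImmersion φ.coborderRange.ι))
    have hmono : Mono ((yon S).map ι₀) :=
      Groth.Agent.Lib.Helper54.mono_of_isOpenImmersion _ hι₀
    have sqA : IsPullback (𝟙 _) ((yon S).map lft) ((yon S).map (hrep.snd c)) ((yon S).map ι₀) :=
      isPullback_id_of_mono_factor _ _ _ (by rw [← Functor.map_comp, hlft])
    have big := (sqA.paste_horiz sqB).paste_horiz (sq i)
    have hcl : RepWith @IsClosedImmersion ((yon S).map lft) :=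
      (repWith_yon_map_iff _ _).2 (inferInstanceAs (IsClosedImmersion φ.liftCoborder))
    have hιe : IsEtaleMor ((yon S).map ι₀) :=
      Groth.Agent.Lib.Helper54.isEtaleMor_of_repWith_isOpenImmersion hι₀
    have hcet : IsEtaleMor c := isEtaleMor_of_repWith_etale c hce
    have hQ : LocP @Flat (((yon S).map ι₀ ≫ c) ≫ g i) ∧
        LocP @LocallyOfFinitePresentation (((yon S).map ι₀ ≫ c) ≫ g i) := by
      rw [Category.assoc]
      exact ⟨Groth.Agent.Lib.Helper54.locP_precomp_isEtaleMor hιe
          (Groth.Agent.Lib.Helper54.locP_precomp_isEtaleMor hcet (hcov.1 i).1),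
        Groth.Agent.Lib.Helper54.locP_precomp_isEtaleMor hιe
          (Groth.Agent.Lib.Helper54.locP_precomp_isEtaleMor hcet (hcov.1 i).2)⟩
    have hsub := hC _ _ _ _ _ (IsAlgSpace.yon_obj V₀) (IsAlgSpace.yon_obj _) hQ big hcl
    apply hsub
    refine ⟨Points.schemeEquiv V₀ (φ.liftCoborder z₀), ?_⟩
    have e1 : Points.map ((yon S).map ι₀) (Points.schemeEquiv V₀ (φ.liftCoborder z₀)) =
        Points.schemeEquiv A v := by
      refine (points_map_ofScheme ι₀ _).trans ?_
      congr 1
      change (φ.liftCoborder ≫ φ.coborderRange.ι) z₀ = v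
      rw [φ.liftCoborder_ι]
      exact hzv
    rw [Points.map_comp, Points.map_comp]
    change Points.map (g i) (Points.map c (Points.map ((yon S).map ι₀) _)) = _
    rw [e1, ha, hyi]
  -- factor through the open subspace
  have hι := Groth.Agent.Lib.Helper54.repWith_isOpenImmersion_openSubι Y (W : Set (Points Y)) W.2
  have hYW := Groth.Agent.Lib.Helper54.isAlgSpace_openSub hY (W : Set (Points Y)) W.2
  obtain ⟨f', hf'⟩ := Groth.Agent.H53.exists_factor_of_range_subset
    (Groth.Agent.Lib.Helper54.openSubι Y (W : Set (Points Y))) hι f (by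
      rw [Groth.Agent.Lib.Helper54.range_points_map_openSubι]; exact hrange)
  have hmono := Groth.Agent.Lib.Helper54.mono_of_isOpenImmersion _ hι
  have sqW := isPullback_id_of_mono_factor f' _ f hf'
  have hf'cl : RepWith @IsClosedImmersion f' :=
    hA _ _ _ _ _ hYW hX hι (Groth.Agent.Lib.Helper54.range_points_map_openSubι Y _) sqW
  rw [← hf']
  exact (RepWith (S := S) @IsImmersion).comp_mem _ _
    (Groth.Agent.H53.repWith_of_le (fun _ _ φ hφ => by
      have : IsClosedImmersion φ := hφ; infer_instance) hf'cl)
    (Groth.Agent.H53.repWith_of_le (fun _ _ φ hφ => by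
      have : IsOpenImmersion φ := hφ; infer_instance) hι)

end Groth.Agent.H52
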