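import Groth.Agent.H53.ValuativeSep
import Groth.Agent.Lib.Helper78.DVRValuative
import Groth.Agent.H52.LocNoeth
import Groth.Agent.H52.FibreProd
import Groth.Agent.S9932

/-!
# Noetherian valuative criterion for separatedness of algebraic spaces (discrete valuation rings)
-/

set_option autoImplicit false
universe u
open CategoryTheory CategoryTheory.Limits AlgebraicGeometry
open AlgSp

namespace Groth.Agent.H52

variable {S : Scheme.{u}}

/-- Existence of lifts (without extension) for squares over discrete valuation rings. -/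
def ExistDVRStrict {F G : Sp S} (f : F ⟶ G) : Prop :=
  ∀ sq : ValSq f, IsDiscreteValuationRing sq.A → sq.HasLift

/-- Uniqueness of lifts for squares over discrete valuation rings. -/
def UniqDVR {F G : Sp S} (f : F ⟶ G) : Prop :=
  ∀ sq : ValSq f, IsDiscreteValuationRing sq.A → sq.HasUniq

theorem existDVRStrict_of_isPullback {F G F' G' : Sp S} {f : F ⟶ G} {g : G' ⟶ G} {fst : F' ⟶ F}
    {f' : F' ⟶ G'} (pb : IsPullback fst f' f g) (hf : ExistDVRStrict f) : ExistDVRStrict f' := by
  intro sq' hA
  obtain ⟨l, hl1, hl2⟩ := hf (Groth.Agent.H53.pushValSq sq' fst g pb.w) hA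
  refine ⟨pb.lift l sq'.bot hl2, ?_, pb.lift_snd _ _ _⟩
  apply pb.hom_ext
  · rw [Category.assoc, pb.lift_fst]
    exact hl1
  · rw [Category.assoc, pb.lift_snd, sq'.comm]

theorem uniqDVR_of_isPullback {F G F' G' : Sp S} {f : F ⟶ G} {g : G' ⟶ G} {fst : F' ⟶ F}
    {f' : F' ⟶ G'} (pb : IsPullback fst f' f g) (hf : UniqDVR f) : UniqDVR f' := by
  intro sq' hA l l' h1 h2 h1' h2'
  apply pb.hom_ext
  · refine hf (Groth.Agent.H53.pushValSq sq' fst g pb.w) hA (l ≫ fst) (l' ≫ fst) ?_ ?_ ?_ ?_
    · rw [← Category.assoc]; exact congrArg (· ≫ fst) h1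
    · rw [Category.assoc, pb.w, ← Category.assoc]; exact congrArg (· ≫ g) h2
    · rw [← Category.assoc]; exact congrArg (· ≫ fst) h1'
    · rw [Category.assoc, pb.w, ← Category.assoc]; exact congrArg (· ≫ g) h2'
  · rw [h2, h2']

theorem existDVRStrict_diagonal_of_uniqDVR {F G : Sp S} (f : F ⟶ G) (hf : UniqDVR f) :
    ExistDVRStrict (pullback.diagonal f) := by
  intro sq hA
  have hcomm := sq.comm
  have h1 : (yon S).map sq.j ≫ sq.bot ≫ pullback.fst f f = sq.top := by
    rw [← Category.assoc, ← hcomm, Category.assoc, pullback.diagonal_fst, Category.comp_id]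
  have h2 : (yon S).map sq.j ≫ sq.bot ≫ pullback.snd f f = sq.top := by
    rw [← Category.assoc, ← hcomm, Category.assoc, pullback.diagonal_snd, Category.comp_id]
  let sqf : ValSq f :=
    { A := sq.A, K := sq.K, str := sq.str, top := sq.top, bot := sq.bot ≫ pullback.fst f f ≫ f
      comm := by
        rw [← h1, Category.assoc, Category.assoc] }
  have heq : sq.bot ≫ pullback.fst f f = sq.bot ≫ pullback.snd f f :=
    hf sqf hA _ _ h1 (Category.assoc _ _ _) h2 (by
      rw [Category.assoc, ← pullback.condition])
  refine ⟨sq.bot ≫ pullback.fst f f, h1, ?_⟩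
  apply pullback.hom_ext
  · rw [Category.assoc, pullback.diagonal_fst, Category.comp_id]
  · rw [Category.assoc, pullback.diagonal_snd, Category.comp_id, heq]

/-- For a morphism of schemes over `S`, strict existence of lifts over discrete valuation rings for
`h_g` gives the scheme-level criterion for `g`. -/
theorem dvrExistence_of_existDVRStrict_yon_map {W T : Over S} (g : W ⟶ T)
    (hg : ExistDVRStrict ((yon S).map g)) : Groth.Agent.Lib.Helper78.DVRExistence g.left := by
  intro A _ _ _ x y w
  have hw : x ≫ W.hom =
      Spec.map (CommRingCat.ofHom (algebraMap A (FractionRing A))) ≫ y ≫ T.hom := by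
    rw [← Over.w g, ← Category.assoc, w, Category.assoc]
  let sq : ValSq ((yon S).map g) :=
    { A := A, K := FractionRing A, str := y ≫ T.hom
      top := (yon S).map (Over.homMk x hw)
      bot := (yon S).map (Over.homMk y rfl)
      comm := by
        rw [← Functor.map_comp, ← Functor.map_comp]
        refine congrArg (yon S).map (Over.OverMorphism.ext ?_)
        exact w }
  obtain ⟨l, hl1, hl2⟩ := hg sq (inferInstanceAs (IsDiscreteValuationRing A))
  obtain ⟨l₀, rfl⟩ := (yon S).map_surjective l
  have e1 : sq.j ≫ l₀ = Over.homMk x hw := by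
    apply (yon S).map_injective
    rw [Functor.map_comp]
    exact hl1
  have e2 : l₀ ≫ g = Over.homMk y rfl := by
    apply (yon S).map_injective
    rw [Functor.map_comp]
    exact hl2
  refine ⟨l₀.left, ?_, ?_⟩
  · exact congrArg (fun m => m.left) e2
  · exact congrArg (fun m => m.left) e1

/-- Over a locally Noetherian base, a quasi-compact monomorphism locally of finite type with lifts
over discrete valuation rings is a closed immersion. -/
theorem isClosedImmersion_of_dvrExistence_of_mono {A B : Scheme.{u}} [IsLocallyNoetherian B]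
    (g : A ⟶ B) [Mono g] [QuasiCompact g] [LocallyOfFiniteType g]
    (hg : Groth.Agent.Lib.Helper78.DVRExistence g) : IsClosedImmersion g := by
  have : UniversallyClosed g := Groth.Agent.Lib.Helper78.universallyClosed_of_dvrExistence hg
  have : IsProper g := {}
  have : LocallyQuasiFinite g := inferInstance
  have : IsFinite g := IsFinite.of_isProper_of_locallyQuasiFinite g
  exact (IsClosedImmersion.iff_isFinite_and_mono g).2 ⟨inferInstance, inferInstance⟩

end Groth.Agent.H52

namespace Groth.Agent.H52

variable {S : Scheme.{u}}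

/-- Noetherian valuative criterion for separatedness: over a locally Noetherian base, a
quasi-separated morphism locally of finite type with at most one lift for every square over a
discrete valuation ring is separated. -/
theorem isSeparatedMor_of_uniqDVR {X Y : Sp S} (hX : IsAlgSpace X) (hY : IsAlgSpace Y) (f : X ⟶ Y)
    (hqs : IsQuasiSeparatedMor f) (hlft : LocP @LocallyOfFiniteType f) (hYN : IsLocNoethSp Y)
    (hu : UniqDVR f) : IsSeparatedMor f := by
  obtain ⟨hrep, hlftΔ, hmono, -, -⟩ := diagonal_properties hX f
  have hex := existDVRStrict_diagonal_of_uniqDVR f hu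
  have sqP : IsPullback (pullback.fst f f) (pullback.snd f f) f f := IsPullback.of_hasPullback f f
  have hP : IsAlgSpace (pullback f f) := isAlgSpace_of_isPullback sqP hX hY hX
  have hXN : IsLocNoethSp X := isLocNoethSp_of_locP_lft hX f hYN hlft
  have hfst : LocP @LocallyOfFiniteType (pullback.fst f f) :=
    isEtLocal_lft.locP_of_isPullback hX hY hX sqP.flip hlft
  have hPN : IsLocNoethSp (pullback f f) :=
    isLocNoethSp_of_locP_lft hP (pullback.fst f f) hXN hfst
  obtain ⟨T₀, d, hde, hds, hT₀⟩ := hPN
  have sqΔ := hrep.isPullback d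
  have key : RepWith @IsClosedImmersion ((yon S).map (hrep.snd d)) := by
    rw [repWith_yon_map_iff]
    have : IsLocallyNoetherian T₀.left := hT₀
    have h1 : Mono (hrep.snd d).left := hmono.property d _ _ sqΔ
    have h2 : LocallyOfFiniteType (hrep.snd d).left := hlftΔ.property d _ _ sqΔ
    have h3 : QuasiCompact (hrep.snd d).left := hqs.property d _ _ sqΔ
    exact isClosedImmersion_of_dvrExistence_of_mono _
      (dvrExistence_of_existDVRStrict_yon_map _ (existDVRStrict_of_isPullback sqΔ hex))
  exact Groth.Agent.S9932.result @IsClosedImmersion (Or.inl rfl) (X := ⟨X, hX⟩)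
    (Y := ⟨pullback f f, hP⟩) (ObjectProperty.homMk (pullback.diagonal f)) T₀ d hde hds
    (hrep.fst d) ((yon S).map (hrep.snd d)) sqΔ key

end Groth.Agent.H52
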