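import Groth.Agent.H52.OpenSub
import Groth.Prelude.Def_AlgSpCov

set_option autoImplicit false
universe u
open CategoryTheory CategoryTheory.Limits AlgebraicGeometry Opposite Topology
open AlgSp

namespace Groth.Agent.H52

variable {S : Scheme.{u}}

theorem ofPt_overOpenι_comp {X : Sp S} {U : Over S} (a : (yon S).obj U ⟶ X) (V : U.left.Opens)
    (v : ↥V) : Points.ofPt ((yon S).map (overOpenι U V) ≫ a) v = Points.ofPt a (V.ι v) := by
  rw [Points.ofPt_eq_map_ofScheme, Points.ofPt_eq_map_ofScheme a, Points.map_comp,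
    points_map_ofScheme]
  rfl

/-- Every algebraic space has a Zariski covering by open subspaces with affine etale atlases mapping
into affine opens of the base. -/
theorem exists_isZarCover_affine_charts {X : Sp S} (hX : IsAlgSpace X) :
    ∃ (ι : Type u) (Xi : ι → Sp S) (j : ∀ i, Xi i ⟶ X), (∀ i, IsAlgSpace (Xi i)) ∧
      IsZarCover Xi j ∧
        ∀ i, ∃ (U : Over S) (p : (yon S).obj U ⟶ Xi i), IsAffine U.left ∧
          RepWith @Etale p ∧ RepWith @Surjective p ∧
          ∃ W : S.Opens, IsAffineOpen W ∧ ∀ v : ↥U.left, U.hom v ∈ W := by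
  obtain ⟨U0, a0, ha0e, ha0s⟩ := hX.atlas
  let ι : Type u := {V : U0.left.Opens // IsAffineOpen V ∧
    ∃ W : S.Opens, IsAffineOpen W ∧ ∀ v : ↥V, U0.hom (V.ι v) ∈ W}
  let a : ∀ i : ι, (yon S).obj (overOpen U0 i.1) ⟶ X :=
    fun i => (yon S).map (overOpenι U0 i.1) ≫ a0
  have ha : ∀ i, RepWith @Etale (a i) := fun i =>
    (RepWith (S := S) @Etale).comp_mem _ _ (repWith_etale_overOpenι U0 i.1) ha0e
  refine ⟨ι, fun i => Sheaf.image (a i), fun i => Sheaf.imageι (a i),
    fun i => isAlgSpace_image hX (a i) (ha i),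
    ⟨fun i => repWith_isOpenImmersion_imageι (a i) (ha i), fun x => ?_⟩, fun i => ?_⟩
  · obtain ⟨z, rfl⟩ := surjective_points_of_repWith_surjective a0 ha0s x
    obtain ⟨u, rfl⟩ := (Points.schemeEquiv U0).surjective z
    obtain ⟨W, hW, huW, -⟩ := exists_isAffineOpen_mem_and_subset
      (x := U0.hom u) (U := ⊤) trivial
    have huW' : u ∈ U0.hom ⁻¹ᵁ W := huW
    obtain ⟨V, hV, huV, hVW⟩ := exists_isAffineOpen_mem_and_subset huW'
    let i : ι := ⟨V, hV, W, hW, fun v => hVW v.2⟩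
    refine ⟨i, ?_⟩
    rw [range_points_map_imageι (a i) (ha i)]
    refine ⟨⟨u, huV⟩, ?_⟩
    rw [ofPt_overOpenι_comp, Points.ofPt_eq_map_ofScheme]
    rfl
  · obtain ⟨V, hV, W, hW, hVW⟩ := i
    exact ⟨overOpen U0 V, Sheaf.toImage (a ⟨V, hV, W, hW, hVW⟩), hV,
      repWith_etale_toImage _ (ha _), repWith_surjective_toImage _ (ha _), W, hW, hVW⟩

end Groth.Agent.H52
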