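import Groth.Agent.H52.DVRClosed
import Groth.Agent.H52.QC5
import Groth.Agent.H52.ZarAff
import Groth.Agent.H53.Valuative

/-!
# Noetherian valuative criterion for universal closedness (discrete valuation rings)
-/

set_option autoImplicit false
universe u
open CategoryTheory CategoryTheory.Limits AlgebraicGeometry
open AlgSp

namespace Groth.Agent.H52

variable {S : Scheme.{u}}

/-- Existence of lifts after extension for squares over discrete valuation rings. -/
def ExistDVR {F G : Sp S} (f : F ⟶ G) : Prop :=
  ∀ sq : ValSq f, IsDiscreteValuationRing sq.A → sq.HasLiftExt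

theorem existDVR_of_isPullback {F G F' G' : Sp S} {f : F ⟶ G} {g : G' ⟶ G} {fst : F' ⟶ F}
    {f' : F' ⟶ G'} (pb : IsPullback fst f' f g) (hf : ExistDVR f) : ExistDVR f' := by
  intro sq' hA
  obtain ⟨e, l, hl1, hl2⟩ := hf (Groth.Agent.H53.pushValSq sq' fst g pb.w) hA
  refine ⟨Groth.Agent.H53.pullDomExt sq' fst g pb.w e, pb.lift l (_ ≫ sq'.bot) hl2, ?_, ?_⟩
  · apply pb.hom_ext
    · rw [Category.assoc, pb.lift_fst, Category.assoc]
      exact hl1
    · rw [Category.assoc, pb.lift_snd, Category.assoc, sq'.comm, ← Category.assoc, ← Category.assoc]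
      refine congrArg (· ≫ sq'.bot) ?_
      refine ((yon S).map_comp _ _).symm.trans (Eq.trans (congrArg (yon S).map ?_) ((yon S).map_comp _ _))
      apply Over.OverMorphism.ext
      exact Groth.Agent.H53.spec_comm_sq _ _ _ _ e.comm
  · exact pb.lift_snd _ _ _

/-- The quasi-compact case over a locally Noetherian scheme. -/
theorem isClosedMap_points_of_existDVR_aux {P : Sp S} {W₁ : Over S} (q : P ⟶ (yon S).obj W₁)
    [IsLocallyNoetherian W₁.left] (hqc : IsQuasiCompactSp P) (hlft : LocP @LocallyOfFiniteType q)
    (H : ExistDVR q) : IsClosedMap (Points.map q) := by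
  intro T hT
  refine isClosed_of_closure_subset fun y hy => ?_
  obtain ⟨w, rfl⟩ : ∃ w, Points.ofScheme W₁ w = y := ⟨_, Points.ofScheme_toScheme W₁ y⟩
  obtain ⟨A, iA, iD, iV, a, t, κ, hκ, ht, hκT⟩ :=
    exists_dvr_of_mem_closure_image q hqc hlft T hT w hy
  let sq : ValSq q :=
    { A := A, K := FractionRing A, str := a, top := κ, bot := (yon S).map t
      comm := by rw [hκ, Functor.map_comp] }
  obtain ⟨e, l, hl1, hl2⟩ := H sq iV
  -- the generic and closed points of `Spec A'`
  let s' : ↥e.ptA'.left := IsLocalRing.closedPoint e.A'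
  let η' : ↥e.ptA'.left :=
    (Spec.map (CommRingCat.ofHom (algebraMap e.A' e.K'))) (IsLocalRing.closedPoint e.K')
  have hsp : η' ⤳ s' := IsLocalRing.specializes_closedPoint η'
  have hη'T : Points.ofPt l η' ∈ T := by
    have h1 := Groth.Agent.H53.FibrePts.ofPt_yon_map_comp
      (Over.homMk (Spec.map (CommRingCat.ofHom (algebraMap e.A' e.K'))) rfl : e.ptK' ⟶ e.ptA') l
      (IsLocalRing.closedPoint e.K')
    change _ = Points.ofPt l η' at h1
    rw [← h1, hl1, Groth.Agent.H53.FibrePts.ofPt_yon_map_comp]
    exact hκT _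
  have hs'T : Points.ofPt l s' ∈ T :=
    hT.stableUnderSpecialization (hsp.map (Points.continuous_ofPt l)) hη'T
  refine ⟨Points.ofPt l s', hs'T, ?_⟩
  rw [Points.map_ofPt, hl2, ← Functor.map_comp, Groth.Agent.H53.FibrePts.ofPt_yon_map]
  congr 1
  change t.left ((Spec.map (CommRingCat.ofHom e.φ)) (IsLocalRing.closedPoint e.A')) = w
  rw [← ht]
  congr 1
  have := e.isLocalHom
  exact IsLocalRing.comap_closedPoint e.φ

/-- A morphism of finite type from an algebraic space to a locally Noetherian scheme that admits
lifts (after extension) for squares over discrete valuation rings is closed. -/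
theorem isClosedMap_points_of_existDVR {P : Sp S} (hP : IsAlgSpace P) {W : Over S}
    (q : P ⟶ (yon S).obj W) [IsLocallyNoetherian W.left] (hft : IsFiniteTypeMor q)
    (H : ExistDVR q) : IsClosedMap (Points.map q) := by
  refine UC.isClosedMap_points_of_open_family q
    (fun U : W.left.affineOpens => overOpen W U.1) (fun U => overOpenι W U.1)
    (fun U => (inferInstance : IsOpenImmersion U.1.ι)) (fun w => ?_) ?_
  · obtain ⟨U, hU, hwU, -⟩ := (TopologicalSpace.Opens.isBasis_iff_nbhd.mp
      W.left.isBasis_affineOpens) (show w ∈ (⊤ : W.left.Opens) from trivial)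
    refine ⟨⟨U, hU⟩, ?_⟩
    change w ∈ Set.range (Scheme.Opens.ι U)
    rw [Scheme.Opens.range_ι]
    exact hwU
  · intro U P' a b sq
    have hcpt : CompactSpace ↥(overOpen W U.1).left := isCompact_iff_compactSpace.mp U.2.isCompact
    have hN : IsLocallyNoetherian (overOpen W U.1).left :=
      inferInstanceAs (IsLocallyNoetherian (U.1 : Scheme))
    have hqcP' : IsQuasiCompactSp P' :=
      hft.2 (IsAlgSpace.yon_obj _) (isQuasiCompactSp_yon _) _ _ _ sq
    have hlft' : LocP @LocallyOfFiniteType b :=
      isEtLocal_lft.locP_of_isPullback hP (IsAlgSpace.yon_obj _) (IsAlgSpace.yon_obj _) sq hft.1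
    exact isClosedMap_points_of_existDVR_aux b hqcP' hlft' (existDVR_of_isPullback sq H)

/-- Noetherian valuative criterion for universal closedness: a morphism of finite type to a locally
Noetherian algebraic space all of whose squares over discrete valuation rings admit lifts after
extension is universally closed. -/
theorem isUnivClosedMor_of_existDVR {X Y : Space S} (f : X ⟶ Y) (hft : IsFiniteTypeMor f.hom)
    (hY : IsLocNoethSp Y.obj) (H : ExistDVR f.hom) : IsUnivClosedMor f.hom := by
  obtain ⟨V, p, hpe, hps, hV⟩ := hY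
  have hVN : IsLocallyNoetherian V.left := hV
  refine UC.isUnivClosedMor_of_affineSpace_closed f hft.2 V p hpe hps ?_
  intro n P fst snd sq
  have hP : IsAlgSpace P := isAlgSpace_of_isPullback sq X.property Y.property (IsAlgSpace.yon_obj _)
  have hN : IsLocallyNoetherian
      (Over.mk ((𝔸(ULift.{u} (Fin n); V.left) ↘ V.left) ≫ V.hom)).left :=
    LocallyOfFiniteType.isLocallyNoetherian (𝔸(ULift.{u} (Fin n); V.left) ↘ V.left)
  have hft' : IsFiniteTypeMor snd :=
    ⟨isEtLocal_lft.locP_of_isPullback X.property Y.property (IsAlgSpace.yon_obj _) sq hft.1,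
      isQuasiCompactMor_of_isPullback sq hft.2⟩
  exact isClosedMap_points_of_existDVR hP snd hft' (existDVR_of_isPullback sq H)

end Groth.Agent.H52
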