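import Mathlib.AlgebraicGeometry.Morphisms.UniversallyOpen
import Mathlib.AlgebraicGeometry.Morphisms.Etale
import Mathlib.AlgebraicGeometry.Morphisms.QuasiFinite
import Mathlib.Topology.KrullDimension
import Groth.Agent.S4716
import Groth.Agent.Lib.Helper22.DimDiscreteFibres
import Groth.Agent.H53.SourceLocal

/-!
# Dimension of schemes along flat jointly surjective families and maps with discrete fibres
-/

set_option autoImplicit false
universe u
open CategoryTheory CategoryTheory.Limits AlgebraicGeometry

namespace Groth.Agent.H52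

open Order in
/-- Coheights do not decrease along a monotone map lifting upper sets. -/
theorem coheight_le_coheight_of_lifting {α β : Type*} [Preorder α] [Preorder β] (f : α → β)
    (hlift : ∀ a b, f a ≤ b → ∃ a', a ≤ a' ∧ f a' = b) (hmono : Monotone f) (a : α) :
    coheight (f a) ≤ coheight a :=
  Groth.Agent.S4716.height_le_height_of_lifting (α := αᵒᵈ) (β := βᵒᵈ) f
    (fun a b h => hlift a b h) hmono.dual a

attribute [local instance] specializationOrder in
/-- For a jointly surjective family of continuous generalizing maps `g i : U i → V` of quasi-sober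
`T0` spaces, `dim V ≤ sup dim (U i)`. -/
theorem topologicalKrullDim_le_iSup_of_generalizing {ι : Type*} {U : ι → Type*} {V : Type*}
    [∀ i, TopologicalSpace (U i)] [TopologicalSpace V] [∀ i, QuasiSober (U i)]
    [∀ i, T0Space (U i)] [QuasiSober V] [T0Space V] (g : ∀ i, U i → V)
    (hc : ∀ i, Continuous (g i)) (hg : ∀ i, GeneralizingMap (g i))
    (hs : ∀ v, ∃ i, v ∈ Set.range (g i)) :
    topologicalKrullDim V ≤ ⨆ i, topologicalKrullDim (U i) := by
  rw [Groth.Agent.S4716.topologicalKrullDim_eq_krullDim, Order.krullDim_eq_iSup_coheight]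
  refine iSup_le fun b => ?_
  obtain ⟨i, a, rfl⟩ := hs b
  refine le_trans ?_ (le_iSup (fun i => topologicalKrullDim (U i)) i)
  rw [Groth.Agent.S4716.topologicalKrullDim_eq_krullDim]
  refine le_trans ?_ (Order.coheight_le_krullDim a)
  refine WithBot.coe_le_coe.mpr (coheight_le_coheight_of_lifting (g i) (fun a b hab => ?_)
    (hc i).specialization_monotone a)
  obtain ⟨a', ha', hfa'⟩ := hg i hab
  exact ⟨a', ha', hfa'⟩

/-- For a jointly surjective family of flat morphisms of schemes `g i : U i ⟶ V`,
`dim V ≤ sup dim (U i)`. -/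
theorem topologicalKrullDim_le_iSup_of_flat {ι : Type*} {U : ι → Scheme.{u}} {V : Scheme.{u}}
    (g : ∀ i, U i ⟶ V) [∀ i, Flat (g i)] (hs : ∀ v : V, ∃ i, v ∈ Set.range (g i)) :
    topologicalKrullDim ↥V ≤ ⨆ i, topologicalKrullDim ↥(U i) :=
  topologicalKrullDim_le_iSup_of_generalizing (fun i => (g i : ↥(U i) → ↥V))
    (fun i => (g i).continuous) (fun i => Flat.generalizingMap (g i)) hs

/-- A flat surjective morphism of schemes does not decrease dimension of the target. -/
theorem topologicalKrullDim_le_of_flat_surjective {U V : Scheme.{u}} (g : U ⟶ V) [Flat g]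
    (hs : Function.Surjective g) : topologicalKrullDim ↥V ≤ topologicalKrullDim ↥U := by
  refine (topologicalKrullDim_le_iSup_of_flat (ι := PUnit.{1}) (fun _ => g)
    (fun v => ⟨PUnit.unit, hs v⟩)).trans ?_
  exact iSup_le fun _ => le_rfl

/-- A locally quasi-finite morphism of schemes does not increase dimension. -/
theorem topologicalKrullDim_le_of_locallyQuasiFinite {U V : Scheme.{u}} (g : U ⟶ V)
    [LocallyQuasiFinite g] : topologicalKrullDim ↥U ≤ topologicalKrullDim ↥V :=
  Groth.Agent.Lib.Helper22.topologicalKrullDim_le_of_isDiscrete_fibers g g.continuous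
    (fun y => g.isDiscrete_preimage_singleton y)

/-- An etale surjective morphism of schemes preserves dimension. -/
theorem topologicalKrullDim_eq_of_etale_surjective {U V : Scheme.{u}} (g : U ⟶ V) [Etale g]
    (hs : Function.Surjective g) : topologicalKrullDim ↥U = topologicalKrullDim ↥V :=
  have := Groth.Agent.H53.locallyQuasiFinite_of_etale g
  le_antisymm (topologicalKrullDim_le_of_locallyQuasiFinite g)
    (topologicalKrullDim_le_of_flat_surjective g hs)

end Groth.Agent.H52
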