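import Groth.Agent.H52.DimSp
import Groth.Prelude.Def_Flat
import Mathlib.AlgebraicGeometry.Properties

/-!
# Local dimension and dimension of local rings along etale morphisms
-/

set_option autoImplicit false
universe u
open CategoryTheory CategoryTheory.Limits AlgebraicGeometry Opposite

namespace Groth.Agent.H52

open AlgSp

variable {S : Scheme.{u}}

/-- A morphism of schemes with discrete fibres is strictly monotone for the specialization
preorder. -/
theorem strictMono_of_isDiscrete_fibres {W U : Scheme.{u}} (g : W ⟶ U)
    (hd : ∀ y : U, _root_.IsDiscrete (g ⁻¹' {y})) : StrictMono (g : ↥W → ↥U) := by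
  intro a b hab
  have hle : g a ≤ g b := g.continuous.specialization_monotone hab.le
  refine lt_of_le_not_ge hle fun hge => ?_
  have heq : g a = g b := (Specializes.antisymm hge hle).eq
  have hspec : b ⤳ a := hab.le
  have := (hd (g a)).eq_of_specializes hspec (by simp [heq]) (by simp)
  exact hab.not_ge (this ▸ le_rfl)

/-- Etale morphisms preserve the coheight of points in the specialization order. -/
theorem coheight_eq_of_etale {W U : Scheme.{u}} (g : W ⟶ U) [Etale g] (w : W) :
    Order.coheight (g w) = Order.coheight w := by
  apply le_antisymm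
  · refine coheight_le_coheight_of_lifting (g : ↥W → ↥U) (fun a b hab => ?_)
      g.continuous.specialization_monotone w
    obtain ⟨a', ha', hfa'⟩ := Flat.generalizingMap g hab
    exact ⟨a', ha', hfa'⟩
  · have := Groth.Agent.H53.locallyQuasiFinite_of_etale g
    exact Order.coheight_le_coheight_apply_of_strictMono _
      (strictMono_of_isDiscrete_fibres g fun y => g.isDiscrete_preimage_singleton y) w

/-- Etale morphisms preserve the dimension of local rings. -/
theorem ringKrullDim_stalk_eq_of_etale {W U : Scheme.{u}} (g : W ⟶ U) [Etale g] (w : W) :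
    ringKrullDim ↥(W.presheaf.stalk w) = ringKrullDim ↥(U.presheaf.stalk (g w)) := by
  rw [ringKrullDim_stalk_eq_coheight, ringKrullDim_stalk_eq_coheight, coheight_eq_of_etale]

/-- Two etale charts through the same point have a common etale refinement through that point. -/
theorem exists_common_refinement {X : Sp S} {U U' : Over S} (a : (yon S).obj U ⟶ X)
    (a' : (yon S).obj U' ⟶ X) (ha : RepWith @Etale a) (ha' : RepWith @Etale a') (u : ↥U.left)
    (u' : ↥U'.left) (h : Points.ofPt a u = Points.ofPt a' u') :
    ∃ (W : Over S) (k : W ⟶ U) (k' : W ⟶ U') (w : ↥W.left), Etale k.left ∧ Etale k'.left ∧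
      k.left w = u ∧ k'.left w = u' ∧ (yon S).map k ≫ a = (yon S).map k' ≫ a' := by
  have hrep := ha.rep
  have sq := hrep.isPullback a'
  obtain ⟨k, hk⟩ := (yon S).map_surjective (hrep.fst a')
  rw [Points.ofPt_eq_map_ofScheme, Points.ofPt_eq_map_ofScheme a'] at h
  obtain ⟨p, hp1, hp2⟩ := exists_point_of_isPullback sq (Points.ofScheme U u)
    (Points.ofScheme U' u') h
  obtain ⟨w, rfl⟩ := (Points.schemeEquiv _).surjective p
  refine ⟨hrep.pullback a', k, hrep.snd a', w, ?_, ha.property_snd a', ?_, ?_, ?_⟩
  · exact ha'.property a ((yon S).map (hrep.snd a')) k (by rw [hk]; exact sq.flip)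
  · apply (Points.schemeEquiv U).injective
    rw [← hk] at hp1
    exact (points_map_ofScheme k w).symm.trans hp1
  · apply (Points.schemeEquiv U').injective
    exact (points_map_ofScheme (hrep.snd a') w).symm.trans hp2
  · rw [hk]; exact sq.w

end Groth.Agent.H52
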