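import Groth.Agent.H52.Dim
import Groth.Agent.H52.ZarAff
import Groth.Prelude.Def_AlgSpDec

/-!
# Dimension of algebraic spaces computed on etale covers
-/

set_option autoImplicit false
universe u
open CategoryTheory CategoryTheory.Limits AlgebraicGeometry Opposite

namespace Groth.Agent.H52

open AlgSp

variable {S : Scheme.{u}}

/-- Base change of a morphism surjective on points to a scheme is a surjective morphism of
schemes. -/
theorem surjective_left_of_isPullback_of_surjective_points {F G : Sp S} {f : F ⟶ G}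
    {W Z : Over S} {fst : (yon S).obj W ⟶ F} {i : W ⟶ Z} {g : (yon S).obj Z ⟶ G}
    (sq : IsPullback fst ((yon S).map i) f g) (h : Function.Surjective (Points.map f)) :
    Function.Surjective i.left := by
  intro t
  obtain ⟨x, hx⟩ := h (Points.ofPt g t)
  rw [Points.ofPt_eq_map_ofScheme] at hx
  obtain ⟨p, -, hp⟩ := exists_point_of_isPullback sq x (Points.ofScheme Z t) hx
  obtain ⟨v, rfl⟩ := (Points.schemeEquiv W).surjective p
  refine ⟨v, ?_⟩
  apply (Points.schemeEquiv Z).injective
  exact (points_map_ofScheme i v).symm.trans hp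

/-- The dimension of a chart is bounded by the dimension of the space. -/
theorem topologicalKrullDim_le_dim {X : Sp S} {U : Over S} (a : (yon S).obj U ⟶ X)
    (ha : RepWith @Etale a) : topologicalKrullDim ↥U.left ≤ AlgSp.dim X :=
  le_iSup_of_le U (le_iSup_of_le a (le_iSup_of_le ha le_rfl))

/-- The dimension of a sheaf can be bounded on any jointly surjective family of etale charts. -/
theorem dim_le_of_etale_cover {X : Sp S} {ι : Type*} (W : ι → Over S)
    (c : ∀ i, (yon S).obj (W i) ⟶ X) (hc : ∀ i, RepWith @Etale (c i))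
    (hcov : ∀ x : Points X, ∃ i, x ∈ Set.range (Points.map (c i))) (D : WithBot ℕ∞)
    (hD : ∀ i, topologicalKrullDim ↥(W i).left ≤ D) : AlgSp.dim X ≤ D := by
  unfold AlgSp.dim
  refine iSup_le fun U => iSup_le fun a => iSup_le fun ha => ?_
  have hrep := ha.rep
  choose k hk using fun i => (yon S).map_surjective (hrep.fst (c i))
  have hke : ∀ i, Etale (k i).left := fun i =>
    (hc i).property a ((yon S).map (hrep.snd (c i))) (k i) (by
      rw [hk]; exact (hrep.isPullback (c i)).flip)
  have hse : ∀ i, Etale (hrep.snd (c i)).left := fun i => ha.property_snd (c i)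
  have hcov' : ∀ u : ↥U.left, ∃ i, u ∈ Set.range (k i).left := by
    intro u
    obtain ⟨i, w, hw⟩ := hcov (Points.ofPt a u)
    rw [Points.ofPt_eq_map_ofScheme] at hw
    obtain ⟨p, hp1, -⟩ := exists_point_of_isPullback (hrep.isPullback (c i))
      (Points.ofScheme U u) w hw.symm
    obtain ⟨v, rfl⟩ := (Points.schemeEquiv _).surjective p
    refine ⟨i, v, ?_⟩
    apply (Points.schemeEquiv U).injective
    rw [← hk] at hp1
    exact (points_map_ofScheme (k i) v).symm.trans hp1
  have : ∀ i, Flat (k i).left := fun i => inferInstance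
  refine (topologicalKrullDim_le_iSup_of_flat (fun i => (k i).left) hcov').trans ?_
  refine iSup_le fun i => ?_
  have := Groth.Agent.H53.locallyQuasiFinite_of_etale (hrep.snd (c i)).left
  exact (topologicalKrullDim_le_of_locallyQuasiFinite (hrep.snd (c i)).left).trans (hD i)

/-- The dimension of a scheme is the supremum of the dimensions of its affine opens. -/
theorem topologicalKrullDim_le_iSup_affineOpens (V : Scheme.{u}) :
    topologicalKrullDim ↥V ≤ ⨆ O : V.affineOpens, topologicalKrullDim ↥(O.1 : Scheme.{u}) := by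
  refine topologicalKrullDim_le_iSup_of_flat (fun O : V.affineOpens => O.1.ι) fun v => ?_
  obtain ⟨_, ⟨O, hO, rfl⟩, hvO, -⟩ :=
    V.isBasis_affineOpens.exists_subset_of_mem_open (Set.mem_univ v) isOpen_univ
  exact ⟨⟨O, hO⟩, ⟨v, hvO⟩, rfl⟩

/-- An algebraic space has a jointly surjective family of affine etale charts. -/
theorem exists_affine_etale_cover {Y : Sp S} (hY : IsAlgSpace Y) :
    ∃ (ι : Type u) (Z : ι → Over S) (c : ∀ i, (yon S).obj (Z i) ⟶ Y),
      (∀ i, IsAffine (Z i).left) ∧ (∀ i, RepWith @Etale (c i)) ∧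
      ∀ y : Points Y, ∃ i, y ∈ Set.range (Points.map (c i)) := by
  obtain ⟨V, b, hbe, hbs⟩ := hY.atlas
  refine ⟨V.left.affineOpens, fun O => overOpen V O.1,
    fun O => (yon S).map (overOpenι V O.1) ≫ b, fun O => O.2, fun O =>
      (RepWith (S := S) @Etale).comp_mem _ _ (repWith_etale_overOpenι V O.1) hbe, fun y => ?_⟩
  obtain ⟨p, rfl⟩ := surjective_points_of_repWith_surjective b hbs y
  obtain ⟨v, rfl⟩ := (Points.schemeEquiv V).surjective p
  obtain ⟨_, ⟨O, hO, rfl⟩, hvO, -⟩ :=
    V.left.isBasis_affineOpens.exists_subset_of_mem_open (Set.mem_univ v) isOpen_univ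
  refine ⟨⟨O, hO⟩, Points.ofScheme _ (⟨v, hvO⟩ : ↥O), ?_⟩
  rw [← Points.ofPt_eq_map_ofScheme, ofPt_overOpenι_comp, Points.ofPt_eq_map_ofScheme]
  rfl

end Groth.Agent.H52
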