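import Groth.Agent.H52.InfLocal
import Groth.Agent.S9436

set_option autoImplicit false
universe u
open CategoryTheory CategoryTheory.Limits AlgebraicGeometry Opposite TensorProduct

namespace Groth.Agent.H52

open AlgSp

variable {S : Scheme.{u}}

/-- Ring-level: an etale `A ⧸ I`-algebra `C₀` lifts to an etale `A`-algebra `B` together with a ring
isomorphism `C₀ ≃ B ⧸ I B` compatible with the structure maps. -/
theorem exists_etale_lift_quot {A : Type u} [CommRing A] (I : Ideal A) {C₀ : Type u} [CommRing C₀]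
    (ψ : A ⧸ I →+* C₀) (hψ : ψ.Etale) :
    ∃ (B : Type u) (_ : CommRing B) (φ : A →+* B) (σ : C₀ ≃+* B ⧸ I.map φ), φ.Etale ∧
      (σ : C₀ →+* B ⧸ I.map φ).comp ψ = quotMap I φ := by
  letI := ψ.toAlgebra
  have : Algebra.Etale (A ⧸ I) C₀ := hψ
  obtain ⟨B, _, _, hB, ⟨e⟩⟩ := Groth.Agent.S9436.result A I C₀
  let q := Algebra.TensorProduct.quotIdealMapEquivTensorQuot B I
  let cm := Algebra.TensorProduct.comm A (A ⧸ I) B
  let σ : C₀ ≃+* B ⧸ I.map (algebraMap A B) :=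
    (e.symm.toRingEquiv.trans cm.toRingEquiv).trans q.symm.toRingEquiv
  refine ⟨B, inferInstance, algebraMap A B, σ, RingHom.etale_algebraMap.2 hB, ?_⟩
  apply Ideal.Quotient.ringHom_ext
  ext a
  change q.symm (cm (e.symm (ψ (Ideal.Quotient.mk I a)))) = quotMap I (algebraMap A B) (Ideal.Quotient.mk I a)
  rw [AlgEquiv.symm_apply_eq]
  have h1 : ψ (Ideal.Quotient.mk I a) = algebraMap (A ⧸ I) C₀ (Ideal.Quotient.mk I a) := rfl
  rw [h1, AlgEquiv.commutes]
  change cm (Ideal.Quotient.mk I a ⊗ₜ[A] (1 : B)) = q (Ideal.Quotient.mk _ (algebraMap A B a))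
  rw [Algebra.TensorProduct.comm_tmul, Algebra.TensorProduct.quotIdealMapEquivTensorQuot_mk]
  have h2 : (Ideal.Quotient.mk I a : A ⧸ I) = a • (1 : A ⧸ I) := by
    rw [Algebra.smul_def, mul_one]; rfl
  rw [h2, ← TensorProduct.smul_tmul, Algebra.smul_def, mul_one]

/-- K2 (pointwise form): an etale scheme over `Spec (A ⧸ I)` is, locally around any of its points,
the restriction of an affine etale scheme over `Spec A`. -/
theorem exists_etale_lift_chart {A : Type u} [CommRing A] (I : Ideal A) (str : Spec (.of A) ⟶ S)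
    {W₀ : Over S} (p₀ : W₀ ⟶ ptQ I str) [Etale p₀.left] (w₀ : ↥W₀.left) :
    ∃ (B : Type u) (_ : CommRing B) (φ : A →+* B)
      (s : ptQ (I.map φ) (Spec.map (CommRingCat.ofHom φ) ≫ str) ⟶ W₀),
      Etale (Spec.map (CommRingCat.ofHom φ)) ∧ s ≫ p₀ = rho₀ I str φ ∧ w₀ ∈ Set.range s.left := by
  obtain ⟨C₀, _, ψ, ι₀, hι1, hι2, hι3⟩ := exists_affine_refinement
    (Spec.map (CommRingCat.ofHom (Ideal.Quotient.mk I)) ≫ str) p₀ w₀
  have hι1' : ι₀.left ≫ p₀.left = Spec.map (CommRingCat.ofHom ψ) := by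
    rw [← Over.comp_left, hι1]
    rfl
  have hψe : Etale (Spec.map (CommRingCat.ofHom ψ)) := by
    rw [← hι1']; infer_instance
  have hψ : ψ.Etale := (HasRingHomProperty.Spec_iff (P := @Etale)).1 hψe
  obtain ⟨B, _, φ, σ, hφ, hσ⟩ := exists_etale_lift_quot I ψ hψ
  have hφe : Etale (Spec.map (CommRingCat.ofHom φ)) :=
    (HasRingHomProperty.Spec_iff (P := @Etale)).2 hφ
  have hcomp : (Spec.map (CommRingCat.ofHom (σ : C₀ →+* B ⧸ I.map φ)) ≫ ι₀.left) ≫ p₀.left =
      Spec.map (CommRingCat.ofHom (quotMap I φ)) := by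
    rw [Category.assoc, hι1', ← Spec.map_comp, ← CommRingCat.ofHom_comp, hσ]
  have hw : (Spec.map (CommRingCat.ofHom (σ : C₀ →+* B ⧸ I.map φ)) ≫ ι₀.left) ≫ W₀.hom =
      (ptQ (I.map φ) (Spec.map (CommRingCat.ofHom φ) ≫ str)).hom := by
    have h1 : W₀.hom = p₀.left ≫ (ptQ I str).hom := (Over.w p₀).symm
    rw [h1, ← Category.assoc, hcomp]
    change _ ≫ _ ≫ str = _ ≫ _ ≫ str
    rw [← Category.assoc, specMap_quotMap_comp, Category.assoc]
  refine ⟨B, inferInstance, φ, Over.homMk _ hw, hφe, ?_, ?_⟩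
  · ext
    exact hcomp
  · obtain ⟨c, rfl⟩ := hι3
    have hsurj : Function.Surjective (Spec.map (CommRingCat.ofHom (σ : C₀ →+* B ⧸ I.map φ))) := by
      have : IsIso (CommRingCat.ofHom (σ : C₀ →+* B ⧸ I.map φ)) :=
        (σ.toCommRingCatIso).isIso_hom
      have : IsIso (Spec.map (CommRingCat.ofHom (σ : C₀ →+* B ⧸ I.map φ))) := inferInstance
      exact (Spec.map (CommRingCat.ofHom (σ : C₀ →+* B ⧸ I.map φ))).surjective
    obtain ⟨y, rfl⟩ := hsurj c
    exact ⟨y, rfl⟩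

end Groth.Agent.H52
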