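import Groth.Agent.H52.Points
import Groth.Agent.S5075

/-!
# Lifting along surjective closed immersions for representable etale morphisms of sheaves
-/

set_option autoImplicit false
universe u
open CategoryTheory CategoryTheory.Limits AlgebraicGeometry Opposite

namespace Groth.Agent.H52

open AlgSp

variable {S : Scheme.{u}}

/-- Unique lifting along a surjective closed immersion of schemes for a representable etale morphism
of sheaves. -/
theorem existsUnique_lift_of_repWith_etale {F G : Sp S} (a : F ⟶ G) (ha : RepWith @Etale a)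
    {T₀ T : Over S} (j : T₀ ⟶ T) [IsClosedImmersion j.left] [Surjective j.left]
    (top : (yon S).obj T₀ ⟶ F) (bot : (yon S).obj T ⟶ G) (w : top ≫ a = (yon S).map j ≫ bot) :
    ∃! l : (yon S).obj T ⟶ F, (yon S).map j ≫ l = top ∧ l ≫ a = bot := by
  have hrep := ha.rep
  have sq := hrep.isPullback bot
  have he : Etale (hrep.snd bot).left := ha.property_snd bot
  obtain ⟨s, hs⟩ := (yon S).map_surjective (sq.lift top ((yon S).map j) w)
  have hs1 : (yon S).map s ≫ hrep.fst bot = top := by rw [hs]; exact sq.lift_fst _ _ _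
  have hs2 : s ≫ hrep.snd bot = j := by
    apply (yon S).map_injective
    rw [Functor.map_comp, hs]; exact sq.lift_snd _ _ _
  have hs2' : s.left ≫ (hrep.snd bot).left = j.left ≫ 𝟙 _ := by
    rw [Category.comp_id, ← Over.comp_left, hs2]
  obtain ⟨f, ⟨hf1, hf2⟩, hfu⟩ := Groth.Agent.S5075.result (hrep.snd bot).left (𝟙 T.left) j.left
    s.left hs2'
  let fO : T ⟶ hrep.pullback bot := Over.homMk f (by
    have := Over.w (hrep.snd bot)
    rw [← this, ← Category.assoc, hf1, Category.id_comp])
  have hfO1 : fO ≫ hrep.snd bot = 𝟙 T := by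
    ext; exact hf1
  have hfO2 : j ≫ fO = s := by
    ext; exact hf2
  refine ⟨(yon S).map fO ≫ hrep.fst bot, ⟨?_, ?_⟩, ?_⟩
  · rw [← Category.assoc, ← Functor.map_comp, hfO2, hs1]
  · rw [Category.assoc, sq.w, ← Category.assoc, ← Functor.map_comp, hfO1, CategoryTheory.Functor.map_id,
      Category.id_comp]
  · rintro l' ⟨hl1, hl2⟩
    obtain ⟨m, hm⟩ := (yon S).map_surjective (sq.lift l' (𝟙 _) (by rw [hl2, Category.id_comp]))
    have hm1 : (yon S).map m ≫ hrep.fst bot = l' := by rw [hm]; exact sq.lift_fst _ _ _
    have hm2 : m ≫ hrep.snd bot = 𝟙 T := by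
      apply (yon S).map_injective
      rw [Functor.map_comp, hm, sq.lift_snd]
      exact ((yon S).map_id T).symm
    have hm3 : j ≫ m = s := by
      apply (yon S).map_injective
      apply sq.hom_ext
      · rw [Functor.map_comp, Category.assoc, hm1, hl1, hs1]
      · rw [← Functor.map_comp, Category.assoc, hm2, Category.comp_id, ← Functor.map_comp, hs2]
    have : m.left = f := hfu m.left ⟨by rw [← Over.comp_left, hm2]; rfl,
      by rw [← Over.comp_left, hm3]⟩
    have hmf : m = fO := by ext; exact this
    rw [← hm1, hmf]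

end Groth.Agent.H52
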