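import Groth.Agent.H52.FTPoints
import Groth.Agent.H52.QC

set_option autoImplicit false
universe u
open CategoryTheory CategoryTheory.Limits AlgebraicGeometry Opposite Topology
open AlgSp

namespace Groth.Agent.H52

variable {S : Scheme.{u}}

/-- A nonempty locally closed subset of a scheme contains a point which is closed in an affine
open neighbourhood. -/
theorem exists_closed_point_affineOpen_of_isLocallyClosed {U : Scheme.{u}} (T : Set ↥U)
    (hT : IsLocallyClosed T) (hne : T.Nonempty) :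
    ∃ (O : U.Opens) (_ : IsAffineOpen O) (u : ↥O), (u : ↥U) ∈ T ∧ IsClosed ({u} : Set ↥O) := by
  obtain ⟨O1, Z, hO1, hZ, rfl⟩ := hT
  obtain ⟨t, ht1, ht2⟩ := hne
  obtain ⟨O, hO, htO, hsub⟩ := exists_isAffineOpen_mem_and_subset (x := t) (U := ⟨O1, hO1⟩) ht1
  have : CompactSpace ↥O := isCompact_iff_compactSpace.mp hO.isCompact
  obtain ⟨u, hu, hcl⟩ := IsClosed.exists_closed_singleton (X := ↥O) (S := Subtype.val ⁻¹' Z)
    (hZ.preimage continuous_subtype_val) ⟨⟨t, htO⟩, ht2⟩
  exact ⟨O, hO, u, ⟨hsub u.2, hu⟩, hcl⟩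

/-- Every nonempty locally closed subset of the points of an algebraic space contains a finite
type point. -/
theorem exists_isFTPoint_of_isLocallyClosed {X : Sp S} (hX : IsAlgSpace X) (T : Set (Points X))
    (hT : IsLocallyClosed T) (hne : T.Nonempty) : ∃ x ∈ T, IsFTPoint x := by
  obtain ⟨U, a, hae, has⟩ := hX.atlas
  obtain ⟨x, hx⟩ := hne
  obtain ⟨pu, hpu⟩ := surjective_points_of_repWith_surjective a has x
  obtain ⟨u0, rfl⟩ := (Points.schemeEquiv U).surjective pu
  have hT' : IsLocallyClosed (Points.ofPt a ⁻¹' T) := hT.preimage (Points.continuous_ofPt a)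
  have hne' : (Points.ofPt a ⁻¹' T).Nonempty := by
    refine ⟨u0, ?_⟩
    rw [Set.mem_preimage, Points.ofPt_eq_map_ofScheme]
    exact hpu ▸ hx
  obtain ⟨O, hO, u, huT, hcl⟩ := exists_closed_point_affineOpen_of_isLocallyClosed _ hT' hne'
  have hb : RepWith @Etale ((yon S).map (overOpenι U O) ≫ a) :=
    (RepWith (S := S) @Etale).comp_mem _ _ (repWith_etale_overOpenι U O) hae
  have hft := isFTPoint_of_closed_chart hX _ (locP_lft_of_etale _ hb) u hcl
  rw [ofPt_yon_map_comp] at hft
  exact ⟨_, huT, hft⟩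

/-- Finite type points are dense in every closed subset. -/
theorem subset_closure_isFTPoint {X : Sp S} (hX : IsAlgSpace X) (T : Set (Points X))
    (hT : IsClosed T) : T ⊆ closure {x | x ∈ T ∧ IsFTPoint x} := by
  intro x hx
  rw [mem_closure_iff]
  intro N hN hxN
  obtain ⟨x', hx', hft⟩ := exists_isFTPoint_of_isLocallyClosed hX (N ∩ T)
    (hN.isLocallyClosed.inter hT.isLocallyClosed) ⟨x, hxN, hx⟩
  exact ⟨x', hx'.1, hx'.2, hft⟩

end Groth.Agent.H52
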