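/-
Helper library (helper52): a finite type morphism from the spectrum of a field hits a point which
is closed in an open subscheme (finite type points are locally closed points).
-/
import Groth.Agent.H52.FTPoints2
import Mathlib.RingTheory.Jacobson.Ring
import Mathlib.RingTheory.Algebraic.Integral
import Mathlib.AlgebraicGeometry.Morphisms.FiniteType

set_option autoImplicit false
universe u
open CategoryTheory CategoryTheory.Limits AlgebraicGeometry Opposite Topology

namespace Groth.Agent.H52



theorem exists_away_isField {B K : Type*} [CommRing B] [IsDomain B] [Field K] [Algebra B K]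
    [Algebra.FiniteType B K] (hinj : Function.Injective (algebraMap B K)) :
    ∃ g : B, g ≠ 0 ∧ IsField (Localization.Away g) := by
  let F := FractionRing B
  let : Algebra F K := (IsFractionRing.lift hinj).toAlgebra
  have : IsScalarTower B F K :=
    IsScalarTower.of_algebraMap_eq (fun x => (IsFractionRing.lift_algebraMap hinj x).symm)
  have : Algebra.FiniteType F K := Algebra.FiniteType.of_restrictScalars_finiteType B F K
  have : Module.Finite F K := finite_of_finite_type_of_isJacobsonRing F K
  have : Algebra.IsAlgebraic F K := Algebra.IsAlgebraic.of_finite F K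
  have : Algebra.IsAlgebraic B F := IsLocalization.isAlgebraic F (nonZeroDivisors B)
  have : Algebra.IsAlgebraic B K := Algebra.IsAlgebraic.trans B F K
  obtain ⟨s, hs⟩ := (Algebra.FiniteType.out : (⊤ : Subalgebra B K).FG)
  obtain ⟨g, hg0, hint⟩ := Algebra.IsAlgebraic.exists_integral_multiples B s
  refine ⟨g, hg0, ?_⟩
  have hgK0 : algebraMap B K g ≠ 0 := fun h => hg0 (hinj (by rw [h, map_zero]))
  have hgK : IsUnit (algebraMap B K g) := hgK0.isUnit
  let : Algebra (Localization.Away g) K := (IsLocalization.Away.lift g hgK).toAlgebra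
  have : IsScalarTower B (Localization.Away g) K :=
    IsScalarTower.of_algebraMap_eq (fun x => (IsLocalization.Away.lift_eq g hgK x).symm)
  have hint' : ∀ z ∈ s, IsIntegral (Localization.Away g) z := by
    intro z hz
    have h1 : IsIntegral (Localization.Away g) (g • z) := (hint z hz).tower_top
    have h2 : z = (IsLocalization.Away.invSelf g : Localization.Away g) • (g • z) := by
      rw [← algebraMap_smul (Localization.Away g) g z, smul_smul, mul_comm,
        IsLocalization.Away.mul_invSelf, one_smul]
    rw [h2]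
    exact h1.smul _
  have hI : Algebra.IsIntegral (Localization.Away g) K := by
    constructor
    intro x
    have hx : x ∈ Algebra.adjoin B (s : Set K) := by rw [hs]; trivial
    induction hx using Algebra.adjoin_induction with
    | mem x hx => exact hint' x hx
    | algebraMap r =>
      rw [IsScalarTower.algebraMap_apply B (Localization.Away g) K]
      exact isIntegral_algebraMap
    | add x y _ _ hx hy => exact hx.add hy
    | mul x y _ _ hx hy => exact hx.mul hy
  have hinj' : Function.Injective (algebraMap (Localization.Away g) K) := by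
    have hM : Submonoid.powers g ≤ nonZeroDivisors B :=
      Submonoid.powers_le.mpr (mem_nonZeroDivisors_of_ne_zero hg0)
    have h1 : Function.Injective (algebraMap B (Localization.Away g)) :=
      IsLocalization.injective _ hM
    rw [injective_iff_map_eq_zero]
    intro a ha
    obtain ⟨⟨b, m⟩, hbm⟩ := IsLocalization.surj (Submonoid.powers g) a
    have h3 : algebraMap B K b = 0 := by
      rw [IsScalarTower.algebraMap_apply B (Localization.Away g) K, ← hbm, map_mul, ha, zero_mul]
    have hb : b = 0 := hinj (by rw [h3, map_zero])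
    rw [hb, map_zero] at hbm
    have hu : IsUnit (algebraMap B (Localization.Away g) m) := IsLocalization.map_units _ m
    exact (hu.mul_left_eq_zero).mp hbm
  exact isField_of_isIntegral_of_isField hinj' (Field.toIsField K)

/-- In a domain `B` with a finite type injection into a field, there is `g ≠ 0` such that every
prime not containing `g` is zero. -/
theorem exists_ne_zero_forall_prime_eq_bot {B K : Type*} [CommRing B] [IsDomain B] [Field K]
    [Algebra B K] [Algebra.FiniteType B K] (hinj : Function.Injective (algebraMap B K)) :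
    ∃ g : B, g ≠ 0 ∧ ∀ Q : Ideal B, Q.IsPrime → g ∉ Q → Q = ⊥ := by
  obtain ⟨g, hg0, hF⟩ := exists_away_isField hinj
  refine ⟨g, hg0, fun Q hQ hgQ => ?_⟩
  rw [eq_bot_iff]
  intro b hb
  rw [Ideal.mem_bot]
  by_contra hb0
  have hM : Submonoid.powers g ≤ nonZeroDivisors B :=
    Submonoid.powers_le.mpr (mem_nonZeroDivisors_of_ne_zero hg0)
  have h1 : Function.Injective (algebraMap B (Localization.Away g)) :=
    IsLocalization.injective _ hM
  have hb1 : algebraMap B (Localization.Away g) b ≠ 0 := fun h => hb0 (h1 (by rw [h, map_zero]))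
  obtain ⟨c, hc⟩ := hF.mul_inv_cancel hb1
  obtain ⟨⟨b', m⟩, hbm⟩ := IsLocalization.surj (Submonoid.powers g) c
  have h2 : b * b' = (m : B) := by
    apply h1
    rw [map_mul, ← hbm, ← mul_assoc, hc, one_mul]
  obtain ⟨n, hn⟩ := m.2
  have h3 : g ^ n ∈ Q := by
    have : (m : B) ∈ Q := h2 ▸ Q.mul_mem_right b' hb
    rwa [← hn] at this
  exact hgQ (hQ.mem_of_pow_mem n h3)

/-- For a finite type ring map `φ` to a field, the kernel is a closed point of a basic open. -/
theorem exists_notMem_ker_forall_prime_eq {A K : Type*} [CommRing A] [Field K] (φ : A →+* K)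
    (hφ : φ.FiniteType) :
    ∃ g : A, g ∉ RingHom.ker φ ∧
      ∀ q : Ideal A, q.IsPrime → RingHom.ker φ ≤ q → g ∉ q → q = RingHom.ker φ := by
  have hp : (RingHom.ker φ).IsPrime := RingHom.ker_isPrime φ
  let ψ : A ⧸ RingHom.ker φ →+* K := RingHom.kerLift φ
  have hψ : Function.Injective ψ := RingHom.kerLift_injective φ
  let _ : Algebra (A ⧸ RingHom.ker φ) K := ψ.toAlgebra
  have hcomp : ψ.comp (Ideal.Quotient.mk (RingHom.ker φ)) = φ := by
    ext a; rfl
  have hft : ψ.FiniteType := by
    have : (ψ.comp (Ideal.Quotient.mk (RingHom.ker φ))).FiniteType := by rw [hcomp]; exact hφ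
    exact RingHom.FiniteType.of_comp_finiteType this
  have : Algebra.FiniteType (A ⧸ RingHom.ker φ) K := hft
  obtain ⟨g, hg0, hg⟩ := exists_ne_zero_forall_prime_eq_bot (B := A ⧸ RingHom.ker φ) (K := K) hψ
  obtain ⟨g', rfl⟩ := Ideal.Quotient.mk_surjective g
  refine ⟨g', fun h => hg0 (Ideal.Quotient.eq_zero_iff_mem.mpr h), fun q hq hpq hgq => ?_⟩
  have hker : RingHom.ker (Ideal.Quotient.mk (RingHom.ker φ)) ≤ q := by
    rw [Ideal.mk_ker]; exact hpq
  have hQ : (q.map (Ideal.Quotient.mk (RingHom.ker φ))).IsPrime :=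
    Ideal.map_isPrime_of_surjective Ideal.Quotient.mk_surjective hker
  have hcm : (q.map (Ideal.Quotient.mk (RingHom.ker φ))).comap (Ideal.Quotient.mk (RingHom.ker φ)) = q := by
    rw [Ideal.comap_map_of_surjective _ Ideal.Quotient.mk_surjective, ← RingHom.ker_eq_comap_bot]
    exact sup_eq_left.mpr hker
  have hgQ : Ideal.Quotient.mk (RingHom.ker φ) g' ∉ q.map (Ideal.Quotient.mk (RingHom.ker φ)) := by
    intro h
    apply hgq
    rw [← hcm]
    exact h
  have hbot := hg _ hQ hgQ
  apply le_antisymm _ hpq
  rw [← hcm, hbot]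
  intro a ha
  rw [Ideal.mem_comap, Ideal.mem_bot, Ideal.Quotient.eq_zero_iff_mem] at ha
  exact ha

theorem isClosed_singleton_subtype_iff {X : Type*} [TopologicalSpace X] {O : Set X} (u : O) :
    IsClosed ({u} : Set O) ↔ ∀ x ∈ O, x ∈ closure ({(u : X)} : Set X) → x = u := by
  rw [← closure_subset_iff_isClosed, Topology.IsInducing.subtypeVal.closure_eq_preimage_closure_image]
  simp only [Set.image_singleton]
  constructor
  · intro h x hx hxc
    have := h (show (⟨x, hx⟩ : O) ∈ Subtype.val ⁻¹' closure {(u : X)} from hxc)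
    exact congrArg Subtype.val this
  · intro h x hx
    exact Subtype.ext (h x.1 x.2 hx)

/-- The image point of a locally finite type morphism from the spectrum of a field is a closed
point of some open subscheme. -/
theorem exists_openImmersion_closed_point {V : Scheme.{u}} {K : Type u} [Field K]
    (j : Spec (CommRingCat.of K) ⟶ V) [LocallyOfFiniteType j] :
    ∃ (U : Scheme.{u}) (e : U ⟶ V) (_ : IsOpenImmersion e) (u : ↥U),
      e u = j (IsLocalRing.closedPoint K) ∧ IsClosed ({u} : Set ↥U) := by
  obtain ⟨V0, hV0, hv, -⟩ := exists_isAffineOpen_mem_and_subset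
    (x := j (IsLocalRing.closedPoint K)) (U := ⊤) trivial
  have hsub : Set.range j ⊆ Set.range hV0.fromSpec := by
    rw [hV0.range_fromSpec]
    rintro _ ⟨t, rfl⟩
    rw [Subsingleton.elim t (IsLocalRing.closedPoint K)]
    exact hv
  let j0 := IsOpenImmersion.lift hV0.fromSpec j hsub
  have hj0 : j0 ≫ hV0.fromSpec = j := IsOpenImmersion.lift_fac _ _ _
  have : LocallyOfFiniteType (j0 ≫ hV0.fromSpec) := by rw [hj0]; infer_instance
  have hlft : LocallyOfFiniteType j0 := locallyOfFiniteType_of_comp j0 hV0.fromSpec
  obtain ⟨φ, hφ⟩ := Spec.map_surjective j0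
  have hft : φ.hom.FiniteType := by
    rw [← hφ] at hlft
    exact (HasRingHomProperty.Spec_iff (P := @LocallyOfFiniteType)).1 hlft
  obtain ⟨g, hgp, hg⟩ := exists_notMem_ker_forall_prime_eq φ.hom hft
  let O : (Spec Γ(V, V0)).Opens := PrimeSpectrum.basicOpen g
  have hpt : (j0 (IsLocalRing.closedPoint K) : PrimeSpectrum Γ(V, V0)).asIdeal =
      RingHom.ker φ.hom := by
    rw [← hφ, Spec.map_apply]
    ext a
    simp only [PrimeSpectrum.comap_asIdeal, Ideal.mem_comap, RingHom.mem_ker]
    change φ.hom a ∈ IsLocalRing.maximalIdeal K ↔ _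
    rw [IsLocalRing.mem_maximalIdeal, mem_nonunits_iff, isUnit_iff_ne_zero, not_not]
  have hmem : j0 (IsLocalRing.closedPoint K) ∈ O := by
    change g ∉ (j0 (IsLocalRing.closedPoint K) : PrimeSpectrum Γ(V, V0)).asIdeal
    rw [hpt]
    exact hgp
  refine ⟨O.toScheme, O.ι ≫ hV0.fromSpec, inferInstance, ⟨j0 (IsLocalRing.closedPoint K), hmem⟩,
    ?_, ?_⟩
  · rw [← hj0]
    simp
  · change IsClosed ({(⟨j0 (IsLocalRing.closedPoint K), hmem⟩ :
      ((PrimeSpectrum.basicOpen g : TopologicalSpace.Opens (PrimeSpectrum Γ(V, V0))) :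
        Set (PrimeSpectrum Γ(V, V0))))} :
      Set ((PrimeSpectrum.basicOpen g : TopologicalSpace.Opens (PrimeSpectrum Γ(V, V0))) :
        Set (PrimeSpectrum Γ(V, V0))))
    rw [isClosed_singleton_subtype_iff]
    intro x hxO hxc
    rw [← PrimeSpectrum.le_iff_mem_closure, ← PrimeSpectrum.asIdeal_le_asIdeal, hpt] at hxc
    apply PrimeSpectrum.ext
    rw [hpt]
    exact hg x.asIdeal x.isPrime hxc hxO

end Groth.Agent.H52
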