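import Groth.Agent.H52.FTAlgebra
import Groth.Agent.H53.SourceLocal

set_option autoImplicit false
universe u
open CategoryTheory CategoryTheory.Limits AlgebraicGeometry Opposite Topology
open AlgSp

namespace Groth.Agent.H52

variable {S : Scheme.{u}}

/-- A scheme etale over a field is discrete. -/
theorem discreteTopology_of_etale_field {W : Scheme.{u}} {k : Type u} [Field k]
    (α : W ⟶ Spec (CommRingCat.of k)) [Etale α] : DiscreteTopology ↥W := by
  have : LocallyQuasiFinite α := Groth.Agent.H53.locallyQuasiFinite_of_formallyUnramified α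
  have h := α.isDiscrete_preimage_singleton (IsLocalRing.closedPoint k)
  exact isDiscrete_univ_iff.mp (h.mono fun w _ => Subsingleton.elim (α := ↥(Spec (CommRingCat.of k))) _ _)

/-- A finite type point is the image of a closed point of an etale chart. -/
theorem exists_closed_chart_of_isFTPoint {X : Sp S} (hX : IsAlgSpace X) (x : Points X)
    (hx : IsFTPoint x) :
    ∃ (U : Over S) (φ : (yon S).obj U ⟶ X) (u : ↥U.left), RepWith @Etale φ ∧
      IsClosed ({u} : Set ↥U.left) ∧ Points.ofPt φ u = x := by
  obtain ⟨k, _, str, ξ, hξ, rfl⟩ := hx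
  obtain ⟨U0, V, a0, b, h, u, ha0, hb, comm, hu, hh⟩ :=
    isEtLocal_lft.exists_chart_of_locP (IsAlgSpace.yon_obj _) hX ξ hξ
      (Points.ofScheme (Over.mk str) (IsLocalRing.closedPoint k))
  obtain ⟨α, rfl⟩ := (yon S).map_surjective a0
  have hα : Etale α.left := (repWith_yon_map_iff _ _).1 ha0
  have : DiscreteTopology ↥U0.left := discreteTopology_of_etale_field (k := k) α.left
  have hucl : IsClosed ({u} : Set ↥U0.left) := isClosed_discrete _
  have := isClosed_singleton_iff_isClosedImmersion.mp hucl
  have hh' : LocallyOfFiniteType h.left := hh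
  have hj : LocallyOfFiniteType (U0.left.fromSpecResidueField u ≫ h.left) := inferInstance
  obtain ⟨U, e, he, u', hu', hcl⟩ :=
    exists_openImmersion_closed_point (K := ↥(U0.left.residueField u))
      (U0.left.fromSpecResidueField u ≫ h.left)
  have hee : Etale e := inferInstance
  refine ⟨Over.mk (e ≫ V.hom), (yon S).map (Over.homMk e rfl : Over.mk (e ≫ V.hom) ⟶ V) ≫ b, u',
    (RepWith (S := S) @Etale).comp_mem _ _ ((repWith_yon_map_iff _ _).2 hee) hb, hcl, ?_⟩
  rw [ofPt_yon_map_comp]
  change Points.ofPt b (e u') = _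
  rw [hu', Scheme.Hom.comp_apply, Scheme.fromSpecResidueField_apply, ← ofPt_yon_map_comp, ← comm,
    ofPt_yon_map_comp]
  congr 1
  exact (inferInstance : Subsingleton ↥(Spec (CommRingCat.of k))).elim _ _

end Groth.Agent.H52
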