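import Groth.Agent.H53.Residual
import Groth.Agent.H52.FTPoints2
import Groth.Agent.H52.FTPoints3

/-!
# Finite type points and monomorphisms from field quotients (towards S9980)
-/

set_option autoImplicit false
universe u
open CategoryTheory CategoryTheory.Limits AlgebraicGeometry Opposite Topology
open AlgSp

namespace Groth.Agent.H52

variable {S : Scheme.{u}}

/-- Variant of helper53's `residualSpace_of_kernelPair` which exports the etale surjective chart
`Spec K ⟶ Z` of the image `Z` of a field point whose kernel pair is etale over the field. -/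
theorem residualSpace_etale_of_kernelPair {X : Sp S} (hX : IsAlgSpace X) (q : FieldPt X)
    {W : Over S} (s t : W ⟶ q.pt)
    (sqK : IsPullback ((yon S).map s) ((yon S).map t) q.toHom q.toHom) (hs : Etale s.left) :
    ∃ (Z : Sp S) (ι : Z ⟶ X) (p : (yon S).obj q.pt ⟶ Z), IsAlgSpace Z ∧ Mono ι ∧
      RepWith @Etale p ∧ RepWith @Surjective p ∧ p ≫ ι = q.toHom := by
  have hπι : Sheaf.toImage q.toHom ≫ Sheaf.imageι q.toHom = q.toHom := Sheaf.toImage_ι _
  have hrep : Representable (Sheaf.toImage q.toHom) := fun T g => by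
    obtain ⟨V, snd, fst, sq⟩ := hX.representable_from_yon q.toHom (g ≫ Sheaf.imageι q.toHom)
    exact ⟨V, snd, fst, Groth.Agent.H53.isPullback_of_comp_mono (Sheaf.imageι q.toHom)
      (by rwa [hπι])⟩
  have sqπ : IsPullback ((yon S).map s) ((yon S).map t) (Sheaf.toImage q.toHom)
      (Sheaf.toImage q.toHom) :=
    Groth.Agent.H53.isPullback_of_comp_mono (Sheaf.imageι q.toHom) (by rw [hπι]; exact sqK)
  have het : RepWith @Etale (Sheaf.toImage q.toHom) :=
    Groth.Agent.H53.Residual.repWith_etale_of_epi_of_kernelPair _ hrep s t sqπ hs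
  have hsurj : RepWith @Surjective (Sheaf.toImage q.toHom) :=
    Groth.Agent.H52.repWith_surjective_of_epi _ hrep
  have hZ : IsAlgSpace (Sheaf.image q.toHom) :=
    ⟨Groth.Agent.H52.representable_diag_of_mono (Sheaf.imageι q.toHom) hX.diag, q.pt,
      Sheaf.toImage q.toHom, het, hsurj⟩
  exact ⟨_, Sheaf.imageι q.toHom, Sheaf.toImage q.toHom, hZ, inferInstance, het, hsurj, hπι⟩

/-- A finite type point is the image of a monomorphism locally of finite type from an algebraic
space with an etale surjective chart by the spectrum of a field. -/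
theorem exists_mono_of_isFTPoint {X : Sp S} (hX : IsAlgSpace X) (x : Points X)
    (hx : IsFTPoint x) :
    ∃ (Z : Sp S) (_ : IsAlgSpace Z) (f : Z ⟶ X) (k : Type u) (_ : Field k)
      (str : Spec (CommRingCat.of k) ⟶ S) (z : (yon S).obj (Over.mk str) ⟶ Z),
      RepWith @Etale z ∧ RepWith @Surjective z ∧ LocP @LocallyOfFiniteType f ∧ Mono f ∧
        Points.ofPt (z ≫ f) (IsLocalRing.closedPoint k) = x := by
  obtain ⟨U, φ, u, hφ, hcl, rfl⟩ := exists_closed_chart_of_isFTPoint hX x hx
  obtain ⟨W, s, t, sqK, hs⟩ := Groth.Agent.H53.FieldQuot.exists_kernelPair_ofPt φ hφ u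
  obtain ⟨Z, ι, p, hZ, hmono, hpe, hps, hpι⟩ :=
    residualSpace_etale_of_kernelPair hX (FieldPt.ofPt φ u) s t sqK hs
  refine ⟨Z, hZ, ι, (FieldPt.ofPt φ u).K, inferInstance, (FieldPt.ofPt φ u).str, p, hpe, hps, ?_,
    hmono, ?_⟩
  · apply isEtLocal_lft.locP_of_source_cover hX ι _ p hpe hps
    rw [hpι, FieldPt.toHom_ofPt]
    have := isClosed_singleton_iff_isClosedImmersion.mp hcl
    exact isEtLocal_lft.locP_comp (IsAlgSpace.yon_obj _) (IsAlgSpace.yon_obj _) hX _ _
      (locP_lft_yon_map _ (by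
        change LocallyOfFiniteType (U.left.fromSpecResidueField u)
        infer_instance)) (locP_lft_of_etale φ hφ)
  · rw [hpι, Points.ofPt_toHom]
    rfl

theorem isFTPoint_of_mono {X : Sp S} (hX : IsAlgSpace X) (x : Points X)
    (h : ∃ (Z : Sp S) (_ : IsAlgSpace Z) (f : Z ⟶ X) (k : Type u) (_ : Field k)
      (str : Spec (CommRingCat.of k) ⟶ S) (z : (yon S).obj (Over.mk str) ⟶ Z),
      RepWith @Etale z ∧ RepWith @Surjective z ∧ LocP @LocallyOfFiniteType f ∧ Mono f ∧
        Points.ofPt (z ≫ f) (IsLocalRing.closedPoint k) = x) : IsFTPoint x := by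
  obtain ⟨Z, hZ, f, k, _, str, z, hze, -, hf, -, rfl⟩ := h
  exact ⟨k, _, str, z ≫ f, isEtLocal_lft.locP_comp (IsAlgSpace.yon_obj _) hZ hX _ _
    (locP_lft_of_etale z hze) hf, rfl⟩

/-- A finite type point is the image of a one-point algebraic space locally of finite type. -/
theorem exists_onePoint_of_isFTPoint {X : Sp S} (x : Points X) (hx : IsFTPoint x) :
    ∃ (Z : Sp S) (_ : IsAlgSpace Z) (f : Z ⟶ X), Nonempty (Unique (Points Z)) ∧
      LocP @LocallyOfFiniteType f ∧ Set.range (Points.map f) = {x} := by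
  obtain ⟨k, _, str, ξ, hξ, rfl⟩ := hx
  have hU : Unique ↥(Over.mk str).left := by
    change Unique (PrimeSpectrum k)
    infer_instance
  have hU' : Unique (Points ((yon S).obj (Over.mk str))) :=
    (Points.schemeEquiv (Over.mk str)).symm.unique
  refine ⟨_, IsAlgSpace.yon_obj _, ξ, ⟨hU'⟩, hξ, ?_⟩
  ext y
  simp only [Set.mem_range, Set.mem_singleton_iff]
  have key : ∀ w : Points ((yon S).obj (Over.mk str)),
      Points.map ξ w = Points.ofPt ξ (IsLocalRing.closedPoint k) := by
    intro w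
    rw [Points.ofPt_eq_map_ofScheme]
    congr 1
    exact Subsingleton.elim _ _
  constructor
  · rintro ⟨w, rfl⟩
    exact key w
  · rintro rfl
    exact ⟨default, key _⟩

theorem isFTPoint_of_onePoint {X : Sp S} (hX : IsAlgSpace X) (x : Points X)
    (h : ∃ (Z : Sp S) (_ : IsAlgSpace Z) (f : Z ⟶ X), Nonempty (Unique (Points Z)) ∧
      LocP @LocallyOfFiniteType f ∧ Set.range (Points.map f) = {x}) : IsFTPoint x := by
  obtain ⟨Z, hZ, f, ⟨hu⟩, hf, hr⟩ := h
  obtain ⟨z, -, k, _, str, ξ, hξ, hz⟩ := exists_isFTPoint_of_isLocallyClosed hZ Set.univ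
    isOpen_univ.isLocallyClosed ⟨hu.default, trivial⟩
  have hx : Points.map f z = x := by
    have : Points.map f z ∈ Set.range (Points.map f) := ⟨z, rfl⟩
    rw [hr] at this
    exact this
  refine ⟨k, _, str, ξ ≫ f, isEtLocal_lft.locP_comp (IsAlgSpace.yon_obj _) hZ hX _ _ hξ hf, ?_⟩
  rw [← Points.map_ofPt, hz, hx]

end Groth.Agent.H52
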