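/-
Helper library (helper52): surjectivity and geometric points for morphisms locally of finite type.
-/
import Groth.Agent.H52.LocNoeth

set_option autoImplicit false
universe u
open CategoryTheory CategoryTheory.Limits AlgebraicGeometry Opposite MorphismProperty
open AlgSp

namespace Groth.Agent.H52

variable {S : Scheme.{u}}

/-- A nonempty scheme locally of finite type over an algebraically closed field has a rational
point. -/
theorem exists_section_of_lft_algClosed {W : Scheme.{u}} {K : Type u} [Field K] [IsAlgClosed K]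
    (g : W ⟶ Spec (CommRingCat.of K)) [LocallyOfFiniteType g] [Nonempty ↥W] :
    ∃ s : Spec (CommRingCat.of K) ⟶ W, s ≫ g = 𝟙 _ := by
  have : JacobsonSpace ↥W := LocallyOfFiniteType.jacobsonSpace g
  obtain ⟨x, -, hx⟩ := nonempty_inter_closedPoints (X := ↥W) Set.univ_nonempty
    isOpen_univ.isLocallyClosed
  exact ⟨pointOfClosedPoint g x hx, pointOfClosedPoint_comp g x hx⟩

/-- Geometric points lift along a surjective morphism locally of finite type. -/
theorem exists_lift_of_isSurjectiveMor_of_locP_lft {X Y : Sp S} (hX : IsAlgSpace X)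
    (hY : IsAlgSpace Y) (f : X ⟶ Y) (hf : LocP @LocallyOfFiniteType f) (hs : IsSurjectiveMor f)
    (k : Type u) [Field k] [IsAlgClosed k] (str : Spec (CommRingCat.of k) ⟶ S)
    (y : (yon S).obj (Over.mk str) ⟶ Y) :
    ∃ x : (yon S).obj (Over.mk str) ⟶ X, x ≫ f = y := by
  have sq := IsPullback.of_hasPullback f y
  have hP : IsAlgSpace (pullback f y) :=
    isAlgSpace_of_isPullback sq hX hY (IsAlgSpace.yon_obj _)
  -- a point of the fibre
  obtain ⟨x0, hx0⟩ := hs (Points.map y (tautPt str))
  obtain ⟨p, -, -⟩ := exists_point_of_isPullback sq x0 (tautPt str) hx0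
  obtain ⟨W, c, hce, hcs⟩ := hP.atlas
  obtain ⟨pw, -⟩ := surjective_points_of_repWith_surjective c hcs p
  have hne : Nonempty ↥W.left := ⟨Points.toScheme W pw⟩
  -- the chart is locally of finite type over the field
  have hsnd : LocP @LocallyOfFiniteType (pullback.snd f y) :=
    isEtLocal_lft.locP_of_isPullback hX hY (IsAlgSpace.yon_obj _) sq hf
  obtain ⟨h, hh⟩ := (yon S).map_surjective (c ≫ pullback.snd f y)
  have hlft : LocallyOfFiniteType h.left :=
    hsnd c (𝟙 _) h hce (repWith_id _ _) (by rw [hh, Category.comp_id])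
  obtain ⟨s, hs'⟩ := exists_section_of_lft_algClosed (K := k) h.left
  let s' : Over.mk str ⟶ W := Over.homMk s (by
    have := Over.w h
    rw [← this, ← Category.assoc, hs']
    exact Category.id_comp _)
  have hs'' : s' ≫ h = 𝟙 _ := by
    ext
    exact hs'
  refine ⟨(yon S).map s' ≫ c ≫ pullback.fst f y, ?_⟩
  rw [Category.assoc, Category.assoc, pullback.condition, ← Category.assoc c, ← hh,
    ← Category.assoc, ← Functor.map_comp, hs'', CategoryTheory.Functor.map_id, Category.id_comp]

/-- A morphism through which all geometric points lift is surjective. -/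
theorem isSurjectiveMor_of_lift {X Y : Sp S} (f : X ⟶ Y)
    (H : ∀ (k : Type u) [Field k] [IsAlgClosed k] (str : Spec (CommRingCat.of k) ⟶ S)
        (y : (yon S).obj (Over.mk str) ⟶ Y),
        ∃ x : (yon S).obj (Over.mk str) ⟶ X, x ≫ f = y) : IsSurjectiveMor f := by
  intro y
  induction y using Points.ind with | h q =>
  let k := AlgebraicClosure q.K
  let str' : Spec (CommRingCat.of k) ⟶ S :=
    Spec.map (CommRingCat.ofHom (algebraMap q.K k)) ≫ q.str
  let e : Over.mk str' ⟶ q.pt := Over.homMk (Spec.map (CommRingCat.ofHom (algebraMap q.K k))) rfl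
  obtain ⟨x, hx⟩ := H k str' ((yon S).map e ≫ fieldPtToHom q)
  refine ⟨Points.mk (fieldPtOfHom str' x), ?_⟩
  rw [points_map_mk_ofHom, hx]
  have := points_mk_comp (F := Y) q.str str' e (fieldPtToHom q)
  rw [fieldPtOfHom_toHom] at this
  exact this

end Groth.Agent.H52
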