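import Groth.Agent.H52.LocPCalc6
import Groth.Agent.H52.LocPInst
import Groth.Agent.H52.GeomPoints
import Groth.Agent.H52.QC2
import Mathlib.AlgebraicGeometry.Morphisms.Finite

set_option autoImplicit false
universe u
open CategoryTheory CategoryTheory.Limits AlgebraicGeometry Opposite Topology
open AlgSp

namespace Groth.Agent.H52

variable {S : Scheme.{u}}

/-- A finite type point of a sheaf: represented by a morphism from the spectrum of a field which
is locally of finite type. -/
def IsFTPoint {X : Sp S} (x : Points X) : Prop :=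
  ∃ (k : Type u) (_ : Field k) (str : Spec (CommRingCat.of k) ⟶ S)
    (ξ : (yon S).obj (Over.mk str) ⟶ X),
    LocP @LocallyOfFiniteType ξ ∧ Points.ofPt ξ (IsLocalRing.closedPoint k) = x

theorem locP_lft_yon_map {T T' : Over S} (φ : T ⟶ T') (h : LocallyOfFiniteType φ.left) :
    LocP @LocallyOfFiniteType ((yon S).map φ) :=
  isEtLocal_lft.locP_of_repWith' _ ((repWith_yon_map_iff _ _).2 h)

/-- A point `u` of a scheme `U` with `Spec κ(u) ⟶ U` locally of finite type gives a finite type
point of `X` through any `h_U ⟶ X` locally of finite type. -/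
theorem isFTPoint_of_chart {X : Sp S} (hX : IsAlgSpace X) {U : Over S} (φ : (yon S).obj U ⟶ X)
    (hφ : LocP @LocallyOfFiniteType φ) (u : ↥U.left)
    (hu : LocallyOfFiniteType (U.left.fromSpecResidueField u)) :
    IsFTPoint (Points.ofPt φ u) := by
  let i : Over.mk (U.left.fromSpecResidueField u ≫ U.hom) ⟶ U :=
    Over.homMk (U.left.fromSpecResidueField u) rfl
  refine ⟨↥(U.left.residueField u), inferInstance, U.left.fromSpecResidueField u ≫ U.hom,
    (yon S).map i ≫ φ, ?_, ?_⟩
  · exact isEtLocal_lft.locP_comp (IsAlgSpace.yon_obj _) (IsAlgSpace.yon_obj _) hX _ _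
      (locP_lft_yon_map i hu) hφ
  · rw [ofPt_yon_map_comp]
    congr 1
    exact Scheme.fromSpecResidueField_apply _ _

/-- A closed point of a chart gives a finite type point. -/
theorem isFTPoint_of_closed_chart {X : Sp S} (hX : IsAlgSpace X) {U : Over S}
    (φ : (yon S).obj U ⟶ X) (hφ : LocP @LocallyOfFiniteType φ) (u : ↥U.left)
    (hu : IsClosed ({u} : Set ↥U.left)) : IsFTPoint (Points.ofPt φ u) := by
  have := isClosed_singleton_iff_isClosedImmersion.mp hu
  exact isFTPoint_of_chart hX φ hφ u inferInstance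

theorem locP_lft_of_etale {F G : Sp S} (f : F ⟶ G) (hf : RepWith @Etale f) :
    LocP @LocallyOfFiniteType f :=
  isEtLocal_lft.locP_of_repWith' f ⟨hf.rep, fun _ _ g fst snd sq => by
    have : Etale snd.left := hf.2 g fst snd sq
    change LocallyOfFiniteType snd.left
    infer_instance⟩

/-- Under a surjective morphism locally of finite type, finite type points lift. -/
theorem exists_isFTPoint_of_lft_surjective {X Y : Sp S} (hX : IsAlgSpace X) (hY : IsAlgSpace Y)
    (f : X ⟶ Y) (hf : LocP @LocallyOfFiniteType f) (hs : IsSurjectiveMor f) (y : Points Y)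
    (hy : IsFTPoint y) : ∃ x : Points X, Points.map f x = y ∧ IsFTPoint x := by
  obtain ⟨k, _, str, ξ, hξ, rfl⟩ := hy
  have hk : IsAlgSpace ((yon S).obj (Over.mk str)) := IsAlgSpace.yon_obj _
  have sq := IsPullback.of_hasPullback f ξ
  have hP : IsAlgSpace (pullback f ξ) := isAlgSpace_of_isPullback sq hX hY hk
  have hsnd : LocP @LocallyOfFiniteType (pullback.snd f ξ) :=
    isEtLocal_lft.locP_of_isPullback hX hY hk sq hf
  have hfst : LocP @LocallyOfFiniteType (pullback.fst f ξ) :=
    isEtLocal_lft.locP_of_isPullback hk hY hX sq.flip hξ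
  obtain ⟨W, c, hce, hcs⟩ := hP.atlas
  obtain ⟨h, hh⟩ := (yon S).map_surjective (c ≫ pullback.snd f ξ)
  have hh1 : LocallyOfFiniteType h.left := hsnd c (𝟙 _) h hce (repWith_of_isIso _ _)
    (by rw [hh, Category.comp_id])
  have : JacobsonSpace ↥W.left := LocallyOfFiniteType.jacobsonSpace (Y := Spec (CommRingCat.of k)) h.left
  -- a point of `W`
  obtain ⟨p, -⟩ := surjective_points_of_isPullback sq hs
    (Points.ofScheme (Over.mk str) (IsLocalRing.closedPoint k))
  obtain ⟨pw, -⟩ := surjective_points_of_repWith_surjective c hcs p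
  obtain ⟨w0, -⟩ := (Points.schemeEquiv W).surjective pw
  obtain ⟨w, -, hw⟩ := nonempty_inter_closedPoints (X := ↥W.left) (Z := Set.univ) ⟨w0, trivial⟩
    isOpen_univ.isLocallyClosed
  have hcl : LocP @LocallyOfFiniteType c := locP_lft_of_etale c hce
  have hft := isFTPoint_of_closed_chart hX (c ≫ pullback.fst f ξ)
    (isEtLocal_lft.locP_comp (IsAlgSpace.yon_obj _) hP hX _ _ hcl hfst) w hw
  refine ⟨_, ?_, hft⟩
  rw [Points.map_ofPt, Category.assoc, pullback.condition, ← Category.assoc, ← hh,
    ofPt_yon_map_comp]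
  congr 1
  exact (inferInstance : Subsingleton ↥(Spec (CommRingCat.of k))).elim _ _

end Groth.Agent.H52
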