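/-
Helper library (helper52): the dimension of a fibre of a morphism of algebraic spaces over a field
point, computed through chart diagrams.
-/
import Groth.Agent.H52.BaseChangeCharts
import Groth.Agent.H52.DimSp
import Groth.Agent.H52.DimLocal2
import Groth.Agent.Lib.Helper55.FiberBaseChange
import Groth.Agent.Lib.Helper55.GroupLocalDim

set_option autoImplicit false
universe u
open CategoryTheory CategoryTheory.Limits AlgebraicGeometry Opposite

namespace Groth.Agent.H52

open AlgSp

variable {S : Scheme.{u}}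

/-- Over a one-point base the fibre through a point is the whole source. -/
theorem fibreDimAt_eq_localDim_of_subsingleton {W T : Scheme.{u}} (q : W ⟶ T) [Subsingleton ↥T]
    (w : W) : FlatMor.fibreDimAt q w = FlatMor.localDim ↥W w := by
  unfold FlatMor.fibreDimAt
  have hemb : Topology.IsOpenEmbedding (q.fiberι (q w)) := by
    refine ⟨(q.fiberι (q w)).isEmbedding, ?_⟩
    rw [Scheme.Hom.range_fiberι]
    have : q ⁻¹' {q w} = Set.univ := by
      ext z
      simp only [Set.mem_preimage, Set.mem_singleton_iff, Set.mem_univ, iff_true]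
      exact Subsingleton.elim _ _
    rw [this]
    exact isOpen_univ
  have := Groth.Agent.Lib.Helper55.localDim_eq_of_isOpenEmbedding _ hemb (q.asFiber w)
  rw [this, Scheme.Hom.fiberι_asFiber]

/-- The local fibre dimension of a morphism into a scheme etale over a one-point scheme is the local
dimension of the source. -/
theorem fibreDimAt_eq_localDim_of_etale_subsingleton {U V T : Scheme.{u}} (h : U ⟶ V) (β : V ⟶ T)
    [Etale β] [Subsingleton ↥T] (u : U) :
    FlatMor.fibreDimAt h u = FlatMor.localDim ↥U u := by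
  have := isEtaleSquareInvariant_fibreDimAt (h ≫ β) h (𝟙 U) β inferInstance inferInstance
    (by rw [Category.id_comp]) u
  rw [← fibreDimAt_eq_localDim_of_subsingleton (h ≫ β) u]
  exact this.symm

theorem localDim_le_topologicalKrullDim (T : Type*) [TopologicalSpace T] (t : T) :
    FlatMor.localDim T t ≤ topologicalKrullDim T := by
  unfold FlatMor.localDim
  refine iInf_le_of_le ⟨⊤, trivial⟩ ?_
  exact (IsHomeomorph.topologicalKrullDim_eq (f := ((↑) : ((⊤ : TopologicalSpace.Opens T) : Set T) → T))
    ⟨continuous_subtype_val, fun s hs => by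
      obtain ⟨t', ht', rfl⟩ := isOpen_induced_iff.1 hs
      simpa using ht', ⟨Subtype.val_injective, fun x => ⟨⟨x, trivial⟩, rfl⟩⟩⟩).le

end Groth.Agent.H52

namespace Groth.Agent.H52

open AlgSp

variable {S : Scheme.{u}}

/-- The local fibre dimension of `f` at a point `x`, read on any chart diagram, is the local
dimension of any etale chart of the fibre `X_k` at a point over `x`. -/
theorem fibreDimAt_eq_localDim_fibre {X Y : Sp S} (hX : IsAlgSpace X) (hY : IsAlgSpace Y)
    (f : X ⟶ Y) (hf : LocP @LocallyOfFiniteType f) (k : FieldPt Y)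
    {Xk : Sp S} {fst : Xk ⟶ X} {snd : Xk ⟶ (yon S).obj k.pt} (sq : IsPullback fst snd f k.toHom)
    (ξ : Points Xk)
    {W : Over S} (c : (yon S).obj W ⟶ Xk) (hc : RepWith @Etale c) (w : ↥W.left)
    (hw : Points.ofPt c w = ξ)
    {U V : Over S} (a : (yon S).obj U ⟶ X) (b : (yon S).obj V ⟶ Y) (h : U ⟶ V)
    (ha : RepWith @Etale a) (hb : RepWith @Etale b) (comm : a ≫ f = (yon S).map h ≫ b)
    (u : ↥U.left) (hu : Points.ofPt a u = Points.map fst ξ) :
    FlatMor.fibreDimAt h.left u = FlatMor.localDim ↥W.left w := by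
  obtain ⟨U₀, V₀, U', V', a₀, b₀, a', b', h₀, h', α, β, u', ha₀, hb₀, ha', hb', comm₀, comm',
    hα, hβ, sqS, hu'⟩ := exists_baseChange_charts hX hY (IsAlgSpace.yon_obj k.pt) sq ξ
  have hlft : LocallyOfFiniteType h₀.left := hf a₀ b₀ h₀ ha₀ hb₀ comm₀
  -- step 1: two charts of `f`
  have hpt : Points.ofPt a u = Points.ofPt a₀ (α.left u') := by
    rw [hu, ← hu', Points.map_ofPt, hα, ofPt_yon_map_comp]
  have e1 : FlatMor.fibreDimAt h.left u = FlatMor.fibreDimAt h₀.left (α.left u') :=
    isEtaleSquareInvariant_fibreDimAt.eq_of_two_charts f a b h ha hb comm a₀ b₀ h₀ ha₀ hb₀ comm₀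
      u (α.left u') hpt
  -- step 2: base change
  have e2 : FlatMor.fibreDimAt h'.left u' = FlatMor.fibreDimAt h₀.left (α.left u') :=
    Groth.Agent.Lib.Helper55.fibreDimAt_eq_of_isPullback h₀.left β.left α.left h'.left sqS u'
  -- step 3: the chart of the field point
  obtain ⟨β', hβ'⟩ := (yon S).map_surjective b'
  have hβ'e : Etale β'.left := by
    rw [← repWith_yon_map_iff (S := S) @Etale β', hβ']
    exact hb'
  have hsub : Subsingleton ↥k.pt.left :=
    inferInstanceAs (Subsingleton ↥(Spec (CommRingCat.of k.K)))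
  have e3 : FlatMor.fibreDimAt h'.left u' = FlatMor.localDim ↥U'.left u' :=
    fibreDimAt_eq_localDim_of_etale_subsingleton h'.left β'.left u'
  -- step 4: two charts of the fibre
  obtain ⟨W', p, p', w', hp, hp', hpw, hpw', -⟩ :=
    exists_common_refinement c a' hc ha' w u' (hw.trans hu'.symm)
  have e4 : FlatMor.localDim ↥W.left w = FlatMor.localDim ↥U'.left u' := by
    rw [← hpw, ← hpw', ← localDim_eq_of_etale p.left w', ← localDim_eq_of_etale p'.left w']
  rw [e1, ← e2, e3, e4]

end Groth.Agent.H52

namespace Groth.Agent.H52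

theorem topologicalKrullDim_ne_bot_of_nonempty {T : Type*} [TopologicalSpace T] [Nonempty T] :
    topologicalKrullDim T ≠ ⊥ := by
  obtain ⟨t⟩ := ‹Nonempty T›
  unfold topologicalKrullDim
  rw [Ne, Order.krullDim_eq_bot_iff, not_isEmpty_iff]
  exact ⟨⟨closure {t}, isIrreducible_singleton.closure, isClosed_closure⟩⟩

theorem topologicalKrullDim_eq_bot_of_isEmpty {T : Type*} [TopologicalSpace T] [IsEmpty T] :
    topologicalKrullDim T = ⊥ := by
  unfold topologicalKrullDim
  rw [Order.krullDim_eq_bot_iff]
  exact ⟨fun c => by obtain ⟨x, _⟩ := c.isIrreducible.nonempty; exact isEmptyElim x⟩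

end Groth.Agent.H52
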