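import Groth.Agent.H52.NhdInvariant
import Groth.Agent.H52.LqfFibreDim
import Groth.Agent.H52.LqfSource
import Groth.Agent.H52.BaseChangeCharts
import Groth.Agent.H52.LocPCalc5
import Groth.Agent.H52.FibreDimSp
import Groth.Agent.Lib.Helper55.FiberBaseChange
import Mathlib.AlgebraicGeometry.ZariskisMainTheorem

/-!
# The quasi-finite locus: fibre dimension zero, openness, base change
-/

set_option autoImplicit false
universe u
open CategoryTheory CategoryTheory.Limits AlgebraicGeometry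
open AlgSp

namespace Groth.Agent.H52

/-- For a morphism locally of finite type, local fibre dimension zero means quasi-finite at the
point. -/
theorem fibreDimAt_eq_zero_iff_quasiFiniteAt {U V : Scheme.{u}} (h : U ⟶ V)
    [LocallyOfFiniteType h] (u : U) : FlatMor.fibreDimAt h u = 0 ↔ h.QuasiFiniteAt u := by
  unfold FlatMor.fibreDimAt
  have h1 : LocallyOfFiniteType (h.fiberToSpecResidueField (h u)) :=
    MorphismProperty.pullback_snd _ _ inferInstance
  have h2 : IsLocallyNoetherian (h.fiber (h u)) :=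
    LocallyOfFiniteType.isLocallyNoetherian (h.fiberToSpecResidueField (h u))
  rw [Scheme.Hom.quasiFiniteAt_iff_isOpen_singleton_asFiber]
  exact Groth.Agent.S9798.result (h.fiber (h u)) (h.asFiber u)

theorem isOpen_setOf_fibreDimAt_eq_zero {U V : Scheme.{u}} (h : U ⟶ V) [LocallyOfFiniteType h] :
    IsOpen {u : U | FlatMor.fibreDimAt h u = 0} := by
  simp_rw [fibreDimAt_eq_zero_iff_quasiFiniteAt]
  exact h.isOpen_quasiFiniteAt

theorem fibreDimAt_ι_comp {U V : Scheme.{u}} (h : U ⟶ V) (W : U.Opens) (w : W) :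
    FlatMor.fibreDimAt (W.ι ≫ h) w = FlatMor.fibreDimAt h w.1 :=
  (isEtaleSquareInvariant_fibreDimAt h (W.ι ≫ h) W.ι (𝟙 V) inferInstance inferInstance
    (by rw [Category.comp_id]) w).symm

/-- For a morphism locally of finite type: locally quasi-finite on a neighbourhood of the point iff
the local fibre dimension vanishes there. -/
theorem exists_lqf_nhd_iff_fibreDimAt_eq_zero {U V : Scheme.{u}} (h : U ⟶ V)
    [LocallyOfFiniteType h] (u : U) :
    (∃ W : U.Opens, u ∈ W ∧
        ((@LocallyQuasiFinite : MorphismProperty Scheme.{u}) ⊓ @LocallyOfFiniteType) (W.ι ≫ h)) ↔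
      FlatMor.fibreDimAt h u = 0 := by
  constructor
  · rintro ⟨W, hu, hW⟩
    have : LocallyQuasiFinite (W.ι ≫ h) := hW.1
    rw [← fibreDimAt_ι_comp h W ⟨u, hu⟩]
    exact fibreDimAt_eq_zero_of_locallyQuasiFinite _ _
  · intro hu
    refine ⟨⟨_, isOpen_setOf_fibreDimAt_eq_zero h⟩, hu, ?_, inferInstance⟩
    refine locallyQuasiFinite_of_fibreDimAt_eq_zero _ fun w => ?_
    rw [fibreDimAt_ι_comp]
    exact w.2

/-- A nonzero, nonnegative element of `WithBot ℕ∞` is at least one. -/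
theorem one_le_of_ne_zero_of_nonneg {x : WithBot ℕ∞} (h0 : 0 ≤ x) (h1 : x ≠ 0) : 1 ≤ x := by
  induction x using WithBot.recBotCoe with
  | bot => simp at h0
  | coe n =>
    have hn : n ≠ 0 := fun h => h1 (by rw [h]; rfl)
    have : (1 : ℕ∞) ≤ n := ENat.one_le_iff_ne_zero.mpr hn
    exact_mod_cast this

theorem fibreDimAt_nonneg {U V : Scheme.{u}} (h : U ⟶ V) (u : U) : 0 ≤ FlatMor.fibreDimAt h u := by
  unfold FlatMor.fibreDimAt FlatMor.localDim
  refine le_iInf fun W => ?_
  have : Nonempty ↥(W.1 : Set ↥(h.fiber (h u))) := ⟨⟨_, W.2⟩⟩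
  have hne : topologicalKrullDim ↥(W.1 : Set ↥(h.fiber (h u))) ≠ ⊥ :=
    topologicalKrullDim_ne_bot_of_nonempty
  revert hne
  generalize topologicalKrullDim ↥(W.1 : Set ↥(h.fiber (h u))) = x
  intro hne
  induction x using WithBot.recBotCoe with
  | bot => exact absurd rfl hne
  | coe n => exact_mod_cast (zero_le (a := n))

variable {S : Scheme.{u}}

/-- The locus of points of `X` where `f` has local fibre dimension zero. -/
def lqfLocus {X Y : Sp S} (f : X ⟶ Y) : Set (Points X) :=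
  {x | HasAtMor (fun _ _ h u => FlatMor.fibreDimAt h u = 0) f x}

theorem mem_lqfLocus_iff_forall {X Y : Sp S} (hX : IsAlgSpace X) (hY : IsAlgSpace Y) (f : X ⟶ Y)
    (x : Points X) :
    x ∈ lqfLocus f ↔
      ∀ ⦃U V : Over S⦄ (a : (yon S).obj U ⟶ X) (b : (yon S).obj V ⟶ Y) (h : U ⟶ V) (u : ↥U.left),
        RepWith @Etale a → RepWith @Etale b → a ≫ f = (yon S).map h ≫ b → Points.ofPt a u = x →
          FlatMor.fibreDimAt h.left u = 0 :=
  isEtaleSquareInvariant_fibreDimAt.hasAtMor_iff_forall hX hY f x 0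

theorem isOpen_lqfLocus {X Y : Sp S} (f : X ⟶ Y) (hf : LocP @LocallyOfFiniteType f) :
    IsOpen (lqfLocus f) := by
  rw [isOpen_iff_forall_mem_open]
  rintro x ⟨U, V, a, b, h, u, ha, hb, comm, hu, hq⟩
  have hlft : LocallyOfFiniteType h.left := hf a b h ha hb comm
  refine ⟨Points.map a '' (Points.schemeEquiv U '' {w : ↥U.left | FlatMor.fibreDimAt h.left w = 0}),
    ?_, ?_, ?_⟩
  · rintro _ ⟨_, ⟨w, hw, rfl⟩, rfl⟩
    exact ⟨U, V, a, b, h, w, ha, hb, comm, (Points.ofPt_eq_map_ofScheme a w), hw⟩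
  · exact isOpenMap_points_of_etale a ha _ ((Points.schemeHomeo U).isOpenMap _
      (isOpen_setOf_fibreDimAt_eq_zero h.left))
  · exact ⟨_, ⟨u, hq, rfl⟩, by rw [← hu]; exact (Points.ofPt_eq_map_ofScheme a u).symm⟩

/-- The quasi-finite locus in the neighbourhood form. -/
theorem mem_lqfLocus_iff_hasAtMor_nhd {X Y : Sp S} (hX : IsAlgSpace X) (hY : IsAlgSpace Y)
    (f : X ⟶ Y) (hf : LocP @LocallyOfFiniteType f) (x : Points X) :
    x ∈ lqfLocus f ↔ HasAtMor (fun U _ h u => ∃ W : U.Opens, u ∈ W ∧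
      ((@LocallyQuasiFinite : MorphismProperty Scheme.{u}) ⊓ @LocallyOfFiniteType) (W.ι ≫ h)) f x := by
  constructor
  · rintro ⟨U, V, a, b, h, u, ha, hb, comm, hu, hq⟩
    have hlft : LocallyOfFiniteType h.left := hf a b h ha hb comm
    exact ⟨U, V, a, b, h, u, ha, hb, comm, hu, (exists_lqf_nhd_iff_fibreDimAt_eq_zero h.left u).2 hq⟩
  · rintro ⟨U, V, a, b, h, u, ha, hb, comm, hu, hq⟩
    have hlft : LocallyOfFiniteType h.left := hf a b h ha hb comm
    exact ⟨U, V, a, b, h, u, ha, hb, comm, hu, (exists_lqf_nhd_iff_fibreDimAt_eq_zero h.left u).1 hq⟩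

/-- The quasi-finite locus commutes with base change. -/
theorem mem_lqfLocus_baseChange_iff {X Y Y' X' : Sp S} (hX : IsAlgSpace X)
    (hY : IsAlgSpace Y) (hY' : IsAlgSpace Y') (hX' : IsAlgSpace X') {f : X ⟶ Y} {a : Y' ⟶ Y}
    {b : X' ⟶ X} {f' : X' ⟶ Y'} (sq : IsPullback b f' f a) (hf : LocP @LocallyOfFiniteType f)
    (x' : Points X') : x' ∈ lqfLocus f' ↔ Points.map b x' ∈ lqfLocus f := by
  obtain ⟨U, V, U', V', a₀, b₀, a', b', h, h', α, β, u', hae, hbe, ha'e, hb'e, c1, c2, c3, -, sqS,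
    hu'⟩ := exists_baseChange_charts hX hY hY' sq x'
  have hlft : LocallyOfFiniteType h.left := hf a₀ b₀ h hae hbe c1
  have hpt : Points.ofPt a₀ (α.left u') = Points.map b x' := by
    rw [← ofPt_yon_map_comp, ← c3, ← Points.map_ofPt, hu']
  have key := Groth.Agent.Lib.Helper55.fibreDimAt_eq_of_isPullback h.left β.left α.left h'.left sqS u'
  constructor
  · intro H
    have H' := (mem_lqfLocus_iff_forall hX' hY' f' x').1 H a' b' h' u' ha'e hb'e c2 hu'
    exact ⟨U, V, a₀, b₀, h, α.left u', hae, hbe, c1, hpt, key.symm.trans H'⟩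
  · intro H
    have H' := (mem_lqfLocus_iff_forall hX hY f (Points.map b x')).1 H a₀ b₀ h (α.left u') hae hbe
      c1 hpt
    exact ⟨U', V', a', b', h', u', ha'e, hb'e, c2, hu', key.trans H'⟩

end Groth.Agent.H52
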