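import Groth.Agent.H52.NhdInvariant
import Groth.Agent.H52.BaseChangeCharts
import Groth.Agent.H52.LocPCalc5
import Groth.Agent.Lib.Helper14.UnramBaseChange

/-!
# The unramified locus of a morphism of algebraic spaces: openness and base change
-/

set_option autoImplicit false
universe u
open CategoryTheory CategoryTheory.Limits AlgebraicGeometry
open AlgSp

namespace Groth.Agent.H52

variable {S : Scheme.{u}}

/-- Scheme level: for `f` locally of finite type, being unramified near a point commutes with base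
change. -/
theorem unramified_nhd_iff_of_isPullback {P X T T' : Scheme.{u}} {g' : P ⟶ X} {f' : P ⟶ T'}
    {f : X ⟶ T} {g : T' ⟶ T} (H : IsPullback g' f' f g) [LocallyOfFiniteType f] (x' : P) :
    (∃ W' : P.Opens, x' ∈ W' ∧ (@LocallyOfFiniteType ⊓ @FormallyUnramified) (W'.ι ≫ f')) ↔
      ∃ W : X.Opens, g' x' ∈ W ∧ (@LocallyOfFiniteType ⊓ @FormallyUnramified) (W.ι ≫ f) := by
  have hf' : LocallyOfFiniteType f' := MorphismProperty.of_isPullback H inferInstance
  have h1 : (∃ W' : P.Opens, x' ∈ W' ∧ (@LocallyOfFiniteType ⊓ @FormallyUnramified) (W'.ι ≫ f')) ↔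
      ∃ W' : P.Opens, x' ∈ W' ∧ FormallyUnramified (W'.ι ≫ f') :=
    ⟨fun ⟨W', hx, hW⟩ => ⟨W', hx, hW.2⟩, fun ⟨W', hx, hW⟩ => ⟨W', hx, inferInstance, hW⟩⟩
  have h2 : (∃ W : X.Opens, g' x' ∈ W ∧ (@LocallyOfFiniteType ⊓ @FormallyUnramified) (W.ι ≫ f)) ↔
      ∃ W : X.Opens, g' x' ∈ W ∧ FormallyUnramified (W.ι ≫ f) :=
    ⟨fun ⟨W', hx, hW⟩ => ⟨W', hx, hW.2⟩, fun ⟨W', hx, hW⟩ => ⟨W', hx, inferInstance, hW⟩⟩
  rw [h1, h2, Groth.Agent.Lib.Helper14.exists_formallyUnramified_nhd_iff_stalkMap,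
    Groth.Agent.Lib.Helper14.exists_formallyUnramified_nhd_iff_stalkMap,
    Groth.Agent.Lib.Helper14.formallyUnramified_stalkMap_iff_of_isPullback H]

theorem hasAtMor_congr {Q Q' : ∀ (U V : Scheme.{u}), (U ⟶ V) → ↥U → Prop}
    (hQ : ∀ U V h u, Q U V h u ↔ Q' U V h u) {F G : Sp S} (f : F ⟶ G) (x : Points F) :
    HasAtMor Q f x ↔ HasAtMor Q' f x := by
  constructor
  · rintro ⟨U, V, a, b, h, u, ha, hb, comm, hu, hq⟩
    exact ⟨U, V, a, b, h, u, ha, hb, comm, hu, (hQ _ _ _ _).1 hq⟩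
  · rintro ⟨U, V, a, b, h, u, ha, hb, comm, hu, hq⟩
    exact ⟨U, V, a, b, h, u, ha, hb, comm, hu, (hQ _ _ _ _).2 hq⟩

/-- The unramified locus of a morphism locally of finite type commutes with base change. -/
theorem hasAtMor_unramified_baseChange_iff {X Y Y' X' : Sp S} (hX : IsAlgSpace X)
    (hY : IsAlgSpace Y) (hY' : IsAlgSpace Y') (hX' : IsAlgSpace X') {f : X ⟶ Y} {a : Y' ⟶ Y}
    {b : X' ⟶ X} {f' : X' ⟶ Y'} (sq : IsPullback b f' f a) (hf : LocP @LocallyOfFiniteType f)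
    (x' : Points X') :
    HasAtMor (fun U _ h u => ∃ W : U.Opens, u ∈ W ∧
        (@LocallyOfFiniteType ⊓ @FormallyUnramified) (W.ι ≫ h)) f' x' ↔
      HasAtMor (fun U _ h u => ∃ W : U.Opens, u ∈ W ∧
        (@LocallyOfFiniteType ⊓ @FormallyUnramified) (W.ι ≫ h)) f (Points.map b x') := by
  obtain ⟨U, V, U', V', a₀, b₀, a', b', h, h', α, β, u', hae, hbe, ha'e, hb'e, c1, c2, c3, -, sqS,
    hu'⟩ := exists_baseChange_charts hX hY hY' sq x'
  have hlft : LocallyOfFiniteType h.left := hf a₀ b₀ h hae hbe c1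
  have hpt : Points.ofPt a₀ (α.left u') = Points.map b x' := by
    rw [← ofPt_yon_map_comp, ← c3, ← Points.map_ofPt, hu']
  have key := unramified_nhd_iff_of_isPullback sqS u'
  constructor
  · intro H
    have H' := (isEtLocal_unramified.hasAtMor_nhd_iff_forall hX' hY' f' x').1 H a' b' h' u'
      ha'e hb'e c2 hu'
    exact ⟨U, V, a₀, b₀, h, α.left u', hae, hbe, c1, hpt, key.1 H'⟩
  · intro H
    have H' := (isEtLocal_unramified.hasAtMor_nhd_iff_forall hX hY f (Points.map b x')).1 H a₀ b₀ h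
      (α.left u') hae hbe c1 hpt
    exact ⟨U', V', a', b', h', u', ha'e, hb'e, c2, hu', key.2 H'⟩

end Groth.Agent.H52
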