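import Groth.Agent.H52.FieldDiscrete
import Groth.Agent.H52.LqfLocus
import Groth.Agent.H52.UnramLocus
import Groth.Agent.H52.FibreDimSp
import Groth.Agent.Lib.Helper55.LocalDimTop

/-!
# Conditions on a point of a fibre equivalent to quasi-finiteness at the point

For `f : X ⟶ Y` locally of finite type, a field point `r` of `Y` and the fibre `X_k`: a point `x̃`
of `|X_k|` is isolated iff `f` is quasi-finite at its image in `|X|`.  When `r` is a monomorphism
and quasi-compact, `|X_k|` is homeomorphic to the topological fibre.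
-/

set_option autoImplicit false
universe u
open CategoryTheory CategoryTheory.Limits AlgebraicGeometry
open AlgSp

namespace Groth.Agent.H52

variable {S : Scheme.{u}} {X Y Xk : Sp S}

/-- The structure morphism of a fibre is locally of finite type. -/
theorem locP_lft_snd_fibre (hX : IsAlgSpace X) (hY : IsAlgSpace Y) {f : X ⟶ Y}
    (hf : LocP @LocallyOfFiniteType f) (r : FieldPt Y) {fst : Xk ⟶ X}
    {snd : Xk ⟶ (yon S).obj r.pt} (hsq : IsPullback fst snd f r.toHom) :
    LocP @LocallyOfFiniteType snd :=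
  isEtLocal_lft.locP_of_isPullback hX hY (IsAlgSpace.yon_obj _) hsq hf

/-- The dimension of the fibre at `x̃` is zero iff `f` is quasi-finite at the image of `x̃`. -/
theorem hasAt_localDim_eq_zero_iff_lqfAt (hX : IsAlgSpace X) (hY : IsAlgSpace Y)
    (hXk : IsAlgSpace Xk) (f : X ⟶ Y) (hf : LocP @LocallyOfFiniteType f) (r : FieldPt Y)
    {fst : Xk ⟶ X} {snd : Xk ⟶ (yon S).obj r.pt} (hsq : IsPullback fst snd f r.toHom)
    (xt : Points Xk) :
    HasAt (fun U u => FlatMor.localDim ↥U u = 0) Xk xt ↔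
      HasAtMor (fun U _ h u => ∃ W : U.Opens, u ∈ W ∧ LocallyQuasiFinite (W.ι ≫ h) ∧
        LocallyOfFiniteType (W.ι ≫ h)) f (Points.map fst xt) := by
  have key : HasAt (fun U u => FlatMor.localDim ↥U u = 0) Xk xt ↔
      Points.map fst xt ∈ lqfLocus f := by
    constructor
    · rintro ⟨W, c, w, hc, hw, hdim⟩
      obtain ⟨U, V, a, b, h, u, ha, hb, comm, hu⟩ :=
        exists_diagram_through_point hX hY f (Points.map fst xt)
      exact ⟨U, V, a, b, h, u, ha, hb, comm, hu,
        (fibreDimAt_eq_localDim_fibre hX hY f hf r hsq xt c hc w hw a b h ha hb comm u hu).trans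
          hdim⟩
    · rintro ⟨U, V, a, b, h, u, ha, hb, comm, hu, h0⟩
      obtain ⟨W, c, w, hc, hw⟩ := exists_chart_through_point hXk xt
      exact ⟨W, c, w, hc, hw,
        (fibreDimAt_eq_localDim_fibre hX hY f hf r hsq xt c hc w hw a b h ha hb comm u hu).symm.trans
          h0⟩
  rw [key, mem_lqfLocus_iff_hasAtMor_nhd hX hY f hf]
  exact hasAtMor_congr (fun _ _ _ _ => Iff.rfl) f _

/-- A point of the fibre is isolated iff `f` is quasi-finite at its image. -/
theorem isOpen_singleton_fibre_iff_lqfAt (hX : IsAlgSpace X) (hY : IsAlgSpace Y)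
    (hXk : IsAlgSpace Xk) (f : X ⟶ Y) (hf : LocP @LocallyOfFiniteType f) (r : FieldPt Y)
    {fst : Xk ⟶ X} {snd : Xk ⟶ (yon S).obj r.pt} (hsq : IsPullback fst snd f r.toHom)
    (xt : Points Xk) :
    IsOpen ({xt} : Set (Points Xk)) ↔
      HasAtMor (fun U _ h u => ∃ W : U.Opens, u ∈ W ∧ LocallyQuasiFinite (W.ι ≫ h) ∧
        LocallyOfFiniteType (W.ι ≫ h)) f (Points.map fst xt) :=
  (isOpen_singleton_iff_hasAt_localDim hXk snd (locP_lft_snd_fibre hX hY hf r hsq) xt).trans
    (hasAt_localDim_eq_zero_iff_lqfAt hX hY hXk f hf r hsq xt)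

/-- The image of `|X_k| ⟶ |X|` is the topological fibre. -/
theorem range_points_map_fst_fibre (f : X ⟶ Y) (r : FieldPt Y)
    {fst : Xk ⟶ X} {snd : Xk ⟶ (yon S).obj r.pt} (hsq : IsPullback fst snd f r.toHom) :
    Set.range (Points.map fst) = Points.map f ⁻¹' {Points.mk r} := by
  ext x
  simp only [Set.mem_range, Set.mem_preimage, Set.mem_singleton_iff]
  constructor
  · rintro ⟨w, rfl⟩
    rw [← Points.map_comp, hsq.w, Points.map_comp, Groth.Agent.H53.FibrePts.points_map_toHom_eq]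
  · intro hx
    have s0 : ↥r.pt.left := IsLocalRing.closedPoint r.K
    obtain ⟨w, hw1, -⟩ := exists_point_of_isPullback hsq x
      (Points.ofScheme r.pt s0) (by rw [hx, Groth.Agent.H53.FibrePts.points_map_toHom_eq])
    exact ⟨w, hw1⟩

/-- For a monomorphic quasi-compact field point the points of the fibre are homeomorphic to the
topological fibre. -/
noncomputable def fibreHomeo (hX : IsAlgSpace X) (hY : IsAlgSpace Y) (f : X ⟶ Y) (r : FieldPt Y)
    (hm : Mono r.toHom) (hq : RepWith @QuasiCompact r.toHom)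
    {fst : Xk ⟶ X} {snd : Xk ⟶ (yon S).obj r.pt} (hsq : IsPullback fst snd f r.toHom) :
    Points Xk ≃ₜ ↥(Points.map f ⁻¹' {Points.mk r}) :=
  ((Groth.Agent.H53.FibrePts.isEmbedding_fibre hX hY f r hm hq fst snd hsq).1.toHomeomorph).trans
    (Homeomorph.setCongr (Groth.Agent.H53.FibrePts.isEmbedding_fibre hX hY f r hm hq fst snd hsq).2)

theorem fibreHomeo_coe (hX : IsAlgSpace X) (hY : IsAlgSpace Y) (f : X ⟶ Y) (r : FieldPt Y)
    (hm : Mono r.toHom) (hq : RepWith @QuasiCompact r.toHom)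
    {fst : Xk ⟶ X} {snd : Xk ⟶ (yon S).obj r.pt} (hsq : IsPullback fst snd f r.toHom)
    (w : Points Xk) : ((fibreHomeo hX hY f r hm hq hsq w : ↥(Points.map f ⁻¹' {Points.mk r})) :
      Points X) = Points.map fst w := rfl

end Groth.Agent.H52

namespace Groth.Agent.H52

variable {S : Scheme.{u}} {X Y : Sp S}

/-- `Y`-decent case: a point of the topological fibre is isolated iff `f` is quasi-finite there. -/
theorem isOpen_singleton_topFibre_iff_lqfAt (hX : IsAlgSpace X) (hY : IsAlgSpace Y) (f : X ⟶ Y)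
    (hf : LocP @LocallyOfFiniteType f) (r' : FieldPt Y) (hm : Mono r'.toHom)
    (hq : RepWith @QuasiCompact r'.toHom) (y : Points Y) (hy : Points.mk r' = y) (x : Points X)
    (hx : x ∈ Points.map f ⁻¹' {y}) :
    IsOpen ({⟨x, hx⟩} : Set ↥(Points.map f ⁻¹' {y})) ↔
      HasAtMor (fun U _ h u => ∃ W : U.Opens, u ∈ W ∧ LocallyQuasiFinite (W.ι ≫ h) ∧
        LocallyOfFiniteType (W.ι ≫ h)) f x := by
  subst hy
  have hsq : IsPullback (pullback.fst f r'.toHom) (pullback.snd f r'.toHom) f r'.toHom :=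
    IsPullback.of_hasPullback _ _
  have hXk := isAlgSpace_of_isPullback hsq hX hY (IsAlgSpace.yon_obj _)
  obtain ⟨w, hw⟩ := (fibreHomeo hX hY f r' hm hq hsq).surjective ⟨x, hx⟩
  have hwx : Points.map (pullback.fst f r'.toHom) w = x := congrArg Subtype.val hw
  have h1 : IsOpen ({⟨x, hx⟩} : Set ↥(Points.map f ⁻¹' {Points.mk r'})) ↔
      IsOpen ({w} : Set (Points (pullback f r'.toHom))) := by
    rw [← hw, show ({(fibreHomeo hX hY f r' hm hq hsq) w} :
      Set ↥(Points.map f ⁻¹' {Points.mk r'})) = (fibreHomeo hX hY f r' hm hq hsq) '' {w} from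
      Set.image_singleton.symm, (fibreHomeo hX hY f r' hm hq hsq).isOpen_image]
  rw [h1, isOpen_singleton_fibre_iff_lqfAt hX hY hXk f hf r' hsq w, hwx]

/-- `Y`-decent case: a point of the topological fibre is closed without proper generizations in
the fibre iff `f` is quasi-finite there. -/
theorem isClosed_and_topFibre_iff_lqfAt (hX : IsAlgSpace X) (hY : IsAlgSpace Y) (f : X ⟶ Y)
    (hf : LocP @LocallyOfFiniteType f) (r' : FieldPt Y) (hm : Mono r'.toHom)
    (hq : RepWith @QuasiCompact r'.toHom) (y : Points Y) (hy : Points.mk r' = y) (x : Points X)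
    (hx : x ∈ Points.map f ⁻¹' {y}) :
    (IsClosed ({⟨x, hx⟩} : Set ↥(Points.map f ⁻¹' {y})) ∧
      ∀ x' : ↥(Points.map f ⁻¹' {y}), x' ⤳ (⟨x, hx⟩ : ↥(Points.map f ⁻¹' {y})) → x' = ⟨x, hx⟩) ↔
      HasAtMor (fun U _ h u => ∃ W : U.Opens, u ∈ W ∧ LocallyQuasiFinite (W.ι ≫ h) ∧
        LocallyOfFiniteType (W.ι ≫ h)) f x := by
  subst hy
  have hsq : IsPullback (pullback.fst f r'.toHom) (pullback.snd f r'.toHom) f r'.toHom :=
    IsPullback.of_hasPullback _ _
  have hXk := isAlgSpace_of_isPullback hsq hX hY (IsAlgSpace.yon_obj _)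
  obtain ⟨w, hw⟩ := (fibreHomeo hX hY f r' hm hq hsq).surjective ⟨x, hx⟩
  have hwx : Points.map (pullback.fst f r'.toHom) w = x := congrArg Subtype.val hw
  have h1 : IsClosed ({⟨x, hx⟩} : Set ↥(Points.map f ⁻¹' {Points.mk r'})) ↔
      IsClosed ({w} : Set (Points (pullback f r'.toHom))) := by
    rw [← hw, show ({(fibreHomeo hX hY f r' hm hq hsq) w} :
      Set ↥(Points.map f ⁻¹' {Points.mk r'})) = (fibreHomeo hX hY f r' hm hq hsq) '' {w} from
      Set.image_singleton.symm, (fibreHomeo hX hY f r' hm hq hsq).isClosed_image]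
  have h2 : (∀ x' : ↥(Points.map f ⁻¹' {Points.mk r'}),
      x' ⤳ (⟨x, hx⟩ : ↥(Points.map f ⁻¹' {Points.mk r'})) → x' = ⟨x, hx⟩) ↔
      ∀ w' : Points (pullback f r'.toHom), w' ⤳ w → w' = w := by
    rw [← hw]
    constructor
    · intro H w' hs
      apply (fibreHomeo hX hY f r' hm hq hsq).injective
      exact H _ (hs.map (fibreHomeo hX hY f r' hm hq hsq).continuous)
    · intro H x' hs
      obtain ⟨w', rfl⟩ := (fibreHomeo hX hY f r' hm hq hsq).surjective x'
      rw [H w' ((fibreHomeo hX hY f r' hm hq hsq).isInducing.specializes_iff.1 hs)]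
  rw [h1, h2, ← isOpen_singleton_iff_isClosed_and hXk (pullback.snd f r'.toHom)
    (locP_lft_snd_fibre hX hY hf r' hsq) w,
    isOpen_singleton_fibre_iff_lqfAt hX hY hXk f hf r' hsq w, hwx]

/-- `X` and `Y` decent: the local dimension of the topological fibre at a point is zero iff the
point is isolated in the fibre. -/
theorem localDim_topFibre_eq_zero_iff (hX : IsAlgSpace X) (hY : IsAlgSpace Y)
    [T0Space (Points X)] (f : X ⟶ Y)
    (hf : LocP @LocallyOfFiniteType f) (r' : FieldPt Y) (hm : Mono r'.toHom)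
    (hq : RepWith @QuasiCompact r'.toHom) (y : Points Y) (hy : Points.mk r' = y) (x : Points X)
    (hx : x ∈ Points.map f ⁻¹' {y}) :
    FlatMor.localDim ↥(Points.map f ⁻¹' {y}) (⟨x, hx⟩ : ↥(Points.map f ⁻¹' {y})) = 0 ↔
      IsOpen ({⟨x, hx⟩} : Set ↥(Points.map f ⁻¹' {y})) := by
  subst hy
  have hsq : IsPullback (pullback.fst f r'.toHom) (pullback.snd f r'.toHom) f r'.toHom :=
    IsPullback.of_hasPullback _ _
  have hXk := isAlgSpace_of_isPullback hsq hX hY (IsAlgSpace.yon_obj _)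
  have hT0 : T0Space (Points (pullback f r'.toHom)) :=
    (Groth.Agent.H53.FibrePts.isEmbedding_fibre hX hY f r' hm hq _ _ hsq).1.t0Space
  obtain ⟨w, hw⟩ := (fibreHomeo hX hY f r' hm hq hsq).surjective ⟨x, hx⟩
  have h1 : IsOpen ({⟨x, hx⟩} : Set ↥(Points.map f ⁻¹' {Points.mk r'})) ↔
      IsOpen ({w} : Set (Points (pullback f r'.toHom))) := by
    rw [← hw, show ({(fibreHomeo hX hY f r' hm hq hsq) w} :
      Set ↥(Points.map f ⁻¹' {Points.mk r'})) = (fibreHomeo hX hY f r' hm hq hsq) '' {w} from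
      Set.image_singleton.symm, (fibreHomeo hX hY f r' hm hq hsq).isOpen_image]
  rw [h1, ← localDim_points_eq_zero_iff hXk (pullback.snd f r'.toHom)
    (locP_lft_snd_fibre hX hY hf r' hsq) w, ← hw]
  rw [← Groth.Agent.Lib.Helper55.localDim_eq_of_isOpenEmbedding _
    (fibreHomeo hX hY f r' hm hq hsq).isOpenEmbedding w]

end Groth.Agent.H52
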