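import Groth.Agent.H52.FibreConds
import Groth.Agent.S10351

/-!
# Conditions on a whole fibre equivalent to quasi-finiteness at all its points
-/

set_option autoImplicit false
universe u
open CategoryTheory CategoryTheory.Limits AlgebraicGeometry
open AlgSp

namespace Groth.Agent.H52

variable {S : Scheme.{u}} {X Y Xk : Sp S}

/-- The fibre `|X_k|` is discrete iff `f` is quasi-finite at all points of the topological
fibre. -/
theorem discreteTopology_fibre_iff_forall_lqfAt (hX : IsAlgSpace X) (hY : IsAlgSpace Y)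
    (hXk : IsAlgSpace Xk) (f : X ⟶ Y) (hf : LocP @LocallyOfFiniteType f) (r : FieldPt Y)
    {fst : Xk ⟶ X} {snd : Xk ⟶ (yon S).obj r.pt} (hsq : IsPullback fst snd f r.toHom) :
    DiscreteTopology (Points Xk) ↔
      ∀ x : Points X, Points.map f x = Points.mk r →
        HasAtMor (fun U _ h u => ∃ W : U.Opens, u ∈ W ∧ LocallyQuasiFinite (W.ι ≫ h) ∧
          LocallyOfFiniteType (W.ι ≫ h)) f x := by
  rw [discreteTopology_iff_isOpen_singleton]
  have hrange := range_points_map_fst_fibre f r hsq
  constructor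
  · intro H x hx
    have hxm : x ∈ Set.range (Points.map fst) := by rw [hrange]; exact hx
    obtain ⟨w, rfl⟩ := hxm
    exact (isOpen_singleton_fibre_iff_lqfAt hX hY hXk f hf r hsq w).1 (H w)
  · intro H w
    refine (isOpen_singleton_fibre_iff_lqfAt hX hY hXk f hf r hsq w).2 (H _ ?_)
    exact hrange.subset ⟨w, rfl⟩

/-- `Y` decent: the topological fibre is discrete iff `f` is quasi-finite at all its points. -/
theorem discreteTopology_topFibre_iff_forall_lqfAt (hX : IsAlgSpace X) (hY : IsAlgSpace Y)
    (f : X ⟶ Y) (hf : LocP @LocallyOfFiniteType f) (r' : FieldPt Y) (hm : Mono r'.toHom)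
    (hq : RepWith @QuasiCompact r'.toHom) (y : Points Y) (hy : Points.mk r' = y) :
    DiscreteTopology ↥(Points.map f ⁻¹' {y}) ↔
      ∀ x : Points X, Points.map f x = y →
        HasAtMor (fun U _ h u => ∃ W : U.Opens, u ∈ W ∧ LocallyQuasiFinite (W.ι ≫ h) ∧
          LocallyOfFiniteType (W.ι ≫ h)) f x := by
  rw [discreteTopology_iff_isOpen_singleton]
  constructor
  · intro H x hx
    exact (isOpen_singleton_topFibre_iff_lqfAt hX hY f hf r' hm hq y hy x hx).1 (H ⟨x, hx⟩)
  · rintro H ⟨x, hx⟩
    exact (isOpen_singleton_topFibre_iff_lqfAt hX hY f hf r' hm hq y hy x hx).2 (H x hx)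

/-- `X`, `Y` decent: a topological fibre of dimension zero is discrete. -/
theorem discreteTopology_topFibre_of_topologicalKrullDim_le_zero (hX : IsAlgSpace X)
    (hY : IsAlgSpace Y) [T0Space (Points X)]
    (f : X ⟶ Y) (hf : LocP @LocallyOfFiniteType f) (r' : FieldPt Y) (hm : Mono r'.toHom)
    (hq : RepWith @QuasiCompact r'.toHom) (y : Points Y) (hy : Points.mk r' = y)
    (hdim : topologicalKrullDim ↥(Points.map f ⁻¹' {y}) ≤ 0) :
    DiscreteTopology ↥(Points.map f ⁻¹' {y}) := by
  rw [discreteTopology_iff_isOpen_singleton]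
  rintro ⟨x, hx⟩
  rw [isOpen_singleton_topFibre_iff_lqfAt hX hY f hf r' hm hq y hy x hx,
    ← isClosed_and_topFibre_iff_lqfAt hX hY f hf r' hm hq y hy x hx]
  refine ⟨Groth.Agent.Lib.Helper29.isClosed_singleton_of_topologicalKrullDim_le_zero hdim _, ?_⟩
  intro x' hs
  exact eq_of_specializes_of_topologicalKrullDim_le_zero hdim hs

/-- `X`, `Y` decent: a finite topological fibre is discrete. -/
theorem discreteTopology_topFibre_of_finite (hX : IsAlgSpace X) (hY : IsAlgSpace Y)
    (hXd : IsDecent X)
    (f : X ⟶ Y) (hf : LocP @LocallyOfFiniteType f) (r' : FieldPt Y) (hm : Mono r'.toHom)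
    (hq : RepWith @QuasiCompact r'.toHom) (y : Points Y) (hy : Points.mk r' = y)
    (hfin : (Points.map f ⁻¹' {y}).Finite) :
    DiscreteTopology ↥(Points.map f ⁻¹' {y}) := by
  subst hy
  have hsq : IsPullback (pullback.fst f r'.toHom) (pullback.snd f r'.toHom) f r'.toHom :=
    IsPullback.of_hasPullback _ _
  have hXk := isAlgSpace_of_isPullback hsq hX hY (IsAlgSpace.yon_obj _)
  have hrep : Representable (pullback.fst f r'.toHom) :=
    (MorphismProperty.of_isPullback hsq.flip hq).1
  have hXkd : IsDecent (pullback f r'.toHom) :=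
    Groth.Agent.S10351.result (X := ⟨pullback f r'.toHom, hXk⟩) (Y := ⟨X, hX⟩)
      (ObjectProperty.homMk (pullback.fst f r'.toHom)) hrep hXd
  have hF : Finite ↥(Points.map f ⁻¹' {Points.mk r'}) := hfin
  have hfin' : Finite (Points (pullback f r'.toHom)) :=
    Finite.of_equiv _ (fibreHomeo hX hY f r' hm hq hsq).toEquiv.symm
  have hdisc : DiscreteTopology (Points (pullback f r'.toHom)) :=
    discreteTopology_points_of_finite_of_isDecent hXk hXkd (pullback.snd f r'.toHom)
      (locP_lft_snd_fibre hX hY hf r' hsq)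
  exact (fibreHomeo hX hY f r' hm hq hsq).symm.isEmbedding.discreteTopology

end Groth.Agent.H52
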