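import Groth.Agent.H52.JacobsonTrdeg
import Mathlib.AlgebraicGeometry.Morphisms.Integral
import Mathlib.AlgebraicGeometry.Morphisms.Proper
import Groth.Prelude.Def_Dual3

/-!
# Points of a scheme over a field whose residue field is algebraic over the base field are closed
-/

set_option autoImplicit false
universe u
open CategoryTheory CategoryTheory.Limits AlgebraicGeometry Opposite

namespace Groth.Agent.H52

/-- A point of a scheme over a field whose residue field is algebraic over the base field is
closed. -/
theorem isClosed_singleton_of_resTrdeg_eq_zero {W : Scheme.{u}} {K : Type u} [Field K]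
    (h : W ⟶ Spec (CommRingCat.of K)) (w : W) (hw : Dual3.resTrdeg h w = 0) :
    IsClosed ({w} : Set W) := by
  refine isClosed_of_closure_subset fun w₁ hw₁ => ?_
  have hs : w ⤳ w₁ := specializes_iff_mem_closure.2 hw₁
  obtain ⟨O, hO, hw₁O, -⟩ := exists_isAffineOpen_mem_and_subset (x := w₁) (U := ⊤) trivial
  have hwO : w ∈ O := hs.mem_open O.2 hw₁O
  have hrange : Set.range (W.fromSpecResidueField w) ⊆ Set.range O.ι := by
    rw [Scheme.range_fromSpecResidueField, Scheme.Opens.range_ι]
    simpa using hwO
  let g₀ := IsOpenImmersion.lift O.ι (W.fromSpecResidueField w) hrange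
  have hg₀ : g₀ ≫ O.ι = W.fromSpecResidueField w := IsOpenImmersion.lift_fac _ _ _
  -- integrality of `Spec κ(w) ⟶ Spec K`
  letI alg : Algebra ↑((Spec (CommRingCat.of K)).residueField (h w)) ↑(W.residueField w) :=
    (h.residueFieldMap w).hom.toAlgebra
  have halg : Algebra.IsAlgebraic (↑((Spec (CommRingCat.of K)).residueField (h w)))
      ↑(W.residueField w) := _root_.trdeg_eq_zero_iff.mp hw
  have hint1 : IsIntegralHom (Spec.map (h.residueFieldMap w)) := by
    rw [IsIntegralHom.SpecMap_iff]
    have : Algebra.IsIntegral (↑((Spec (CommRingCat.of K)).residueField (h w)))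
        ↑(W.residueField w) := Algebra.IsAlgebraic.isIntegral
    exact algebraMap_isIntegral_iff.mpr this
  have hcl : IsClosed ({h w} : Set ↥(Spec (CommRingCat.of K))) := by
    have : ({h w} : Set ↥(Spec (CommRingCat.of K))) = Set.univ :=
      Set.eq_univ_of_forall fun y => Subsingleton.elim (α := PrimeSpectrum K) _ _
    rw [this]; exact isClosed_univ
  have hci : IsClosedImmersion ((Spec (CommRingCat.of K)).fromSpecResidueField (h w)) :=
    isClosed_singleton_iff_isClosedImmersion.mp hcl
  have hint : IsIntegralHom (W.fromSpecResidueField w ≫ h) := by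
    rw [← Scheme.Hom.SpecMap_residueFieldMap_fromSpecResidueField h w]
    infer_instance
  have : IsAffine O.toScheme := hO
  have hint' : IsIntegralHom (g₀ ≫ (O.ι ≫ h)) := by
    rw [← Category.assoc, hg₀]; exact hint
  have huc : UniversallyClosed g₀ := UniversallyClosed.of_comp_of_isSeparated g₀ (O.ι ≫ h)
  have hclr : IsClosed (Set.range g₀) := g₀.isClosedMap.isClosed_range
  have hr : Set.range g₀ = {(⟨w, hwO⟩ : O.toScheme)} := by
    ext z
    simp only [Set.mem_range, Set.mem_singleton_iff]
    constructor
    · rintro ⟨y, rfl⟩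
      apply O.ι.isOpenEmbedding.injective
      have h1 : O.ι (g₀ y) = (W.fromSpecResidueField w) y := by
        rw [← hg₀]; rfl
      rw [h1]
      have h2 : (W.fromSpecResidueField w) y ∈ Set.range (W.fromSpecResidueField w) := ⟨y, rfl⟩
      rw [Scheme.range_fromSpecResidueField] at h2
      exact h2
    · rintro rfl
      have h2 : w ∈ Set.range (W.fromSpecResidueField w) := by
        rw [Scheme.range_fromSpecResidueField]; rfl
      obtain ⟨y, hy⟩ := h2
      refine ⟨y, ?_⟩
      apply O.ι.isOpenEmbedding.injective
      have h1 : O.ι (g₀ y) = (W.fromSpecResidueField w) y := by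
        rw [← hg₀]; rfl
      rw [h1, hy]; rfl
  rw [hr] at hclr
  have hs' : (⟨w, hwO⟩ : O.toScheme) ⤳ ⟨w₁, hw₁O⟩ :=
    (O.ι.isOpenEmbedding.isInducing.specializes_iff).mp hs
  have hmem := (specializes_iff_mem_closure.1 hs')
  have hmem' := hclr.closure_subset hmem
  exact congrArg (fun z : O.toScheme => O.ι z) hmem'

end Groth.Agent.H52
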