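import Groth.Agent.H52.FieldPoints2
import Groth.Agent.Lib.Helper29.TopDim
import Groth.Agent.H53.FibreHomeo
import Groth.Agent.H53.FibrePts3

/-!
# Discreteness of the space of points of an algebraic space locally of finite type over a field
-/

set_option autoImplicit false
universe u
open CategoryTheory CategoryTheory.Limits AlgebraicGeometry
open AlgSp

namespace Groth.Agent.H52

/-- A quasi-sober space all of whose points are closed has dimension at most zero. -/
theorem topologicalKrullDim_le_zero_of_forall_isClosed_singleton {T : Type*} [TopologicalSpace T]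
    [QuasiSober T] (h : ∀ t : T, IsClosed ({t} : Set T)) : topologicalKrullDim T ≤ 0 := by
  unfold topologicalKrullDim
  rw [Order.krullDim_nonpos_iff_forall_isMin]
  intro Z Z' hle
  obtain ⟨η, hη⟩ := QuasiSober.sober Z.2 Z.3
  have hZ : (Z : Set T) = {η} := by
    have h1 : closure ({η} : Set T) = (Z : Set T) := hη.def
    rw [← h1, (h η).closure_eq]
  obtain ⟨z, hz⟩ := Z'.2.nonempty
  have hzη : z = η := by
    have : z ∈ (Z : Set T) := hle hz
    rw [hZ] at this
    exact this
  intro t ht
  change t ∈ (Z : Set T) at ht
  rw [hZ] at ht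
  rw [Set.mem_singleton_iff] at ht
  rw [ht, ← hzη]
  exact hz

/-- A nonempty discrete space has dimension zero. -/
theorem topologicalKrullDim_eq_zero_of_discreteTopology (T : Type*) [TopologicalSpace T]
    [DiscreteTopology T] [Nonempty T] : topologicalKrullDim T = 0 := by
  refine le_antisymm ?_ Groth.Agent.Lib.Helper29.topologicalKrullDim_nonneg
  unfold topologicalKrullDim
  rw [Order.krullDim_nonpos_iff_forall_isMin]
  intro Z Z' hle
  obtain ⟨z, hz⟩ := Z'.2.nonempty
  have hsub : (Z : Set T).Subsingleton := by
    have := Z.2.isPreirreducible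
    exact (isPreirreducible_iff_subsingleton.1 this)
  intro t ht
  have : t = z := hsub ht (hle hz)
  rw [this]
  exact hz

variable {S : Scheme.{u}} {K : Type u} [Field K] {str : Spec (CommRingCat.of K) ⟶ S} {X : Sp S}

/-- For a nonempty space locally of finite type over a field: discrete iff of dimension zero. -/
theorem discreteTopology_points_iff_dim_eq_zero (hX : IsAlgSpace X)
    (p : X ⟶ (yon S).obj (Over.mk str)) (hp : LocP @LocallyOfFiniteType p)
    [Nonempty (Points X)] :
    DiscreteTopology (Points X) ↔ AlgSp.dim X = 0 := by
  constructor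
  · intro hdisc
    apply le_antisymm
    · unfold AlgSp.dim
      refine iSup_le fun U => iSup_le fun a => iSup_le fun ha => ?_
      apply topologicalKrullDim_le_zero_of_forall_isClosed_singleton
      intro u
      exact isClosed_singleton_chart_of_isOpen_point p hp a ha (Points.ofPt a u)
        (isOpen_discrete _) u rfl
    · obtain ⟨x⟩ := ‹Nonempty (Points X)›
      obtain ⟨W, c, w, hc, -⟩ := exists_chart_through_point hX x
      have : Nonempty ↥W.left := ⟨w⟩
      unfold AlgSp.dim
      refine le_trans ?_ (le_iSup _ W)
      refine le_trans ?_ (le_iSup _ c)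
      refine le_trans ?_ (le_iSup _ hc)
      exact Groth.Agent.Lib.Helper29.topologicalKrullDim_nonneg
  · intro hdim
    rw [discreteTopology_iff_isOpen_singleton]
    intro x
    rw [isOpen_singleton_iff_hasAt_localDim hX p hp x]
    obtain ⟨W, c, w, hc, hw⟩ := exists_chart_through_point hX x
    refine ⟨W, c, w, hc, hw, le_antisymm ?_ (Groth.Agent.Lib.Helper29.localDim_nonneg w)⟩
    refine (Groth.Agent.Lib.Helper29.localDim_le_topologicalKrullDim w).trans ?_
    rw [← hdim]
    unfold AlgSp.dim
    refine le_trans ?_ (le_iSup _ W)
    refine le_trans ?_ (le_iSup _ c)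
    exact le_iSup (fun _ : RepWith @Etale c => topologicalKrullDim ↥W.left) hc

/-- For a `T0` space of points locally of finite type over a field: dimension zero implies
discrete. -/
theorem discreteTopology_points_of_topologicalKrullDim_le_zero (hX : IsAlgSpace X)
    [T0Space (Points X)]
    (p : X ⟶ (yon S).obj (Over.mk str)) (hp : LocP @LocallyOfFiniteType p)
    (hdim : topologicalKrullDim (Points X) ≤ 0) : DiscreteTopology (Points X) := by
  rw [discreteTopology_iff_isOpen_singleton]
  intro x
  rw [isOpen_singleton_iff_isClosed_and hX p hp x]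
  refine ⟨Groth.Agent.Lib.Helper29.isClosed_singleton_of_topologicalKrullDim_le_zero hdim x, ?_⟩
  intro x' hs
  exact eq_of_specializes_of_topologicalKrullDim_le_zero hdim hs

end Groth.Agent.H52

namespace Groth.Agent.H52

variable {S : Scheme.{u}} {K : Type u} [Field K] {str : Spec (CommRingCat.of K) ⟶ S} {X : Sp S}

/-- A decent space locally of finite type over a field with finitely many points is discrete. -/
theorem discreteTopology_points_of_finite_of_isDecent (hX : IsAlgSpace X) (hd : IsDecent X)
    (p : X ⟶ (yon S).obj (Over.mk str)) (hp : LocP @LocallyOfFiniteType p)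
    [Finite (Points X)] : DiscreteTopology (Points X) := by
  rw [discreteTopology_iff_isOpen_singleton]
  intro x
  obtain ⟨V, b, v, hV, hb, hv⟩ := Groth.Agent.H53.FibrePts.exists_affine_chart hX x
  have hfin : Finite ↥V.left := by
    have hfib : ∀ y : Points X, (Points.ofPt b ⁻¹' {y}).Finite := fun y =>
      (((Groth.Agent.H53.FibrePts.finite_fibres_iff_exists_mono_qc hX y).2 (hd y)) V b hV hb
        _ _ _ (hb.rep.isPullback' b)).1
    have hU : (Set.univ : Set ↥V.left) = ⋃ y : Points X, Points.ofPt b ⁻¹' {y} := by
      ext u; simp
    have hu : (Set.univ : Set ↥V.left).Finite := by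
      rw [hU]; exact Set.finite_iUnion hfib
    exact Set.finite_univ_iff.1 hu
  obtain ⟨h, -, hlft⟩ := exists_chart_hom_over_field p hp b hb
  have hJ0 : JacobsonSpace ↥(Over.mk str).left :=
    inferInstanceAs (JacobsonSpace ↥(Spec (CommRingCat.of K)))
  have hJ : JacobsonSpace ↥V.left := LocallyOfFiniteType.jacobsonSpace h.left
  have hdisc : DiscreteTopology ↥V.left := inferInstance
  have := isOpenMap_ofPt_of_etale b hb {v} (isOpen_discrete _)
  rwa [Set.image_singleton, hv] at this

end Groth.Agent.H52
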