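import Groth.Agent.H52.FieldClosedPt
import Groth.Agent.H52.TwoCharts
import Groth.Agent.H52.FTPoints2
import Groth.Agent.H52.DimLocal2
import Groth.Agent.H52.Top2
import Groth.Agent.H52.DimZero
import Groth.Agent.H52.FibreDimSp
import Groth.Agent.S2533
import Groth.Agent.S9798

/-!
# Points of an algebraic space locally of finite type over a field

For an algebraic space `X` locally of finite type over a field and a point `x` of `|X|`: `x` is an
isolated point iff it is closed without proper generizations iff the local dimension of an etale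
chart at a point over `x` vanishes.
-/

set_option autoImplicit false
universe u
open CategoryTheory CategoryTheory.Limits AlgebraicGeometry
open AlgSp

namespace Groth.Agent.H52

variable {S : Scheme.{u}} {K : Type u} [Field K] {str : Spec (CommRingCat.of K) ⟶ S} {X : Sp S}

/-- The structure morphism of an etale chart of a space over a field. -/
theorem exists_chart_hom_over_field (p : X ⟶ (yon S).obj (Over.mk str))
    (hp : LocP @LocallyOfFiniteType p) {W : Over S} (c : (yon S).obj W ⟶ X)
    (hc : RepWith @Etale c) :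
    ∃ h : W ⟶ Over.mk str, c ≫ p = (yon S).map h ≫ 𝟙 _ ∧ LocallyOfFiniteType h.left := by
  obtain ⟨h, hh⟩ := (yon S).map_surjective (c ≫ p)
  have comm : c ≫ p = (yon S).map h ≫ 𝟙 _ := by rw [hh, Category.comp_id]
  exact ⟨h, comm, hp c (𝟙 _) h hc (repWith_of_isIso _ _) comm⟩

theorem isLocallyNoetherian_chart_over_field (p : X ⟶ (yon S).obj (Over.mk str))
    (hp : LocP @LocallyOfFiniteType p) {W : Over S} (c : (yon S).obj W ⟶ X)
    (hc : RepWith @Etale c) : IsLocallyNoetherian W.left := by
  obtain ⟨h, -, hlft⟩ := exists_chart_hom_over_field p hp c hc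
  have : IsLocallyNoetherian (Over.mk str).left :=
    inferInstanceAs (IsLocallyNoetherian (Spec (CommRingCat.of K)))
  exact LocallyOfFiniteType.isLocallyNoetherian h.left

/-- The residue field extension at a point of an open subscheme which is closed in an affine open
of it has transcendence degree zero (over a Jacobson base). -/
theorem resTrdeg_eq_zero_of_isClosed_in_affine {W V : Scheme.{u}} (h : W ⟶ V)
    [LocallyOfFiniteType h] [JacobsonSpace V] (W' : W.Opens) (O : W'.toScheme.Opens)
    (u : O.toScheme) (hucl : IsClosed ({u} : Set O.toScheme)) :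
    Dual3.resTrdeg h ((O.ι ≫ W'.ι) u) = 0 := by
  have h0 : Dual3.resTrdeg ((O.ι ≫ W'.ι) ≫ h) u = 0 :=
    resTrdeg_eq_zero_of_isClosed_of_jacobsonSpace _ u hucl
  have h1 : Dual3.resTrdeg h ((O.ι ≫ W'.ι) u) = Dual3.resTrdeg ((O.ι ≫ W'.ι) ≫ h) u :=
    isEtaleSquareInvariant_resTrdeg h ((O.ι ≫ W'.ι) ≫ h) (O.ι ≫ W'.ι) (𝟙 _) inferInstance
      inferInstance (Category.comp_id _) u
  exact h1.trans h0

/-- Every point of an etale chart lying over an isolated point is closed in the chart. -/
theorem isClosed_singleton_chart_of_isOpen_point (p : X ⟶ (yon S).obj (Over.mk str))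
    (hp : LocP @LocallyOfFiniteType p) {W : Over S} (c : (yon S).obj W ⟶ X)
    (hc : RepWith @Etale c) (x : Points X) (hx : IsOpen ({x} : Set (Points X))) (w : ↥W.left)
    (hw : Points.ofPt c w = x) : IsClosed ({w} : Set ↥W.left) := by
  obtain ⟨h, comm, hlft⟩ := exists_chart_hom_over_field p hp c hc
  have hid : RepWith @Etale (𝟙 ((yon S).obj (Over.mk str))) := repWith_of_isIso _ _
  let W' : W.left.Opens := ⟨Points.ofPt c ⁻¹' {x}, hx.preimage (Points.continuous_ofPt c)⟩
  obtain ⟨O, hO, u, -, hucl⟩ := exists_closed_point_affineOpen_of_isLocallyClosed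
    (U := W'.toScheme) Set.univ isOpen_univ.isLocallyClosed ⟨⟨w, hw⟩, trivial⟩
  have hJ : JacobsonSpace ↥(Over.mk str).left :=
    inferInstanceAs (JacobsonSpace ↥(Spec (CommRingCat.of K)))
  have h01 : Dual3.resTrdeg h.left ((O.ι ≫ W'.ι) u) = 0 :=
    resTrdeg_eq_zero_of_isClosed_in_affine h.left W' O u hucl
  have ht : Points.ofPt c ((O.ι ≫ W'.ι) u) = x := (O.ι u).2
  have h2 : Dual3.resTrdeg h.left w = Dual3.resTrdeg h.left ((O.ι ≫ W'.ι) u) :=
    isEtaleSquareInvariant_resTrdeg.eq_of_two_charts p c (𝟙 _) h hc hid comm c (𝟙 _) h hc hid comm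
      w ((O.ι ≫ W'.ι) u) (hw.trans ht.symm)
  have key : ∀ (g : W.left ⟶ Spec (CommRingCat.of K)), Dual3.resTrdeg g w = 0 →
      IsClosed ({w} : Set ↥W.left) := fun g hg => isClosed_singleton_of_resTrdeg_eq_zero g w hg
  exact key h.left (h2.trans h01)

/-- An isolated point has local dimension zero on every etale chart. -/
theorem localDim_chart_eq_zero_of_isOpen_point (p : X ⟶ (yon S).obj (Over.mk str))
    (hp : LocP @LocallyOfFiniteType p) {W : Over S} (c : (yon S).obj W ⟶ X)
    (hc : RepWith @Etale c) (x : Points X) (hx : IsOpen ({x} : Set (Points X))) (w : ↥W.left)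
    (hw : Points.ofPt c w = x) : FlatMor.localDim ↥W.left w = 0 := by
  have := isLocallyNoetherian_chart_over_field p hp c hc
  rw [Groth.Agent.S9798.result]
  refine Groth.Agent.S2533.result {w}
    (isClosed_singleton_chart_of_isOpen_point p hp c hc x hx w hw) ?_
  intro a b hab ha
  rw [Set.mem_singleton_iff] at ha ⊢
  subst ha
  -- `b ⤳ a`, so `b` lies over `x` as well
  have hbx : Points.ofPt c b = x := by
    have hs := hab.map (Points.continuous_ofPt c)
    rw [hw] at hs
    exact hs.mem_open hx rfl
  have hcl := isClosed_singleton_chart_of_isOpen_point p hp c hc x hx b hbx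
  have : a ∈ closure ({b} : Set ↥W.left) := specializes_iff_mem_closure.1 hab
  rw [hcl.closure_eq] at this
  exact this.symm

theorem isOpenMap_ofPt_of_etale {W : Over S} (c : (yon S).obj W ⟶ X) (hc : RepWith @Etale c) :
    IsOpenMap (Points.ofPt c) := by
  have : Points.ofPt c = Points.map c ∘ Points.schemeHomeo W := by
    ext w; exact Points.ofPt_eq_map_ofScheme c w
  rw [this]
  exact (isOpenMap_points_of_etale c hc).comp (Points.schemeHomeo W).isOpenMap

/-- isolated iff the local dimension of a chart vanishes. -/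
theorem isOpen_singleton_iff_hasAt_localDim (hX : IsAlgSpace X)
    (p : X ⟶ (yon S).obj (Over.mk str)) (hp : LocP @LocallyOfFiniteType p) (x : Points X) :
    IsOpen ({x} : Set (Points X)) ↔ HasAt (fun U u => FlatMor.localDim ↥U u = 0) X x := by
  constructor
  · intro hx
    obtain ⟨W, c, w, hc, hw⟩ := exists_chart_through_point hX x
    exact ⟨W, c, w, hc, hw, localDim_chart_eq_zero_of_isOpen_point p hp c hc x hx w hw⟩
  · rintro ⟨W, c, w, hc, hw, hdim⟩
    have := isLocallyNoetherian_chart_over_field p hp c hc
    rw [Groth.Agent.S9798.result] at hdim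
    have := isOpenMap_ofPt_of_etale c hc _ hdim
    rwa [Set.image_singleton, hw] at this

/-- A locally closed point without proper generizations is isolated. -/
theorem isOpen_singleton_of_isLocallyClosed (hX : IsAlgSpace X)
    (p : X ⟶ (yon S).obj (Over.mk str)) (hp : LocP @LocallyOfFiniteType p) (x : Points X)
    (hlc : IsLocallyClosed ({x} : Set (Points X))) (hgen : ∀ x' : Points X, x' ⤳ x → x' = x) :
    IsOpen ({x} : Set (Points X)) := by
  obtain ⟨W, c, w, hc, hw⟩ := exists_chart_through_point hX x
  have hnoeth := isLocallyNoetherian_chart_over_field p hp c hc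
  obtain ⟨O₀, Z, hO₀, hZ, hxe⟩ := hlc
  let O : W.left.Opens := ⟨Points.ofPt c ⁻¹' O₀, hO₀.preimage (Points.continuous_ofPt c)⟩
  have hxO : x ∈ O₀ := by
    have : x ∈ ({x} : Set (Points X)) := rfl
    rw [hxe] at this; exact this.1
  have hmem : ∀ o : O.toScheme, Points.ofPt c (O.ι o) = x ↔ Points.ofPt c (O.ι o) ∈ Z := by
    intro o
    constructor
    · intro h
      have : Points.ofPt c (O.ι o) ∈ ({x} : Set (Points X)) := h
      rw [hxe] at this; exact this.2
    · intro h
      have : Points.ofPt c (O.ι o) ∈ O₀ ∩ Z := ⟨o.2, h⟩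
      rw [← hxe] at this; exact this
  have hT : IsOpen {o : O.toScheme | Points.ofPt c (O.ι o) = x} := by
    refine Groth.Agent.S2533.result _ ?_ ?_
    · have : {o : O.toScheme | Points.ofPt c (O.ι o) = x} =
          (fun o : O.toScheme => Points.ofPt c (O.ι o)) ⁻¹' Z := by
        ext o; exact hmem o
      rw [this]
      exact hZ.preimage ((Points.continuous_ofPt c).comp O.ι.continuous)
    · intro a b hab ha
      have hs := hab.map ((Points.continuous_ofPt c).comp O.ι.continuous)
      simp only [Function.comp_apply] at hs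
      rw [Set.mem_setOf_eq] at ha ⊢
      rw [ha] at hs
      exact hgen _ hs
  have himg := isOpenMap_ofPt_of_etale c hc _ (O.ι.isOpenEmbedding.isOpenMap _ hT)
  convert himg using 1
  ext y
  simp only [Set.mem_singleton_iff, Set.mem_image, Set.mem_setOf_eq]
  constructor
  · rintro rfl
    exact ⟨w, ⟨⟨w, show Points.ofPt c w ∈ O₀ from hw ▸ hxO⟩, hw, rfl⟩, hw⟩
  · rintro ⟨_, ⟨o, ho, rfl⟩, rfl⟩
    exact ho

/-- isolated iff closed without proper generizations. -/
theorem isOpen_singleton_iff_isClosed_and (hX : IsAlgSpace X)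
    (p : X ⟶ (yon S).obj (Over.mk str)) (hp : LocP @LocallyOfFiniteType p) (x : Points X) :
    IsOpen ({x} : Set (Points X)) ↔
      IsClosed ({x} : Set (Points X)) ∧ ∀ x' : Points X, x' ⤳ x → x' = x := by
  constructor
  · intro hx
    refine ⟨?_, fun x' hs => hs.mem_open hx rfl⟩
    obtain ⟨A, c, hce, hcs⟩ := hX.atlas
    have hnoeth := isLocallyNoetherian_chart_over_field p hp c hce
    have hq := (isQuotientMap_points_of_etale_surjective c hce hcs).comp
      (Points.schemeHomeo A).isQuotientMap
    rw [← hq.isClosed_preimage]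
    have hfun : (Points.map c ∘ Points.schemeHomeo A) = Points.ofPt c := by
      ext a; exact (Points.ofPt_eq_map_ofScheme c a).symm
    rw [hfun]
    have hTo : IsOpen (Points.ofPt c ⁻¹' {x}) := hx.preimage (Points.continuous_ofPt c)
    rw [← isOpen_compl_iff]
    refine Groth.Agent.S2533.result _ hTo.isClosed_compl ?_
    intro a b hab ha hb
    apply ha
    have hcl := isClosed_singleton_chart_of_isOpen_point p hp c hce x hx b hb
    have : a ∈ closure ({b} : Set ↥A.left) := specializes_iff_mem_closure.1 hab
    rw [hcl.closure_eq] at this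
    rw [Set.mem_singleton_iff] at this
    rw [this]; exact hb
  · rintro ⟨hcl, hgen⟩
    exact isOpen_singleton_of_isLocallyClosed hX p hp x hcl.isLocallyClosed hgen

end Groth.Agent.H52
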