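import Groth.Agent.H52.FieldPoints
import Groth.Agent.H52.LqfLocus
import Groth.Agent.S10338

/-!
# Points of a decent algebraic space locally of finite type over a field: local dimension zero
-/

set_option autoImplicit false
universe u
open CategoryTheory CategoryTheory.Limits AlgebraicGeometry
open AlgSp

namespace Groth.Agent.H52

/-- In a `T0` space of dimension at most zero there are no nontrivial specializations. -/
theorem eq_of_specializes_of_topologicalKrullDim_le_zero {T : Type*} [TopologicalSpace T]
    [T0Space T] (hd : topologicalKrullDim T ≤ 0) {a b : T} (h : a ⤳ b) : a = b := by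
  unfold topologicalKrullDim at hd
  rw [Order.krullDim_nonpos_iff_forall_isMin] at hd
  let Za : TopologicalSpace.IrreducibleCloseds T :=
    ⟨closure {a}, isIrreducible_singleton.closure, isClosed_closure⟩
  let Zb : TopologicalSpace.IrreducibleCloseds T :=
    ⟨closure {b}, isIrreducible_singleton.closure, isClosed_closure⟩
  have hle : Zb ≤ Za := by
    change closure {b} ⊆ closure {a}
    exact specializes_iff_closure_subset.1 h
  have hge : Za ≤ Zb := hd Za hle
  have h' : b ⤳ a := by
    apply specializes_iff_closure_subset.2
    exact hge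
  exact (h.antisymm h').eq

theorem localDim_nonneg' {T : Type*} [TopologicalSpace T] (t : T) : 0 ≤ FlatMor.localDim T t := by
  unfold FlatMor.localDim
  refine le_iInf fun W => ?_
  have : Nonempty ↥(W.1 : Set T) := ⟨⟨_, W.2⟩⟩
  have hne : topologicalKrullDim ↥(W.1 : Set T) ≠ ⊥ := topologicalKrullDim_ne_bot_of_nonempty
  revert hne
  generalize topologicalKrullDim ↥(W.1 : Set T) = x
  intro hne
  induction x using WithBot.recBotCoe with
  | bot => exact absurd rfl hne
  | coe n => exact_mod_cast (zero_le (a := n))

/-- A point of local dimension zero has an open neighbourhood of dimension at most zero. -/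
theorem exists_open_nhd_dim_le_zero {T : Type*} [TopologicalSpace T] (t : T)
    (h : FlatMor.localDim T t = 0) :
    ∃ U : TopologicalSpace.Opens T, t ∈ U ∧ topologicalKrullDim ↥(U : Set T) ≤ 0 := by
  by_contra hcon
  push_neg at hcon
  have : (1 : WithBot ℕ∞) ≤ FlatMor.localDim T t := by
    unfold FlatMor.localDim
    refine le_iInf fun W => ?_
    have hW := hcon W.1 W.2
    have : Nonempty ↥(W.1 : Set T) := ⟨⟨_, W.2⟩⟩
    have hne : topologicalKrullDim ↥(W.1 : Set T) ≠ ⊥ := topologicalKrullDim_ne_bot_of_nonempty
    refine one_le_of_ne_zero_of_nonneg ?_ (fun h0 => absurd (le_of_eq h0) (not_le.mpr hW))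
    exact le_of_lt hW
  rw [h] at this
  exact absurd this (by decide)

variable {S : Scheme.{u}} {K : Type u} [Field K] {str : Spec (CommRingCat.of K) ⟶ S} {X : Sp S}

/-- For a decent space locally of finite type over a field: local dimension zero of `|X|` at `x`
iff `x` is isolated. -/
theorem localDim_points_eq_zero_iff (hX : IsAlgSpace X) [T0Space (Points X)]
    (p : X ⟶ (yon S).obj (Over.mk str)) (hp : LocP @LocallyOfFiniteType p) (x : Points X) :
    FlatMor.localDim (Points X) x = 0 ↔ IsOpen ({x} : Set (Points X)) := by
  constructor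
  · intro h
    obtain ⟨U, hxU, hdim⟩ := exists_open_nhd_dim_le_zero x h
    have hspec : ∀ a b : Points X, a ∈ U → b ∈ U → a ⤳ b → a = b := by
      intro a b ha hb hab
      have : (⟨a, ha⟩ : ↥(U : Set (Points X))) ⤳ ⟨b, hb⟩ :=
        (Topology.IsInducing.subtypeVal.specializes_iff).mp hab
      exact congrArg Subtype.val (eq_of_specializes_of_topologicalKrullDim_le_zero hdim this)
    refine isOpen_singleton_of_isLocallyClosed hX p hp x ?_ ?_
    · refine ⟨U, closure {x}, U.2, isClosed_closure, ?_⟩
      ext y
      simp only [Set.mem_singleton_iff, Set.mem_inter_iff]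
      constructor
      · rintro rfl
        exact ⟨hxU, subset_closure rfl⟩
      · rintro ⟨hyU, hy⟩
        exact (hspec x y hxU hyU (specializes_iff_mem_closure.2 hy)).symm
    · intro x' hs
      exact hspec x' x (hs.mem_open U.2 hxU) hxU hs
  · intro hx
    refine le_antisymm ?_ (localDim_nonneg' x)
    unfold FlatMor.localDim
    refine (iInf_le _ (⟨⟨{x}, hx⟩, rfl⟩ : {U : TopologicalSpace.Opens (Points X) // x ∈ U})).trans ?_
    have : Subsingleton ↥(({x} : Set (Points X))) := Set.subsingleton_singleton.coe_sort
    exact topologicalKrullDim_le_zero_of_subsingleton _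

end Groth.Agent.H52
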