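import Groth.Agent.H52.EtCoverLift

set_option autoImplicit false
universe u
open CategoryTheory CategoryTheory.Limits AlgebraicGeometry Opposite

namespace Groth.Agent.H52

open AlgSp

variable {S : Scheme.{u}}

/-- A representable etale morphism of sheaves is formally etale. -/
theorem isFormallyEtaleMor_of_repWith_etale {F G : Sp S} (a : F ⟶ G) (ha : RepWith @Etale a) :
    IsFormallyEtaleMor a := by
  intro sq
  have := surjective_jQ sq.I sq.sq_zero sq.str
  exact existsUnique_lift_of_repWith_etale a ha sq.j sq.top sq.bot sq.comm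

theorem isFormallyUnramifiedMor_of_isFormallyEtaleMor {F G : Sp S} {a : F ⟶ G}
    (ha : IsFormallyEtaleMor a) : IsFormallyUnramifiedMor a := by
  intro sq l l' h1 h2 h3 h4
  obtain ⟨m, -, hm⟩ := ha sq
  rw [hm l ⟨h1, h2⟩, hm l' ⟨h3, h4⟩]

theorem isFormallySmoothMor_of_isFormallyEtaleMor {F G : Sp S} {a : F ⟶ G}
    (ha : IsFormallyEtaleMor a) : IsFormallySmoothMor a := by
  intro sq
  obtain ⟨m, hm, -⟩ := ha sq
  exact ⟨m, hm⟩

/-- The affine charts of an etale surjective scheme over `Spec A` form an fppf family. -/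
theorem isFppfFamily_of_refinement {A : Type u} [CommRing A] (str : Spec (.of A) ⟶ S) {W : Over S}
    (π : W ⟶ ptA str) [Flat π.left] [LocallyOfFinitePresentation π.left]
    (hπs : Function.Surjective π.left)
    (B : ↥W.left → Type u) [∀ w, CommRing (B w)] (φ : ∀ w, A →+* B w)
    (ι : ∀ w, ptA (Spec.map (CommRingCat.ofHom (φ w)) ≫ str) ⟶ W)
    (h1 : ∀ w, ι w ≫ π = rho str (φ w)) (h2 : ∀ w, IsOpenImmersion (ι w).left)
    (h3 : ∀ w, w ∈ Set.range (ι w).left) : IsFppfFamily (fun w => rho str (φ w)) where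
  flat w := by
    have := h2 w
    rw [← h1 w, Over.comp_left]; infer_instance
  lfp w := by
    have := h2 w
    rw [← h1 w, Over.comp_left]; infer_instance
  surj t := by
    obtain ⟨w, rfl⟩ := hπs t
    obtain ⟨y, hy⟩ := h3 w
    refine ⟨w, y, ?_⟩
    rw [← h1 w, Over.comp_left, Scheme.Hom.comp_apply, hy]

/-- If `a` is representable etale surjective and `a ≫ b` is formally unramified then `b` is formally
unramified. -/
theorem isFormallyUnramifiedMor_of_comp {F G H : Sp S} (a : F ⟶ G) (b : G ⟶ H)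
    (ha : RepWith @Etale a) (ha' : RepWith @Surjective a)
    (h : IsFormallyUnramifiedMor (a ≫ b)) : IsFormallyUnramifiedMor b := by
  intro sq g g' hg1 hg2 hg1' hg2'
  have hrep := ha.rep
  have sqW := hrep.isPullback g
  have hπe : Etale (hrep.snd g).left := ha.property_snd g
  have hπs : Surjective (hrep.snd g).left := ha'.2 g _ _ sqW
  choose B instB φ ι hι1 hι2 hι3 using fun w => exists_affine_refinement sq.str (hrep.snd g) w
  have hfam : IsFppfFamily (fun w => rho sq.str (φ w)) :=
    isFppfFamily_of_refinement sq.str (hrep.snd g) hπs.surj B φ ι hι1 hι2 hι3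
  refine hfam.hom_ext g g' fun w => ?_
  let t : (yon S).obj (ptA (Spec.map (CommRingCat.ofHom (φ w)) ≫ sq.str)) ⟶ F :=
    (yon S).map (ι w) ≫ hrep.fst g
  have ht : t ≫ a = (yon S).map (rho sq.str (φ w)) ≫ g := by
    rw [Category.assoc, sqW.w, ← Category.assoc, ← Functor.map_comp, hι1]
  have hgl : sq.IsLift g := ⟨hg1, hg2⟩
  have hgl' : sq.IsLift g' := ⟨hg1', hg2'⟩
  have r := hgl.restrict (φ w)
  have r' := hgl'.restrict (φ w)
  have hsurj := surjective_jQ (sq.I.map (φ w)) (sq.restrict (φ w)).sq_zero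
    (Spec.map (CommRingCat.ofHom (φ w)) ≫ sq.str)
  obtain ⟨t', ⟨ht'1, ht'2⟩, -⟩ := existsUnique_lift_of_repWith_etale a ha
    (jQ (sq.I.map (φ w)) (Spec.map (CommRingCat.ofHom (φ w)) ≫ sq.str))
    ((yon S).map (jQ (sq.I.map (φ w)) (Spec.map (CommRingCat.ofHom (φ w)) ≫ sq.str)) ≫ t)
    ((yon S).map (rho sq.str (φ w)) ≫ g') (by
      rw [Category.assoc, ht]
      exact r.1.trans r'.1.symm)
  let sq' : InfSq (a ≫ b) :=
    { A := B w
      I := sq.I.map (φ w)
      sq_zero := (sq.restrict (φ w)).sq_zero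
      str := Spec.map (CommRingCat.ofHom (φ w)) ≫ sq.str
      top := (yon S).map (jQ (sq.I.map (φ w)) (Spec.map (CommRingCat.ofHom (φ w)) ≫ sq.str)) ≫ t
      bot := (yon S).map (rho sq.str (φ w)) ≫ sq.bot
      comm := by
        rw [Category.assoc, ← Category.assoc t, ht, Category.assoc, hg2] }
  have e : t = t' := h sq' t t' rfl (by
      change t ≫ a ≫ b = (yon S).map (rho sq.str (φ w)) ≫ sq.bot
      rw [← Category.assoc, ht, Category.assoc, hg2]) ht'1 (by
      change t' ≫ a ≫ b = (yon S).map (rho sq.str (φ w)) ≫ sq.bot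
      rw [← Category.assoc, ht'2, Category.assoc, hg2'])
  calc (yon S).map (rho sq.str (φ w)) ≫ g = t ≫ a := ht.symm
    _ = t' ≫ a := by rw [e]
    _ = (yon S).map (rho sq.str (φ w)) ≫ g' := ht'2

/-- If `a` is representable etale surjective and `a ≫ b` is formally etale then `b` is formally
etale. -/
theorem isFormallyEtaleMor_of_comp {F G H : Sp S} (a : F ⟶ G) (b : G ⟶ H)
    (ha : RepWith @Etale a) (ha' : RepWith @Surjective a)
    (h : IsFormallyEtaleMor (a ≫ b)) : IsFormallyEtaleMor b := by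
  have hu : IsFormallyUnramifiedMor b := isFormallyUnramifiedMor_of_comp a b ha ha'
    (isFormallyUnramifiedMor_of_isFormallyEtaleMor h)
  intro sq
  suffices hex : ∃ g, sq.IsLift g by
    obtain ⟨g, hg⟩ := hex
    exact ⟨g, hg, fun g' hg' => hu sq g' g hg'.1 hg'.2 hg.1 hg.2⟩
  have hrep := ha.rep
  have sqW := hrep.isPullback sq.top
  have hp₀e : Etale (hrep.snd sq.top).left := ha.property_snd sq.top
  have hp₀s : Surjective (hrep.snd sq.top).left := ha'.2 sq.top _ _ sqW
  choose B instB φ s hφe hs1 hs2 using fun w₀ =>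
    exists_etale_lift_chart sq.I sq.str (hrep.snd sq.top) w₀
  have hfam : IsFppfFamily (fun w => rho sq.str (φ w)) :=
    { flat := fun w => by
        have := hφe w
        change Flat (Spec.map (CommRingCat.ofHom (φ w)))
        infer_instance
      lfp := fun w => by
        have := hφe w
        change LocallyOfFinitePresentation (Spec.map (CommRingCat.ofHom (φ w)))
        infer_instance
      surj := fun t => by
        obtain ⟨t₀, rfl⟩ := (surjective_jQ sq.I sq.sq_zero sq.str).surj t
        obtain ⟨w₀, rfl⟩ := hp₀s.surj t₀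
        obtain ⟨y₀, hy₀⟩ := hs2 w₀
        refine ⟨w₀, (jQ (sq.I.map (φ w₀)) (Spec.map (CommRingCat.ofHom (φ w₀)) ≫ sq.str)).left y₀, ?_⟩
        have e1 := congrArg (fun m => m.left y₀) (jQ_rho sq.I sq.str (φ w₀))
        have e2 := congrArg (fun m => m.left y₀) (hs1 w₀)
        simp only [Over.comp_left, Scheme.Hom.comp_apply] at e1 e2
        rw [e1, ← e2, hy₀] }
  have hfam₀ := isFppfFamily_rho₀ sq.I sq.sq_zero sq.str B φ hfam
  have key : ∀ w, ∃ gw : (yon S).obj (ptA (Spec.map (CommRingCat.ofHom (φ w)) ≫ sq.str)) ⟶ G,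
      (sq.restrict (φ w)).IsLift gw := by
    intro w
    let t : (yon S).obj (ptQ (sq.I.map (φ w)) (Spec.map (CommRingCat.ofHom (φ w)) ≫ sq.str)) ⟶ F :=
      (yon S).map (s w) ≫ hrep.fst sq.top
    have ht : t ≫ a = (yon S).map (rho₀ sq.I sq.str (φ w)) ≫ sq.top := by
      rw [Category.assoc, sqW.w, ← Category.assoc, ← Functor.map_comp, hs1]
    let sq' : InfSq (a ≫ b) :=
      { A := B w
        I := sq.I.map (φ w)
        sq_zero := (sq.restrict (φ w)).sq_zero
        str := Spec.map (CommRingCat.ofHom (φ w)) ≫ sq.str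
        top := t
        bot := (yon S).map (rho sq.str (φ w)) ≫ sq.bot
        comm := by
          have e0 : t ≫ a ≫ b = (t ≫ a) ≫ b := (Category.assoc _ _ _).symm
          refine e0.trans ?_
          rw [ht]
          exact (sq.restrict (φ w)).comm }
    obtain ⟨l, ⟨hl1, hl2⟩, -⟩ := h sq'
    refine ⟨l ≫ a, ?_, ?_⟩
    · change (yon S).map sq'.j ≫ l ≫ a = (yon S).map (rho₀ sq.I sq.str (φ w)) ≫ sq.top
      rw [← Category.assoc, hl1]
      exact ht
    · change (l ≫ a) ≫ b = (yon S).map (rho sq.str (φ w)) ≫ sq.bot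
      rw [Category.assoc]
      exact hl2
  choose gw hgw using key
  obtain ⟨g, hg⟩ := hfam.exists_glue gw (by
    intro i j R r1 r2 hr
    choose D instD ψ ι hι1 hι2 hι3 using fun x =>
      exists_affine_refinement sq.str (r1 ≫ rho sq.str (φ i)) x
    have hfamR : IsFppfFamily ι :=
      { flat := fun x => by have := hι2 x; infer_instance
        lfp := fun x => by have := hι2 x; infer_instance
        surj := fun x => ⟨x, hι3 x⟩ }
    refine hfamR.hom_ext _ _ fun x => ?_
    have l1 := (hgw i).transport (ι x ≫ r1) (by rw [Category.assoc, hι1])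
    have l2 := (hgw j).transport (ι x ≫ r2) (by rw [Category.assoc, ← hr, hι1])
    have := hu (sq.restrict (ψ x)) _ _ l1.1 l1.2 l2.1 l2.2
    simpa only [Functor.map_comp, Category.assoc] using this)
  refine ⟨g, ?_, ?_⟩
  · refine hfam₀.hom_ext _ _ fun w => ?_
    have e1 := congrArg (fun m => (yon S).map m ≫ g) (jQ_rho sq.I sq.str (φ w))
    simp only [Functor.map_comp, Category.assoc] at e1
    rw [← e1, hg w]
    exact (hgw w).1
  · refine hfam.hom_ext _ _ fun w => ?_
    rw [← Category.assoc, hg w]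
    exact (hgw w).2

end Groth.Agent.H52
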