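import Groth.Agent.H52.FormalEt
import Groth.Agent.H52.LocNoeth
import Groth.Agent.S10619

set_option autoImplicit false
universe u
open CategoryTheory CategoryTheory.Limits AlgebraicGeometry Opposite

namespace Groth.Agent.H52

open AlgSp

variable {S : Scheme.{u}}

/-- A formally etale morphism of schemes over `S` induces a formally etale morphism of sheaves. -/
theorem isFormallyEtaleMor_yon_map {U V : Over S} (h : U ⟶ V)
    (hh : MoreMor.IsFormallyEtaleHom h.left) : IsFormallyEtaleMor ((yon S).map h) := by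
  intro sq
  obtain ⟨t₀, ht₀⟩ := (yon S).map_surjective sq.top
  obtain ⟨t₁, ht₁⟩ := (yon S).map_surjective sq.bot
  have hc : t₀ ≫ h = sq.j ≫ t₁ := by
    apply (yon S).map_injective
    rw [Functor.map_comp, Functor.map_comp, ht₀, ht₁]
    exact sq.comm
  have hc' : Spec.map (CommRingCat.ofHom (Ideal.Quotient.mk sq.I)) ≫ t₁.left = t₀.left ≫ h.left := by
    have := congrArg (fun m => m.left) hc
    exact this.symm
  obtain ⟨l, ⟨hl1, hl2⟩, hlu⟩ := hh sq.A sq.I sq.sq_zero t₀.left t₁.left hc'
  have hlw : l ≫ U.hom = sq.ptT'.hom := by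
    rw [← Over.w h, ← Category.assoc, hl2]
    exact Over.w t₁
  let lO : sq.ptT' ⟶ U := Over.homMk l hlw
  refine ⟨(yon S).map lO, ⟨?_, ?_⟩, ?_⟩
  · rw [← Functor.map_comp, ← ht₀]
    congr 1
    ext
    exact hl1
  · rw [← Functor.map_comp, ← ht₁]
    congr 1
    ext
    exact hl2
  · rintro l' ⟨h1, h2⟩
    obtain ⟨m, rfl⟩ := (yon S).map_surjective l'
    congr 1
    have e1 : sq.j ≫ m = t₀ := by
      apply (yon S).map_injective
      rw [Functor.map_comp, h1, ht₀]
    have e2 : m ≫ h = t₁ := by
      apply (yon S).map_injective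
      rw [Functor.map_comp, h2, ht₁]
    have := hlu m.left ⟨congrArg (fun t => t.left) e1, congrArg (fun t => t.left) e2⟩
    ext
    exact this

/-- Chart expressions of a formally etale morphism of sheaves are formally etale morphisms of
schemes. -/
theorem locP_isFormallyEtaleHom_of_isFormallyEtaleMor {X Y : Sp S} (f : X ⟶ Y)
    (hf : IsFormallyEtaleMor f) : LocP @MoreMor.IsFormallyEtaleHom f := by
  intro U V a b h ha hb comm A _ I hI α β w
  let str : Spec (CommRingCat.of A) ⟶ S := β ≫ V.hom
  let β' : ptA str ⟶ V := Over.homMk β rfl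
  have hαw : α ≫ U.hom = (ptQ I str).hom := by
    rw [← Over.w h, ← Category.assoc, ← w, Category.assoc]
    rfl
  let α' : ptQ I str ⟶ U := Over.homMk α hαw
  have hαβ : α' ≫ h = jQ I str ≫ β' := by
    ext
    exact w.symm
  let sq : InfSq f :=
    { A := A
      I := I
      sq_zero := hI
      str := str
      top := (yon S).map α' ≫ a
      bot := (yon S).map β' ≫ b
      comm := by
        have e0 := congrArg (fun t => (yon S).map t ≫ b) hαβ
        simp only [Functor.map_comp, Category.assoc] at e0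
        rw [Category.assoc, comm]
        exact e0 }
  have hsurj := surjective_jQ I hI str
  obtain ⟨lX, ⟨hlX1, hlX2⟩, hlXu⟩ := hf sq
  have hlX1' : (yon S).map (jQ I str) ≫ lX = (yon S).map α' ≫ a := hlX1
  have hlX2' : lX ≫ f = (yon S).map β' ≫ b := hlX2
  obtain ⟨l, ⟨hl1, hl2⟩, hlu⟩ := existsUnique_lift_of_repWith_etale a ha (jQ I str)
    ((yon S).map α') lX hlX1'.symm
  obtain ⟨m, rfl⟩ := (yon S).map_surjective l
  have hjm : jQ I str ≫ m = α' := by
    apply (yon S).map_injective
    rw [Functor.map_comp, hl1]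
  -- `m ≫ h = β'` by uniqueness of lifts through `b`
  have hmh : m ≫ h = β' := by
    obtain ⟨k, -, hku⟩ := existsUnique_lift_of_repWith_etale b hb (jQ I str)
      ((yon S).map (α' ≫ h)) ((yon S).map β' ≫ b) (by
        rw [← Category.assoc, ← Functor.map_comp, hαβ])
    apply (yon S).map_injective
    rw [hku ((yon S).map (m ≫ h)) ⟨by rw [← Functor.map_comp, ← Category.assoc, hjm], by
      rw [Functor.map_comp, Category.assoc, ← comm, ← Category.assoc, hl2, hlX2']⟩,
      hku ((yon S).map β') ⟨by rw [← Functor.map_comp, hαβ], rfl⟩]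
  refine ⟨m.left, ⟨congrArg (fun t => t.left) hjm, congrArg (fun t => t.left) hmh⟩, ?_⟩
  rintro l' ⟨hl'1, hl'2⟩
  have hl'w : l' ≫ U.hom = (ptA str).hom := by
    rw [← Over.w h, ← Category.assoc, hl'2]
    rfl
  let m' : ptA str ⟶ U := Over.homMk l' hl'w
  have hjm' : jQ I str ≫ m' = α' := by
    ext
    exact hl'1
  have hm'h : m' ≫ h = β' := by
    ext
    exact hl'2
  have e1 : (yon S).map m' ≫ a = lX := hlXu _ ⟨by
    change (yon S).map (jQ I str) ≫ (yon S).map m' ≫ a = (yon S).map α' ≫ a
    rw [← Category.assoc, ← Functor.map_comp, hjm'], by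
    change ((yon S).map m' ≫ a) ≫ f = (yon S).map β' ≫ b
    rw [Category.assoc, comm, ← Category.assoc, ← Functor.map_comp, hm'h]⟩
  have e2 : (yon S).map m' = (yon S).map m := hlu _ ⟨by rw [← Functor.map_comp, hjm'], e1⟩
  have e3 : m' = m := (yon S).map_injective e2
  exact congrArg (fun t => t.left) e3

/-- One pair of charts with surjective etale source chart and formally etale chart expression
makes the morphism formally etale. -/
theorem isFormallyEtaleMor_of_chart {X Y : Sp S} (f : X ⟶ Y) {U V : Over S}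
    (a : (yon S).obj U ⟶ X) (b : (yon S).obj V ⟶ Y) (h : U ⟶ V) (hae : RepWith @Etale a)
    (has : RepWith @Surjective a) (hbe : RepWith @Etale b) (comm : a ≫ f = (yon S).map h ≫ b)
    (hh : MoreMor.IsFormallyEtaleHom h.left) : IsFormallyEtaleMor f := by
  have h1 := isFormallyEtaleMor_yon_map h hh
  have h2 := isFormallyEtaleMor_of_repWith_etale b hbe
  have h3 : IsFormallyEtaleMor ((yon S).map h ≫ b) := (Groth.Agent.S10619.result _ _).2.1 h1 h2
  rw [← comm] at h3
  exact isFormallyEtaleMor_of_comp a f hae has h3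

/-- A morphism of algebraic spaces is formally etale iff its chart expressions are. -/
theorem isFormallyEtaleMor_iff_locP {X Y : Sp S} (hX : IsAlgSpace X) (hY : IsAlgSpace Y)
    (f : X ⟶ Y) : IsFormallyEtaleMor f ↔ LocP @MoreMor.IsFormallyEtaleHom f := by
  refine ⟨locP_isFormallyEtaleHom_of_isFormallyEtaleMor f, fun hloc => ?_⟩
  obtain ⟨V, b, hbe, hbs⟩ := hY.atlas
  obtain ⟨U, a, h, hae, has, comm⟩ := exists_surjective_chart_over hX f b hbe hbs
  exact isFormallyEtaleMor_of_chart f a b h hae has hbe comm (hloc a b h hae hbe comm)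

end Groth.Agent.H52
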