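import Groth.Agent.H52.FormalUnramChart

set_option autoImplicit false
universe u
open CategoryTheory CategoryTheory.Limits AlgebraicGeometry Opposite

namespace Groth.Agent.H52

open AlgSp

variable {S : Scheme.{u}}

/-- An etale morphism (in the sense of the reference) out of an algebraic space is formally
etale. -/
theorem isFormallyEtaleMor_of_isEtaleMor {X Y : Sp S} (hX : IsAlgSpace X) (p : X ⟶ Y)
    (hp : IsEtaleMor p) : IsFormallyEtaleMor p := by
  obtain ⟨W, φ, hφe, hφs⟩ := hX.atlas
  exact isFormallyEtaleMor_of_comp φ p hφe hφs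
    (isFormallyEtaleMor_of_repWith_etale (φ ≫ p) (hp φ hφe))

/-- Formal smoothness passes to a morphism between formally etale / formally unramified covers. -/
theorem isFormallySmoothMor_of_square {X Y U V : Sp S} (f : X ⟶ Y)
    (hf : IsFormallySmoothMor f) (p : U ⟶ X) (q : V ⟶ Y) (hp : IsFormallyEtaleMor p)
    (hq : IsFormallyUnramifiedMor q) (ψ : U ⟶ V) (w : ψ ≫ q = p ≫ f) :
    IsFormallySmoothMor ψ := by
  intro sq
  let sqf : InfSq f :=
    { A := sq.A
      I := sq.I
      sq_zero := sq.sq_zero
      str := sq.str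
      top := sq.top ≫ p
      bot := sq.bot ≫ q
      comm := by
        have e0 := congrArg (· ≫ q) sq.comm
        simp only [Category.assoc] at e0 ⊢
        rw [← w]
        exact e0 }
  obtain ⟨l, hl1, hl2⟩ := hf sqf
  let sqp : InfSq p :=
    { A := sq.A
      I := sq.I
      sq_zero := sq.sq_zero
      str := sq.str
      top := sq.top
      bot := l
      comm := hl1.symm }
  obtain ⟨m, ⟨hm1, hm2⟩, -⟩ := hp sqp
  refine ⟨m, hm1, ?_⟩
  let sqq : InfSq q :=
    { A := sq.A
      I := sq.I
      sq_zero := sq.sq_zero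
      str := sq.str
      top := sq.top ≫ ψ
      bot := sq.bot ≫ q
      comm := by
        have e0 := congrArg (· ≫ q) sq.comm
        simpa only [Category.assoc] using e0 }
  refine hq sqq (m ≫ ψ) sq.bot ?_ ?_ ?_ ?_
  · change (yon S).map sq.j ≫ m ≫ ψ = sq.top ≫ ψ
    rw [← Category.assoc]
    exact congrArg (· ≫ ψ) hm1
  · change (m ≫ ψ) ≫ q = sq.bot ≫ q
    rw [Category.assoc, w, ← Category.assoc]
    exact (congrArg (· ≫ f) hm2).trans hl2
  · exact sq.comm.symm
  · rfl

end Groth.Agent.H52
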