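import Groth.Agent.Lib.Helper51.OverCoprod
import Groth.Agent.H52.QSChart2
import Groth.Agent.H52.DescInst

/-!
# Separation of quotients with `R` a finite coproduct of graphs (towards S9890)
-/

set_option autoImplicit false
universe u
open CategoryTheory CategoryTheory.Limits AlgebraicGeometry Opposite Topology
open AlgSp

namespace Groth.Agent.H52.FreeQuot

variable {S : Scheme.{u}} {ι : Type u}

open Groth.Agent.Lib.Helper51 in
/-- The summands of a coproduct in `Over S` are jointly surjective. -/
theorem exists_inj_left_eq {X : ι → Over S} (c : Cofan X) (hc : IsColimit c) (x : ↥c.pt.left) :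
    ∃ (i : ι) (y : ↥(X i).left), (c.inj i).left y = x := by
  let e := hc.coconePointUniqueUpToIso
    (isColimitSigmaOver (fun i ↦ (X i).left) (fun i ↦ (X i).hom))
  have he : ∀ i, c.inj i ≫ e.hom = sigmaOverι (fun i ↦ (X i).left) (fun i ↦ (X i).hom) i :=
    fun i ↦ IsColimit.comp_coconePointUniqueUpToIso_hom hc _ ⟨i⟩
  obtain ⟨i, y, hy⟩ := (AlgebraicGeometry.sigmaOpenCover (fun i ↦ (X i).left)).exists_eq (e.hom.left x)
  refine ⟨i, y, ?_⟩
  have h1 : (c.inj i).left ≫ e.hom.left = Sigma.ι (fun i ↦ (X i).left) i := by
    rw [← Over.comp_left, he]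
    rfl
  have hinj : Function.Injective e.hom.left := by
    have : IsIso e.hom.left := (Over.forget S).map_isIso e.hom
    exact (e.hom.left.homeomorph).injective
  apply hinj
  rw [← Scheme.Hom.comp_apply, h1]
  exact hy

/-- A morphism out of a finite coproduct in `Over S` is quasi-compact if it is so on each
summand. -/
theorem quasiCompact_of_cofan [Finite ι] {X : ι → Over S} (c : Cofan X) (hc : IsColimit c)
    {Z : Over S} (m : c.pt ⟶ Z) (h : ∀ i, QuasiCompact (c.inj i ≫ m).left) :
    QuasiCompact m.left := by
  rw [quasiCompact_iff_forall_isAffineOpen]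
  intro V hV
  have hV' : IsCompact (V : Set ↥Z.left) := hV.isCompact
  have hcov : ((m.left ⁻¹ᵁ V : c.pt.left.Opens) : Set ↥c.pt.left) =
      ⋃ i, (c.inj i).left '' (((c.inj i ≫ m).left ⁻¹ᵁ V : (X i).left.Opens) : Set ↥(X i).left) := by
    ext x
    simp only [Set.mem_iUnion, Set.mem_image]
    constructor
    · intro hx
      obtain ⟨i, y, rfl⟩ := exists_inj_left_eq c hc x
      refine ⟨i, y, ?_, rfl⟩
      change (c.inj i ≫ m).left y ∈ V
      rw [Over.comp_left, Scheme.Hom.comp_apply]
      exact hx
    · rintro ⟨i, y, hy, rfl⟩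
      change m.left ((c.inj i).left y) ∈ V
      rw [← Scheme.Hom.comp_apply, ← Over.comp_left]
      exact hy
  rw [hcov]
  refine isCompact_iUnion fun i => IsCompact.image ?_ (c.inj i).left.continuous
  have := h i
  exact QuasiCompact.isCompact_preimage (f := (c.inj i ≫ m).left) _ V.isOpen hV'

/-- A monomorphism out of a finite coproduct in `Over S` is a closed immersion if it is so on
each summand. -/
theorem isClosedImmersion_of_cofan [Finite ι] {X : ι → Over S} (c : Cofan X) (hc : IsColimit c)
    {Z : Over S} (m : c.pt ⟶ Z) [Mono m] (h : ∀ i, IsClosedImmersion (c.inj i ≫ m).left) :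
    IsClosedImmersion m.left := by
  have hs : SurjectiveOnStalks m.left :=
    Groth.Agent.Lib.Helper51.left_mem_of_forall_inj (P := @SurjectiveOnStalks) c hc m
      (fun i => by have := h i; infer_instance)
  have hmono : Mono m.left := inferInstance
  have hinj : Function.Injective m.left := Scheme.Hom.injective _
  have hclosed : IsClosedMap m.left := by
    intro C hC
    have hcov : m.left '' C = ⋃ i, (c.inj i ≫ m).left '' ((c.inj i).left ⁻¹' C) := by
      ext z
      simp only [Set.mem_iUnion, Set.mem_image, Set.mem_preimage]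
      constructor
      · rintro ⟨x, hx, rfl⟩
        obtain ⟨i, y, rfl⟩ := exists_inj_left_eq c hc x
        refine ⟨i, y, hx, ?_⟩
        rw [Over.comp_left, Scheme.Hom.comp_apply]
      · rintro ⟨i, y, hy, rfl⟩
        refine ⟨(c.inj i).left y, hy, ?_⟩
        rw [Over.comp_left, Scheme.Hom.comp_apply]
    rw [hcov]
    refine isClosed_iUnion_of_finite fun i => ?_
    have := h i
    exact (c.inj i ≫ m).left.isClosedEmbedding.isClosedMap _
      (hC.preimage (c.inj i).left.continuous)
  exact { toSurjectiveOnStalks := hs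
          isClosedEmbedding :=
            .of_continuous_injective_isClosedMap m.left.continuous hinj hclosed }

/-- The second projection `U × U ⟶ U` in `Over S` is a base change of the structure morphism. -/
theorem prod_snd_left_eq (U : Over S) :
    (prod.snd : U ⨯ U ⟶ U).left =
      (Over.prodLeftIsoPullback U U).hom ≫ pullback.snd U.hom U.hom :=
  (Over.prodLeftIsoPullback_hom_snd U U).symm

theorem quasiCompact_prod_lift_id (U : Over S) [QuasiSeparated U.hom] (a : U ⟶ U) :
    QuasiCompact (prod.lift a (𝟙 U)).left := by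
  have h1 : QuasiSeparated (prod.snd : U ⨯ U ⟶ U).left := by
    rw [prod_snd_left_eq]
    infer_instance
  have h2 : (prod.lift a (𝟙 U)).left ≫ (prod.snd : U ⨯ U ⟶ U).left = 𝟙 U.left := by
    rw [← Over.comp_left, prod.lift_snd, Over.id_left]
  have h3 : QuasiCompact ((prod.lift a (𝟙 U)).left ≫ (prod.snd : U ⨯ U ⟶ U).left) := by
    rw [h2]; infer_instance
  exact QuasiCompact.of_comp _ (prod.snd : U ⨯ U ⟶ U).left

theorem isClosedImmersion_prod_lift_id (U : Over S) [IsSeparated U.hom] (a : U ⟶ U) :
    IsClosedImmersion (prod.lift a (𝟙 U)).left := by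
  have h1 : IsSeparated (prod.snd : U ⨯ U ⟶ U).left := by
    rw [prod_snd_left_eq]
    infer_instance
  have h2 : (prod.lift a (𝟙 U)).left ≫ (prod.snd : U ⨯ U ⟶ U).left = 𝟙 U.left := by
    rw [← Over.comp_left, prod.lift_snd, Over.id_left]
  have h3 : IsClosedImmersion ((prod.lift a (𝟙 U)).left ≫ (prod.snd : U ⨯ U ⟶ U).left) := by
    rw [h2]; infer_instance
  exact IsClosedImmersion.of_comp _ (prod.snd : U ⨯ U ⟶ U).left

/-- Properties of the diagonal of an algebraic space with a presentation, from `j : R ⟶ U × U`. -/
theorem repWith_diag_of_presentation (Q : MorphismProperty Scheme.{u}) [Q.IsStableUnderBaseChange]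
    [Q.DescendsAlong (@Surjective ⊓ @Flat ⊓ @LocallyOfFinitePresentation)]
    {X : Sp S} (hX : IsAlgSpace X) {R U : Over S} (s t : R ⟶ U) (p : (yon S).obj U ⟶ X)
    (hp : IsPresentation s t p) (hj : Q (prod.lift t s).left) : RepWith Q (Limits.diag X) := by
  have : Q.RespectsIso := MorphismProperty.IsStableUnderBaseChange.respectsIso
  have hj' : RepWith Q (prod.lift ((yon S).map t) ((yon S).map s)) := by
    rw [prod_lift_yon_map]
    exact (MorphismProperty.cancel_right_of_respectsIso (RepWith (S := S) Q)
      ((yon S).map (prod.lift t s)) (prodComparison (yon S) U U)).2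
      ((repWith_yon_map_iff Q _).2 hj)
  exact repWith_of_etale_surjective_base_change Q (isPullback_diag_prod_map' hp.isPullback)
    hX.diag (repWith_prod_map _ p p hp.etale hp.etale)
    (repWith_prod_map _ p p hp.surjective hp.surjective) hj'

end Groth.Agent.H52.FreeQuot
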