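import Groth.Agent.H52.FreeQuotSep
import Groth.Agent.Lib.Helper51.OverCoprod

/-!
# Field points of a quotient by a free group action, part 1 (towards S9895)

Points of `U` from a one-point scheme with the same image in `U/G` differ by a unique group
element.
-/

set_option autoImplicit false
universe u
open CategoryTheory CategoryTheory.Limits AlgebraicGeometry Opposite
open AlgSp

namespace Groth.Agent.H52.GaloisQuot

variable {S : Scheme.{u}}

section Cofan

variable {ι : Type u} {X : ι → Over S} (c : Cofan X) (hc : IsColimit c)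

include hc in
/-- The coprojections of a coproduct in `Over S` are open immersions. -/
theorem isOpenImmersion_inj_left (i : ι) : IsOpenImmersion (c.inj i).left := by
  let e := hc.coconePointUniqueUpToIso
    (Groth.Agent.Lib.Helper51.isColimitSigmaOver (fun i ↦ (X i).left) (fun i ↦ (X i).hom))
  have he : c.inj i ≫ e.hom =
      Groth.Agent.Lib.Helper51.sigmaOverι (fun i ↦ (X i).left) (fun i ↦ (X i).hom) i :=
    IsColimit.comp_coconePointUniqueUpToIso_hom hc _ ⟨i⟩
  have h1 : (c.inj i).left ≫ e.hom.left = Sigma.ι (fun i ↦ (X i).left) i := by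
    rw [← Over.comp_left, he]
    rfl
  have : IsIso e.hom.left := (Over.forget S).map_isIso e.hom
  have h2 : (c.inj i).left = Sigma.ι (fun i ↦ (X i).left) i ≫ inv e.hom.left := by
    rw [← h1, Category.assoc, IsIso.hom_inv_id, Category.comp_id]
  rw [h2]
  infer_instance

include hc in
/-- A morphism from a one-point scheme to a coproduct in `Over S` factors through a summand. -/
theorem exists_factor_inj {T : Over S} (x0 : T.left) (hT : ∀ x : T.left, x = x0) (r : T ⟶ c.pt) :
    ∃ (i : ι) (r' : T ⟶ X i), r' ≫ c.inj i = r := by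
  obtain ⟨i, y, hy⟩ := Groth.Agent.H52.FreeQuot.exists_inj_left_eq c hc (r.left x0)
  have : IsOpenImmersion (c.inj i).left := isOpenImmersion_inj_left c hc i
  have hr : Set.range r.left ⊆ Set.range (c.inj i).left := by
    rintro _ ⟨x, rfl⟩
    rw [hT x]
    exact ⟨y, hy⟩
  refine ⟨i, Over.homMk (IsOpenImmersion.lift (c.inj i).left r.left hr) ?_, ?_⟩
  · have h1 : (X i).hom = (c.inj i).left ≫ c.pt.hom := (Over.w (c.inj i)).symm
    rw [h1, IsOpenImmersion.lift_fac_assoc]
    exact Over.w r
  · apply Over.OverMorphism.ext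
    rw [Over.comp_left]
    exact IsOpenImmersion.lift_fac _ _ _

end Cofan

section Action

variable (U : Over S) {G : Type u} [Group G] (ρ : G →* Aut U)

theorem hom_mul (g h : G) : (ρ (g * h)).hom = (ρ h).hom ≫ (ρ g).hom := by
  rw [map_mul]
  rfl

theorem hom_one : (ρ 1).hom = 𝟙 U := by
  rw [map_one]
  rfl

variable {U}

/-- For a free action, a point of `U` from a non-empty scheme determines the group element
translating it. -/
theorem translate_injective
    (hfree : ∀ (g : G) (x : U.left), g ≠ 1 →
      U.left.fromSpecResidueField x ≫ (ρ g).hom.left ≠ U.left.fromSpecResidueField x)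
    {T : Over S} (x0 : T.left) (p : T ⟶ U) (g g' : G)
    (h : p ≫ (ρ g).hom = p ≫ (ρ g').hom) : g = g' := by
  by_contra hne
  have hne' : g'⁻¹ * g ≠ 1 := by
    intro h1
    apply hne
    have := congrArg (fun z => g' * z) h1
    simpa using this
  have h2 : p ≫ (ρ (g'⁻¹ * g)).hom = p := by
    rw [hom_mul, ← Category.assoc, h, Category.assoc, ← hom_mul, inv_mul_cancel, hom_one,
      Category.comp_id]
  have h3 : p.left ≫ (ρ (g'⁻¹ * g)).hom.left = p.left := by
    rw [← Over.comp_left, h2]
  exact (Groth.Agent.Lib.Helper51.isEmpty_of_comp_eq_of_free p.left _ h3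
    (fun x => hfree _ x hne')).false x0

variable (c : Cofan (fun _ : G => U)) (hc : IsColimit c) (s t : c.pt ⟶ U)
  (hs : ∀ g, c.inj g ≫ s = 𝟙 U) (ht : ∀ g, c.inj g ≫ t = (ρ g).hom)
  {Q : Sp S} (π : (yon S).obj U ⟶ Q)

include hs ht in
/-- The quotient map is invariant under the action. -/
theorem map_hom_comp_eq (hπ : (yon S).map t ≫ π = (yon S).map s ≫ π) (g : G) :
    (yon S).map (ρ g).hom ≫ π = π := by
  have h1 := congrArg (fun z => (yon S).map (c.inj g) ≫ z) hπ
  simp only [← Category.assoc, ← Functor.map_comp, hs, ht] at h1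
  rw [h1, CategoryTheory.Functor.map_id, Category.id_comp]

include hc hs ht in
/-- Two points of `U` from a one-point scheme with the same image in the quotient differ by a group
element. -/
theorem exists_translate (hP : IsPresentation s t π) {T : Over S} (x0 : T.left)
    (hT : ∀ x : T.left, x = x0) (p1 p2 : T ⟶ U)
    (h : (yon S).map p1 ≫ π = (yon S).map p2 ≫ π) : ∃ g : G, p1 = p2 ≫ (ρ g).hom := by
  obtain ⟨r, hr⟩ := (yon S).map_surjective (hP.isPullback.lift ((yon S).map p1) ((yon S).map p2) h)
  have hr1 : r ≫ t = p1 := by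
    apply (yon S).map_injective
    rw [Functor.map_comp, hr, IsPullback.lift_fst]
  have hr2 : r ≫ s = p2 := by
    apply (yon S).map_injective
    rw [Functor.map_comp, hr, IsPullback.lift_snd]
  obtain ⟨g, r', hr'⟩ := exists_factor_inj c hc x0 hT r
  refine ⟨g, ?_⟩
  have h2 : r' = p2 := by
    rw [← hr2, ← hr', Category.assoc, hs, Category.comp_id]
  rw [← hr1, ← hr', Category.assoc, ht, h2]

end Action

end Groth.Agent.H52.GaloisQuot
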