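import Groth.Agent.H52.GaloisQuot1
import Mathlib.FieldTheory.Galois.Basic
import Mathlib.FieldTheory.SeparableDegree

/-!
# Field points of a quotient by a free group action, part 2 (towards S9895)

The Galois group of the residue field of a point of the fibre of `U ⟶ U/G` over a field point.
-/

set_option autoImplicit false
universe u
open CategoryTheory CategoryTheory.Limits AlgebraicGeometry Opposite IsLocalRing
open AlgSp

namespace Groth.Agent.H52.GaloisQuot

variable {S : Scheme.{u}} {k : Type u} [Field k] (σ : Spec (CommRingCat.of k) ⟶ S)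

/-- `Spec A` over `S`, through `Spec k`. -/
noncomputable abbrev ptOf (A : Type u) [CommRing A] [Algebra k A] : Over S :=
  Over.mk (Spec.map (CommRingCat.ofHom (algebraMap k A)) ≫ σ)

/-- `Spec A ⟶ Spec k` over `S`. -/
noncomputable def toBase (A : Type u) [CommRing A] [Algebra k A] : ptOf σ A ⟶ Over.mk σ :=
  Over.homMk (Spec.map (CommRingCat.ofHom (algebraMap k A))) rfl

/-- `Spec B ⟶ Spec A` over `S`, for a `k`-algebra map `A → B`. -/
noncomputable def specAlg {A B : Type u} [CommRing A] [Algebra k A] [CommRing B] [Algebra k B]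
    (f : A →ₐ[k] B) : ptOf σ B ⟶ ptOf σ A :=
  Over.homMk (Spec.map (CommRingCat.ofHom f.toRingHom)) (by
    have h : f.toRingHom.comp (algebraMap k A) = algebraMap k B := f.comp_algebraMap
    change Spec.map _ ≫ Spec.map _ ≫ σ = Spec.map _ ≫ σ
    rw [← Spec.map_comp_assoc, ← CommRingCat.ofHom_comp, h])

section

variable {A B C : Type u} [CommRing A] [Algebra k A] [CommRing B] [Algebra k B] [CommRing C]
  [Algebra k C]

@[simp] theorem toBase_left : (toBase σ A).left = Spec.map (CommRingCat.ofHom (algebraMap k A)) :=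
  rfl

@[simp] theorem specAlg_left (f : A →ₐ[k] B) :
    (specAlg σ f).left = Spec.map (CommRingCat.ofHom f.toRingHom) := rfl

theorem specAlg_toBase (f : A →ₐ[k] B) : specAlg σ f ≫ toBase σ A = toBase σ B := by
  have h : f.toRingHom.comp (algebraMap k A) = algebraMap k B := f.comp_algebraMap
  apply Over.OverMorphism.ext
  rw [Over.comp_left, specAlg_left, toBase_left, toBase_left, ← Spec.map_comp,
    ← CommRingCat.ofHom_comp, h]

theorem specAlg_comp (f : A →ₐ[k] B) (g : B →ₐ[k] C) :
    specAlg σ (g.comp f) = specAlg σ g ≫ specAlg σ f := by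
  apply Over.OverMorphism.ext
  rw [Over.comp_left, specAlg_left, specAlg_left, specAlg_left, ← Spec.map_comp,
    ← CommRingCat.ofHom_comp]
  rfl

end

theorem eq_closedPoint (L : Type u) [Field L] [Algebra k L] (x : (ptOf σ L).left) :
    x = (closedPoint L : PrimeSpectrum L) :=
  Subsingleton.elim (α := PrimeSpectrum L) _ _

section Main

variable {U : Over S} {G : Type u} [Group G] (ρ : G →* Aut U)
  (hfree : ∀ (g : G) (x : U.left), g ≠ 1 →
      U.left.fromSpecResidueField x ≫ (ρ g).hom.left ≠ U.left.fromSpecResidueField x)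
  (c : Cofan (fun _ : G => U)) (hc : IsColimit c) (s t : c.pt ⟶ U)
  (hs : ∀ g, c.inj g ≫ s = 𝟙 U) (ht : ∀ g, c.inj g ≫ t = (ρ g).hom)
  {Q : Sp S} (π : (yon S).obj U ⟶ Q) (hP : IsPresentation s t π)
  (ξ : (yon S).obj (Over.mk σ) ⟶ Q)
  {W : Over S} (prU : W ⟶ U) (prk : W ⟶ Over.mk σ)
  (sq : IsPullback ((yon S).map prU) ((yon S).map prk) π ξ)
  (k' : Type u) [Field k'] [Algebra k k']
  (xW : ptOf σ k' ⟶ W) (hxk : xW ≫ prk = toBase σ k') [Mono xW.left]
  (hfac : ∀ c' : Spec (CommRingCat.of k') ⟶ W.left,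
    c' (closedPoint k' : PrimeSpectrum k') = xW.left (closedPoint k' : PrimeSpectrum k') →
      ∃ τ : k' →+* k', c' = Spec.map (CommRingCat.ofHom τ) ≫ xW.left)

include sq hxk in
theorem map_comp_prU_comp :
    (yon S).map (xW ≫ prU) ≫ π = (yon S).map (toBase σ k') ≫ ξ := by
  rw [Functor.map_comp, Category.assoc, sq.w, ← Category.assoc, ← Functor.map_comp, hxk]

include hc hs ht hP sq hxk hfac in
/-- Any two `k`-embeddings of `k'` into a field differ by a `k`-endomorphism of `k'`. -/
theorem exists_algHom_comp_eq (Ω : Type u) [Field Ω] [Algebra k Ω] (i1 i2 : k' →ₐ[k] Ω) :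
    ∃ τ : k' →ₐ[k] k', i1 = i2.comp τ := by
  have hbπ := map_comp_prU_comp σ π ξ prU prk sq k' xW hxk
  have hpt : ∀ i : k' →ₐ[k] Ω, (yon S).map (specAlg σ i ≫ xW ≫ prU) ≫ π =
      (yon S).map (toBase σ Ω) ≫ ξ := by
    intro i
    rw [Functor.map_comp, Category.assoc, hbπ, ← Category.assoc, ← Functor.map_comp,
      specAlg_toBase]
  obtain ⟨g, hg⟩ := exists_translate ρ c hc s t hs ht π hP
    (closedPoint Ω : PrimeSpectrum Ω) (eq_closedPoint σ Ω)
    (specAlg σ i1 ≫ xW ≫ prU) (specAlg σ i2 ≫ xW ≫ prU) ((hpt i1).trans (hpt i2).symm)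
  have hinv : (yon S).map (ρ g).hom ≫ π = π :=
    map_hom_comp_eq ρ c s t hs ht π hP.isPullback.w g
  have hw : (yon S).map ((xW ≫ prU) ≫ (ρ g).hom) ≫ π = (yon S).map (toBase σ k') ≫ ξ := by
    rw [Functor.map_comp, Category.assoc, hinv, hbπ]
  obtain ⟨c', hc'⟩ := (yon S).map_surjective (sq.lift _ _ hw)
  have hc'U : c' ≫ prU = (xW ≫ prU) ≫ (ρ g).hom := by
    apply (yon S).map_injective
    rw [Functor.map_comp, hc', IsPullback.lift_fst]
  have hc'k : c' ≫ prk = toBase σ k' := by
    apply (yon S).map_injective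
    rw [Functor.map_comp, hc', IsPullback.lift_snd]
  have heq : specAlg σ i2 ≫ c' = specAlg σ i1 ≫ xW := by
    apply (yon S).map_injective
    apply sq.hom_ext
    · rw [← Functor.map_comp, ← Functor.map_comp, Category.assoc, Category.assoc, hc'U, hg]
      simp only [Category.assoc]
    · rw [← Functor.map_comp, ← Functor.map_comp, Category.assoc, Category.assoc, hc'k, hxk,
        specAlg_toBase, specAlg_toBase]
  have heql : Spec.map (CommRingCat.ofHom i2.toRingHom) ≫ c'.left =
      Spec.map (CommRingCat.ofHom i1.toRingHom) ≫ xW.left := by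
    have := congrArg (fun f => f.left) heq
    simpa only [Over.comp_left, specAlg_left] using this
  have hpt' : c'.left (closedPoint k' : PrimeSpectrum k') =
      xW.left (closedPoint k' : PrimeSpectrum k') := by
    have h1 : ∀ i : k' →ₐ[k] Ω, (Spec.map (CommRingCat.ofHom i.toRingHom))
        (closedPoint Ω : PrimeSpectrum Ω) = (closedPoint k' : PrimeSpectrum k') :=
      fun i => Subsingleton.elim (α := PrimeSpectrum k') _ _
    have h2 := congrArg (fun f : Spec (CommRingCat.of Ω) ⟶ W.left =>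
      f (closedPoint Ω : PrimeSpectrum Ω)) heql
    simp only [Scheme.Hom.comp_apply] at h2
    rw [h1, h1] at h2
    exact h2
  obtain ⟨τ0, hτ0⟩ := hfac c'.left hpt'
  have hcomm : τ0.comp (algebraMap k k') = algebraMap k k' := by
    have h1 : c'.left ≫ prk.left = Spec.map (CommRingCat.ofHom (algebraMap k k')) := by
      rw [← Over.comp_left, hc'k, toBase_left]
    have h2 : xW.left ≫ prk.left = Spec.map (CommRingCat.ofHom (algebraMap k k')) := by
      rw [← Over.comp_left, hxk, toBase_left]
    rw [hτ0, Category.assoc, h2, ← Spec.map_comp] at h1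
    have h3 := Spec.map_injective h1
    have h4 := congrArg (fun f => f.hom) h3
    exact h4
  let τ : k' →ₐ[k] k' := { τ0 with commutes' := fun r => RingHom.congr_fun hcomm r }
  refine ⟨τ, ?_⟩
  rw [hτ0, ← Category.assoc, cancel_mono, ← Spec.map_comp] at heql
  have h3 := Spec.map_injective heql
  ext x
  have h4 := congrArg (fun f => f.hom x) h3
  exact h4.symm

include hfree hc hs ht hP sq hxk hfac in
/-- The residue field `k'` of a point of the fibre is Galois over `k`, with Galois group a finite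
subgroup of `G` acting compatibly. -/
theorem exists_galois_data_aux [FiniteDimensional k k'] [Algebra.IsSeparable k k'] :
    ∃ (_ : IsGalois k k') (H : Subgroup G) (_ : Finite H) (e : H ≃* (k' ≃ₐ[k] k')),
      ∀ h : H, Spec.map (CommRingCat.ofHom (e h).symm.toRingEquiv.toRingHom) ≫ (xW ≫ prU).left =
        (xW ≫ prU).left ≫ (ρ (h : G)).hom.left := by
  have hbπ := map_comp_prU_comp σ π ξ prU prk sq k' xW hxk
  -- the group homomorphism
  have key : ∀ τ : k' ≃ₐ[k] k', ∃ g : G,
      specAlg σ (τ.symm : k' →ₐ[k] k') ≫ xW ≫ prU = (xW ≫ prU) ≫ (ρ g).hom := by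
    intro τ
    apply exists_translate ρ c hc s t hs ht π hP (closedPoint k' : PrimeSpectrum k')
      (eq_closedPoint σ k')
    rw [Functor.map_comp, Category.assoc, hbπ, ← Category.assoc, ← Functor.map_comp,
      specAlg_toBase]
  choose Φ hΦ using key
  have hΦmul : ∀ τ1 τ2, Φ (τ1 * τ2) = Φ τ1 * Φ τ2 := by
    intro τ1 τ2
    apply translate_injective ρ hfree (closedPoint k' : PrimeSpectrum k') (xW ≫ prU)
    calc (xW ≫ prU) ≫ (ρ (Φ (τ1 * τ2))).hom
        = specAlg σ ((τ1 * τ2).symm : k' →ₐ[k] k') ≫ xW ≫ prU := (hΦ _).symm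
      _ = specAlg σ (τ2.symm : k' →ₐ[k] k') ≫ specAlg σ (τ1.symm : k' →ₐ[k] k') ≫ xW ≫ prU := by
          have hcomp : ((τ1 * τ2).symm : k' →ₐ[k] k') =
              (τ2.symm : k' →ₐ[k] k').comp (τ1.symm : k' →ₐ[k] k') := rfl
          rw [hcomp, specAlg_comp, Category.assoc]
      _ = specAlg σ (τ2.symm : k' →ₐ[k] k') ≫ (xW ≫ prU) ≫ (ρ (Φ τ1)).hom := by rw [hΦ τ1]
      _ = ((xW ≫ prU) ≫ (ρ (Φ τ2)).hom) ≫ (ρ (Φ τ1)).hom := by
          rw [← Category.assoc, hΦ τ2]
      _ = (xW ≫ prU) ≫ (ρ (Φ τ1 * Φ τ2)).hom := by rw [hom_mul, Category.assoc]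
  let Φh : (k' ≃ₐ[k] k') →* G := MonoidHom.mk' Φ hΦmul
  have hinj : Function.Injective Φh := by
    rw [injective_iff_map_eq_one]
    intro τ hτ
    have h1 : specAlg σ (τ.symm : k' →ₐ[k] k') ≫ xW ≫ prU = xW ≫ prU := by
      have := hΦ τ
      rw [show Φ τ = 1 from hτ, hom_one, Category.comp_id] at this
      exact this
    have h2 : specAlg σ (τ.symm : k' →ₐ[k] k') ≫ xW = xW := by
      apply (yon S).map_injective
      apply sq.hom_ext
      · rw [← Functor.map_comp, ← Functor.map_comp, Category.assoc, h1]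
      · rw [← Functor.map_comp, ← Functor.map_comp, Category.assoc, hxk, specAlg_toBase]
    have h3 : Spec.map (CommRingCat.ofHom (τ.symm : k' →ₐ[k] k').toRingHom) ≫ xW.left =
        𝟙 _ ≫ xW.left := by
      have := congrArg (fun f => f.left) h2
      simpa only [Over.comp_left, specAlg_left, Category.id_comp] using this
    have h3' : Spec.map (CommRingCat.ofHom (τ.symm : k' →ₐ[k] k').toRingHom) =
        Spec.map (𝟙 (CommRingCat.of k')) := by
      rw [Spec.map_id]
      exact (cancel_mono xW.left).1 h3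
    have h4 := Spec.map_injective h3'
    ext x
    have h5 := congrArg (fun f => f.hom (τ x)) h4
    have h6 : τ.symm (τ x) = τ x := h5
    rw [AlgEquiv.symm_apply_apply] at h6
    exact h6.symm
  -- the Galois property
  have hgal : IsGalois k k' := by
    apply IsGalois.of_card_aut_eq_finrank
    rw [← Field.finSepDegree_eq_finrank_of_isSeparable k k']
    change _ = Nat.card (k' →ₐ[k] AlgebraicClosure k')
    let i0 : k' →ₐ[k] AlgebraicClosure k' := IsScalarTower.toAlgHom k k' (AlgebraicClosure k')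
    apply Nat.card_congr
    refine Equiv.ofBijective (fun τ => i0.comp (τ : k' →ₐ[k] k')) ⟨?_, ?_⟩
    · intro τ1 τ2 h
      ext x
      have := congrArg (fun f : k' →ₐ[k] AlgebraicClosure k' => f x) h
      exact i0.injective this
    · intro i1
      obtain ⟨τ, hτ⟩ := exists_algHom_comp_eq σ ρ c hc s t hs ht π hP ξ prU prk sq k' xW hxk hfac
        (AlgebraicClosure k') i1 i0
      exact ⟨AlgEquiv.ofBijective τ (Algebra.IsAlgebraic.algHom_bijective τ), hτ.symm⟩
  refine ⟨hgal, Φh.range, Finite.of_surjective Φh.rangeRestrict Φh.rangeRestrict_surjective,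
    (MonoidHom.ofInjective hinj).symm, ?_⟩
  intro h
  have h1 := hΦ ((MonoidHom.ofInjective hinj).symm h)
  have h2 : Φ ((MonoidHom.ofInjective hinj).symm h) = (h : G) :=
    MonoidHom.apply_ofInjective_symm hinj h
  rw [h2] at h1
  have := congrArg (fun f => f.left) h1
  simp only [Over.comp_left, specAlg_left] at this
  exact this

end Main

end Groth.Agent.H52.GaloisQuot
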