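import Groth.Agent.H52.GaloisQuot2
import Groth.Agent.H53.EtaleResidue

/-!
# Field points of a quotient by a free group action, part 3 (towards S9895)
-/

set_option autoImplicit false
set_option backward.isDefEq.respectTransparency false
universe u
open CategoryTheory CategoryTheory.Limits AlgebraicGeometry Opposite IsLocalRing
open AlgSp

namespace Groth.Agent.H52.GaloisQuot

/-- A morphism from the spectrum of a field with image the point `x` factors through the spectrum
of the residue field at `x`. -/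
theorem exists_factor_fromSpecResidueField {X : Scheme.{u}} (x : X) (K : Type u) [Field K]
    (f : Spec (CommRingCat.of K) ⟶ X) (hf : f (closedPoint K : PrimeSpectrum K) = x) :
    ∃ τ : X.residueField x ⟶ CommRingCat.of K, f = Spec.map τ ≫ X.fromSpecResidueField x := by
  subst hf
  exact ⟨_, (Scheme.descResidueField_stalkClosedPointTo_fromSpecResidueField K X f).symm⟩

variable {S : Scheme.{u}} {k : Type u} [Field k] (σ : Spec (CommRingCat.of k) ⟶ S)

variable {U : Over S} {G : Type u} [Group G] (ρ : G →* Aut U)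
  (hfree : ∀ (g : G) (x : U.left), g ≠ 1 →
      U.left.fromSpecResidueField x ≫ (ρ g).hom.left ≠ U.left.fromSpecResidueField x)
  (c : Cofan (fun _ : G => U)) (hc : IsColimit c) (s t : c.pt ⟶ U)
  (hs : ∀ g, c.inj g ≫ s = 𝟙 U) (ht : ∀ g, c.inj g ≫ t = (ρ g).hom)
  {Q : Sp S} (π : (yon S).obj U ⟶ Q) (hP : IsPresentation s t π)
  (ξ : (yon S).obj (Over.mk σ) ⟶ Q)
  {W : Over S} (prU : W ⟶ U) (prk : W ⟶ Over.mk σ)
  (sq : IsPullback ((yon S).map prU) ((yon S).map prk) π ξ)

include hfree hc hs ht hP sq in
theorem exists_galois_data [Etale prk.left] (w : W.left) :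
    ∃ (k' : Type u) (_ : Field k') (_ : Algebra k k') (_ : FiniteDimensional k k')
      (_ : IsGalois k k') (H : Subgroup G) (_ : Finite H) (e : H ≃* (k' ≃ₐ[k] k'))
      (x' : Over.mk (Spec.map (CommRingCat.ofHom (algebraMap k k')) ≫ σ) ⟶ U),
      (∀ h : H, Spec.map (CommRingCat.ofHom (e h).symm.toRingEquiv.toRingHom) ≫ x'.left =
        x'.left ≫ (ρ (h : G)).hom.left) ∧
      (AlgSp.yon S).map x' ≫ π =
        (AlgSp.yon S).map (Over.homMk (Spec.map (CommRingCat.ofHom (algebraMap k k'))) :
          Over.mk (Spec.map (CommRingCat.ofHom (algebraMap k k')) ≫ σ) ⟶ Over.mk σ) ≫ ξ := by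
  let K' : Type u := W.left.residueField w
  let ψ : k →+* K' := (Spec.preimage (W.left.fromSpecResidueField w ≫ prk.left)).hom
  have hψ : Spec.map (CommRingCat.ofHom ψ) = W.left.fromSpecResidueField w ≫ prk.left :=
    Spec.map_preimage _
  letI : Algebra k K' := ψ.toAlgebra
  obtain ⟨hfin, hsep⟩ := Groth.Agent.H53.finite_separable_residueField_of_etale prk.left w ψ hψ
  have hW : W.hom = prk.left ≫ σ := (Over.w prk).symm
  let xW : ptOf σ K' ⟶ W := Over.homMk (W.left.fromSpecResidueField w) (by
    change W.left.fromSpecResidueField w ≫ W.hom = Spec.map (CommRingCat.ofHom ψ) ≫ σ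
    rw [hψ, hW, Category.assoc])
  have hxk : xW ≫ prk = toBase σ K' := by
    apply Over.OverMorphism.ext
    exact hψ.symm
  have hmono : Mono xW.left := by
    change Mono (W.left.fromSpecResidueField w)
    infer_instance
  have hfac : ∀ c' : Spec (CommRingCat.of K') ⟶ W.left,
      c' (closedPoint K' : PrimeSpectrum K') = xW.left (closedPoint K' : PrimeSpectrum K') →
        ∃ τ : K' →+* K', c' = Spec.map (CommRingCat.ofHom τ) ≫ xW.left := by
    intro c' hc'
    have h1 : xW.left (closedPoint K' : PrimeSpectrum K') = w :=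
      Scheme.fromSpecResidueField_apply _ _
    obtain ⟨τ, hτ⟩ := exists_factor_fromSpecResidueField w K' c' (hc'.trans h1)
    exact ⟨τ.hom, hτ⟩
  obtain ⟨hgal, H, hH, e, he⟩ := exists_galois_data_aux σ ρ hfree c hc s t hs ht π hP ξ prU prk sq
    K' xW hxk hfac
  exact ⟨K', inferInstance, inferInstance, hfin, hgal, H, hH, e, xW ≫ prU, he,
    map_comp_prU_comp σ π ξ prU prk sq K' xW hxk⟩

end Groth.Agent.H52.GaloisQuot
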