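/-
Helper library (helper52): properties of the graph `A ⟶ B ×_Y A` of a morphism `a : A ⟶ B` over `Y`,
independent of the chosen fibre product; relation with the relative diagonal.
-/
import Groth.Agent.H52.QS
import Groth.Agent.H52.DiagSp
import Groth.Agent.H52.AffineMor
import Groth.Agent.H52.FibreProd
import Groth.Agent.H53.IntegralComp

set_option autoImplicit false
universe u
open CategoryTheory CategoryTheory.Limits AlgebraicGeometry Opposite
open AlgSp

namespace Groth.Agent.H52

variable {S : Scheme.{u}}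

/-- A map `γ : A ⟶ P` into a fibre product `P = A ×_Y A` with both components the identity is
"the diagonal": it has every iso-invariant property of the diagonal. -/
theorem repWith_of_isPullback_diag (Q : MorphismProperty Scheme.{u}) {A Y P : Sp S} {g : A ⟶ Y}
    {p q : P ⟶ A} (sq : IsPullback p q g g) (γ : A ⟶ P) (h1 : γ ≫ p = 𝟙 A) (h2 : γ ≫ q = 𝟙 A)
    (h : RepWith Q (pullback.diagonal g)) : RepWith Q γ := by
  have he : γ ≫ sq.isoPullback.hom = pullback.diagonal g := by
    apply pullback.hom_ext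
    · rw [Category.assoc, IsPullback.isoPullback_hom_fst, pullback.diagonal_fst, h1]
    · rw [Category.assoc, IsPullback.isoPullback_hom_snd, pullback.diagonal_snd, h2]
  rw [← he] at h
  exact (MorphismProperty.cancel_right_of_respectsIso (RepWith (S := S) Q) _ _).mp h

/-- The graph of `a : A ⟶ B` over `tB : B ⟶ Y` has property `Q` (for every choice of fibre product
`B ×_Y A`). -/
def GraphHas (Q : MorphismProperty Scheme.{u}) {A B Y : Sp S} (a : A ⟶ B) (tB : B ⟶ Y) : Prop :=
  ∀ ⦃P : Sp S⦄ (p : P ⟶ B) (q : P ⟶ A), IsPullback p q tB (a ≫ tB) →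
    ∀ γ : A ⟶ P, γ ≫ p = a → γ ≫ q = 𝟙 A → RepWith Q γ

/-- It suffices to check `GraphHas` on one fibre product. -/
theorem graphHas_of_one (Q : MorphismProperty Scheme.{u}) {A B Y : Sp S} (a : A ⟶ B) (tB : B ⟶ Y)
    {P : Sp S} {p : P ⟶ B} {q : P ⟶ A} (sq : IsPullback p q tB (a ≫ tB))
    (γ : A ⟶ P) (h1 : γ ≫ p = a) (h2 : γ ≫ q = 𝟙 A) (hγ : RepWith Q γ) : GraphHas Q a tB := by
  intro P' p' q' sq' γ' h1' h2'
  have he : γ ≫ (sq.isoIsPullback _ _ sq').hom = γ' := by
    apply sq'.hom_ext
    · rw [Category.assoc, IsPullback.isoIsPullback_hom_fst, h1, h1']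
    · rw [Category.assoc, IsPullback.isoIsPullback_hom_snd, h2, h2']
  rw [← he]
  exact (MorphismProperty.cancel_right_of_respectsIso (RepWith (S := S) Q) _ _).mpr hγ

/-- From base-change form (stage form) to `GraphHas`. -/
theorem graphHas_of_stage (Q : MorphismProperty Scheme.{u}) {A B Y : Sp S} (a : A ⟶ B) (tB : B ⟶ Y)
    (h : ∀ (Xi Yi : Sp S) (fi : Xi ⟶ Yi) (pYi : Yi ⟶ pullback tB tB) (qYi : Yi ⟶ A),
      IsPullback pYi qYi (pullback.snd tB tB) a → ∀ (pXi : Xi ⟶ B),
      IsPullback pXi fi (pullback.diagonal tB) pYi → RepWith Q fi) : GraphHas Q a tB := by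
  intro P p q sq γ h1 h2
  have hcond : p ≫ tB = (q ≫ a) ≫ tB := by rw [sq.w, Category.assoc]
  have sqY : IsPullback (pullback.lift p (q ≫ a) hcond) q (pullback.snd tB tB) a := by
    refine IsPullback.of_right ?_ (pullback.lift_snd _ _ _) (IsPullback.of_hasPullback tB tB)
    rw [pullback.lift_fst]
    exact sq
  refine h A P γ (pullback.lift p (q ≫ a) hcond) q sqY a ?_
  refine IsPullback.of_bot ?_ ?_ sqY
  · rw [h2, pullback.diagonal_snd]
    exact IsPullback.of_vert_isIso ⟨by simp⟩
  · apply pullback.hom_ext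
    · rw [Category.assoc, pullback.diagonal_fst, Category.assoc, pullback.lift_fst, h1,
        Category.comp_id]
    · rw [Category.assoc, pullback.diagonal_snd, Category.assoc, pullback.lift_snd,
        ← Category.assoc, h2, Category.comp_id, Category.id_comp]

/-- From `GraphHas` to the canonical base-change data. -/
theorem stage_of_graphHas (Q : MorphismProperty Scheme.{u}) {A B Y : Sp S} (a : A ⟶ B) (tB : B ⟶ Y)
    (h : GraphHas Q a tB) :
    ∃ (f : A ⟶ pullback (pullback.snd tB tB) a),
      IsPullback a f (pullback.diagonal tB) (pullback.fst (pullback.snd tB tB) a) ∧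
      RepWith Q f := by
  have hc : (a ≫ pullback.diagonal tB) ≫ pullback.snd tB tB = 𝟙 A ≫ a := by
    rw [Category.assoc, pullback.diagonal_snd, Category.comp_id, Category.id_comp]
  refine ⟨pullback.lift (a ≫ pullback.diagonal tB) (𝟙 A) hc, ?_, ?_⟩
  · refine IsPullback.of_bot ?_ (pullback.lift_fst _ _ _).symm
      (IsPullback.of_hasPullback (pullback.snd tB tB) a)
    rw [pullback.lift_snd, pullback.diagonal_snd]
    exact IsPullback.of_vert_isIso ⟨by simp⟩
  · refine h (pullback.fst (pullback.snd tB tB) a ≫ pullback.fst tB tB)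
      (pullback.snd (pullback.snd tB tB) a)
      ((IsPullback.of_hasPullback (pullback.snd tB tB) a).paste_horiz
        (IsPullback.of_hasPullback tB tB)) _ ?_ (pullback.lift_snd _ _ _)
    rw [← Category.assoc, pullback.lift_fst, Category.assoc, pullback.diagonal_fst,
      Category.comp_id]

/-- If the graph of an affine morphism `a : A ⟶ B` over `Y` is a closed immersion, then
`A ⟶ Y` is separated. -/
theorem isSeparatedMor_of_graphHas {A B Y : Sp S} (hA : IsAlgSpace A) (hB : IsAlgSpace B)
    (hY : IsAlgSpace Y) (a : A ⟶ B) (tB : B ⟶ Y)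
    (h : GraphHas @IsClosedImmersion a tB) (ha : IsAffineMor a) : IsSeparatedMor (a ≫ tB) := by
  have hcond : (pullback.fst (a ≫ tB) (a ≫ tB) ≫ a) ≫ tB =
      pullback.snd (a ≫ tB) (a ≫ tB) ≫ (a ≫ tB) := by
    rw [Category.assoc, pullback.condition]
  let m : pullback (a ≫ tB) (a ≫ tB) ⟶ pullback tB (a ≫ tB) :=
    pullback.lift (pullback.fst (a ≫ tB) (a ≫ tB) ≫ a) (pullback.snd (a ≫ tB) (a ≫ tB)) hcond
  have sqm : IsPullback m (pullback.fst (a ≫ tB) (a ≫ tB)) (pullback.fst tB (a ≫ tB)) a := by
    refine IsPullback.of_right ?_ (pullback.lift_fst _ _ _)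
      (IsPullback.of_hasPullback tB (a ≫ tB)).flip
    rw [pullback.lift_snd]
    exact (IsPullback.of_hasPullback (a ≫ tB) (a ≫ tB)).flip
  have hK : IsAlgSpace (pullback (a ≫ tB) (a ≫ tB)) :=
    isAlgSpace_of_isPullback (IsPullback.of_hasPullback (a ≫ tB) (a ≫ tB)) hA hY hA
  have hm : IsSeparatedMor m :=
    Groth.Agent.H53.isSeparatedMor_of_isAffineMor hK m (isAffineMor_of_isPullback sqm.flip ha)
  have hγ : RepWith @IsClosedImmersion (pullback.diagonal (a ≫ tB) ≫ m) := by
    refine h (pullback.fst tB (a ≫ tB)) (pullback.snd tB (a ≫ tB))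
      (IsPullback.of_hasPullback tB (a ≫ tB)) _ ?_ ?_
    · rw [Category.assoc, pullback.lift_fst, ← Category.assoc, pullback.diagonal_fst,
        Category.id_comp]
    · rw [Category.assoc, pullback.lift_snd, pullback.diagonal_snd]
  exact of_comp_of_diagonal (RepWith (S := S) @IsClosedImmersion) _ m hγ hm

end Groth.Agent.H52
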