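/-
Helper library (helper52): graph properties for a general morphism property of sheaves;
monomorphism criterion.
-/
import Groth.Agent.H52.GraphProp

set_option autoImplicit false
universe u
open CategoryTheory CategoryTheory.Limits AlgebraicGeometry Opposite
open AlgSp

namespace Groth.Agent.H52

variable {S : Scheme.{u}}

/-- The graph of `a : A ⟶ B` over `tB : B ⟶ Y` has property `P` (for every choice of fibre
product `B ×_Y A`). -/
def GraphHasP (P : MorphismProperty (Sp S)) {A B Y : Sp S} (a : A ⟶ B) (tB : B ⟶ Y) : Prop :=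
  ∀ ⦃Pb : Sp S⦄ (p : Pb ⟶ B) (q : Pb ⟶ A), IsPullback p q tB (a ≫ tB) →
    ∀ γ : A ⟶ Pb, γ ≫ p = a → γ ≫ q = 𝟙 A → P γ

theorem graphHasP_of_one (P : MorphismProperty (Sp S)) [P.RespectsIso] {A B Y : Sp S}
    (a : A ⟶ B) (tB : B ⟶ Y)
    {Pb : Sp S} {p : Pb ⟶ B} {q : Pb ⟶ A} (sq : IsPullback p q tB (a ≫ tB))
    (γ : A ⟶ Pb) (h1 : γ ≫ p = a) (h2 : γ ≫ q = 𝟙 A) (hγ : P γ) : GraphHasP P a tB := by
  intro P' p' q' sq' γ' h1' h2'
  have he : γ ≫ (sq.isoIsPullback _ _ sq').hom = γ' := by
    apply sq'.hom_ext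
    · rw [Category.assoc, IsPullback.isoIsPullback_hom_fst, h1, h1']
    · rw [Category.assoc, IsPullback.isoIsPullback_hom_snd, h2, h2']
  rw [← he]
  exact (MorphismProperty.cancel_right_of_respectsIso P _ _).mpr hγ

theorem graphHasP_of_stage (P : MorphismProperty (Sp S)) {A B Y : Sp S} (a : A ⟶ B) (tB : B ⟶ Y)
    (h : ∀ (Xi Yi : Sp S) (fi : Xi ⟶ Yi) (pYi : Yi ⟶ pullback tB tB) (qYi : Yi ⟶ A),
      IsPullback pYi qYi (pullback.snd tB tB) a → ∀ (pXi : Xi ⟶ B),
      IsPullback pXi fi (pullback.diagonal tB) pYi → P fi) : GraphHasP P a tB := by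
  intro Pb p q sq γ h1 h2
  have hcond : p ≫ tB = (q ≫ a) ≫ tB := by rw [sq.w, Category.assoc]
  have sqY : IsPullback (pullback.lift p (q ≫ a) hcond) q (pullback.snd tB tB) a := by
    refine IsPullback.of_right ?_ (pullback.lift_snd _ _ _) (IsPullback.of_hasPullback tB tB)
    rw [pullback.lift_fst]
    exact sq
  refine h A Pb γ (pullback.lift p (q ≫ a) hcond) q sqY a ?_
  refine IsPullback.of_bot ?_ ?_ sqY
  · rw [h2, pullback.diagonal_snd]
    exact IsPullback.of_vert_isIso ⟨by simp⟩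
  · apply pullback.hom_ext
    · rw [Category.assoc, pullback.diagonal_fst, Category.assoc, pullback.lift_fst, h1,
        Category.comp_id]
    · rw [Category.assoc, pullback.diagonal_snd, Category.assoc, pullback.lift_snd,
        ← Category.assoc, h2, Category.comp_id, Category.id_comp]

theorem stage_of_graphHasP (P : MorphismProperty (Sp S)) {A B Y : Sp S} (a : A ⟶ B) (tB : B ⟶ Y)
    (h : GraphHasP P a tB) :
    ∃ (f : A ⟶ pullback (pullback.snd tB tB) a),
      IsPullback a f (pullback.diagonal tB) (pullback.fst (pullback.snd tB tB) a) ∧ P f := by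
  have hc : (a ≫ pullback.diagonal tB) ≫ pullback.snd tB tB = 𝟙 A ≫ a := by
    rw [Category.assoc, pullback.diagonal_snd, Category.comp_id, Category.id_comp]
  refine ⟨pullback.lift (a ≫ pullback.diagonal tB) (𝟙 A) hc, ?_, ?_⟩
  · refine IsPullback.of_bot ?_ (pullback.lift_fst _ _ _).symm
      (IsPullback.of_hasPullback (pullback.snd tB tB) a)
    rw [pullback.lift_snd, pullback.diagonal_snd]
    exact IsPullback.of_vert_isIso ⟨by simp⟩
  · refine h (pullback.fst (pullback.snd tB tB) a ≫ pullback.fst tB tB)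
      (pullback.snd (pullback.snd tB tB) a)
      ((IsPullback.of_hasPullback (pullback.snd tB tB) a).paste_horiz
        (IsPullback.of_hasPullback tB tB)) _ ?_ (pullback.lift_snd _ _ _)
    rw [← Category.assoc, pullback.lift_fst, Category.assoc, pullback.diagonal_fst,
      Category.comp_id]

/-- If the graph of a monomorphism `a : A ⟶ B` over `Y` is an isomorphism, then `A ⟶ Y` is a
monomorphism. -/
theorem mono_of_graphHasP_iso {A B Y : Sp S} (a : A ⟶ B) [Mono a] (tB : B ⟶ Y)
    (h : GraphHasP (MorphismProperty.isomorphisms (Sp S)) a tB) : Mono (a ≫ tB) := by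
  have hcond : (pullback.fst (a ≫ tB) (a ≫ tB) ≫ a) ≫ tB =
      pullback.snd (a ≫ tB) (a ≫ tB) ≫ (a ≫ tB) := by
    rw [Category.assoc, pullback.condition]
  let m : pullback (a ≫ tB) (a ≫ tB) ⟶ pullback tB (a ≫ tB) :=
    pullback.lift (pullback.fst (a ≫ tB) (a ≫ tB) ≫ a) (pullback.snd (a ≫ tB) (a ≫ tB)) hcond
  have sqm : IsPullback m (pullback.fst (a ≫ tB) (a ≫ tB)) (pullback.fst tB (a ≫ tB)) a := by
    refine IsPullback.of_right ?_ (pullback.lift_fst _ _ _)
      (IsPullback.of_hasPullback tB (a ≫ tB)).flip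
    rw [pullback.lift_snd]
    exact (IsPullback.of_hasPullback (a ≫ tB) (a ≫ tB)).flip
  haveI : Mono m := sqm.mono_fst_of_mono
  have hγ : IsIso (pullback.diagonal (a ≫ tB) ≫ m) := by
    refine h (pullback.fst tB (a ≫ tB)) (pullback.snd tB (a ≫ tB))
      (IsPullback.of_hasPullback tB (a ≫ tB)) _ ?_ ?_
    · rw [Category.assoc, pullback.lift_fst, ← Category.assoc, pullback.diagonal_fst,
        Category.id_comp]
    · rw [Category.assoc, pullback.lift_snd, pullback.diagonal_snd]
  haveI : IsSplitEpi m :=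
    ⟨⟨inv (pullback.diagonal (a ≫ tB) ≫ m) ≫ pullback.diagonal (a ≫ tB), by
      rw [Category.assoc, IsIso.inv_hom_id]⟩⟩
  haveI : IsIso m := isIso_of_mono_of_isSplitEpi m
  haveI : IsIso (pullback.diagonal (a ≫ tB)) := by
    have : pullback.diagonal (a ≫ tB) = (pullback.diagonal (a ≫ tB) ≫ m) ≫ inv m := by
      rw [Category.assoc, IsIso.hom_inv_id, Category.comp_id]
    rw [this]
    infer_instance
  exact (pullback.isIso_diagonal_iff _).mp inferInstance

end Groth.Agent.H52
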