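import Groth.Agent.H52.AffRefine
import Groth.Agent.Lib.Helper7.FormallyEtaleLift

set_option autoImplicit false
universe u
open CategoryTheory CategoryTheory.Limits AlgebraicGeometry Opposite

namespace Groth.Agent.H52

open AlgSp

variable {S : Scheme.{u}}

instance isClosedImmersion_jQ {A : Type u} [CommRing A] (I : Ideal A) (str : Spec (.of A) ⟶ S) :
    IsClosedImmersion (jQ I str).left :=
  IsClosedImmersion.spec_of_surjective _ Ideal.Quotient.mk_surjective

theorem surjective_jQ {A : Type u} [CommRing A] (I : Ideal A) (hI : I ^ 2 = ⊥)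
    (str : Spec (.of A) ⟶ S) : Surjective (jQ I str).left :=
  ⟨Groth.Agent.Lib.Helper7.SpecMap_surjective_of_ker_le_nilradical
    (CommRingCat.ofHom (Ideal.Quotient.mk I)) Ideal.Quotient.mk_surjective (by
      change RingHom.ker (Ideal.Quotient.mk I) ≤ _
      rw [Ideal.mk_ker]
      exact Groth.Agent.Lib.Helper7.ker_le_nilradical_of_sq_eq_bot I hI)⟩

/-- Scheme-level pullback square of a restricted thickening. -/
theorem isPullback_specMap_quotMap {A B : Type u} [CommRing A] [CommRing B] (I : Ideal A)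
    (φ : A →+* B) :
    IsPullback (Spec.map (CommRingCat.ofHom (Ideal.Quotient.mk (I.map φ))))
      (Spec.map (CommRingCat.ofHom (quotMap I φ))) (Spec.map (CommRingCat.ofHom φ))
      (Spec.map (CommRingCat.ofHom (Ideal.Quotient.mk I))) :=
  isPullback_SpecMap_of_isPushout _ _ _ _ (isPushout_quotMap I φ)

/-- Restricting an fppf family of affine charts of `Spec A` to the thickened subscheme. -/
theorem isFppfFamily_rho₀ {A : Type u} [CommRing A] (I : Ideal A) (hI : I ^ 2 = ⊥)
    (str : Spec (.of A) ⟶ S) {ι : Type*} (B : ι → Type u) [∀ i, CommRing (B i)]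
    (φ : ∀ i, A →+* B i) (h : IsFppfFamily (fun i => rho str (φ i))) :
    IsFppfFamily (fun i => rho₀ I str (φ i)) where
  flat i := MorphismProperty.of_isPullback (P := @Flat) (isPullback_specMap_quotMap I (φ i))
    (h.flat i)
  lfp i := MorphismProperty.of_isPullback (P := @LocallyOfFinitePresentation)
    (isPullback_specMap_quotMap I (φ i)) (h.lfp i)
  surj x₀ := by
    obtain ⟨i, y, hy⟩ := h.surj ((jQ I str).left x₀)
    have hs := surjective_jQ (I.map (φ i)) (by rw [← Ideal.map_pow, hI, Ideal.map_bot])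
      (Spec.map (CommRingCat.ofHom (φ i)) ≫ str)
    obtain ⟨y₀, rfl⟩ := hs.surj y
    refine ⟨i, y₀, ?_⟩
    have hinj : Function.Injective (jQ I str).left :=
      (jQ I str).left.isClosedEmbedding.injective
    apply hinj
    rw [← hy]
    have := congrArg (fun m => m.left y₀) (jQ_rho I str (φ i))
    exact this.symm

/-- `l` is a dotted arrow of the infinitesimal lifting square. -/
def _root_.AlgSp.InfSq.IsLift {G H : Sp S} {b : G ⟶ H} (sq : InfSq b)
    (l : (yon S).obj sq.ptT' ⟶ G) : Prop :=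
  (yon S).map sq.j ≫ l = sq.top ∧ l ≫ b = sq.bot

theorem _root_.AlgSp.InfSq.IsLift.restrict {G H : Sp S} {b : G ⟶ H} {sq : InfSq b}
    {l : (yon S).obj sq.ptT' ⟶ G} (hl : sq.IsLift l) {B : Type u} [CommRing B] (φ : sq.A →+* B) :
    (sq.restrict φ).IsLift ((yon S).map (rho sq.str φ) ≫ l) := by
  constructor
  · have h := congrArg (fun m => (yon S).map m ≫ l) (jQ_rho sq.I sq.str φ)
    simp only [Functor.map_comp, Category.assoc] at h
    refine h.trans ?_
    change _ = (yon S).map (rho₀ sq.I sq.str φ) ≫ sq.top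
    rw [← hl.1]
  · change _ = (yon S).map (rho sq.str φ) ≫ sq.bot
    rw [Category.assoc, hl.2]

/-- Transport of a lift of a restricted problem along a morphism of affine charts. -/
theorem _root_.AlgSp.InfSq.IsLift.transport {G H : Sp S} {b : G ⟶ H} {sq : InfSq b}
    {B D : Type u} [CommRing B] [CommRing D] {φ : sq.A →+* B} {ψ : sq.A →+* D}
    {g : (yon S).obj (sq.restrict φ).ptT' ⟶ G} (hg : (sq.restrict φ).IsLift g)
    (m : ptA (Spec.map (CommRingCat.ofHom ψ) ≫ sq.str) ⟶ ptA (Spec.map (CommRingCat.ofHom φ) ≫ sq.str))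
    (hm : m ≫ rho sq.str φ = rho sq.str ψ) :
    (sq.restrict ψ).IsLift ((yon S).map m ≫ g) := by
  have hpb := isPullback_rho sq.I sq.str φ
  have hcomm : (jQ (sq.I.map ψ) (Spec.map (CommRingCat.ofHom ψ) ≫ sq.str) ≫ m) ≫ rho sq.str φ =
      rho₀ sq.I sq.str ψ ≫ jQ sq.I sq.str := by
    rw [Category.assoc, hm, jQ_rho]
  let κ := hpb.lift _ _ hcomm
  have hκ1 : κ ≫ jQ (sq.I.map φ) (Spec.map (CommRingCat.ofHom φ) ≫ sq.str) =
      jQ (sq.I.map ψ) (Spec.map (CommRingCat.ofHom ψ) ≫ sq.str) ≫ m := hpb.lift_fst _ _ _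
  have hκ2 : κ ≫ rho₀ sq.I sq.str φ = rho₀ sq.I sq.str ψ := hpb.lift_snd _ _ _
  constructor
  · have h := congrArg (fun t => (yon S).map t ≫ g) hκ1
    simp only [Functor.map_comp, Category.assoc] at h
    refine h.symm.trans ?_
    have h1 : (yon S).map (jQ (sq.I.map φ) (Spec.map (CommRingCat.ofHom φ) ≫ sq.str)) ≫ g =
      (yon S).map (rho₀ sq.I sq.str φ) ≫ sq.top := hg.1
    rw [h1, ← Category.assoc, ← Functor.map_comp, hκ2]
  · have h2 : g ≫ b = (yon S).map (rho sq.str φ) ≫ sq.bot := hg.2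
    rw [Category.assoc, h2, ← Category.assoc, ← Functor.map_comp, hm]

end Groth.Agent.H52
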