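import Groth.Agent.H52.EtLift
import Groth.Prelude.Def_AlgSpInf
import Mathlib.AlgebraicGeometry.Pullbacks

set_option autoImplicit false
universe u
open CategoryTheory CategoryTheory.Limits AlgebraicGeometry Opposite

namespace Groth.Agent.H52

open AlgSp

variable {S : Scheme.{u}}

/-- The map `A ⧸ I → B ⧸ I B` induced by `φ : A → B`. -/
def quotMap {A B : Type u} [CommRing A] [CommRing B] (I : Ideal A) (φ : A →+* B) :
    A ⧸ I →+* B ⧸ I.map φ :=
  Ideal.quotientMap (I.map φ) φ Ideal.le_comap_map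

theorem quotMap_comp_mk {A B : Type u} [CommRing A] [CommRing B] (I : Ideal A) (φ : A →+* B) :
    (quotMap I φ).comp (Ideal.Quotient.mk I) = (Ideal.Quotient.mk (I.map φ)).comp φ :=
  Ideal.quotientMap_comp_mk _

/-- The square `A → B`, `A → A/I`, `B → B/IB`, `A/I → B/IB` is a pushout of commutative rings. -/
theorem isPushout_quotMap {A B : Type u} [CommRing A] [CommRing B] (I : Ideal A) (φ : A →+* B) :
    IsPushout (CommRingCat.ofHom φ) (CommRingCat.ofHom (Ideal.Quotient.mk I))
      (CommRingCat.ofHom (Ideal.Quotient.mk (I.map φ))) (CommRingCat.ofHom (quotMap I φ)) := by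
  refine ⟨⟨?_⟩, ⟨PushoutCocone.IsColimit.mk _ (fun s => CommRingCat.ofHom
    (Ideal.Quotient.lift (I.map φ) s.inl.hom ?_)) ?_ ?_ ?_⟩⟩
  · rw [← CommRingCat.ofHom_comp, ← CommRingCat.ofHom_comp, quotMap_comp_mk]
  · intro x hx
    rw [← RingHom.mem_ker]
    revert x
    change I.map φ ≤ RingHom.ker s.inl.hom
    rw [Ideal.map_le_iff_le_comap]
    intro a ha
    rw [Ideal.mem_comap, RingHom.mem_ker]
    have := congrArg (fun f => f.hom a) s.condition
    simp only [CommRingCat.hom_comp, CommRingCat.hom_ofHom, RingHom.comp_apply] at this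
    rw [this, Ideal.Quotient.eq_zero_iff_mem.2 ha, map_zero]
  · intro s
    ext x
    simp
  · intro s
    ext a
    have := congrArg (fun f => f.hom a) s.condition
    simp only [CommRingCat.hom_comp, CommRingCat.hom_ofHom, RingHom.comp_apply] at this
    simp [quotMap, this]
  · intro s m h1 h2
    ext b
    have := congrArg (fun f => f.hom b) h1
    simpa using this

/-- `Spec A` over `S`. -/
noncomputable abbrev ptA {A : Type u} [CommRing A] (str : Spec (.of A) ⟶ S) : Over S := Over.mk str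

/-- `Spec (A ⧸ I)` over `S`. -/
noncomputable abbrev ptQ {A : Type u} [CommRing A] (I : Ideal A) (str : Spec (.of A) ⟶ S) : Over S :=
  Over.mk (Spec.map (CommRingCat.ofHom (Ideal.Quotient.mk I)) ≫ str)

/-- The closed immersion `Spec (A ⧸ I) ⟶ Spec A` over `S`. -/
noncomputable abbrev jQ {A : Type u} [CommRing A] (I : Ideal A) (str : Spec (.of A) ⟶ S) :
    ptQ I str ⟶ ptA str :=
  Over.homMk (Spec.map (CommRingCat.ofHom (Ideal.Quotient.mk I))) rfl

/-- `Spec B ⟶ Spec A` over `S`. -/
noncomputable abbrev rho {A B : Type u} [CommRing A] [CommRing B] (str : Spec (.of A) ⟶ S)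
    (φ : A →+* B) : ptA (Spec.map (CommRingCat.ofHom φ) ≫ str) ⟶ ptA str :=
  Over.homMk (Spec.map (CommRingCat.ofHom φ)) rfl

theorem specMap_quotMap_comp {A B : Type u} [CommRing A] [CommRing B] (I : Ideal A)
    (φ : A →+* B) :
    Spec.map (CommRingCat.ofHom (quotMap I φ)) ≫ Spec.map (CommRingCat.ofHom (Ideal.Quotient.mk I)) =
      Spec.map (CommRingCat.ofHom (Ideal.Quotient.mk (I.map φ))) ≫
        Spec.map (CommRingCat.ofHom φ) := by
  rw [← Spec.map_comp, ← Spec.map_comp, ← CommRingCat.ofHom_comp, ← CommRingCat.ofHom_comp,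
    quotMap_comp_mk]

/-- `Spec (B ⧸ I B) ⟶ Spec (A ⧸ I)` over `S`. -/
noncomputable def rho₀ {A B : Type u} [CommRing A] [CommRing B] (I : Ideal A)
    (str : Spec (.of A) ⟶ S) (φ : A →+* B) :
    ptQ (I.map φ) (Spec.map (CommRingCat.ofHom φ) ≫ str) ⟶ ptQ I str :=
  Over.homMk (Spec.map (CommRingCat.ofHom (quotMap I φ))) (by
    change _ ≫ _ ≫ str = _ ≫ _ ≫ str
    rw [← Category.assoc, specMap_quotMap_comp, Category.assoc])

theorem jQ_rho {A B : Type u} [CommRing A] [CommRing B] (I : Ideal A)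
    (str : Spec (.of A) ⟶ S) (φ : A →+* B) :
    jQ (I.map φ) (Spec.map (CommRingCat.ofHom φ) ≫ str) ≫ rho str φ = rho₀ I str φ ≫ jQ I str := by
  ext
  exact (specMap_quotMap_comp I φ).symm

theorem isPullback_rho {A B : Type u} [CommRing A] [CommRing B] (I : Ideal A)
    (str : Spec (.of A) ⟶ S) (φ : A →+* B) :
    IsPullback (jQ (I.map φ) (Spec.map (CommRingCat.ofHom φ) ≫ str)) (rho₀ I str φ) (rho str φ)
      (jQ I str) :=
  IsPullback.of_map (Over.forget S) (jQ_rho I str φ)
    (isPullback_SpecMap_of_isPushout _ _ _ _ (isPushout_quotMap I φ))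

/-- The restriction of an infinitesimal lifting problem along a ring map `A → B`. -/
noncomputable abbrev _root_.AlgSp.InfSq.restrict {G H : Sp S} {b : G ⟶ H} (sq : InfSq b) {B : Type u}
    [CommRing B] (φ : sq.A →+* B) : InfSq b where
  A := B
  I := sq.I.map φ
  sq_zero := by rw [← Ideal.map_pow, sq.sq_zero, Ideal.map_bot]
  str := Spec.map (CommRingCat.ofHom φ) ≫ sq.str
  top := (yon S).map (rho₀ sq.I sq.str φ) ≫ sq.top
  bot := (yon S).map (rho sq.str φ) ≫ sq.bot
  comm := by
    rw [Category.assoc, sq.comm]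
    have h := congrArg (fun m => (yon S).map m ≫ sq.bot) (jQ_rho sq.I sq.str φ)
    simp only [Functor.map_comp, Category.assoc] at h
    exact h.symm

end Groth.Agent.H52
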