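/-
Helper library (helper52): closed points over a Jacobson scheme have finite residue field
extensions; closed points lift to closed points along etale morphisms.
-/
import Groth.Agent.H52.DimLocal
import Groth.Agent.H53.SourceLocal
import Groth.Prelude.Def_Dual3

set_option autoImplicit false
universe u
open CategoryTheory CategoryTheory.Limits AlgebraicGeometry Opposite

namespace Groth.Agent.H52

/-- A point of the source of an etale morphism lying over a closed point is closed. -/
theorem isClosed_singleton_of_etale {W U : Scheme.{u}} (p : W ⟶ U) [Etale p] (w : W)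
    (h : IsClosed ({p w} : Set U)) : IsClosed ({w} : Set W) := by
  refine isClosed_of_closure_subset fun w' hw' => ?_
  have hs : w ⤳ w' := specializes_iff_mem_closure.2 hw'
  have hs' : p w ⤳ p w' := hs.map p.continuous
  have hmem : p w' ∈ closure ({p w} : Set U) := specializes_iff_mem_closure.1 hs'
  rw [h.closure_eq] at hmem
  have := Groth.Agent.H53.locallyQuasiFinite_of_etale p
  have hd := p.isDiscrete_preimage_singleton (p w)
  have := hd.eq_of_specializes hs (by simp) (by simpa using hmem)
  exact this.symm ▸ rfl

/-- Over a Jacobson scheme, the residue field extension at a closed point of a scheme locally of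
finite type has transcendence degree zero. -/
theorem resTrdeg_eq_zero_of_isClosed_of_jacobsonSpace {U V : Scheme.{u}} (h : U ⟶ V)
    [LocallyOfFiniteType h] [JacobsonSpace V] (u : U) (hu : IsClosed ({u} : Set U)) :
    Dual3.resTrdeg h u = 0 := by
  have hci : IsClosedImmersion (U.fromSpecResidueField u) :=
    isClosed_singleton_iff_isClosedImmersion.mp hu
  have hfin : IsFinite (U.fromSpecResidueField u ≫ h) :=
    (isFinite_iff_locallyOfFiniteType_of_jacobsonSpace
      (f := U.fromSpecResidueField u ≫ h)).mpr inferInstance
  have e : Spec.map (h.residueFieldMap u) ≫ V.fromSpecResidueField (h u) =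
      U.fromSpecResidueField u ≫ h :=
    Scheme.Hom.SpecMap_residueFieldMap_fromSpecResidueField h u
  rw [← e] at hfin
  have hfin' : IsFinite (Spec.map (h.residueFieldMap u)) :=
    IsFinite.of_comp _ (V.fromSpecResidueField (h u))
  rw [IsFinite.SpecMap_iff] at hfin'
  unfold Dual3.resTrdeg
  letI := (h.residueFieldMap u).hom.toAlgebra
  haveI : Module.Finite (V.residueField (h u)) (U.residueField u) := hfin'
  exact _root_.trdeg_eq_zero

end Groth.Agent.H52
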