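/-
Helper library (helper52): the system of kernel pairs `Y ×_{X_k} Y` of a compatible family of
maps `Y ⟶ X_k`, and its limit when the family is jointly monic.
-/
import Mathlib.CategoryTheory.Limits.Shapes.Pullback.HasPullback
import Mathlib.CategoryTheory.Limits.Shapes.Diagonal
import Mathlib.CategoryTheory.Limits.Shapes.Terminal

set_option autoImplicit false
open CategoryTheory CategoryTheory.Limits

namespace Groth.Agent.H52.KernelPairSys

universe v u v' u'

variable {C : Type u} [Category.{v} C] [HasPullbacks C] {J : Type u'} [Category.{v'} J]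
  (D : J ⥤ C) {Y : C} (y : ∀ k, Y ⟶ D.obj k)
  (hy : ∀ {k k' : J} (φ : k ⟶ k'), y k ≫ D.map φ = y k')

include hy in
theorem kp_cond {k k' : J} (φ : k ⟶ k') :
    pullback.fst (y k) (y k) ≫ y k' = pullback.snd (y k) (y k) ≫ y k' := by
  rw [← hy φ, ← Category.assoc, ← Category.assoc, pullback.condition]

/-- The functor `k ↦ Y ×_{X_k} Y`. -/
noncomputable def kpFunctor : J ⥤ C where
  obj k := pullback (y k) (y k)
  map {k k'} φ := pullback.lift (pullback.fst (y k) (y k)) (pullback.snd (y k) (y k))
    (kp_cond D y hy φ)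
  map_id k := by
    apply pullback.hom_ext
    · rw [pullback.lift_fst, Category.id_comp]
    · rw [pullback.lift_snd, Category.id_comp]
  map_comp φ ψ := by
    apply pullback.hom_ext
    · rw [Category.assoc, pullback.lift_fst, pullback.lift_fst, pullback.lift_fst]
    · rw [Category.assoc, pullback.lift_snd, pullback.lift_snd, pullback.lift_snd]

/-- First projection, typed on the functor's object. -/
noncomputable def kpFst (k : J) : (kpFunctor D y hy).obj k ⟶ Y := pullback.fst (y k) (y k)

/-- Second projection, typed on the functor's object. -/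
noncomputable def kpSnd (k : J) : (kpFunctor D y hy).obj k ⟶ Y := pullback.snd (y k) (y k)

/-- The diagonal, typed on the functor's object. -/
noncomputable def kpDiag (k : J) : Y ⟶ (kpFunctor D y hy).obj k := pullback.diagonal (y k)

theorem kp_condition (k : J) : kpFst D y hy k ≫ y k = kpSnd D y hy k ≫ y k :=
  pullback.condition

theorem kp_isPullback (k : J) : IsPullback (kpFst D y hy k) (kpSnd D y hy k) (y k) (y k) :=
  IsPullback.of_hasPullback (y k) (y k)

theorem kp_hom_ext {T : C} {k : J} {a b : T ⟶ (kpFunctor D y hy).obj k}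
    (h1 : a ≫ kpFst D y hy k = b ≫ kpFst D y hy k)
    (h2 : a ≫ kpSnd D y hy k = b ≫ kpSnd D y hy k) : a = b :=
  pullback.hom_ext h1 h2

@[reassoc]
theorem kpFunctor_map_fst {k k' : J} (φ : k ⟶ k') :
    (kpFunctor D y hy).map φ ≫ kpFst D y hy k' = kpFst D y hy k :=
  pullback.lift_fst _ _ _

@[reassoc]
theorem kpFunctor_map_snd {k k' : J} (φ : k ⟶ k') :
    (kpFunctor D y hy).map φ ≫ kpSnd D y hy k' = kpSnd D y hy k :=
  pullback.lift_snd _ _ _

@[reassoc]
theorem kpDiag_fst (k : J) : kpDiag D y hy k ≫ kpFst D y hy k = 𝟙 Y :=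
  pullback.diagonal_fst _

@[reassoc]
theorem kpDiag_snd (k : J) : kpDiag D y hy k ≫ kpSnd D y hy k = 𝟙 Y :=
  pullback.diagonal_snd _

theorem kpDiag_map {k k' : J} (φ : k ⟶ k') :
    kpDiag D y hy k ≫ (kpFunctor D y hy).map φ = kpDiag D y hy k' := by
  apply kp_hom_ext
  · rw [Category.assoc, kpFunctor_map_fst, kpDiag_fst, kpDiag_fst]
  · rw [Category.assoc, kpFunctor_map_snd, kpDiag_snd, kpDiag_snd]

/-- The cone of diagonals `Y ⟶ Y ×_{X_k} Y`. -/
noncomputable def kpCone : Cone (kpFunctor D y hy) where
  pt := Y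
  π :=
    { app := fun k => kpDiag D y hy k
      naturality := fun k k' φ => by
        change 𝟙 _ ≫ kpDiag D y hy k' = kpDiag D y hy k ≫ (kpFunctor D y hy).map φ
        rw [Category.id_comp, kpDiag_map] }

/-- If the family is jointly monic and the index category has a terminal object, the cone
of diagonals is a limit cone. -/
noncomputable def kpConeIsLimit {j₁ : J} (hj₁ : IsTerminal j₁)
    (hjm : ∀ {T : C} (a b : T ⟶ Y), (∀ k, a ≫ y k = b ≫ y k) → a = b) :
    IsLimit (kpCone D y hy) := by
  have hfst : ∀ (s : Cone (kpFunctor D y hy)) (k : J),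
      s.π.app k ≫ kpFst D y hy k = s.π.app j₁ ≫ kpFst D y hy j₁ := by
    intro s k
    rw [← s.w (hj₁.from k), Category.assoc, kpFunctor_map_fst]
  have hsnd : ∀ (s : Cone (kpFunctor D y hy)) (k : J),
      s.π.app k ≫ kpSnd D y hy k = s.π.app j₁ ≫ kpSnd D y hy j₁ := by
    intro s k
    rw [← s.w (hj₁.from k), Category.assoc, kpFunctor_map_snd]
  have heq : ∀ (s : Cone (kpFunctor D y hy)),
      s.π.app j₁ ≫ kpFst D y hy j₁ = s.π.app j₁ ≫ kpSnd D y hy j₁ := by
    intro s
    apply hjm
    intro k
    rw [← hfst s k, ← hsnd s k, Category.assoc, Category.assoc, kp_condition]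
  refine
    { lift := fun s => s.π.app j₁ ≫ kpFst D y hy j₁
      fac := fun s k => ?_
      uniq := fun s m hm => ?_ }
  · change (s.π.app j₁ ≫ kpFst D y hy j₁) ≫ kpDiag D y hy k = s.π.app k
    apply kp_hom_ext
    · rw [Category.assoc, kpDiag_fst, Category.comp_id]
      exact (hfst s k).symm
    · rw [Category.assoc, kpDiag_snd, Category.comp_id, hsnd, heq]
  · obtain ⟨m', hm'⟩ : ∃ m' : s.pt ⟶ Y, m' = m := ⟨_, rfl⟩
    have h1 : m' ≫ kpDiag D y hy j₁ = s.π.app j₁ := by rw [hm']; exact hm j₁
    have h2 : (m' ≫ kpDiag D y hy j₁) ≫ kpFst D y hy j₁ = m' := by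
      rw [Category.assoc, kpDiag_fst, Category.comp_id]
    rw [← hm']
    exact h2.symm.trans (congrArg (· ≫ kpFst D y hy j₁) h1)

theorem kp_isPullback_aux {Y A B : C} (a : Y ⟶ A) (g : A ⟶ B) (b : Y ⟶ B) (h : a ≫ g = b) :
    IsPullback
      (pullback.lift (pullback.fst a a) (pullback.snd a a)
        (by rw [← h, ← Category.assoc, ← Category.assoc, pullback.condition]) :
          pullback a a ⟶ pullback b b)
      (pullback.fst a a ≫ a)
      (pullback.map b b g g a a (𝟙 _) (by rw [Category.comp_id, h]) (by rw [Category.comp_id, h]))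
      (pullback.diagonal g) := by
  subst h
  have h := (pullback_map_diagonal_isPullback a a g).flip
  convert h using 1
  apply pullback.hom_ext
  · rw [pullback.lift_fst]
    exact ((pullback.lift_fst _ _ _).trans (Category.comp_id _)).symm
  · rw [pullback.lift_snd]
    exact ((pullback.lift_snd _ _ _).trans (Category.comp_id _)).symm

/-- The transition map of kernel pairs is the base change of the diagonal of `D.map φ`. -/
theorem kp_map_isPullback {k k' : J} (φ : k ⟶ k') :
    IsPullback ((kpFunctor D y hy).map φ)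
      (kpFst D y hy k ≫ y k)
      (pullback.map (y k') (y k') (D.map φ) (D.map φ) (y k) (y k) (𝟙 _)
        (by rw [Category.comp_id, hy]) (by rw [Category.comp_id, hy]))
      (pullback.diagonal (D.map φ)) :=
  kp_isPullback_aux (y k) (D.map φ) (y k') (hy φ)

end Groth.Agent.H52.KernelPairSys
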