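/-
Helper library (helper52): embeddings of small field extensions into a large algebraically closed field.
-/
import Mathlib

set_option autoImplicit false
universe u
open Cardinal

namespace Groth.Agent.H52.LargeField

/-- (N) A nonzero algebra over an algebraically closed field `K` generated by fewer than `#K`
elements has a `K`-point. -/
theorem exists_algHom_of_adjoin_eq_top {K C : Type u} [Field K] [IsAlgClosed K] [CommRing C]
    [Algebra K C] [Nontrivial C] (G : Set C) (hG : Algebra.adjoin K G = ⊤) (hc : #G < #K) :
    Nonempty (C →ₐ[K] K) := by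
  obtain ⟨m, hm⟩ := Ideal.exists_maximal C
  letI : Field (C ⧸ m) := Ideal.Quotient.field m
  -- the quotient is algebraic over K
  have halg : Algebra.IsAlgebraic K (C ⧸ m) := by
    by_cases hfin : G.Finite
    · have : Algebra.FiniteType K C := ⟨⟨hfin.toFinset, by simpa using hG⟩⟩
      have : Algebra.FiniteType K (C ⧸ m) :=
        Algebra.FiniteType.of_surjective (Ideal.Quotient.mkₐ K m) Ideal.Quotient.mk_surjective
      have : Module.Finite K (C ⧸ m) := finite_of_finite_type_of_isJacobsonRing K (C ⧸ m)
      exact Algebra.IsAlgebraic.of_finite K (C ⧸ m)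
    · by_contra hna
      rw [← Algebra.transcendental_iff_not_isAlgebraic] at hna
      have h1 : Module.rank K (C ⧸ m) = #(C ⧸ m) := Algebra.Transcendental.rank_eq_cardinalMk K _
      have h2 : #K ≤ #(C ⧸ m) := mk_le_of_injective (algebraMap K (C ⧸ m)).injective
      -- surjection from the polynomial ring
      let π : MvPolynomial G K →ₐ[K] (C ⧸ m) :=
        (Ideal.Quotient.mkₐ K m).comp (MvPolynomial.aeval (fun g : G => (g : C)))
      have hπ : Function.Surjective π := by
        have : Function.Surjective (MvPolynomial.aeval (R := K) (fun g : G => (g : C))) := by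
          rw [← AlgHom.range_eq_top, ← Algebra.adjoin_range_eq_range_aeval, Subtype.range_coe, hG]
        exact Ideal.Quotient.mk_surjective.comp this
      have h3 : Module.rank K (C ⧸ m) ≤ Module.rank K (MvPolynomial G K) :=
        π.toLinearMap.rank_le_of_surjective hπ
      have h4 : Module.rank K (MvPolynomial G K) = #(G →₀ ℕ) := by
        rw [(MvPolynomial.basisMonomials G K).mk_eq_rank'']
      have hinf : Infinite G := Set.infinite_coe_iff.mpr hfin
      have h5 : #(G →₀ ℕ) = #G := by
        rw [mk_finsupp_nat, max_eq_left (aleph0_le_mk G)]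
      have : #K ≤ #G := by
        calc #K ≤ #(C ⧸ m) := h2
          _ = Module.rank K (C ⧸ m) := h1.symm
          _ ≤ Module.rank K (MvPolynomial G K) := h3
          _ = #G := by rw [h4, h5]
      exact absurd hc (not_lt.mpr this)
  have hbij : Function.Bijective (algebraMap K (C ⧸ m)) :=
    IsAlgClosed.algebraMap_bijective_of_isIntegral
  let e : K ≃ₐ[K] (C ⧸ m) := AlgEquiv.ofBijective (Algebra.ofId K (C ⧸ m)) hbij
  exact ⟨e.symm.toAlgHom.comp (Ideal.Quotient.mkₐ K m)⟩

open TensorProduct in
/-- (E) A field extension `L/k` of cardinality smaller than that of an algebraically closed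
extension `K/k` embeds in `K` over `k`. -/
theorem exists_algHom_of_card_lt {k L K : Type u} [Field k] [Field L] [Field K] [IsAlgClosed K]
    [Algebra k L] [Algebra k K] (hc : #L < #K) : Nonempty (L →ₐ[k] K) := by
  have : Nontrivial (K ⊗[k] L) :=
    Algebra.TensorProduct.nontrivial_of_algebraMap_injective_of_isDomain k K L
      (algebraMap k K).injective (algebraMap k L).injective
  have hG := Algebra.TensorProduct.adjoin_one_tmul_image_eq_top (R := k) (A := K) (B := L)
    Set.univ (Algebra.adjoin_univ k L)
  have hcard : #(((1 : K) ⊗ₜ[k] ·) '' (Set.univ : Set L)) < #K :=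
    lt_of_le_of_lt (mk_image_le.trans (by simp)) hc
  obtain ⟨ψ⟩ := exists_algHom_of_adjoin_eq_top _ hG hcard
  exact ⟨(ψ.restrictScalars k).comp Algebra.TensorProduct.includeRight⟩

/-- Ring-hom version of `exists_algHom_of_card_lt`. -/
theorem exists_ringHom_of_card_lt {k L K : Type u} [Field k] [Field L] [Field K] [IsAlgClosed K]
    (i : k →+* L) (j : k →+* K) (hc : #L < #K) : ∃ φ : L →+* K, φ.comp i = j := by
  letI := i.toAlgebra
  letI := j.toAlgebra
  obtain ⟨φ⟩ := exists_algHom_of_card_lt (k := k) (L := L) (K := K) hc
  exact ⟨φ.toRingHom, φ.comp_algebraMap⟩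

end Groth.Agent.H52.LargeField
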