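/-
Helper library (helper52): the base change of a cofiltered system `(X_j)_{j/i}` of sheaves along an
arbitrary map `ξ : W ⟶ X_i`, its limit, and basic properties.
-/
import Groth.Agent.H52.LimChart
import Groth.Agent.H52.AffineMor
import Groth.Agent.H52.FibreProd

set_option autoImplicit false
universe u
open CategoryTheory CategoryTheory.Limits AlgebraicGeometry Opposite
open AlgSp

namespace Groth.Agent.H52.LimPull

variable {S : Scheme.{u}} {I : Type u} [SmallCategory I] [IsCofiltered I]
  (D : I ⥤ Sp S) (c : Cone D) (hc : IsLimit c) (i : I) {W : Sp S} (ξ : W ⟶ D.obj i)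

/-- The diagram of base changes `X_j ×_{X_i} W` for `j ⟶ i`. -/
noncomputable def G : Over i ⥤ Sp S := Over.post D ⋙ Over.pullback ξ ⋙ Over.forget _

noncomputable def gFst (j : Over i) : (G D i ξ).obj j ⟶ D.obj j.left :=
  pullback.fst (D.map j.hom) ξ

noncomputable def gSnd (j : Over i) : (G D i ξ).obj j ⟶ W :=
  pullback.snd (D.map j.hom) ξ

theorem g_isPullback (j : Over i) :
    IsPullback (gFst D i ξ j) (gSnd D i ξ j) (D.map j.hom) ξ :=
  IsPullback.of_hasPullback _ _

/-- The cone over `G` with vertex `X ×_{X_i} W`. -/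
noncomputable def GCone : Cone (G D i ξ) :=
  (Over.forget _).mapCone ((Over.pullback ξ).mapCone (LimChart.overCone D c i))

noncomputable def cFst : (GCone D c i ξ).pt ⟶ c.pt := pullback.fst (c.π.app i) ξ

noncomputable def cSnd : (GCone D c i ξ).pt ⟶ W := pullback.snd (c.π.app i) ξ

theorem c_isPullback : IsPullback (cFst D c i ξ) (cSnd D c i ξ) (c.π.app i) ξ :=
  IsPullback.of_hasPullback _ _

noncomputable def GConeIsLimit : IsLimit (GCone D c i ξ) := by
  have : IsConnected (Over i) := IsCofiltered.isConnected _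
  have h1 : IsLimit ((Over.pullback ξ).mapCone (LimChart.overCone D c i)) :=
    isLimitOfPreserves _ (LimChart.overConeIsLimit D c hc i)
  exact isLimitOfPreserves (Over.forget _) h1

theorem GCone_π_fst (j : Over i) :
    (GCone D c i ξ).π.app j ≫ gFst D i ξ j = cFst D c i ξ ≫ c.π.app j.left := by
  simp only [GCone, LimChart.overCone, Functor.mapCone_π_app, Over.forget_map,
    Over.pullback_map_left]
  exact pullback.lift_fst _ _ _

theorem GCone_π_snd (j : Over i) :
    (GCone D c i ξ).π.app j ≫ gSnd D i ξ j = cSnd D c i ξ := by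
  simp only [GCone, LimChart.overCone, Functor.mapCone_π_app, Over.forget_map,
    Over.pullback_map_left]
  exact pullback.lift_snd _ _ _

theorem G_map_fst {j k : Over i} (φ : j ⟶ k) :
    (G D i ξ).map φ ≫ gFst D i ξ k = gFst D i ξ j ≫ D.map φ.left := by
  simp only [G, Functor.comp_map, Over.forget_map, Over.pullback_map_left]
  exact pullback.lift_fst _ _ _

theorem G_map_snd {j k : Over i} (φ : j ⟶ k) :
    (G D i ξ).map φ ≫ gSnd D i ξ k = gSnd D i ξ j := by
  simp only [G, Functor.comp_map, Over.forget_map, Over.pullback_map_left]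
  exact pullback.lift_snd _ _ _

/-- The transition maps of the base-changed system are base changes of the original ones. -/
theorem G_map_isPullback {j k : Over i} (φ : j ⟶ k) :
    IsPullback ((G D i ξ).map φ) (gFst D i ξ j) (gFst D i ξ k) (D.map φ.left) := by
  refine IsPullback.of_right ?_ (G_map_fst D i ξ φ) (g_isPullback D i ξ k).flip
  rw [G_map_snd, ← D.map_comp, Over.w φ]
  exact (g_isPullback D i ξ j).flip

theorem isAffineMor_G_map (hDa : ∀ (j k : I) (φ : j ⟶ k), IsAffineMor (D.map φ))
    {j k : Over i} (φ : j ⟶ k) : IsAffineMor ((G D i ξ).map φ) :=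
  isAffineMor_of_isPullback (G_map_isPullback D i ξ φ).flip (hDa _ _ φ.left)

theorem isAffineMor_gSnd (hDa : ∀ (j k : I) (φ : j ⟶ k), IsAffineMor (D.map φ))
    (j : Over i) : IsAffineMor (gSnd D i ξ j) :=
  isAffineMor_of_isPullback (g_isPullback D i ξ j) (hDa _ _ j.hom)

theorem isAlgSpace_G_obj (hD : ∀ i, IsAlgSpace (D.obj i)) (hW : IsAlgSpace W) (j : Over i) :
    IsAlgSpace ((G D i ξ).obj j) :=
  isAlgSpace_of_isPullback (g_isPullback D i ξ j) (hD j.left) (hD i) hW

end Groth.Agent.H52.LimPull
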