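/-
Helper library (helper52): re-basing a "descent to a stage" problem along `i₁ ⟶ i₀`
(replace the system by its restriction to `Over i₁` and `f₀` by its base change to stage `i₁`).
-/
import Groth.Agent.H52.LimStage

set_option autoImplicit false
universe u
open CategoryTheory CategoryTheory.Limits AlgebraicGeometry Opposite
open AlgSp

namespace Groth.Agent.H52.LimStage

section Cat

variable {C : Type*} [Category C]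

/-- A base change at a later stage is a base change of any base change at an earlier stage
(with the cartesian square on the targets). -/
theorem stage_square' {X₀ Y₀ B₀ Bi Bk : C} {f₀ : X₀ ⟶ Y₀} {b₀ : Y₀ ⟶ B₀} {βi : Bi ⟶ B₀}
    (ψ : Bk ⟶ Bi) {Xi Yi : C} {fi : Xi ⟶ Yi} {pYi : Yi ⟶ Y₀} {qYi : Yi ⟶ Bi}
    (hYi : IsPullback pYi qYi b₀ βi) {pXi : Xi ⟶ X₀} (hXi : IsPullback pXi fi f₀ pYi)
    {Xk Yk : C} {fk : Xk ⟶ Yk} {pYk : Yk ⟶ Y₀} {qYk : Yk ⟶ Bk}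
    (hYk : IsPullback pYk qYk b₀ (ψ ≫ βi)) {pXk : Xk ⟶ X₀} (hXk : IsPullback pXk fk f₀ pYk) :
    ∃ (n : Xk ⟶ Xi) (m : Yk ⟶ Yi), IsPullback n fk fi m ∧ IsPullback m qYk qYi ψ := by
  obtain ⟨n, m, sq, hm1, hm2, -⟩ := stage_square ψ hYi hXi hYk hXk
  refine ⟨n, m, sq, ?_⟩
  refine IsPullback.of_right ?_ hm2 hYi
  rw [hm1]
  exact hYk

end Cat

variable {S : Scheme.{u}} {I : Type u} [SmallCategory I]

variable (D : I ⥤ Sp S) {i₀ : I} {X₀ Y₀ : Sp S} (f₀ : X₀ ⟶ Y₀) (b₀ : Y₀ ⟶ D.obj i₀)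

/-- Re-basing: a statement at some stage for the base change `f₁` of `f₀` to stage `i₁` (over the
restricted system `Over i₁`) gives the statement at some stage for `f₀`. -/
theorem rebase {P : MorphismProperty (Sp S)} {i₁ : I} (φ₁ : i₁ ⟶ i₀)
    {X₁ Y₁ : Sp S} {f₁ : X₁ ⟶ Y₁} {pY₁ : Y₁ ⟶ Y₀} {b₁ : Y₁ ⟶ D.obj i₁}
    (hY₁ : IsPullback pY₁ b₁ b₀ (D.map φ₁)) {pX₁ : X₁ ⟶ X₀} (hX₁ : IsPullback pX₁ f₁ f₀ pY₁)
    (h : ∃ (j : Over i₁) (ψ : j ⟶ Over.mk (𝟙 i₁)),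
      AtStage (Over.forget i₁ ⋙ D) (i₀ := Over.mk (𝟙 i₁)) f₁ b₁ P ψ) :
    ∃ (i : I) (φ : i ⟶ i₀), AtStage D f₀ b₀ P φ := by
  obtain ⟨j, ψ, h⟩ := h
  have hψ : ψ.left = j.hom := by
    have := Over.w ψ
    simpa using this
  refine ⟨j.left, j.hom ≫ φ₁, fun Xk Yk fk pYk qYk hYk pXk hXk => ?_⟩
  rw [D.map_comp] at hYk
  obtain ⟨n, m, sq, sqm⟩ := stage_square' (D.map j.hom) hY₁ hX₁ hYk hXk
  refine h Xk Yk fk m qYk ?_ n sq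
  change IsPullback m qYk b₁ (D.map ψ.left)
  rw [hψ]
  exact sqm

/-- The limit-stage data for the re-based problem. -/
theorem rebase_limit (c : Cone D) {i₁ : I} (φ₁ : i₁ ⟶ i₀)
    {X₁ Y₁ : Sp S} {f₁ : X₁ ⟶ Y₁} {pY₁ : Y₁ ⟶ Y₀} {b₁ : Y₁ ⟶ D.obj i₁}
    (hY₁ : IsPullback pY₁ b₁ b₀ (D.map φ₁)) {pX₁ : X₁ ⟶ X₀} (hX₁ : IsPullback pX₁ f₁ f₀ pY₁)
    {X Y : Sp S} {f : X ⟶ Y} {pY : Y ⟶ Y₀} {qY : Y ⟶ c.pt}
    (hY : IsPullback pY qY b₀ (c.π.app i₀)) {pX : X ⟶ X₀} (hX : IsPullback pX f f₀ pY) :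
    ∃ (pX' : X ⟶ X₁) (pY' : Y ⟶ Y₁), IsPullback pX' f f₁ pY' ∧
      IsPullback pY' qY b₁ ((c.whisker (Over.forget i₁)).π.app (Over.mk (𝟙 i₁))) := by
  have hw : c.π.app i₀ = c.π.app i₁ ≫ D.map φ₁ := (c.w φ₁).symm
  rw [hw] at hY
  obtain ⟨n, m, sq, sqm⟩ := stage_square' (c.π.app i₁) hY₁ hX₁ hY hX
  exact ⟨n, m, sq, sqm⟩

end Groth.Agent.H52.LimStage
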