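/-
Helper library (helper52): descent to a stage of a property `Q` of a morphism `f₀` of algebraic
spaces which becomes representable at some stage.
-/
import Groth.Agent.H52.LimRebase
import Groth.Agent.H52.AffineMor
import Groth.Agent.H52.LocNoeth
import Groth.Agent.H53.IntegralComp
import Groth.Agent.H53.ZarGlueAff

set_option autoImplicit false
universe u
open CategoryTheory CategoryTheory.Limits AlgebraicGeometry Opposite
open AlgSp

namespace Groth.Agent.H52.LimStage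

variable {S : Scheme.{u}}

/-- The source of an affine morphism to a quasi-compact and quasi-separated algebraic space is
quasi-compact and quasi-separated. -/
theorem qcqs_of_isAffineMor {X Y : Sp S} (hX : IsAlgSpace X) (hY : IsAlgSpace Y) (f : X ⟶ Y)
    (hf : IsAffineMor f) (hYqc : IsQuasiCompactSp Y) (hYqs : IsQuasiSeparatedSp Y) :
    IsQuasiCompactSp X ∧ IsQuasiSeparatedSp X := by
  constructor
  · have h1 : RepWith @QuasiCompact f :=
      Groth.Agent.H53.repWith_of_le (fun A B φ hφ => by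
        have : IsAffineHom φ := hφ
        infer_instance) (Groth.Agent.H53.ZarGlue.repWith_isAffineHom_of_isAffineMor hf)
    exact isQuasiCompactSp_of_isQuasiCompactMor hY f
      (isQuasiCompactMor_of_repWith_quasiCompact f h1) hYqc
  · have h1 : IsSeparatedMor f := Groth.Agent.H53.isSeparatedMor_of_isAffineMor hX f hf
    have h2 : IsQuasiSeparatedMor f :=
      Groth.Agent.H53.repWith_of_le (fun A B φ hφ => by
        have : IsClosedImmersion φ := hφ
        infer_instance) h1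
    exact isQuasiSeparatedSp_of_isQuasiSeparatedMor f h2 hYqs

variable {I : Type u} [SmallCategory I] [IsCofiltered I]

open Groth.Agent.H52.LimRep in
/-- If the base changes of `f₀` to the stage `φ₁ : i₁ ⟶ i₀` are representable with `F` and
quasi-separated, then a property `Q` (with scheme-level descent under `F`) of the base change to
the limit holds at some stage. -/
theorem rep_descend_of_stage [QuasiSeparatedSpace ↥S] {F Q : MorphismProperty Scheme.{u}}
    [F.RespectsIso] [Q.RespectsIso] [Q.IsStableUnderBaseChange]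
    [Q.DescendsAlong (@Surjective ⊓ @Flat ⊓ @LocallyOfFinitePresentation)]
    (hQs : SchDescendsAbs F Q) (D : I ⥤ Sp S) (hD : ∀ i, IsAlgSpace (D.obj i))
    (hDa : ∀ (i j : I) (φ : i ⟶ j), IsAffineMor (D.map φ)) (c : Cone D) (hc : IsLimit c) (i₀ : I)
    {X₀ Y₀ : Sp S} (hX₀ : IsAlgSpace X₀) (hY₀ : IsAlgSpace Y₀) (f₀ : X₀ ⟶ Y₀) (b₀ : Y₀ ⟶ D.obj i₀)
    (hXqc : IsQuasiCompactSp X₀) (hXqs : IsQuasiSeparatedSp X₀)
    (hYqc : IsQuasiCompactSp Y₀) (hYqs : IsQuasiSeparatedSp Y₀)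
    {X Y : Sp S} (f : X ⟶ Y) (pY : Y ⟶ Y₀) (qY : Y ⟶ c.pt)
    (hY : IsPullback pY qY b₀ (c.π.app i₀)) (pX : X ⟶ X₀) (hX : IsPullback pX f f₀ pY)
    (hf : RepWith Q f) {i₁ : I} (φ₁ : i₁ ⟶ i₀)
    (h₁ : AtStage D f₀ b₀ (RepWith F ⊓ RepWith @QuasiSeparated) φ₁) :
    ∃ (i : I) (φ : i ⟶ i₀), AtStage D f₀ b₀ (RepWith Q) φ := by
  have sqY₁ := IsPullback.of_hasPullback b₀ (D.map φ₁)
  have sqX₁ := IsPullback.of_hasPullback f₀ (pullback.fst b₀ (D.map φ₁))
  obtain ⟨hF₁, hqs₁⟩ := h₁ _ _ _ _ _ sqY₁ _ sqX₁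
  have hY₁ : IsAlgSpace (pullback b₀ (D.map φ₁)) :=
    isAlgSpace_of_isPullback sqY₁ hY₀ (hD i₀) (hD i₁)
  have hX₁ : IsAlgSpace (pullback f₀ (pullback.fst b₀ (D.map φ₁))) :=
    isAlgSpace_of_isPullback sqX₁ hX₀ hY₀ hY₁
  have haY : IsAffineMor (pullback.fst b₀ (D.map φ₁)) :=
    isAffineMor_of_isPullback sqY₁.flip (hDa _ _ φ₁)
  have haX : IsAffineMor (pullback.fst f₀ (pullback.fst b₀ (D.map φ₁))) :=
    isAffineMor_of_isPullback sqX₁.flip haY
  obtain ⟨hY₁qc, hY₁qs⟩ := qcqs_of_isAffineMor hY₁ hY₀ _ haY hYqc hYqs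
  obtain ⟨hX₁qc, -⟩ := qcqs_of_isAffineMor hX₁ hX₀ _ haX hXqc hXqs
  obtain ⟨pX', pY', sqX', sqY'⟩ := rebase_limit D f₀ b₀ c φ₁ sqY₁ sqX₁ hY hX
  have hc₁ : IsLimit (c.whisker (Over.forget i₁)) :=
    (Functor.Initial.isLimitWhiskerEquiv (Over.forget i₁) c).symm hc
  have key := rep_descend hQs (Over.forget i₁ ⋙ D) (fun i j φ => hDa _ _ φ.left)
    (c.whisker (Over.forget i₁)) hc₁ (Over.mk (𝟙 i₁)) hX₁ hY₁
    (pullback.snd f₀ (pullback.fst b₀ (D.map φ₁))) (pullback.snd b₀ (D.map φ₁)) hF₁ hqs₁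
    hX₁qc hY₁qc hY₁qs f pY' qY sqY' pX' sqX' hf
  exact rebase D f₀ b₀ φ₁ sqY₁ sqX₁ key

end Groth.Agent.H52.LimStage
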