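/-
Helper library (helper52): for a system `(X_i)` over `Y` with closed-immersion transition maps,
locally of finite type over `Y`, whose limit `X ⟶ Y` is a monomorphism, the maps `X_i ⟶ Y` are
monomorphisms for large `i`.
-/
import Groth.Agent.S10011
import Groth.Agent.S10021
import Groth.Agent.H52.LimPull
import Groth.Agent.H52.GraphProp2
import Groth.Agent.H52.LimRep2
import Groth.Agent.H52.DiagLfp
import Groth.Agent.H52.LocPCalc4
import Groth.Agent.H53.Proper

set_option autoImplicit false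
universe u
open CategoryTheory CategoryTheory.Limits AlgebraicGeometry Opposite
open AlgSp

namespace Groth.Agent.H52.LimMonoStage

variable {S : Scheme.{u}} {I : Type u} [SmallCategory I] [IsCofiltered I]

theorem exists_mono_stage [QuasiSeparatedSpace ↥S] (Y : Space S) (D : I ⥤ Sp S)
    (hD : ∀ i, IsAlgSpace (D.obj i)) (t : D ⟶ (Functor.const I).obj Y.obj)
    (hDc : ∀ (i j : I) (φ : i ⟶ j), RepWith @IsClosedImmersion (D.map φ))
    (c : Cone D) (hc : IsLimit c) (g : c.pt ⟶ Y.obj) (hg : ∀ i, c.π.app i ≫ t.app i = g)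
    (hqc : ∀ i, IsQuasiCompactSp (D.obj i)) (hqs : ∀ i, IsQuasiSeparatedSp (D.obj i))
    (hYqs : IsQuasiSeparatedSp Y.obj)
    (hft : ∀ i, LocP @LocallyOfFiniteType (t.app i)) [Mono g] :
    ∃ i₀ : I, ∀ (i : I) (_ : i ⟶ i₀), Mono (t.app i) := by
  classical
  have hDa : ∀ (i j : I) (φ : i ⟶ j), IsAffineMor (D.map φ) := fun i j φ =>
    Groth.Agent.H52.isAffineMor_of_repWith_isClosedImmersion _ (hDc i j φ)
  have hDm : ∀ {i j : I} (φ : i ⟶ j), Mono (D.map φ) := fun {i j} φ =>
    Groth.Agent.H52.mono_of_repWith _ @IsClosedImmersion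
      (fun _ _ f hf => by have : IsClosedImmersion f := hf; infer_instance) (hDc i j φ)
  have hXalg : IsAlgSpace c.pt := Groth.Agent.H52.LimChart.isAlgSpace_pt D c hc hD hDa
  have hπaff : ∀ i, IsAffineMor (c.π.app i) :=
    fun i => Groth.Agent.H52.LimChart.isAffineMor_π_app D c hc i hDa
  have htqc : ∀ i, IsQuasiCompactMor (t.app i) := fun i =>
    Groth.Agent.H52.isQuasiCompactMor_of_isQuasiSeparatedSp (hD i) Y.property _ (hqc i) hYqs
  have hnat : ∀ {i j : I} (φ : i ⟶ j), D.map φ ≫ t.app j = t.app i := by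
    intro i j φ
    have := t.naturality φ
    simp only [Functor.const_obj_obj, Functor.const_obj_map, Category.comp_id] at this
    exact this
  have hKalg : ∀ k, IsAlgSpace (pullback (t.app k) (t.app k)) := fun k =>
    Groth.Agent.H52.isAlgSpace_of_isPullback (IsPullback.of_hasPullback _ _) (hD k) Y.property (hD k)
  have hKqc : ∀ k, IsQuasiCompactSp (pullback (t.app k) (t.app k)) := fun k =>
    Groth.Agent.H52.isQuasiCompactSp_of_isQuasiCompactMor (hD k) _
      (Groth.Agent.H52.isQuasiCompactMor_of_isPullback (IsPullback.of_hasPullback _ _) (htqc k))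
      (hqc k)
  have hKqs : ∀ k, IsQuasiSeparatedSp (pullback (t.app k) (t.app k)) := fun k =>
    Groth.Agent.H52.repWith_diag_of_isPullback @QuasiCompact (IsPullback.of_hasPullback _ _)
      (hqs k) (hqs k)
  -- Step 1: the graph of some projection is an isomorphism
  obtain ⟨k, hk⟩ : ∃ k : I, Groth.Agent.H52.GraphHasP (MorphismProperty.isomorphisms (Sp S))
      (c.π.app k) (t.app k) := by
    let i₁ : I := (IsCofiltered.nonempty (C := I)).some
    have hXqcqs := Groth.Agent.H52.LimStage.qcqs_of_isAffineMor hXalg (hD i₁) _ (hπaff i₁)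
      (hqc i₁) (hqs i₁)
    let W : Sp S := pullback (t.app i₁) g
    let ξ : W ⟶ D.obj i₁ := pullback.fst (t.app i₁) g
    let w₂ : W ⟶ c.pt := pullback.snd (t.app i₁) g
    have sqW : IsPullback ξ w₂ (t.app i₁) g := IsPullback.of_hasPullback _ _
    have hWalg : IsAlgSpace W :=
      Groth.Agent.H52.isAlgSpace_of_isPullback sqW (hD i₁) Y.property hXalg
    have hWqc : IsQuasiCompactSp W :=
      Groth.Agent.H52.isQuasiCompactSp_of_isQuasiCompactMor hXalg _
        (Groth.Agent.H52.isQuasiCompactMor_of_isPullback sqW (htqc i₁)) hXqcqs.1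
    have hWqs : IsQuasiSeparatedSp W :=
      Groth.Agent.H52.repWith_diag_of_isPullback @QuasiCompact sqW (hqs i₁) hXqcqs.2
    let G := Groth.Agent.H52.LimPull.G D i₁ ξ
    let cG := Groth.Agent.H52.LimPull.GCone D c i₁ ξ
    have hcG : IsLimit cG := Groth.Agent.H52.LimPull.GConeIsLimit D c hc i₁ ξ
    have hGalg : ∀ j, IsAlgSpace (G.obj j) :=
      Groth.Agent.H52.LimPull.isAlgSpace_G_obj D i₁ ξ hD hWalg
    have hGqc : ∀ j, IsQuasiCompactSp (G.obj j) := fun j =>
      (Groth.Agent.H52.LimStage.qcqs_of_isAffineMor (hGalg j) hWalg _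
        (Groth.Agent.H52.LimPull.isAffineMor_gSnd D i₁ ξ hDa j) hWqc hWqs).1
    have hGc : ∀ (j j' : Over i₁) (φ : j ⟶ j'), RepWith @IsClosedImmersion (G.map φ) :=
      fun j j' φ => MorphismProperty.of_isPullback
        (Groth.Agent.H52.LimPull.G_map_isPullback D i₁ ξ φ).flip (hDc _ _ φ.left)
    let B' : Space S := ⟨c.pt, hXalg⟩
    let t' : G ⟶ (Functor.const (Over i₁)).obj B'.obj :=
      { app := fun j => Groth.Agent.H52.LimPull.gSnd D i₁ ξ j ≫ w₂
        naturality := fun j j' φ => by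
          change G.map φ ≫ Groth.Agent.H52.LimPull.gSnd D i₁ ξ j' ≫ w₂ =
            (Groth.Agent.H52.LimPull.gSnd D i₁ ξ j ≫ w₂) ≫ 𝟙 _
          rw [Category.comp_id, ← Category.assoc, Groth.Agent.H52.LimPull.G_map_snd] }
    have sqj : ∀ j : Over i₁, IsPullback (Groth.Agent.H52.LimPull.gFst D i₁ ξ j)
        (Groth.Agent.H52.LimPull.gSnd D i₁ ξ j ≫ w₂) (t.app j.left) g := by
      intro j
      have h := ((Groth.Agent.H52.LimPull.g_isPullback D i₁ ξ j).flip.paste_horiz sqW.flip).flip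
      rw [hnat] at h
      exact h
    have hft' : ∀ j, LocP @LocallyOfFiniteType (t'.app j) := fun j =>
      Groth.Agent.H52.isEtLocal_lft.locP_of_isPullback (hD j.left) Y.property hXalg (sqj j)
        (hft j.left)
    have hcW : c.π.app i₁ ≫ t.app i₁ = 𝟙 c.pt ≫ g := (hg i₁).trans (Category.id_comp g).symm
    let lW : c.pt ⟶ W := pullback.lift (c.π.app i₁) (𝟙 c.pt) hcW
    have hlW1 : lW ≫ ξ = c.π.app i₁ := pullback.lift_fst _ _ _
    have hlW2 : lW ≫ w₂ = 𝟙 c.pt := pullback.lift_snd _ _ _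
    have hcy : 𝟙 c.pt ≫ c.π.app i₁ = lW ≫ ξ := (Category.id_comp _).trans hlW1.symm
    let y : c.pt ⟶ cG.pt := pullback.lift (𝟙 c.pt) lW hcy
    have hy1 : y ≫ Groth.Agent.H52.LimPull.cFst D c i₁ ξ = 𝟙 _ := pullback.lift_fst _ _ _
    have hy2 : y ≫ Groth.Agent.H52.LimPull.cSnd D c i₁ ξ ≫ w₂ = 𝟙 _ := by
      have h1 : y ≫ Groth.Agent.H52.LimPull.cSnd D c i₁ ξ = lW := pullback.lift_snd _ _ _
      rw [← Category.assoc, h1]
      exact hlW2
    have sqlim : IsPullback (Groth.Agent.H52.LimPull.cFst D c i₁ ξ)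
        (Groth.Agent.H52.LimPull.cSnd D c i₁ ξ ≫ w₂) g g := by
      have h := ((Groth.Agent.H52.LimPull.c_isPullback D c i₁ ξ).flip.paste_horiz sqW.flip).flip
      rw [hg] at h
      exact h
    -- `y` is an isomorphism, with inverse either projection
    haveI hfst_iso : IsIso (Groth.Agent.H52.LimPull.cFst D c i₁ ξ) := by
      have : IsKernelPair g (Groth.Agent.H52.LimPull.cFst D c i₁ ξ)
          (Groth.Agent.H52.LimPull.cSnd D c i₁ ξ ≫ w₂) := sqlim
      exact this.isIso_of_mono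
    haveI hsnd_iso : IsIso (Groth.Agent.H52.LimPull.cSnd D c i₁ ξ ≫ w₂) := by
      have : IsKernelPair g (Groth.Agent.H52.LimPull.cSnd D c i₁ ξ ≫ w₂)
          (Groth.Agent.H52.LimPull.cFst D c i₁ ξ) := sqlim.flip
      exact this.isIso_of_mono
    haveI hy_iso : IsIso y := by
      have : y = inv (Groth.Agent.H52.LimPull.cFst D c i₁ ξ) := by
        rw [← cancel_mono (Groth.Agent.H52.LimPull.cFst D c i₁ ξ), hy1, IsIso.inv_hom_id]
      rw [this]; infer_instance
    let j₁ : Over i₁ := Over.mk (𝟙 i₁)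
    have hX : LocP @LocallyOfFinitePresentation (cG.π.app j₁ ≫ t'.app j₁) := by
      have h1 : cG.π.app j₁ ≫ t'.app j₁ = Groth.Agent.H52.LimPull.cSnd D c i₁ ξ ≫ w₂ := by
        change cG.π.app j₁ ≫ Groth.Agent.H52.LimPull.gSnd D i₁ ξ j₁ ≫ w₂ = _
        rw [← Category.assoc, Groth.Agent.H52.LimPull.GCone_π_snd]
      rw [h1]
      exact Groth.Agent.H52.isEtLocal_lfp.locP_of_repWith' _
        (Groth.Agent.H53.repWith_of_le (fun _ _ f hf => by
          have : IsOpenImmersion f := hf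
          infer_instance) (Groth.Agent.H52.repWith_of_isIso @IsOpenImmersion _))
    obtain ⟨k₀, hk₀⟩ := Groth.Agent.S10011.result S B' G hGalg t' hGc cG hcG hGqc hft' j₁ hX
    refine ⟨k₀.left, ?_⟩
    haveI := hk₀ k₀ (𝟙 _)
    have sqk : IsPullback (Groth.Agent.H52.LimPull.gFst D i₁ ξ k₀)
        (Groth.Agent.H52.LimPull.gSnd D i₁ ξ k₀ ≫ w₂) (t.app k₀.left)
        (c.π.app k₀.left ≫ t.app k₀.left) := by
      rw [hg]; exact sqj k₀
    refine Groth.Agent.H52.graphHasP_of_one _ _ _ sqk (y ≫ cG.π.app k₀) ?_ ?_ ?_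
    · rw [Category.assoc, Groth.Agent.H52.LimPull.GCone_π_fst, ← Category.assoc, hy1]
      exact Category.id_comp _
    · rw [Category.assoc, ← Category.assoc (cG.π.app k₀), Groth.Agent.H52.LimPull.GCone_π_snd]
      exact hy2
    · exact (inferInstance : IsIso (y ≫ cG.π.app k₀))
  -- Step 2: descend to a finite stage
  obtain ⟨f, sqf, hf⟩ := Groth.Agent.H52.stage_of_graphHasP _ _ _ hk
  haveI : IsIso f := hf
  have hf₀ : LocP @LocallyOfFinitePresentation (pullback.diagonal (t.app k)) :=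
    Groth.Agent.H52.locP_lfp_diagonal (hD k) Y.property (t.app k) (hft k)
  obtain ⟨i', φ, hi'⟩ := Groth.Agent.S10021.result S D hD hDa c hc k (hqc k) (hqs k)
    ⟨D.obj k, hD k⟩ ⟨pullback (t.app k) (t.app k), hKalg k⟩ (pullback.diagonal (t.app k))
    (pullback.snd (t.app k) (t.app k)) (hqc k) (hqs k) (hKqc k) (hKqs k)
    c.pt (pullback (pullback.snd (t.app k) (t.app k)) (c.π.app k)) f
    (pullback.fst _ _) (pullback.snd _ _) (IsPullback.of_hasPullback _ _) (c.π.app k) sqf hf₀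
  have hgraph : Groth.Agent.H52.GraphHasP (MorphismProperty.isomorphisms (Sp S)) (D.map φ)
      (t.app k) :=
    Groth.Agent.H52.graphHasP_of_stage _ _ _
      (fun Xi Yi fi pYi qYi sqY pXi sqX => hi' Xi Yi fi pYi qYi sqY pXi sqX)
  haveI := hDm φ
  have hmono' : Mono (t.app i') := by
    have := Groth.Agent.H52.mono_of_graphHasP_iso (D.map φ) (t.app k) hgraph
    rwa [hnat] at this
  refine ⟨i', fun i ψ => ?_⟩
  haveI := hDm ψ
  rw [← hnat ψ]
  exact mono_comp _ _

end Groth.Agent.H52.LimMonoStage
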