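/-
Helper library (helper52): points of a cofiltered limit of decent algebraic spaces.
-/
import Groth.Agent.S2151
import Groth.Agent.S2152
import Groth.Agent.Lib.Helper54.MonoPoint
import Groth.Agent.H52.LocPCalc5
import Mathlib

set_option autoImplicit false
universe u
open CategoryTheory CategoryTheory.Limits AlgebraicGeometry Opposite
open AlgSp

namespace Groth.Agent.H52.LimPts

variable {S : Scheme.{u}} {I : Type u} [SmallCategory I] [IsCofiltered I]
  (D : I ⥤ Sp S) (c : Cone D) (hc : IsLimit c)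

/-- A compatible system of monomorphic field valued points of the `X_i`. -/
structure PtSys (s : ∀ i, Points (D.obj i)) where
  p : ∀ i, FieldPt (D.obj i)
  hp : ∀ i, Points.mk (p i) = s i
  hm : ∀ i, Mono (p i).toHom
  hr : ∀ i, Representable (p i).toHom
  g : ∀ {i j : I} (_ : i ⟶ j), (p i).pt ⟶ (p j).pt
  hg : ∀ {i j : I} (φ : i ⟶ j), (yon S).map (g φ) ≫ (p j).toHom = (p i).toHom ≫ D.map φ

theorem nonempty_ptSys (hdec : ∀ i, IsDecent (D.obj i)) (s : ∀ i, Points (D.obj i))
    (hs : ∀ (i j : I) (φ : i ⟶ j), Points.map (D.map φ) (s i) = s j) : Nonempty (PtSys D s) := by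
  choose p hp hm hq using fun i => hdec i (s i)
  have hfac : ∀ {i j : I} (φ : i ⟶ j), ∃ g : (p i).pt ⟶ (p j).pt,
      (yon S).map g ≫ (p j).toHom = (p i).toHom ≫ D.map φ := by
    intro i j φ
    have h1 : Points.mk ((p i).map (D.map φ)) = Points.mk (p j) := by
      rw [← Points.map_mk, hp, hs, hp]
    obtain ⟨g, hg⟩ := Groth.Agent.Lib.Helper54.exists_factor_of_mono_point (p j)
      ((p i).map (D.map φ)) (hm j) (hq j).rep h1
    exact ⟨g, hg.trans (FieldPt.toHom_map _ _)⟩
  exact ⟨⟨p, hp, hm, fun i => (hq i).rep, fun φ => (hfac φ).choose, fun φ => (hfac φ).choose_spec⟩⟩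

namespace PtSys

variable {D} {s : ∀ i, Points (D.obj i)} (ps : PtSys D s)

/-- The diagram of spectra of fields. -/
noncomputable def P : I ⥤ Over S where
  obj i := (ps.p i).pt
  map φ := ps.g φ
  map_id i := by
    apply (yon S).map_injective
    have := ps.hm i
    rw [← cancel_mono (ps.p i).toHom, ps.hg, D.map_id, Category.comp_id]
    erw [(yon S).map_id]
    exact (Category.id_comp _).symm
  map_comp {i j k} φ ψ := by
    apply (yon S).map_injective
    have := ps.hm k
    rw [← cancel_mono (ps.p k).toHom, ps.hg, D.map_comp, (yon S).map_comp, Category.assoc, ps.hg,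
      ← Category.assoc, ← Category.assoc, ps.hg]

instance (i : I) : IsAffine ((ps.P ⋙ Over.forget S).obj i) :=
  inferInstanceAs (IsAffine (Spec (CommRingCat.of (ps.p i).K)))

instance (i : I) : Subsingleton ↥((ps.P ⋙ Over.forget S).obj i) :=
  inferInstanceAs (Subsingleton ↥(Spec (CommRingCat.of (ps.p i).K)))

instance (i : I) : Nonempty ↥((ps.P ⋙ Over.forget S).obj i) :=
  inferInstanceAs (Nonempty ↥(Spec (CommRingCat.of (ps.p i).K)))

theorem exists_limit : ∃ (cP : Cone ps.P) (_ : IsLimit cP),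
    Nonempty ↥cP.pt.left ∧ Subsingleton ↥cP.pt.left := by
  obtain ⟨cs, hcs, -⟩ := Groth.Agent.S2151.result (ps.P ⋙ Over.forget S)
  have : IsConnected I := IsCofiltered.isConnected _
  haveI : HasLimit (ps.P ⋙ Over.forget S) := ⟨⟨⟨cs, hcs⟩⟩⟩
  haveI : HasLimit ps.P := hasLimit_of_created ps.P (Over.forget S)
  have hcP' : IsLimit ((Over.forget S).mapCone (limit.cone ps.P)) :=
    isLimitOfPreserves _ (limit.isLimit ps.P)
  refine ⟨limit.cone ps.P, limit.isLimit ps.P, ?_, ?_⟩
  · exact Scheme.nonempty_of_isLimit (ps.P ⋙ Over.forget S) _ hcP'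
  · obtain ⟨hT⟩ := Groth.Agent.S2152.result (ps.P ⋙ Over.forget S) _ hcP'
    refine ⟨fun x y => ?_⟩
    refine Concrete.isLimit_ext _ hT x y fun i => ?_
    exact Subsingleton.elim (α := ↥((ps.P ⋙ Over.forget S).obj i)) _ _

/-- The monomorphism `Spec k_i ⟶ X_i`, with source written through `P`. -/
noncomputable def h (i : I) : (yon S).obj (ps.P.obj i) ⟶ D.obj i := (ps.p i).toHom

instance (i : I) : Mono (ps.h i) := ps.hm i

theorem h_nat {i j : I} (φ : i ⟶ j) : (yon S).map (ps.P.map φ) ≫ ps.h j = ps.h i ≫ D.map φ :=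
  ps.hg φ

theorem ofPt_h (i : I) (z : ↥(ps.P.obj i).left) : Points.ofPt (ps.h i) z = s i := by
  rw [← ps.hp i]
  exact Points.ofPt_toHom (ps.p i) z

theorem exists_factor_h (i : I) (q : FieldPt (D.obj i)) (hq : Points.mk q = s i) :
    ∃ γ : q.pt ⟶ ps.P.obj i, (yon S).map γ ≫ ps.h i = q.toHom :=
  Groth.Agent.Lib.Helper54.exists_factor_of_mono_point (ps.p i) q (ps.hm i) (ps.hr i)
    (hq.trans (ps.hp i).symm)

/-- The cone over `D` with vertex the limit of the spectra of fields. -/
noncomputable def coneOf (cP : Cone ps.P) : Cone D where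
  pt := (yon S).obj cP.pt
  π :=
    { app := fun i => (yon S).map (cP.π.app i) ≫ ps.h i
      naturality := fun i j φ => by
        refine (Category.id_comp _).trans ?_
        rw [Category.assoc, ← ps.h_nat φ, ← Category.assoc, ← Functor.map_comp, cP.w] }

/-- The morphism from the limit of the spectra of fields to the limit. -/
noncomputable def l (cP : Cone ps.P) : (yon S).obj cP.pt ⟶ c.pt := hc.lift (ps.coneOf cP)

theorem l_π (cP : Cone ps.P) (i : I) :
    ps.l c hc cP ≫ c.π.app i = (yon S).map (cP.π.app i) ≫ ps.h i :=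
  hc.fac (ps.coneOf cP) i

include ps hc in
theorem exists_point : ∃ x : Points c.pt, ∀ i, Points.map (c.π.app i) x = s i := by
  obtain ⟨cP, hcP, ⟨z⟩, -⟩ := ps.exists_limit
  refine ⟨Points.ofPt (ps.l c hc cP) z, fun i => ?_⟩
  rw [Points.map_ofPt, ps.l_π, Groth.Agent.H52.ofPt_yon_map_comp, ps.ofPt_h]

theorem exists_eq_ofPt (cP : Cone ps.P) (hcP : IsLimit cP) (x : Points c.pt)
    (hx : ∀ i, Points.map (c.π.app i) x = s i) :
    ∃ z : ↥cP.pt.left, x = Points.ofPt (ps.l c hc cP) z := by
  obtain ⟨q, rfl⟩ := Points.mk_surjective x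
  have hfac : ∀ i, ∃ γ : q.pt ⟶ ps.P.obj i, (yon S).map γ ≫ ps.h i = q.toHom ≫ c.π.app i := by
    intro i
    obtain ⟨γ, hγ⟩ := ps.exists_factor_h i (q.map (c.π.app i)) (by rw [← Points.map_mk, hx])
    exact ⟨γ, hγ.trans (FieldPt.toHom_map _ _)⟩
  choose γ hγ using hfac
  let cQ : Cone ps.P :=
    { pt := q.pt
      π :=
        { app := γ
          naturality := fun i j φ => by
            refine (Category.id_comp _).trans ?_
            apply (yon S).map_injective
            rw [← cancel_mono (ps.h j), hγ, Functor.map_comp, Category.assoc, ps.h_nat,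
              ← Category.assoc, hγ, Category.assoc, c.w] } }
  have hl : (yon S).map (hcP.lift cQ) ≫ ps.l c hc cP = q.toHom := by
    apply hc.hom_ext
    intro i
    rw [Category.assoc, ps.l_π, ← Category.assoc, ← Functor.map_comp, hcP.fac]
    exact hγ i
  refine ⟨(hcP.lift cQ).left (IsLocalRing.closedPoint q.K), ?_⟩
  rw [← Groth.Agent.H52.ofPt_yon_map_comp, hl]
  exact (Points.ofPt_toHom q _).symm

include ps hc in
theorem eq_of_map_eq (x x' : Points c.pt) (hx : ∀ i, Points.map (c.π.app i) x = s i)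
    (hx' : ∀ i, Points.map (c.π.app i) x' = s i) : x = x' := by
  obtain ⟨cP, hcP, -, hsub⟩ := ps.exists_limit
  obtain ⟨z, rfl⟩ := ps.exists_eq_ofPt c hc cP hcP x hx
  obtain ⟨z', rfl⟩ := ps.exists_eq_ofPt c hc cP hcP x' hx'
  rw [Subsingleton.elim z z']

end PtSys

end Groth.Agent.H52.LimPts
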