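/-
Helper library (helper52): the étale-local descent engine in absolute form (finiteness condition
`F` on `f₀`), and further scheme-level instances (quasi-finite, finite).
-/
import Groth.Agent.H52.LimRep2
import Groth.Agent.H52.LqfSource
import Groth.Agent.Lib.Helper13.LimDescentQF
import Groth.Agent.Lib.Helper1.AffineAndDescent

set_option autoImplicit false
universe u
open CategoryTheory CategoryTheory.Limits AlgebraicGeometry Opposite
open AlgSp

namespace Groth.Agent.H52.LimRep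

variable {S : Scheme.{u}}

open Groth.Agent.Lib.Helper13.LimDescent in
theorem schDescendsAbs_lqf_lft :
    SchDescendsAbs.{u} @LocallyOfFiniteType (@LocallyQuasiFinite ⊓ @LocallyOfFiniteType) := by
  intro J _ _ E cE j₀ hcE _ _ X₀ _ _ f₀ hF hP
  haveI : LocallyOfFiniteType f₀ := hF
  haveI : QuasiCompact f₀ := (quasiCompact_iff_compactSpace f₀).2 inferInstance
  haveI : LocallyQuasiFinite (pullback.fst (cE.π.app j₀) f₀) := hP.1
  obtain ⟨k, hk⟩ := exists_locallyQuasiFinite_pullback_fst E cE j₀ hcE f₀ inferInstance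
  exact ⟨k, hk, (inferInstance : LocallyOfFiniteType (pullback.fst (E.map k.hom) f₀))⟩

open Groth.Agent.Lib.Helper13.LimDescent in
theorem schDescendsAbs_isFinite : SchDescendsAbs.{u} @LocallyOfFiniteType @IsFinite := by
  intro J _ _ E cE j₀ hcE _ _ X₀ _ _ f₀ hF hP
  haveI : LocallyOfFiniteType f₀ := hF
  haveI : QuasiCompact f₀ := (quasiCompact_iff_compactSpace f₀).2 inferInstance
  exact exists_isFinite_pullback_fst E cE j₀ hcE f₀ hP

theorem descendsAlong_isFinite_fppf :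
    MorphismProperty.DescendsAlong @IsFinite
      (@Surjective ⊓ @Flat ⊓ @LocallyOfFinitePresentation : MorphismProperty Scheme.{u}) := by
  have := Groth.Agent.Lib.Helper1.descendsAlong_isFinite_fpqc.{u}
  infer_instance

variable {I : Type u} [SmallCategory I] [IsCofiltered I]

open Groth.Agent.H52.LimChart Groth.Agent.H52.LimDescend in
/-- The descent engine for properties étale local on the source and target, with a general
finiteness condition `F` on `f₀`. -/
theorem descend_locP_abs [QuasiSeparatedSpace ↥S] {F P : MorphismProperty Scheme.{u}}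
    [F.RespectsIso] (hP : IsEtLocal P) (hPs : SchDescendsAbs F P) (D : I ⥤ Sp S)
    (hDa : ∀ (i j : I) (φ : i ⟶ j), IsAffineMor (D.map φ)) (c : Cone D) (hc : IsLimit c) (i₀ : I)
    {X₀ Y₀ : Sp S} (hX₀ : IsAlgSpace X₀) (hY₀ : IsAlgSpace Y₀) (f₀ : X₀ ⟶ Y₀) (b₀ : Y₀ ⟶ D.obj i₀)
    (hXqc : IsQuasiCompactSp X₀) (hYqc : IsQuasiCompactSp Y₀) (hYqs : IsQuasiSeparatedSp Y₀)
    {X Y : Sp S} (f : X ⟶ Y) (pY : Y ⟶ Y₀) (qY : Y ⟶ c.pt)
    (hY : IsPullback pY qY b₀ (c.π.app i₀)) (pX : X ⟶ X₀) (hX : IsPullback pX f f₀ pY)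
    (hf : LocP P f) (hf₀ : LocP F f₀) :
    ∃ (i : I) (φ : i ⟶ i₀), ∀ (Xi Yi : Sp S) (fi : Xi ⟶ Yi) (pYi : Yi ⟶ Y₀) (qYi : Yi ⟶ D.obj i)
      (_ : IsPullback pYi qYi b₀ (D.map φ)) (pXi : Xi ⟶ X₀) (_ : IsPullback pXi fi f₀ pYi),
      LocP P fi := by
  have := hP.respectsIso
  obtain ⟨U₀, V₀, u₀, v₀, g₀, hU₀, hV₀, hu₀e, hu₀s, hv₀e, hv₀s, comm⟩ :=
    exists_affine_chart_of_mor hX₀ hY₀ f₀ hXqc hYqc hYqs
  haveI : IsAffine U₀.left := hU₀
  haveI : IsAffine V₀.left := hV₀
  have hFg : F g₀.left := hf₀ u₀ v₀ g₀ hu₀e hv₀e comm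
  obtain ⟨cs⟩ := nonempty_chartSystem D c hc i₀ (v₀ ≫ b₀) (fun j => hDa _ _ j.hom)
  have sqW' : IsPullback (pullback.fst g₀ cs.q) (pullback.snd g₀ cs.q) g₀ cs.q :=
    IsPullback.of_hasPullback _ _
  obtain ⟨βE, α, -, sqβ, hα, sqα⟩ := chart_transfer hY hX cs.sqlim comm (sqW'.map (yon S))
  have hβe : RepWith @Etale βE := MorphismProperty.of_isPullback sqβ.flip hv₀e
  have hαe : RepWith @Etale α := MorphismProperty.of_isPullback sqα.flip hu₀e
  have hfW' : P (pullback.snd g₀ cs.q).left := hf α βE _ hαe hβe hα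
  obtain ⟨j, W, pW, fW, sqW, hfW⟩ := sch_step_abs hPs cs g₀ hFg _ _ sqW' hfW'
  refine ⟨j.left, j.hom, fun Xi Yi fi pYi qYi hYi pXi hXi => ?_⟩
  obtain ⟨βj, αj, -, sqβj, hαj, sqαj⟩ := chart_transfer hYi hXi (cs.sq j) comm (sqW.map (yon S))
  have hβje : RepWith @Etale βj := MorphismProperty.of_isPullback sqβj.flip hv₀e
  have hαje : RepWith @Etale αj := MorphismProperty.of_isPullback sqαj.flip hu₀e
  have hαjs : RepWith @Surjective αj := MorphismProperty.of_isPullback sqαj.flip hu₀s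
  exact hP.locP_of_chart fi αj βj fW hαje hαjs hβje hαj hfW

end Groth.Agent.H52.LimRep

namespace Groth.Agent.H52.LimStage

variable {S : Scheme.{u}}

theorem bcStable_isSeparatedMor : BCStable (S := S) IsSeparatedMor :=
  fun _ _ _ _ _ _ _ sq hf => repWith_diagonal_of_isPullback @IsClosedImmersion sq hf

end Groth.Agent.H52.LimStage
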