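/-
Helper library (helper52): scheme-level facts on cofiltered limits with affine transition maps.
-/
import Groth.Agent.Lib.Helper23.LimReduced
import Mathlib

set_option autoImplicit false
universe u
open CategoryTheory CategoryTheory.Limits AlgebraicGeometry Opposite

namespace Groth.Agent.H52.LimSch

/-- A cofiltered limit of reduced schemes with affine transition maps is reduced. -/
theorem isReduced_of_isLimit {I : Type u} [SmallCategory I] [IsCofiltered I]
    (D : I ⥤ Scheme.{u}) (c : Cone D) (hc : IsLimit c)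
    [∀ {i j : I} (f : i ⟶ j), IsAffineHom (D.map f)] [∀ i, AlgebraicGeometry.IsReduced (D.obj i)] :
    AlgebraicGeometry.IsReduced c.pt := by
  let i : I := (IsCofiltered.nonempty (C := I)).some
  have hcov : TopologicalSpace.IsOpenCover
      (fun U : (D.obj i).affineOpens => c.π.app i ⁻¹ᵁ (U : (D.obj i).Opens)) := by
    rw [TopologicalSpace.IsOpenCover, ← Scheme.Hom.preimage_iSup, iSup_affineOpens_eq_top]
    rfl
  have hred : ∀ U : (D.obj i).affineOpens,
      AlgebraicGeometry.IsReduced (c.π.app i ⁻¹ᵁ (U : (D.obj i).Opens)).toScheme := by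
    intro U
    by_contra h
    haveI : ∀ j, IsAffine ((opensDiagram D i U.1).obj j) := fun j =>
      (U.2.preimage (D.map j.hom) : IsAffineOpen (D.map j.hom ⁻¹ᵁ U.1))
    obtain ⟨j, hj⟩ := Groth.Agent.Lib.Helper23.exists_forall_not_isReduced_of_isAffine
      (opensDiagram D i U.1) (opensCone D c i U.1) (isLimitOpensCone D c hc i U.1) h
    exact hj j (𝟙 j)
      (inferInstanceAs (AlgebraicGeometry.IsReduced (D.map j.hom ⁻¹ᵁ U.1).toScheme))
  haveI : ∀ U, AlgebraicGeometry.IsReduced ((c.pt.openCoverOfIsOpenCover _ hcov).X U) := hred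
  exact AlgebraicGeometry.IsReduced.of_openCover _ (c.pt.openCoverOfIsOpenCover _ hcov)

end Groth.Agent.H52.LimSch
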