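import Groth.Agent.H52.Descent
import Groth.Agent.H52.Epi
import Groth.Agent.H52.Points
import Mathlib.AlgebraicGeometry.Morphisms.LocalFlatDescent

set_option autoImplicit false
universe u
open CategoryTheory CategoryTheory.Limits AlgebraicGeometry Opposite Topology
open AlgSp

namespace Groth.Agent.H52

theorem isPullback_comp_mono {C : Type*} [Category C] {W X Y Z Z' : C} {fst : W ⟶ X}
    {snd : W ⟶ Y} {f : X ⟶ Z} {g : Y ⟶ Z} (i : Z ⟶ Z') [Mono i]
    (sq : IsPullback fst snd f g) : IsPullback fst snd (f ≫ i) (g ≫ i) :=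
  ⟨⟨by rw [← Category.assoc, sq.w, Category.assoc]⟩,
   ⟨PullbackCone.IsLimit.mk _
     (fun s => sq.lift s.fst s.snd (by
        rw [← cancel_mono i, Category.assoc, Category.assoc]; exact s.condition))
     (fun s => sq.lift_fst _ _ _) (fun s => sq.lift_snd _ _ _)
     (fun s m h1 h2 => sq.hom_ext (by simpa using h1) (by simpa using h2))⟩⟩

/-- A morphism from a nonempty scheme to the spectrum of a field whose self fibre product has an
etale projection is etale. -/
theorem etale_to_field_of_isPullback {U R : Scheme.{u}} {K : Type u} [Field K]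
    (g : U ⟶ Spec (CommRingCat.of K)) [hne : Nonempty ↥U] {r1 r2 : R ⟶ U}
    (sq : IsPullback r1 r2 g g) [Etale r1] : Etale g := by
  obtain ⟨u⟩ := hne
  obtain ⟨U0, hU0, hu, -⟩ := exists_isAffineOpen_mem_and_subset (x := u) (U := ⊤) trivial
  have big := ((isPullback_morphismRestrict r1 U0).flip.paste_horiz sq.flip).flip
  have : IsAffine U0.toScheme := hU0
  have hqc : QuasiCompact (U0.ι ≫ g) := by
    rw [HasAffineProperty.iff_of_isAffine (P := @QuasiCompact)]
    infer_instance
  have hsurj : Surjective (U0.ι ≫ g) := by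
    refine ⟨fun y => ⟨⟨u, hu⟩, Subsingleton.elim _ _⟩⟩
  have hflat : Flat (U0.ι ≫ g) := inferInstance
  have het : Etale (r1 ∣_ U0) := IsZariskiLocalAtTarget.restrict ‹Etale r1› U0
  exact MorphismProperty.of_isPullback_of_descendsAlong
    (Q := @Surjective ⊓ @Flat ⊓ @QuasiCompact) big ⟨⟨hsurj, hflat⟩, hqc⟩ het

variable {S : Scheme.{u}}

/-- A monomorphism from a nonempty algebraic space to the spectrum of a field is an isomorphism. -/
theorem isIso_of_mono_to_field {k : Type u} [Field k] (str : Spec (CommRingCat.of k) ⟶ S)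
    {Z : Sp S} (hZ : IsAlgSpace Z) (f : Z ⟶ (yon S).obj (Over.mk str)) [Mono f]
    (hne : Nonempty (Points Z)) : IsIso f := by
  obtain ⟨U, a, hae, has⟩ := hZ.atlas
  obtain ⟨g, hg⟩ := (yon S).map_surjective (a ≫ f)
  have sq := hae.rep.isPullback a
  obtain ⟨r1, hr1⟩ := (yon S).map_surjective (hae.rep.fst a)
  rw [← hr1] at sq
  have sq' := isPullback_comp_mono f sq
  rw [← hg] at sq'
  have sch := isPullback_left_of_isPullback_yon sq'
  have h2 : Etale (hae.rep.snd a).left := hae.property_snd a
  obtain ⟨z⟩ := hne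
  obtain ⟨pu, -⟩ := surjective_points_of_repWith_surjective a has z
  have hU : Nonempty ↥U.left := ⟨(Points.schemeEquiv U).symm pu⟩
  have hge : Etale g.left := etale_to_field_of_isPullback (K := k) g.left sch.flip
  have hss : Subsingleton ↥(Spec (CommRingCat.of k)) := inferInstance
  have hgs : Surjective g.left :=
    ⟨fun y => ⟨(Points.schemeEquiv U).symm pu, hss.elim _ _⟩⟩
  have e1 : RepWith @Etale ((yon S).map g) := (repWith_yon_map_iff _ _).2 hge
  have e2 : RepWith @Surjective ((yon S).map g) := (repWith_yon_map_iff _ _).2 hgs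
  have hepi : Epi (a ≫ f) := by
    rw [← hg]; exact epi_of_repWith_etale_surjective _ e1 e2
  have : Epi f := epi_of_epi a f
  exact isIso_of_mono_of_epi f

end Groth.Agent.H52
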