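import Groth.Agent.S0566
import Groth.Agent.S9833
import Mathlib.AlgebraicGeometry.Morphisms.FiniteType

/-!
# A scheme locally of finite type over a Nagata scheme is Nagata (towards S9978)
-/

set_option autoImplicit false
universe u
open CategoryTheory CategoryTheory.Limits AlgebraicGeometry Opposite

namespace Groth.Agent.H52

theorem isNagata_affineOpens_of_locallyOfFiniteType {X Y : Scheme.{u}} (h : X ⟶ Y)
    [LocallyOfFiniteType h]
    (hY : ∀ V : Y.Opens, IsAffineOpen V → CAlg.IsNagata ↑Γ(Y, V)) :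
    ∀ V : X.Opens, IsAffineOpen V → CAlg.IsNagata ↑Γ(X, V) := by
  have key : ∀ x : X, ∃ U : X.Opens, x ∈ U ∧ IsAffineOpen U ∧ CAlg.IsNagata ↑Γ(X, U) := by
    intro x
    obtain ⟨V', hV', hxV', -⟩ := exists_isAffineOpen_mem_and_subset
      (X := Y) (x := h x) (U := ⊤) (by trivial)
    obtain ⟨U', hU', hxU', hU'V'⟩ := exists_isAffineOpen_mem_and_subset
      (X := X) (x := x) (U := h ⁻¹ᵁ V') hxV'
    refine ⟨U', hxU', hU', ?_⟩
    have hft : (h.appLE V' U' hU'V').hom.FiniteType := h.finiteType_appLE hV' hU' hU'V'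
    letI : Algebra ↑Γ(Y, V') ↑Γ(X, U') := (h.appLE V' U' hU'V').hom.toAlgebra
    haveI : Algebra.FiniteType ↑Γ(Y, V') ↑Γ(X, U') := hft
    exact Groth.Agent.S0566.result ↑Γ(Y, V') (hY V' hV') ↑Γ(X, U')
  choose U hxU hU hN using key
  intro V hV
  refine Groth.Agent.S9833.result X U ?_ hU hN V hV
  rw [eq_top_iff]
  intro x _
  exact TopologicalSpace.Opens.mem_iSup.2 ⟨x, hxU x⟩

end Groth.Agent.H52
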