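import Groth.Agent.H52.TwoCharts
import Groth.Agent.H52.LocPInst
import Groth.Agent.H52.Top2

/-!
# Properties holding on a neighbourhood of a point, as etale-square invariants

For `P` etale local on source and target, "`P` holds for `h` restricted to an open neighbourhood of
`u`" is an etale-square invariant; so "some chart diagram through `x`" and "all chart diagrams
through `x`" agree, and the locus of such `x` is open.
-/

set_option autoImplicit false
universe u
open CategoryTheory CategoryTheory.Limits AlgebraicGeometry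
open AlgSp

namespace Groth.Agent.H52

variable {S : Scheme.{u}}

/-- "`P` on an open neighbourhood of the point" is invariant under etale squares. -/
theorem IsEtLocal.isEtaleSquareInvariant_nhd {P : MorphismProperty Scheme.{u}} (hP : IsEtLocal P) :
    IsEtaleSquareInvariant.{u} (fun {U _} h u => ∃ W : U.Opens, u ∈ W ∧ P (W.ι ≫ h)) := by
  intro U U' V V' h h' a b ha hb comm u'
  have := hP.respectsIso
  apply propext
  constructor
  · rintro ⟨W, hu, hW⟩
    refine ⟨a ⁻¹ᵁ W, hu, ?_⟩
    apply hP.cancel _ b hb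
    have e : ((a ⁻¹ᵁ W).ι ≫ h') ≫ b = (a ∣_ W) ≫ W.ι ≫ h := by
      rw [Category.assoc, comm, ← Category.assoc, ← morphismRestrict_ι, Category.assoc]
    rw [e]
    exact hP.precomp _ _ inferInstance hW
  · rintro ⟨W', hu', hW'⟩
    let W : U.Opens := ⟨a '' (W' : Set U'), a.isOpenMap _ W'.2⟩
    have hsub : Set.range (W'.ι ≫ a) ⊆ Set.range W.ι := by
      rintro _ ⟨w, rfl⟩
      rw [Scheme.Opens.range_ι]
      exact ⟨w.1, w.2, by simp [Scheme.Hom.comp_apply]⟩
    let e : W'.toScheme ⟶ W.toScheme := IsOpenImmersion.lift W.ι (W'.ι ≫ a) hsub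
    have he : e ≫ W.ι = W'.ι ≫ a := IsOpenImmersion.lift_fac _ _ _
    have hee : Etale e := by
      have : Etale (e ≫ W.ι) := by rw [he]; infer_instance
      exact Etale.of_comp e W.ι
    have hes : Surjective e := by
      refine ⟨fun w => ?_⟩
      obtain ⟨w', hw', hw'e⟩ := w.2
      refine ⟨⟨w', hw'⟩, ?_⟩
      apply W.ι.isOpenEmbedding.injective
      rw [← Scheme.Hom.comp_apply, he, Scheme.Hom.comp_apply]
      exact hw'e
    refine ⟨W, ⟨u', hu', rfl⟩, hP.source e (W.ι ≫ h) hee hes ?_⟩
    have e2 : e ≫ W.ι ≫ h = (W'.ι ≫ h') ≫ b := by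
      rw [← Category.assoc, he, Category.assoc, ← comm, Category.assoc]
    rw [e2]
    exact hP.postcomp _ _ hb hW'

/-- For `P` etale local, "`P` near the point on some chart diagram through `x`" is the same as
"`P` near the point on every chart diagram through `x`". -/
theorem IsEtLocal.hasAtMor_nhd_iff_forall {P : MorphismProperty Scheme.{u}} (hP : IsEtLocal P)
    {X Y : Sp S} (hX : IsAlgSpace X) (hY : IsAlgSpace Y) (f : X ⟶ Y) (x : Points X) :
    HasAtMor (fun U _ h u => ∃ W : U.Opens, u ∈ W ∧ P (W.ι ≫ h)) f x ↔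
      ∀ ⦃U V : Over S⦄ (a : (yon S).obj U ⟶ X) (b : (yon S).obj V ⟶ Y) (h : U ⟶ V) (u : ↥U.left),
        RepWith @Etale a → RepWith @Etale b → a ≫ f = (yon S).map h ≫ b → Points.ofPt a u = x →
          ∃ W : U.left.Opens, u ∈ W ∧ P (W.ι ≫ h.left) := by
  have key := hP.isEtaleSquareInvariant_nhd.hasAtMor_iff_forall hX hY f x True
  simp only [eq_iff_iff, iff_true] at key
  exact key

/-- The locus of points near which `P` holds (on some chart diagram) is open. -/
theorem isOpen_setOf_hasAtMor_nhd (P : MorphismProperty Scheme.{u}) {X Y : Sp S} (f : X ⟶ Y) :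
    IsOpen {x : Points X | HasAtMor (fun U _ h u => ∃ W : U.Opens, u ∈ W ∧ P (W.ι ≫ h)) f x} := by
  rw [isOpen_iff_forall_mem_open]
  rintro x ⟨U, V, a, b, h, u, ha, hb, comm, hu, W, huW, hW⟩
  refine ⟨Points.map a '' (Points.schemeEquiv U '' (W : Set ↥U.left)), ?_, ?_, ?_⟩
  · rintro _ ⟨_, ⟨w, hw, rfl⟩, rfl⟩
    exact ⟨U, V, a, b, h, w, ha, hb, comm, (Points.ofPt_eq_map_ofScheme a w), W, hw, hW⟩
  · exact isOpenMap_points_of_etale a ha _ ((Points.schemeHomeo U).isOpenMap _ W.2)
  · exact ⟨_, ⟨u, huW, rfl⟩, by rw [← hu]; exact (Points.ofPt_eq_map_ofScheme a u).symm⟩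

end Groth.Agent.H52
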