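/-
Helper library (helper52): pre-equivalence relations of sheaves induce equivalence relations on
points.
-/
import Groth.Agent.H52.Points
import Groth.Prelude.Def_AlgSpGpd

set_option autoImplicit false
universe u
open CategoryTheory CategoryTheory.Limits AlgebraicGeometry Opposite
open AlgSp

namespace Groth.Agent.H52

variable {S : Scheme.{u}}

/-- Every point of a sheaf is the class of `fieldPtOfHom` of a morphism from the spectrum of a
field. -/
theorem exists_hom_of_point {F : Sp S} (x : Points F) :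
    ∃ (K : Type u) (_ : Field K) (str : Spec (CommRingCat.of K) ⟶ S)
      (a : (yon S).obj (Over.mk str) ⟶ F), x = Points.mk (fieldPtOfHom str a) := by
  induction x using Points.ind with | h p =>
  exact ⟨p.K, inferInstance, p.str, fieldPtToHom p, by rw [fieldPtOfHom_toHom]⟩

theorem points_equivalence_of_isPreEqvRelSp {R U : Sp S} (s t : R ⟶ U)
    (h : IsPreEqvRelSp s t) :
    _root_.Equivalence (fun x y : Points U =>
      ∃ r : Points R, Points.map t r = x ∧ Points.map s r = y) := by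
  refine ⟨?_, ?_, ?_⟩
  · intro x
    obtain ⟨K, _, str, a, rfl⟩ := exists_hom_of_point x
    obtain ⟨r, hr1, hr2⟩ := (h (Over.mk str)).refl a
    refine ⟨Points.mk (fieldPtOfHom str r), ?_, ?_⟩
    · rw [points_map_mk_ofHom, hr1]
    · rw [points_map_mk_ofHom, hr2]
  · rintro x y ⟨r, rfl, rfl⟩
    obtain ⟨K, _, str, ρ, rfl⟩ := exists_hom_of_point r
    obtain ⟨ρ', h1, h2⟩ := (h (Over.mk str)).symm ⟨ρ, rfl, rfl⟩
    refine ⟨Points.mk (fieldPtOfHom str ρ'), ?_, ?_⟩
    · rw [points_map_mk_ofHom, points_map_mk_ofHom, h1]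
    · rw [points_map_mk_ofHom, points_map_mk_ofHom, h2]
  · rintro x y z ⟨r1, rfl, rfl⟩ ⟨r2, h2, rfl⟩
    obtain ⟨K1, _, str1, ρ1, rfl⟩ := exists_hom_of_point r1
    obtain ⟨K2, _, str2, ρ2, rfl⟩ := exists_hom_of_point r2
    rw [points_map_mk_ofHom, points_map_mk_ofHom, Points.mk_eq_mk_iff, fieldPt_rel_iff] at h2
    obtain ⟨Ω, _, w, a, b, hab⟩ := h2
    -- `a : Spec Ω ⟶ Spec K2`, `b : Spec Ω ⟶ Spec K1`
    have ha : fieldPtToHom (fieldPtOfHom str2 (ρ2 ≫ t)) = ρ2 ≫ t :=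
      (J S).uliftYonedaEquiv.symm_apply_apply _
    have hb : fieldPtToHom (fieldPtOfHom str1 (ρ1 ≫ s)) = ρ1 ≫ s :=
      (J S).uliftYonedaEquiv.symm_apply_apply _
    rw [ha, hb] at hab
    let a' : Over.mk w ⟶ Over.mk str2 := a
    let b' : Over.mk w ⟶ Over.mk str1 := b
    have e1 : ∃ r : (yon S).obj (Over.mk w) ⟶ R, r ≫ t = ((yon S).map b' ≫ ρ1) ≫ t ∧
        r ≫ s = ((yon S).map b' ≫ ρ1) ≫ s := ⟨_, rfl, rfl⟩
    have e2 : ∃ r : (yon S).obj (Over.mk w) ⟶ R, r ≫ t = ((yon S).map b' ≫ ρ1) ≫ s ∧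
        r ≫ s = ((yon S).map a' ≫ ρ2) ≫ s := by
      refine ⟨(yon S).map a' ≫ ρ2, ?_, rfl⟩
      rw [Category.assoc, Category.assoc]
      exact hab
    obtain ⟨ρ3, h31, h32⟩ := (h (Over.mk w)).trans e1 e2
    refine ⟨Points.mk (fieldPtOfHom w ρ3), ?_, ?_⟩
    · rw [points_map_mk_ofHom, points_map_mk_ofHom, h31, Category.assoc]
      exact points_mk_comp str1 w b' (ρ1 ≫ t)
    · rw [points_map_mk_ofHom, points_map_mk_ofHom, h32, Category.assoc]
      exact points_mk_comp str2 w a' (ρ2 ≫ s)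

end Groth.Agent.H52
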