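import Groth.Agent.H52.LqfDisc2
import Mathlib.AlgebraicGeometry.Noetherian

set_option autoImplicit false
universe u
open CategoryTheory CategoryTheory.Limits AlgebraicGeometry Opposite Topology
open AlgSp

namespace Groth.Agent.H52

/-- `a` is isolated in its fibre of `g`. -/
def IsolatedInFibre {A B : Type*} [TopologicalSpace A] (g : A → B) (a : A) : Prop :=
  ∃ O : Set A, IsOpen O ∧ O ∩ g ⁻¹' {g a} = {a}

section Top

variable {A A' A'' B B' B'' : Type*} [TopologicalSpace A] [TopologicalSpace A']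
  [TopologicalSpace A'']

theorem IsolatedInFibre.of_comp_isOpenMap {π : A'' → A} (hπ : IsOpenMap π) (h : A → B) {a'' : A''}
    (H : IsolatedInFibre (h ∘ π) a'') : IsolatedInFibre h (π a'') := by
  obtain ⟨O, hO, hOe⟩ := H
  refine ⟨π '' O, hπ O hO, ?_⟩
  ext y
  simp only [Set.mem_inter_iff, Set.mem_image, Set.mem_preimage, Set.mem_singleton_iff]
  constructor
  · rintro ⟨⟨o, ho, rfl⟩, hy⟩
    have : o ∈ O ∩ (h ∘ π) ⁻¹' {(h ∘ π) a''} := ⟨ho, hy⟩
    rw [hOe] at this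
    rw [Set.mem_singleton_iff.mp this]
  · rintro rfl
    have : a'' ∈ O ∩ (h ∘ π) ⁻¹' {(h ∘ π) a''} := by rw [hOe]; rfl
    exact ⟨⟨a'', this.1, rfl⟩, rfl⟩

theorem IsolatedInFibre.comp_of_isDiscrete [TopologicalSpace B''] {ρ : B'' → B} (hρ : ∀ b, IsDiscrete (ρ ⁻¹' {b}))
    {h'' : A'' → B''} (hc : Continuous h'') {a'' : A''} (H : IsolatedInFibre h'' a'') :
    IsolatedInFibre (ρ ∘ h'') a'' := by
  obtain ⟨O2, hO2, hO2e⟩ := H
  obtain ⟨O1, hO1, hO1e⟩ := isDiscrete_iff_forall_mem_exists_isOpen.mp (hρ (ρ (h'' a'')))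
    (h'' a'') rfl
  refine ⟨O2 ∩ h'' ⁻¹' O1, hO2.inter (hO1.preimage hc), ?_⟩
  ext x
  simp only [Set.mem_inter_iff, Set.mem_preimage, Set.mem_singleton_iff, Function.comp_apply]
  constructor
  · rintro ⟨⟨hx2, hx1⟩, hx⟩
    have h1 : h'' x ∈ O1 ∩ ρ ⁻¹' {ρ (h'' a'')} := ⟨hx1, hx⟩
    rw [hO1e] at h1
    have h2 : x ∈ O2 ∩ h'' ⁻¹' {h'' a''} := ⟨hx2, h1⟩
    rw [hO2e] at h2
    exact h2
  · rintro rfl
    have h2 : x ∈ O2 ∩ h'' ⁻¹' {h'' x} := by rw [hO2e]; rfl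
    have h1 : h'' x ∈ O1 ∩ ρ ⁻¹' {ρ (h'' x)} := by rw [hO1e]; rfl
    exact ⟨⟨h2.1, h1.1⟩, rfl⟩

theorem IsolatedInFibre.of_comp {ρ : B'' → B} {h'' : A'' → B''} {a'' : A''}
    (H : IsolatedInFibre (ρ ∘ h'') a'') : IsolatedInFibre h'' a'' := by
  obtain ⟨O, hO, hOe⟩ := H
  refine ⟨O, hO, ?_⟩
  ext x
  simp only [Set.mem_inter_iff, Set.mem_preimage, Set.mem_singleton_iff]
  constructor
  · rintro ⟨hx, hxe⟩
    have : x ∈ O ∩ (ρ ∘ h'') ⁻¹' {(ρ ∘ h'') a''} := ⟨hx, by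
      simp only [Set.mem_preimage, Function.comp_apply, Set.mem_singleton_iff]; rw [hxe]⟩
    rw [hOe] at this
    exact this
  · rintro rfl
    have : x ∈ O ∩ (ρ ∘ h'') ⁻¹' {(ρ ∘ h'') x} := by rw [hOe]; rfl
    exact ⟨this.1, rfl⟩

theorem IsolatedInFibre.comp_right_of_isDiscrete {π' : A'' → A'} (hπ' : ∀ a, IsDiscrete (π' ⁻¹' {a}))
    (hc : Continuous π') (h' : A' → B') {a'' : A''} (H : IsolatedInFibre h' (π' a'')) :
    IsolatedInFibre (h' ∘ π') a'' := by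
  obtain ⟨O', hO', hO'e⟩ := H
  obtain ⟨O'', hO'', hO''e⟩ := isDiscrete_iff_forall_mem_exists_isOpen.mp (hπ' (π' a'')) a'' rfl
  refine ⟨O'' ∩ π' ⁻¹' O', hO''.inter (hO'.preimage hc), ?_⟩
  ext x
  simp only [Set.mem_inter_iff, Set.mem_preimage, Set.mem_singleton_iff, Function.comp_apply]
  constructor
  · rintro ⟨⟨hx2, hx1⟩, hx⟩
    have h1 : π' x ∈ O' ∩ h' ⁻¹' {h' (π' a'')} := ⟨hx1, hx⟩
    rw [hO'e] at h1
    have h2 : x ∈ O'' ∩ π' ⁻¹' {π' a''} := ⟨hx2, h1⟩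
    rw [hO''e] at h2
    exact h2
  · rintro rfl
    have h2 : x ∈ O'' ∩ π' ⁻¹' {π' x} := by rw [hO''e]; rfl
    have h1 : π' x ∈ O' ∩ h' ⁻¹' {h' (π' x)} := by rw [hO'e]; rfl
    exact ⟨⟨h2.1, h1.1⟩, rfl⟩

/-- In a Noetherian space, the set of open points is finite. -/
theorem finite_setOf_isOpen_singleton (F : Type*) [TopologicalSpace F] [TopologicalSpace.NoetherianSpace F] :
    {x : F | IsOpen ({x} : Set F)}.Finite := by
  have hc : IsCompact {x : F | IsOpen ({x} : Set F)} := TopologicalSpace.NoetherianSpace.isCompact _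
  obtain ⟨t, ht⟩ := hc.elim_finite_subcover (fun x : {x : F | IsOpen ({x} : Set F)} => ({x.1} : Set F))
    (fun x => x.2) (fun x hx => Set.mem_iUnion.mpr ⟨⟨x, hx⟩, rfl⟩)
  refine (t.finite_toSet.image Subtype.val).subset ?_
  intro x hx
  obtain ⟨i, hi⟩ := Set.mem_iUnion.mp (ht hx)
  obtain ⟨hit, hxi⟩ := Set.mem_iUnion.mp hi
  exact ⟨i, hit, (Set.mem_singleton_iff.mp hxi).symm⟩

end Top

/-- A point with a neighbourhood on which the morphism is locally quasi-finite is isolated in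
its fibre. -/
theorem isolatedInFibre_of_lqf_nbhd {U V : Scheme.{u}} (h : U ⟶ V) (u : ↥U) (W : U.Opens)
    (hu : u ∈ W) (hlqf : LocallyQuasiFinite (W.ι ≫ h)) : IsolatedInFibre h u := by
  have hd := (W.ι ≫ h).isDiscrete_preimage_singleton (h u)
  obtain ⟨O1, hO1, hO1e⟩ := isDiscrete_iff_forall_mem_exists_isOpen.mp hd ⟨u, hu⟩
    (by simp [Scheme.Hom.comp_apply])
  refine ⟨W.ι '' O1, W.ι.isOpenEmbedding.isOpenMap _ hO1, ?_⟩
  ext y
  simp only [Set.mem_inter_iff, Set.mem_image, Set.mem_preimage, Set.mem_singleton_iff]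
  constructor
  · rintro ⟨⟨o, ho, rfl⟩, hy⟩
    have : o ∈ O1 ∩ (W.ι ≫ h) ⁻¹' {h u} := ⟨ho, by simpa [Scheme.Hom.comp_apply] using hy⟩
    rw [hO1e] at this
    rw [Set.mem_singleton_iff.mp this]
    rfl
  · rintro rfl
    have : (⟨y, hu⟩ : ↥W) ∈ O1 ∩ (W.ι ≫ h) ⁻¹' {h y} := by rw [hO1e]; rfl
    exact ⟨⟨⟨y, hu⟩, this.1, rfl⟩, rfl⟩

/-- For a morphism of finite type, the points of a fibre that are isolated in the fibre are
finitely many. -/
theorem finite_setOf_isolatedInFibre {U V : Scheme.{u}} (g : U ⟶ V) [LocallyOfFiniteType g]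
    [QuasiCompact g] (v : ↥V) : {u : ↥U | g u = v ∧ IsolatedInFibre g u}.Finite := by
  have h1 : LocallyOfFiniteType (g.fiberToSpecResidueField v) :=
    MorphismProperty.pullback_snd _ _ inferInstance
  have h2 : IsLocallyNoetherian (g.fiber v) :=
    LocallyOfFiniteType.isLocallyNoetherian (g.fiberToSpecResidueField v)
  have h3 : IsNoetherian (g.fiber v) := ⟨⟩
  have hfin := finite_setOf_isOpen_singleton ↥(g.fiber v)
  refine (hfin.image (g.fiberι v)).subset ?_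
  rintro u ⟨hu, O, hO, hOe⟩
  have hu' : u ∈ g ⁻¹' {v} := hu
  refine ⟨(g.fiberHomeo v).symm ⟨u, hu'⟩, ?_, g.fiberι_fiberHomeo_symm v ⟨u, hu'⟩⟩
  change IsOpen _
  have h4 : IsOpen ({⟨u, hu'⟩} : Set ↥(g ⁻¹' {v})) := by
    have : ({⟨u, hu'⟩} : Set ↥(g ⁻¹' {v})) = Subtype.val ⁻¹' O := by
      ext ⟨y, hy⟩
      simp only [Set.mem_singleton_iff, Subtype.mk.injEq, Set.mem_preimage]
      constructor
      · rintro rfl
        have : y ∈ O ∩ g ⁻¹' {g y} := by rw [hOe]; rfl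
        exact this.1
      · intro hyO
        have : y ∈ O ∩ g ⁻¹' {g u} := ⟨hyO, by
          rw [Set.mem_preimage, Set.mem_singleton_iff, hu]; exact hy⟩
        rw [hOe] at this
        exact this
    rw [this]
    exact hO.preimage continuous_subtype_val
  have := h4.preimage (g.fiberHomeo v).continuous
  convert this using 1
  ext x
  simp only [Set.mem_singleton_iff, Set.mem_preimage]
  exact (g.fiberHomeo v).toEquiv.eq_symm_apply

end Groth.Agent.H52
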