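import Groth.Agent.H52.QFinFibre
import Groth.Agent.H52.Submersive
import Groth.Prelude.Def_AlgSpDec

set_option autoImplicit false
universe u
open CategoryTheory CategoryTheory.Limits AlgebraicGeometry Opposite Topology
open AlgSp

namespace Groth.Agent.H52

variable {S : Scheme.{u}}

theorem isDiscrete_preimage_singleton_of_etale {A B : Scheme.{u}} (p : A ⟶ B) [Etale p] (b : ↥B) :
    _root_.IsDiscrete (p ⁻¹' {b}) := by
  have : LocallyQuasiFinite p := Groth.Agent.H53.locallyQuasiFinite_of_formallyUnramified p
  exact p.isDiscrete_preimage_singleton b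

/-- For a morphism of finite type and a point of the target, the points of the fibre at which the
morphism is quasi-finite are finitely many. -/
theorem finite_setOf_quasiFiniteAt_over_point {X Y : Sp S} (hX : IsAlgSpace X) (hY : IsAlgSpace Y)
    (f : X ⟶ Y) (hf : IsFiniteTypeMor f) (y : Points Y) :
    {x : Points X | Points.map f x = y ∧
      HasAtMor (fun U _ h u => ∃ W : U.Opens, u ∈ W ∧ LocallyQuasiFinite (W.ι ≫ h) ∧
        LocallyOfFiniteType (W.ι ≫ h)) f x}.Finite := by
  obtain ⟨hlft, hqc⟩ := hf
  obtain ⟨V, b, hbe, hbs⟩ := hY.atlas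
  obtain ⟨pv, hpv⟩ := surjective_points_of_repWith_surjective b hbs y
  obtain ⟨v, rfl⟩ := (Points.schemeEquiv V).surjective pv
  obtain ⟨V0, hV0, hv, -⟩ := exists_isAffineOpen_mem_and_subset (x := v) (U := ⊤) trivial
  let b0 : (yon S).obj (overOpen V V0) ⟶ Y := (yon S).map (overOpenι V V0) ≫ b
  have hb0e : RepWith @Etale b0 :=
    (RepWith (S := S) @Etale).comp_mem _ _ (repWith_etale_overOpenι V V0) hbe
  have key : Points.map b0 (Points.ofScheme (overOpen V V0) ⟨v, hv⟩) = y := by
    rw [Points.map_comp, points_map_ofScheme]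
    exact hpv
  have sq := IsPullback.of_hasPullback f b0
  have hX0 : IsAlgSpace (pullback f b0) :=
    isAlgSpace_of_isPullback sq hX hY (IsAlgSpace.yon_obj _)
  have : IsAffine (overOpen V V0).left := hV0
  have hqc0 : IsQuasiCompactSp (pullback f b0) :=
    hqc (IsAlgSpace.yon_obj _) (isQuasiCompactSp_yon _) b0 _ _ sq
  obtain ⟨U, c, hce, hcs, hU⟩ := hqc0
  obtain ⟨g, hg⟩ := (yon S).map_surjective (c ≫ pullback.snd f b0)
  have hfst_e : RepWith @Etale (pullback.fst f b0) := MorphismProperty.of_isPullback sq.flip hb0e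
  have hcomm : (c ≫ pullback.fst f b0) ≫ f = (yon S).map g ≫ b0 := by
    rw [Category.assoc, pullback.condition, ← Category.assoc, hg]
  have hae : RepWith @Etale (c ≫ pullback.fst f b0) :=
    (RepWith (S := S) @Etale).comp_mem _ _ hce hfst_e
  have hglft : LocallyOfFiniteType g.left := hlft _ b0 g hae hb0e hcomm
  have hgqc : QuasiCompact g.left := (HasAffineProperty.iff_of_isAffine (P := @QuasiCompact)).2 hU
  have hfin := finite_setOf_isolatedInFibre g.left ⟨v, hv⟩
  refine (hfin.image (Points.ofPt (c ≫ pullback.fst f b0))).subset ?_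
  rintro x ⟨hxy, U', V', a', b', h', u', ha', hb', comm', hu'x, W', hu'W, hlqf', -⟩
  -- lift `x` to `u ∈ U`
  obtain ⟨p, hp1, hp2⟩ := exists_point_of_isPullback sq x
    (Points.ofScheme (overOpen V V0) ⟨v, hv⟩) (by rw [hxy, key])
  obtain ⟨pu, hpu⟩ := surjective_points_of_repWith_surjective c hcs p
  obtain ⟨u, rfl⟩ := (Points.schemeEquiv U).surjective pu
  have hux : Points.ofPt (c ≫ pullback.fst f b0) u = x := by
    rw [Points.ofPt_eq_map_ofScheme, Points.map_comp]
    change Points.map (pullback.fst f b0) (Points.map c (Points.schemeEquiv U u)) = x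
    rw [hpu, hp1]
  have hgu : g.left u = ⟨v, hv⟩ := by
    apply (Points.schemeEquiv (overOpen V V0)).injective
    change Points.ofScheme (overOpen V V0) (g.left u) = Points.ofScheme (overOpen V V0) ⟨v, hv⟩
    rw [← points_map_ofScheme, hg, Points.map_comp]
    change Points.map (pullback.snd f b0) (Points.map c (Points.schemeEquiv U u)) = _
    rw [hpu, hp2]
  refine ⟨u, ⟨hgu, ?_⟩, hux⟩
  have hiso' : IsolatedInFibre h'.left u' := isolatedInFibre_of_lqf_nbhd h'.left u' W' hu'W hlqf'
  -- the fibre product of the two source charts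
  have sqU := hae.rep.isPullback a'
  obtain ⟨π, hπ⟩ := (yon S).map_surjective (hae.rep.fst a')
  rw [← hπ] at sqU
  have hπ'e : Etale (hae.rep.snd a').left := hae.property_snd a'
  have hπe : Etale π.left := ha'.2 _ _ _ sqU.flip
  obtain ⟨pu'', h1, h2⟩ := exists_point_of_isPullback sqU (Points.ofScheme U u)
    (Points.ofScheme U' u') (by
      rw [← Points.ofPt_eq_map_ofScheme, ← Points.ofPt_eq_map_ofScheme, hux, hu'x])
  obtain ⟨u'', rfl⟩ := (Points.schemeEquiv _).surjective pu''
  have e1 : π.left u'' = u := by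
    apply (Points.schemeEquiv U).injective
    exact (points_map_ofScheme π u'').symm.trans h1
  have e2 : (hae.rep.snd a').left u'' = u' := by
    apply (Points.schemeEquiv U').injective
    exact (points_map_ofScheme _ u'').symm.trans h2
  -- the fibre product of the two target charts
  have sqV := hb0e.rep.isPullback b'
  obtain ⟨ρ, hρ⟩ := (yon S).map_surjective (hb0e.rep.fst b')
  rw [← hρ] at sqV
  have hρ'e : Etale (hb0e.rep.snd b').left := hb0e.property_snd b'
  have hρe : Etale ρ.left := hb'.2 _ _ _ sqV.flip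
  have compat : (yon S).map (π ≫ g) ≫ b0 = (yon S).map (hae.rep.snd a' ≫ h') ≫ b' := by
    rw [Functor.map_comp, Functor.map_comp, Category.assoc, Category.assoc, ← hcomm, ← comm']
    exact sqU.w_assoc f
  obtain ⟨h'', hh''⟩ := (yon S).map_surjective (sqV.lift _ _ compat)
  have c1 : h'' ≫ ρ = π ≫ g := by
    apply (yon S).map_injective
    rw [Functor.map_comp, hh'', sqV.lift_fst]
  have c2 : h'' ≫ hb0e.rep.snd b' = hae.rep.snd a' ≫ h' := by
    apply (yon S).map_injective
    rw [Functor.map_comp, hh'', sqV.lift_snd]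
  have c1' : (ρ.left : _ → _) ∘ h''.left = g.left ∘ π.left := by
    funext z
    have := congrArg (fun q => q.left z) c1
    simpa [Scheme.Hom.comp_apply] using this
  have c2' : ((hb0e.rep.snd b').left : _ → _) ∘ h''.left = h'.left ∘ (hae.rep.snd a').left := by
    funext z
    have := congrArg (fun q => q.left z) c2
    simpa [Scheme.Hom.comp_apply] using this
  have step4 : IsolatedInFibre (h'.left ∘ (hae.rep.snd a').left) u'' :=
    IsolatedInFibre.comp_right_of_isDiscrete
      (isDiscrete_preimage_singleton_of_etale (hae.rep.snd a').left)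
      (hae.rep.snd a').left.continuous h'.left (by rw [e2]; exact hiso')
  rw [← c2'] at step4
  have step3 : IsolatedInFibre h''.left u'' := step4.of_comp
  have step2 : IsolatedInFibre ((ρ.left : _ → _) ∘ h''.left) u'' :=
    step3.comp_of_isDiscrete (isDiscrete_preimage_singleton_of_etale ρ.left) h''.left.continuous
  rw [c1'] at step2
  have step1 := IsolatedInFibre.of_comp_isOpenMap π.left.isOpenMap g.left step2
  rw [e1] at step1
  exact step1

end Groth.Agent.H52
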