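import Groth.Agent.H52.DiagSp
import Groth.Agent.H52.DescInst
import Groth.Agent.H52.QS

set_option autoImplicit false
universe u
open CategoryTheory CategoryTheory.Limits AlgebraicGeometry Opposite Topology
open AlgSp

namespace Groth.Agent.H52

variable {S : Scheme.{u}}

/-- The first projection `h_U × h_U ⟶ h_U` has diagonal with property `Q` when the diagonal of
`U ⟶ S` has `Q`. -/
theorem repWith_diagonal_prod_fst_yon (Q : MorphismProperty Scheme.{u}) [Q.IsStableUnderBaseChange]
    (U : Over S) (hU : Q (pullback.diagonal U.hom)) :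
    (RepWith (S := S) Q).diagonal
      (prod.fst : (yon S).obj U ⨯ (yon S).obj U ⟶ (yon S).obj U) := by
  have hdiagU : RepWith Q (Limits.diag ((yon S).obj U)) := (repWith_diag_yon_iff Q U).2 hU
  have hdiagU' := (repWith_diag_iff_diagonal_from Q _).1 hdiagU
  have sqP : IsPullback (prod.fst : (yon S).obj U ⨯ (yon S).obj U ⟶ _) prod.snd
      ((yonBaseIsTerminal S).from _) ((yonBaseIsTerminal S).from _) :=
    IsPullback.of_is_product (limit.isLimit (pair _ _)) (yonBaseIsTerminal S)
  exact repWith_diagonal_of_isPullback Q sqP.flip hdiagU'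

/-- `h_R ⟶ h_U × h_U` is the base change of the diagonal of `X`, for any fibre product
`R = U ×_X U`. -/
theorem isPullback_diag_prod_map' {U V X P : Sp S} {p : U ⟶ X} {q : V ⟶ X} {fst : P ⟶ U}
    {snd : P ⟶ V} (sq : IsPullback fst snd p q) :
    IsPullback (fst ≫ p) (prod.lift fst snd) (Limits.diag X) (prod.map p q) := by
  have h0 := isPullback_diag_prod_map p q
  refine IsPullback.of_iso h0 sq.isoPullback.symm (Iso.refl _) (Iso.refl _) (Iso.refl _) ?_ ?_ ?_ ?_
  · simp
  · ext <;> simp
  · simp
  · simp

/-- Quasi-separatedness from a chart with quasi-separated source and one quasi-compact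
projection. -/
theorem isQuasiSeparatedSp_of_chart {X : Sp S} (hX : IsAlgSpace X) {R U : Over S}
    (p : (yon S).obj U ⟶ X) (hp : RepWith @Etale p) (hs : RepWith @Surjective p)
    [QuasiSeparatedSpace ↥U.left] (s t : R ⟶ U)
    (hR : IsPullback ((yon S).map t) ((yon S).map s) p p) [QuasiCompact t.left] :
    IsQuasiSeparatedSp X := by
  have := descendsAlong_quasiCompact_fppf.{u}
  have hqs : QuasiSeparated U.hom := inferInstance
  have h2 := repWith_diagonal_prod_fst_yon @QuasiCompact U (inferInstance)
  have hj : RepWith @QuasiCompact (prod.lift ((yon S).map t) ((yon S).map s)) := by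
    refine of_comp_of_diagonal (RepWith (S := S) @QuasiCompact) _ prod.fst ?_ h2
    rw [prod.lift_fst]
    exact (repWith_yon_map_iff _ _).2 inferInstance
  exact repWith_of_etale_surjective_base_change @QuasiCompact (isPullback_diag_prod_map' hR)
    hX.diag (repWith_prod_map _ p p hp hp) (repWith_prod_map _ p p hs hs) hj

end Groth.Agent.H52
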