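import Groth.Agent.H52.QSChart3

set_option autoImplicit false
universe u
open CategoryTheory CategoryTheory.Limits AlgebraicGeometry Opposite Topology
open AlgSp

namespace Groth.Agent.H52

variable {S : Scheme.{u}}

/-- Variant of `isClosedImmersion_equalizer_to_pullback` recording the compatibilities of `k`. -/
theorem isClosedImmersion_equalizer_to_pullback' {X : Sp S} {T V P : Over S} [IsSeparated T.hom]
    (y : (yon S).obj T ⟶ X ⨯ X) (fst : (yon S).obj V ⟶ X) (snd : V ⟶ T)
    (sq : IsPullback fst ((yon S).map snd) (Limits.diag X) y) (q1 q2 : P ⟶ T)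
    (sqP : IsPullback ((yon S).map q1) ((yon S).map q2) (y ≫ prod.fst) (y ≫ prod.snd)) :
    ∃ k : V ⟶ P, k ≫ q1 = snd ∧ k ≫ q2 = snd ∧ IsClosedImmersion k.left := by
  have e1 : fst = (yon S).map snd ≫ y ≫ prod.fst := by
    have := congrArg (· ≫ prod.fst) sq.w
    simp only [Category.assoc, Limits.diag, prod.lift_fst, Category.comp_id] at this
    exact this
  have e2 : fst = (yon S).map snd ≫ y ≫ prod.snd := by
    have := congrArg (· ≫ prod.snd) sq.w
    simp only [Category.assoc, Limits.diag, prod.lift_snd, Category.comp_id] at this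
    exact this
  obtain ⟨k, hk⟩ := (yon S).map_surjective
    (sqP.lift ((yon S).map snd) ((yon S).map snd) (by rw [← e1, ← e2]))
  have hk1 : (yon S).map k ≫ (yon S).map q1 = (yon S).map snd := by rw [hk, sqP.lift_fst]
  have hk2 : (yon S).map k ≫ (yon S).map q2 = (yon S).map snd := by rw [hk, sqP.lift_snd]
  have hA := isPullback_diag_prod_map' sqP
  have hy : y = Limits.diag ((yon S).obj T) ≫ prod.map (y ≫ prod.fst) (y ≫ prod.snd) := by
    apply Limits.prod.hom_ext
    · simp only [Limits.diag, Category.assoc, prod.map_fst, prod.lift_fst_assoc, Category.id_comp]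
    · simp only [Limits.diag, Category.assoc, prod.map_snd, prod.lift_snd_assoc, Category.id_comp]
  have hcomm : (yon S).map k ≫ prod.lift ((yon S).map q1) ((yon S).map q2) =
      (yon S).map snd ≫ Limits.diag ((yon S).obj T) := by
    apply Limits.prod.hom_ext
    · simp only [Limits.diag, Category.assoc, prod.lift_fst, Category.comp_id, hk1]
    · simp only [Limits.diag, Category.assoc, prod.lift_snd, Category.comp_id, hk2]
  have hleft : IsPullback ((yon S).map k) ((yon S).map snd)
      (prod.lift ((yon S).map q1) ((yon S).map q2)) (Limits.diag ((yon S).obj T)) := by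
    refine IsPullback.of_right ?_ hcomm hA
    have h1 : (yon S).map k ≫ (yon S).map q1 ≫ y ≫ prod.fst = fst := by
      rw [← Category.assoc, hk1]; exact e1.symm
    rw [h1, ← hy]
    exact sq
  have hΔ : RepWith @IsClosedImmersion (Limits.diag ((yon S).obj T)) :=
    (repWith_diag_yon_iff _ T).2 inferInstance
  have hkc : RepWith @IsClosedImmersion ((yon S).map k) :=
    MorphismProperty.of_isPullback hleft.flip hΔ
  refine ⟨k, (yon S).map_injective ?_, (yon S).map_injective ?_, (repWith_yon_map_iff _ _).1 hkc⟩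
  · rw [Functor.map_comp, hk1]
  · rw [Functor.map_comp, hk2]

/-- Ring-level step: if `k : V ⟶ P` is a closed immersion into an affine scheme, both composites
`k ≫ q1`, `k ≫ q2` to an affine `T` agree with `s`, and `Γ(T) ⊗ Γ(T) ⟶ Γ(P)` is surjective, then `s`
is a closed immersion. -/
theorem isClosedImmersion_of_productMap_surjective {V P T : Scheme.{u}} [IsAffine P] [IsAffine T]
    (k : V ⟶ P) [IsClosedImmersion k] (q1 q2 : P ⟶ T) (s : V ⟶ T) (h1 : k ≫ q1 = s)
    (h2 : k ≫ q2 = s)
    (hsurj : Function.Surjective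
      (Algebra.TensorProduct.productMap q1.appTop.hom.toIntAlgHom q2.appTop.hom.toIntAlgHom)) :
    IsClosedImmersion s := by
  obtain ⟨hV, hk⟩ := IsClosedImmersion.isAffine_surjective_of_isAffine k
  refine IsClosedImmersion.of_surjective_of_isAffine s ?_
  have key : ∀ t : TensorProduct ℤ Γ(T, ⊤) Γ(T, ⊤),
      ∃ a : Γ(T, ⊤), s.appTop.hom a = k.appTop.hom
        (Algebra.TensorProduct.productMap q1.appTop.hom.toIntAlgHom q2.appTop.hom.toIntAlgHom t) := by
    intro t
    induction t using TensorProduct.induction_on with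
    | zero => exact ⟨0, by simp⟩
    | tmul a b =>
      refine ⟨a * b, ?_⟩
      rw [Algebra.TensorProduct.productMap_apply_tmul, map_mul, map_mul]
      have e1 : k.appTop.hom (q1.appTop.hom.toIntAlgHom a) = s.appTop.hom a := by
        rw [← h1]; simp
      have e2 : k.appTop.hom (q2.appTop.hom.toIntAlgHom b) = s.appTop.hom b := by
        rw [← h2]; simp
      rw [e1, e2]
    | add x y hx hy =>
      obtain ⟨a, ha⟩ := hx
      obtain ⟨b, hb⟩ := hy
      exact ⟨a + b, by rw [map_add, map_add, map_add, ha, hb]⟩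
  intro x
  obtain ⟨p, rfl⟩ := hk x
  obtain ⟨t, rfl⟩ := hsurj p
  obtain ⟨a, ha⟩ := key t
  exact ⟨a, ha⟩

/-- If fibre products of affine schemes over `X` are affine with `Γ(U) ⊗ Γ(V) ⟶ Γ(P)` surjective, then
`X` is separated. -/
theorem isSeparatedSp_of_affine_pullback {X : Sp S} (hX : IsAlgSpace X)
    (h : ∀ (U V P : Over S) (a : (yon S).obj U ⟶ X) (b : (yon S).obj V ⟶ X)
      (fst : P ⟶ U) (snd : P ⟶ V), IsAffine U.left → IsAffine V.left →
      IsPullback ((yon S).map fst) ((yon S).map snd) a b →
        IsAffine P.left ∧ Function.Surjective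
          (Algebra.TensorProduct.productMap fst.left.appTop.hom.toIntAlgHom
            snd.left.appTop.hom.toIntAlgHom)) :
    IsSeparatedSp X := by
  refine repWith_of_affine @IsClosedImmersion _ hX.diag ?_
  intro T V hT y fst snd sq
  have := isSeparated_hom_of_isAffine T
  have hrep := hX.representable_from_yon (y ≫ prod.fst)
  have sqP := hrep.isPullback (y ≫ prod.snd)
  obtain ⟨q1, hq1⟩ := (yon S).map_surjective (hrep.fst (y ≫ prod.snd))
  rw [← hq1] at sqP
  obtain ⟨hPa, hPs⟩ := h _ _ _ _ _ _ _ hT hT sqP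
  obtain ⟨k, hk1, hk2, hk⟩ := isClosedImmersion_equalizer_to_pullback' y fst snd sq q1 _ sqP
  exact isClosedImmersion_of_productMap_surjective k.left q1.left _ snd.left
    (by rw [← hk1]; rfl) (by rw [← hk2]; rfl) hPs

end Groth.Agent.H52
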