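import Groth.Agent.H52.QSChart4

set_option autoImplicit false
universe u
open CategoryTheory CategoryTheory.Limits AlgebraicGeometry Opposite Topology
open AlgSp

namespace Groth.Agent.H52

/-- For a pushout square of commutative rings, the two legs jointly generate: the map from the tensor
product over `ℤ` is surjective. -/
theorem productMap_surjective_of_isPushout {R A B C : CommRingCat.{u}} {f : R ⟶ A} {g : R ⟶ B}
    {inl : A ⟶ C} {inr : B ⟶ C} (h : IsPushout f g inl inr) :
    Function.Surjective
      (Algebra.TensorProduct.productMap inl.hom.toIntAlgHom inr.hom.toIntAlgHom) := by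
  set φ := Algebra.TensorProduct.productMap inl.hom.toIntAlgHom inr.hom.toIntAlgHom with hφ
  let R' : Subring C := φ.toRingHom.range
  let i : CommRingCat.of R' ⟶ C := CommRingCat.ofHom R'.subtype
  let u : A ⟶ CommRingCat.of R' := CommRingCat.ofHom
    (φ.toRingHom.rangeRestrict.comp (Algebra.TensorProduct.includeLeftRingHom))
  let v : B ⟶ CommRingCat.of R' := CommRingCat.ofHom
    (φ.toRingHom.rangeRestrict.comp (Algebra.TensorProduct.includeRight (R := ℤ)).toRingHom)
  have hui : u ≫ i = inl := by
    ext a
    change φ (a ⊗ₜ 1) = inl.hom a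
    rw [hφ, Algebra.TensorProduct.productMap_apply_tmul]
    simp
  have hvi : v ≫ i = inr := by
    ext b
    change φ (1 ⊗ₜ b) = inr.hom b
    rw [hφ, Algebra.TensorProduct.productMap_apply_tmul]
    simp
  have hi : Mono i := ConcreteCategory.mono_of_injective i Subtype.val_injective
  have huv : f ≫ u = g ≫ v := by
    rw [← cancel_mono i, Category.assoc, Category.assoc, hui, hvi]
    exact h.w
  let d := h.desc u v huv
  have hdi : d ≫ i = 𝟙 C := by
    apply h.hom_ext
    · rw [← Category.assoc, h.inl_desc, hui, Category.comp_id]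
    · rw [← Category.assoc, h.inr_desc, hvi, Category.comp_id]
  intro c
  have hc : i.hom (d.hom c) = c := by
    have := congrArg (fun m => m.hom c) hdi
    simpa using this
  obtain ⟨t, ht⟩ := (d.hom c).2
  exact ⟨t, by rw [← hc]; exact ht⟩

/-- A closed subscheme of a fibre product of affine schemes over an affine scheme is affine, and its
ring of functions is generated by those of the two factors. -/
theorem isAffine_and_productMap_surjective_of_isClosedImmersion {P W X Y Z : Scheme.{u}}
    [IsAffine X] [IsAffine Y] [IsAffine Z] {p1 : W ⟶ X} {p2 : W ⟶ Y} {f : X ⟶ Z} {g : Y ⟶ Z}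
    (hW : IsPullback p1 p2 f g) (k : P ⟶ W) [IsClosedImmersion k] (fst : P ⟶ X) (snd : P ⟶ Y)
    (h1 : k ≫ p1 = fst) (h2 : k ≫ p2 = snd) :
    IsAffine P ∧ Function.Surjective
      (Algebra.TensorProduct.productMap fst.appTop.hom.toIntAlgHom snd.appTop.hom.toIntAlgHom) := by
  have hWa : IsAffine W := IsAffine.of_isPullback hW
  obtain ⟨hP, hk⟩ := IsClosedImmersion.isAffine_surjective_of_isAffine k
  refine ⟨hP, ?_⟩
  have hs := productMap_surjective_of_isPushout (isPushout_appTop_of_isPullback hW)
  have key : ∀ t : TensorProduct ℤ Γ(X, ⊤) Γ(Y, ⊤),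
      Algebra.TensorProduct.productMap fst.appTop.hom.toIntAlgHom snd.appTop.hom.toIntAlgHom t =
        k.appTop.hom
          (Algebra.TensorProduct.productMap p1.appTop.hom.toIntAlgHom p2.appTop.hom.toIntAlgHom t) := by
    intro t
    induction t using TensorProduct.induction_on with
    | zero => simp
    | tmul a b =>
      rw [Algebra.TensorProduct.productMap_apply_tmul, Algebra.TensorProduct.productMap_apply_tmul,
        map_mul]
      subst h1 h2
      simp
    | add x y hx hy => rw [map_add, map_add, map_add, hx, hy]
  intro c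
  obtain ⟨w, rfl⟩ := hk c
  obtain ⟨t, rfl⟩ := hs w
  exact ⟨t, key t⟩

variable {S : Scheme.{u}}

/-- Over a separated base, fibre products of affine schemes over a separated algebraic space are
affine, with ring of functions generated by those of the factors. -/
theorem affine_pullback_of_isSeparatedSp [S.IsSeparated] {X : Sp S} (hX : IsSeparatedSp X)
    (U V P : Over S) (a : (yon S).obj U ⟶ X) (b : (yon S).obj V ⟶ X) (fst : P ⟶ U) (snd : P ⟶ V)
    (hU : IsAffine U.left) (hV : IsAffine V.left)
    (h : IsPullback ((yon S).map fst) ((yon S).map snd) a b) :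
    IsAffine P.left ∧ Function.Surjective
      (Algebra.TensorProduct.productMap fst.left.appTop.hom.toIntAlgHom
        snd.left.appTop.hom.toIntAlgHom) := by
  have hci : IsClosedImmersion (prod.lift fst snd).left :=
    prop_prod_lift_of_repWith_diag @IsClosedImmersion hX a b fst snd h
  let t := terminal.from S
  let k : P.left ⟶ pullback (U.hom ≫ t) (V.hom ≫ t) :=
    (prod.lift fst snd).left ≫ (Over.prodLeftIsoPullback U V).hom ≫ pullback.mapDesc U.hom V.hom t
  have hk : IsClosedImmersion k := inferInstance
  have hk1 : k ≫ pullback.fst (U.hom ≫ t) (V.hom ≫ t) = fst.left := by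
    simp only [k, pullback.mapDesc, Category.assoc, pullback.lift_fst, Category.comp_id,
      Over.prodLeftIsoPullback_hom_fst, ← Over.comp_left, prod.lift_fst]
  have hk2 : k ≫ pullback.snd (U.hom ≫ t) (V.hom ≫ t) = snd.left := by
    simp only [k, pullback.mapDesc, Category.assoc, pullback.lift_snd, Category.comp_id,
      Over.prodLeftIsoPullback_hom_snd, ← Over.comp_left, prod.lift_snd]
  exact isAffine_and_productMap_surjective_of_isClosedImmersion
    (IsPullback.of_hasPullback (U.hom ≫ t) (V.hom ≫ t)) k fst.left snd.left hk1 hk2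

end Groth.Agent.H52
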