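/-
Helper library (helper52): the relative version — sheafification of a relatively limit preserving
transformation is relatively limit preserving.
-/
import Groth.Agent.H52.ShfLim5
import Groth.Agent.S10030

set_option autoImplicit false
universe u
open CategoryTheory CategoryTheory.Limits AlgebraicGeometry Opposite
open AlgSp

namespace Groth.Agent.H52.ShfLim

section Fiber

variable {S : Scheme.{u}}

/-- transfer of covering sieves along `Over.map` -/
theorem functorPullback_mem (T : Over S) (T' : Over T.left)
    (R : Sieve ((Over.map T.hom).obj T')) (hR : R ∈ AlgSp.J S ((Over.map T.hom).obj T')) :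
    R.functorPullback (Over.map T.hom) ∈ AlgSp.J T.left T' := by
  rw [GrothendieckTopology.mem_over_iff] at hR ⊢
  rw [Sieve.overEquiv_functorPullback_map]
  exact hR

variable {F G F' G' : AlgSp.PSp S} (a : F ⟶ G) (a' : F' ⟶ G') (tF : F ⟶ F') (tG : G ⟶ G')

/-- the fibre of a map of sheaves is a sheaf -/
theorem isSheaf_fiberFun (hF' : Presheaf.IsSheaf (AlgSp.J S) F')
    (hG' : Presheaf.IsSheaf (AlgSp.J S) G') (T : Over S) (y : G'.obj (op T)) :
    Presheaf.IsSheaf (AlgSp.J T.left) (fiberFun a' T y) := by
  have hF1 : Presieve.IsSheaf (AlgSp.J T.left) ((Over.map T.hom).op ⋙ F') :=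
    (isSheaf_iff_isSheaf_of_type _ _).1
      (Functor.op_comp_isSheaf_of_isSheaf (Over.map T.hom) (AlgSp.J T.left) (AlgSp.J S) F' hF')
  have hG1 : Presieve.IsSheaf (AlgSp.J T.left) ((Over.map T.hom).op ⋙ G') :=
    (isSheaf_iff_isSheaf_of_type _ _).1
      (Functor.op_comp_isSheaf_of_isSheaf (Over.map T.hom) (AlgSp.J T.left) (AlgSp.J S) G' hG')
  rw [isSheaf_iff_isSheaf_of_type]
  intro T' R hR
  intro x hx
  -- the underlying family in `F'`
  let x' : Presieve.FamilyOfElements ((Over.map T.hom).op ⋙ F') R.arrows :=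
    fun Z f hf => (x f hf).1
  have hx' : x'.Compatible := by
    intro Y₁ Y₂ Z g₁ g₂ f₁ f₂ h₁ h₂ comm
    have := hx g₁ g₂ h₁ h₂ comm
    exact congrArg Subtype.val this
  obtain ⟨t, ht, htuniq⟩ := hF1 R hR x' hx'
  have hty : a'.app _ t = G'.map (overHom T T').op y := by
    refine (hG1 R hR).isSeparatedFor.ext ?_
    intro Z f hf
    have h1 : F'.map ((Over.map T.hom).map f).op t = (x f hf).1 := ht f hf
    change G'.map ((Over.map T.hom).map f).op (a'.app _ t) =
      G'.map ((Over.map T.hom).map f).op (G'.map (overHom T T').op y)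
    rw [← nat_app, h1, (x f hf).2, ← Functor.map_comp_apply, ← op_comp, map_comp_overHom]
  refine ⟨⟨t, hty⟩, ?_, ?_⟩
  · intro Z f hf
    apply Subtype.ext
    exact ht f hf
  · intro t' ht'
    apply Subtype.ext
    refine htuniq t'.1 ?_
    intro Z f hf
    exact congrArg Subtype.val (ht' f hf)

variable (comm : tF ≫ a' = a ≫ tG)

/-- the comparison map between fibres -/
def fiberMap (T : Over S) (y₀ : G.obj (op T)) :
    fiberFun a T y₀ ⟶ fiberFun a' T (tG.app _ y₀) where
  app T' := ↾fun x => ⟨tF.app _ x.1, by
    have h1 : a'.app _ (tF.app _ x.1) = tG.app _ (a.app _ x.1) := by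
      have := congrArg (fun φ => φ.app (op ((Over.map T.hom).obj T'.unop)) x.1) comm
      exact this
    rw [h1, x.2, nat_app]⟩
  naturality T' T'' g := by
    ext x
    apply Subtype.ext
    exact nat_app tF ((Over.map T.hom).map g.unop) x.1

@[simp]
theorem fiberMap_app_coe (T : Over S) (y₀ : G.obj (op T)) (T' : (Over T.left)ᵒᵖ)
    (x : (fiberFun a T y₀).obj T') :
    ((fiberMap a a' tF tG comm T y₀).app T' x).1 = tF.app _ x.1 := rfl

theorem isLocallyInjective_fiberMap [Presheaf.IsLocallyInjective (AlgSp.J S) tF]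
    (T : Over S) (y₀ : G.obj (op T)) :
    Presheaf.IsLocallyInjective (AlgSp.J T.left) (fiberMap a a' tF tG comm T y₀) where
  equalizerSieve_mem {T'} x x' h := by
    have h1 : tF.app _ x.1 = tF.app _ x'.1 := congrArg Subtype.val h
    have h2 := Presheaf.equalizerSieve_mem (AlgSp.J S) tF x.1 x'.1 h1
    have h3 := functorPullback_mem T T'.unop _ h2
    refine GrothendieckTopology.superset_covering _ ?_ h3
    intro Z g hg
    apply Subtype.ext
    exact hg

theorem isLocallySurjective_fiberMap [Presheaf.IsLocallySurjective (AlgSp.J S) tF]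
    [Presheaf.IsLocallyInjective (AlgSp.J S) tG]
    (T : Over S) (y₀ : G.obj (op T)) :
    Presheaf.IsLocallySurjective (AlgSp.J T.left) (fiberMap a a' tF tG comm T y₀) where
  imageSieve_mem {T'} s := by
    -- the sieve on the image of `T'` in `Over S`
    let B : Over S := (Over.map T.hom).obj T'
    let R₂ : Sieve B :=
      { arrows := fun Z h => ∃ z : F.obj (op Z), tF.app _ z = F'.map h.op s.1 ∧
          a.app _ z = G.map (h ≫ overHom T T').op y₀
        downward_closed := by
          rintro Z Z' h ⟨z, hz1, hz2⟩ k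
          refine ⟨F.map k.op z, ?_, ?_⟩
          · rw [nat_app, hz1, ← Functor.map_comp_apply, ← op_comp]
          · rw [nat_app, hz2, ← Functor.map_comp_apply, ← op_comp, Category.assoc] }
    have hR₂ : R₂ ∈ AlgSp.J S B := by
      refine (AlgSp.J S).transitive (Presheaf.imageSieve_mem (AlgSp.J S) tF (U := op B) s.1) R₂ ?_
      rintro Z h ⟨z, hz⟩
      have hz' : tF.app _ z = F'.map h.op s.1 := hz
      -- `a z` and the restriction of `y₀` agree in `G'`
      have h1 : tG.app _ (a.app _ z) = tG.app _ (G.map (h ≫ overHom T T').op y₀) := by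
        have e1 : tG.app _ (a.app _ z) = a'.app _ (tF.app _ z) := by
          have := congrArg (fun φ => φ.app (op Z) z) comm
          exact this.symm
        rw [e1, hz', nat_app, s.2, nat_app, ← Functor.map_comp_apply, ← op_comp]
      have h2 := Presheaf.equalizerSieve_mem (AlgSp.J S) tG _ _ h1
      refine GrothendieckTopology.superset_covering _ ?_ h2
      intro Z' k hk
      refine ⟨F.map k.op z, ?_, ?_⟩
      · rw [nat_app, hz', ← Functor.map_comp_apply, ← op_comp]
      · have hk' : G.map k.op (a.app _ z) = G.map k.op (G.map (h ≫ overHom T T').op y₀) := hk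
        rw [nat_app, hk', ← Functor.map_comp_apply, ← op_comp, Category.assoc]
    have h3 := functorPullback_mem T T' R₂ hR₂
    refine GrothendieckTopology.superset_covering _ ?_ h3
    rintro Z g ⟨z, hz1, hz2⟩
    refine ⟨⟨z, ?_⟩, ?_⟩
    · rw [hz2, map_comp_overHom]
    · apply Subtype.ext
      exact hz1

end Fiber

section Restrict

variable {S : Scheme.{u}} {F G : AlgSp.PSp S} (a : F ⟶ G)

/-- the comparison of the two ways of viewing a scheme over `W` as a scheme over `S` -/
def resIso {W T : Over S} (w : W ⟶ T) (T'' : Over W.left) :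
    (Over.map W.hom).obj T'' ≅ (Over.map T.hom).obj ((Over.map w.left).obj T'') :=
  Over.isoMk (Iso.refl _) (by
    simp only [Over.map_obj_hom, Iso.refl_hom, Category.id_comp, Category.assoc, Over.w])

@[reassoc]
theorem resIso_hom_overHom {W T : Over S} (w : W ⟶ T) (T'' : Over W.left) :
    (resIso w T'').hom ≫ overHom T ((Over.map w.left).obj T'') = overHom W T'' ≫ w := by
  ext
  simp [resIso]

@[reassoc]
theorem resIso_inv_overHom {W T : Over S} (w : W ⟶ T) (T'' : Over W.left) :
    (resIso w T'').inv ≫ overHom W T'' ≫ w = overHom T ((Over.map w.left).obj T'') := by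
  rw [← resIso_hom_overHom, Iso.inv_hom_id_assoc]

@[reassoc]
theorem resIso_hom_naturality {W T : Over S} (w : W ⟶ T) {T'' T''' : Over W.left}
    (g : T''' ⟶ T'') :
    (resIso w T''').hom ≫ (Over.map T.hom).map ((Over.map w.left).map g) =
      (Over.map W.hom).map g ≫ (resIso w T'').hom := by
  ext
  simp [resIso]

/-- restricting the fibre presheaf along `w : W ⟶ T` gives the fibre presheaf of the restricted
section -/
def fiberRestrictIso {W T : Over S} (w : W ⟶ T) (y : G.obj (op T)) :
    (Over.map w.left).op ⋙ fiberFun a T y ≅ fiberFun a W (G.map w.op y) :=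
  NatIso.ofComponents (fun T'' => Equiv.toIso
    { toFun := fun x => ⟨F.map (resIso w T''.unop).hom.op x.1, by
        have hx : a.app (op ((Over.map T.hom).obj ((Over.map w.left).obj T''.unop))) x.1 =
            G.map (overHom T ((Over.map w.left).obj T''.unop)).op y := x.2
        rw [nat_app, hx, ← Functor.map_comp_apply, ← op_comp, resIso_hom_overHom, op_comp,
          Functor.map_comp_apply]⟩
      invFun := fun x => ⟨F.map (resIso w T''.unop).inv.op x.1, by
        have hx : a.app (op ((Over.map W.hom).obj T''.unop)) x.1 =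
            G.map (overHom W T''.unop).op (G.map w.op y) := x.2
        rw [nat_app, hx, ← Functor.map_comp_apply, ← op_comp, ← Functor.map_comp_apply, ← op_comp,
          Category.assoc, resIso_inv_overHom]
        rfl⟩
      left_inv := fun x => by
        apply Subtype.ext
        change F.map (resIso w T''.unop).inv.op (F.map (resIso w T''.unop).hom.op x.1) = x.1
        rw [← Functor.map_comp_apply, ← op_comp, Iso.inv_hom_id]
        simp
      right_inv := fun x => by
        apply Subtype.ext
        change F.map (resIso w T''.unop).hom.op (F.map (resIso w T''.unop).inv.op x.1) = x.1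
        rw [← Functor.map_comp_apply, ← op_comp, Iso.hom_inv_id]
        simp })
    (by
      intro T'' T''' g
      ext x
      apply Subtype.ext
      change F.map (resIso w T'''.unop).hom.op
          (F.map ((Over.map T.hom).map ((Over.map w.left).map g.unop)).op x.1) =
        F.map ((Over.map W.hom).map g.unop).op (F.map (resIso w T''.unop).hom.op x.1)
      rw [← Functor.map_comp_apply, ← op_comp, ← Functor.map_comp_apply, ← op_comp,
        resIso_hom_naturality])

end Restrict

section Main

variable {S : Scheme.{u}} {F G F' G' : AlgSp.PSp S} (a : F ⟶ G) (a' : F' ⟶ G') (tF : F ⟶ F')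
  (tG : G ⟶ G') (comm : tF ≫ a' = a ≫ tG)

include comm in
theorem isLimitPreserving_fiber_of_lift (hF' : Presheaf.IsSheaf (AlgSp.J S) F')
    (hG' : Presheaf.IsSheaf (AlgSp.J S) G')
    [Presheaf.IsLocallyInjective (AlgSp.J S) tF] [Presheaf.IsLocallySurjective (AlgSp.J S) tF]
    [Presheaf.IsLocallyInjective (AlgSp.J S) tG] (T : Over S) (y₀ : G.obj (op T))
    (h : IsLimitPreserving (fiberFun a T y₀)) :
    IsLimitPreserving (fiberFun a' T (tG.app _ y₀)) := by
  have i1 : Presheaf.IsLocallyInjective (JP Pfppf T.left) (fiberMap a a' tF tG comm T y₀) :=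
    isLocallyInjective_fiberMap a a' tF tG comm T y₀
  have i2 : Presheaf.IsLocallySurjective (JP Pfppf T.left) (fiberMap a a' tF tG comm T y₀) :=
    isLocallySurjective_fiberMap a a' tF tG comm T y₀
  exact isLimitPreserving_of_locally_bijective (P := Pfppf) hasExtract_fppf
    (fun f hf => isOpenMap_fppf f hf) (fun j _ f hf => imm_fppf j f hf) hasDescent_fppf
    (fiberMap a a' tF tG comm T y₀) (isSheaf_fiberFun a' hF' hG' T (tG.app _ y₀)) h

include comm in
/-- If `a' : F' ⟶ G'` is a map of fppf sheaves, locally (for the fppf topology) isomorphic to a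
relatively limit preserving map `a : F ⟶ G` of presheaves, then `a'` is relatively limit preserving. -/
theorem isRelLimitPreserving_of_locally (hF' : Presheaf.IsSheaf (AlgSp.J S) F')
    (hG' : Presheaf.IsSheaf (AlgSp.J S) G')
    [Presheaf.IsLocallyInjective (AlgSp.J S) tF] [Presheaf.IsLocallySurjective (AlgSp.J S) tF]
    [Presheaf.IsLocallyInjective (AlgSp.J S) tG] [Presheaf.IsLocallySurjective (AlgSp.J S) tG]
    (ha : IsRelLimitPreserving a) : IsRelLimitPreserving a' := by
  intro T y
  have hR := Presheaf.imageSieve_mem (AlgSp.J S) tG (U := op T) y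
  rw [GrothendieckTopology.mem_over_iff] at hR
  obtain ⟨ι, W, w, hwP, hwsurj, hwR⟩ := hasExtract_fppf _ hR
  choose j hj using hwsurj
  refine Groth.Agent.S10030.result T.left (fiberFun a' T y) (isSheaf_fiberFun a' hF' hG' T y)
    (ι := ↥T.left) (fun t => Over.mk (w (j t))) (fun t => (hwP (j t)).1) (fun t => (hwP (j t)).2)
    (fun t => ?_) (fun t => ?_)
  · obtain ⟨z, hz⟩ := hj t
    exact ⟨t, z, hz⟩
  · have h1 := hwR (j t)
    rw [Sieve.overEquiv_iff] at h1
    obtain ⟨y₀, hy₀⟩ := h1
    let Wt : Over S := Over.mk (w (j t) ≫ T.hom)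
    let wt : Wt ⟶ T := Over.homMk (w (j t))
    have hy₀' : tG.app (op Wt) y₀ = G'.map wt.op y := hy₀
    have h2 : IsLimitPreserving (fiberFun a' Wt (tG.app (op Wt) y₀)) :=
      isLimitPreserving_fiber_of_lift a a' tF tG comm hF' hG' Wt y₀ (ha Wt y₀)
    rw [hy₀'] at h2
    exact h2.of_iso (fiberRestrictIso a' wt y).symm

/-- **fppf sheafification preserves relatively limit preserving transformations.** -/
theorem isRelLimitPreserving_sheafify_map (a : F ⟶ G) (ha : IsRelLimitPreserving a) :
    IsRelLimitPreserving ((presheafToSheaf (AlgSp.J S) (Type (u + 1))).map a).hom :=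
  isRelLimitPreserving_of_locally a ((presheafToSheaf (AlgSp.J S) (Type (u + 1))).map a).hom
    (toSheafify (AlgSp.J S) F) (toSheafify (AlgSp.J S) G)
    (toSheafify_naturality (AlgSp.J S) a).symm
    ((presheafToSheaf (AlgSp.J S) (Type (u + 1))).obj F).property
    ((presheafToSheaf (AlgSp.J S) (Type (u + 1))).obj G).property ha

end Main

end Groth.Agent.H52.ShfLim
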