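/-
Helper library (helper52): local constancy of the fibre dimension of a smooth morphism and the
dimension formula `dim_u U = dim_{h u} V + dim_u (U_{h u})` for smooth morphisms of locally
Noetherian schemes.
-/
import Groth.Agent.H52.DimLocal2
import Groth.Agent.S7408
import Groth.Agent.S2768
import Groth.Agent.S9359
import Groth.Agent.Lib.Helper55.FiberBaseChange

set_option autoImplicit false
universe u
open CategoryTheory CategoryTheory.Limits AlgebraicGeometry Opposite

namespace Groth.Agent.H52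

theorem exists_relDim_of_isStandardSmooth {R S : Type u} [CommRing R] [CommRing S] (φ : R →+* S)
    (h : φ.IsStandardSmooth) : ∃ n : ℕ, φ.IsStandardSmoothOfRelativeDimension n := by
  letI := φ.toAlgebra
  have h' : Algebra.IsStandardSmooth R S := h
  obtain ⟨ι, σ, _, _, ⟨P⟩⟩ := h'.out
  exact ⟨P.dimension, P.isStandardSmoothOfRelativeDimension rfl⟩

/-- A smooth morphism is, locally on the source, smooth of some relative dimension; hence its local
fibre dimension is locally constant. -/
theorem exists_open_fibreDimAt_eq_of_smooth {U V : Scheme.{u}} (h : U ⟶ V) [Smooth h] (u : U) :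
    ∃ (n : ℕ) (O : U.Opens), u ∈ O ∧ ∀ x : U, x ∈ O → FlatMor.fibreDimAt h x = (n : WithBot ℕ∞) := by
  obtain ⟨V₀, hV₀, U₀, hU₀, hu, e, hss⟩ := Smooth.exists_isStandardSmooth h u
  obtain ⟨n, hn⟩ := exists_relDim_of_isStandardSmooth _ hss
  refine ⟨n, U₀, hu, fun x hx => ?_⟩
  haveI : IsAffine (U₀ : Scheme.{u}) := hU₀
  haveI : IsAffine (V₀ : Scheme.{u}) := hV₀
  have hg : SmoothOfRelativeDimension n (h.resLE V₀ U₀ e) := by
    rw [HasRingHomProperty.iff_of_isAffine (P := @SmoothOfRelativeDimension n)]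
    apply RingHom.locally_of RingHom.isStandardSmoothOfRelativeDimension_respectsIso
    change ((h.resLE V₀ U₀ e).app ⊤).hom.IsStandardSmoothOfRelativeDimension _
    rw [Scheme.Hom.resLE_app_top]
    have hri := RingHom.isStandardSmoothOfRelativeDimension_respectsIso (n := n)
    exact hri.2 _ V₀.topIso.commRingCatIsoToRingEquiv
      (hri.1 _ U₀.topIso.symm.commRingCatIsoToRingEquiv hn)
  have key := Groth.Agent.S7408.result h (h.resLE V₀ U₀ e) U₀.ι V₀.ι
    (Scheme.Hom.resLE_comp_ι h e) ⟨x, hx⟩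
  have key2 := Groth.Agent.S2768.result n (h.resLE V₀ U₀ e) ⟨x, hx⟩
  rw [← key2, ← key]
  rfl

/-- The dimension formula for smooth morphisms of locally Noetherian schemes. -/
theorem localDim_eq_add_fibreDimAt_of_smooth {U V : Scheme.{u}} (h : U ⟶ V) [Smooth h]
    [IsLocallyNoetherian U] [IsLocallyNoetherian V] (u : U) :
    FlatMor.localDim ↥U u = FlatMor.localDim ↥V (h u) + FlatMor.fibreDimAt h u := by
  obtain ⟨n, O, hu, hO⟩ := exists_open_fibreDimAt_eq_of_smooth h u
  have hk : ∀ x : (O : Scheme.{u}), FlatMor.fibreDimAt (O.ι ≫ h) x = (n : WithBot ℕ∞) := by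
    intro x
    have := Groth.Agent.S7408.result h (O.ι ≫ h) O.ι (𝟙 V) (by simp) x
    rw [← this]
    exact hO _ x.2
  have hrel : Cyc.HasRelDim (O.ι ≫ h) n :=
    (Groth.Agent.Lib.Helper55.hasRelDim_iff_fibreDimAt (O.ι ≫ h) n).2 hk
  have key := Groth.Agent.S9359.result (O.ι ≫ h) n hrel ⟨u, hu⟩
  have e1 : FlatMor.localDim ↥(O : Scheme.{u}) ⟨u, hu⟩ = FlatMor.localDim ↥U u :=
    localDim_eq_of_etale O.ι ⟨u, hu⟩
  rw [hO u hu, ← e1, key]
  rfl

end Groth.Agent.H52
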