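/-
Helper library (helper52): smooth morphisms have sections etale locally on the target.
Ring level: a smooth algebra has, over every prime in the image, a prime whose residue field is
formally unramified over the base.  Scheme level: through every fibre of a smooth morphism passes
a locally closed subscheme which is etale over the base.
-/
import Mathlib
import Groth.Agent.Lib.Helper24.SeparablePoints
import Groth.Agent.Lib.Helper7.SmoothSlice
import Groth.Agent.Lib.Helper7.SmoothSliceScheme

set_option autoImplicit false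
universe u

open TensorProduct AlgebraicGeometry CategoryTheory Limits

namespace Groth.Agent.H52

theorem formallyUnramified_residueField_self {A : Type u} [CommRing A] (p : Ideal A) [p.IsPrime] :
    Algebra.FormallyUnramified A p.ResidueField := by
  have h1 : Algebra.FormallyUnramified A (Localization.AtPrime p) :=
    Algebra.FormallyUnramified.of_isLocalization p.primeCompl
  have h2 : Algebra.FormallyUnramified (Localization.AtPrime p) p.ResidueField :=
    Algebra.FormallyUnramified.of_surjective (Algebra.ofId _ _) IsLocalRing.residue_surjective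
  exact Algebra.FormallyUnramified.comp _ (Localization.AtPrime p) _

/-- Over every prime in the image of `Spec B → Spec A`, `B` smooth over `A`, there is a prime of
`B` whose residue field is formally unramified over `A` (finite separable over the residue field
below). -/
theorem exists_prime_over_formallyUnramified {A B : Type u} [CommRing A] [CommRing B] [Algebra A B]
    [Algebra.Smooth A B] (p : Ideal A) [p.IsPrime]
    (hp : ∃ P : Ideal B, P.IsPrime ∧ P.comap (algebraMap A B) = p) :
    ∃ m : Ideal B, ∃ _ : m.IsPrime, m.comap (algebraMap A B) = p ∧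
      Algebra.FormallyUnramified A m.ResidueField := by
  obtain ⟨P, hP, hPp⟩ := hp
  let κ := p.ResidueField
  let F := κ ⊗[A] B
  -- nontriviality of the fibre ring
  have hnt : Nontrivial F := by
    let f : κ →ₐ[A] P.ResidueField :=
      Ideal.ResidueField.mapₐ p P (Algebra.ofId A B) (by rw [← hPp]; rfl)
    let g : B →ₐ[A] P.ResidueField := IsScalarTower.toAlgHom A B P.ResidueField
    exact (Algebra.TensorProduct.lift f g (fun _ _ => Commute.all _ _)).toRingHom.domain_nontrivial
  obtain ⟨q', hfin, hsep⟩ := Groth.Agent.Lib.Helper24.exists_prime_finite_separable_of_smooth κ F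
  let ι : B →ₐ[A] F := Algebra.TensorProduct.includeRight
  let m : Ideal B := q'.asIdeal.comap ι
  have hm : m.IsPrime := Ideal.comap_isPrime ι q'.asIdeal
  have hmp : m.comap (algebraMap A B) = p := by
    ext a
    simp only [Ideal.mem_comap, m]
    have e : ι (algebraMap A B a) = algebraMap κ F (algebraMap A κ a) := by
      rw [AlgHom.commutes, ← IsScalarTower.algebraMap_apply]
    rw [e]
    constructor
    · intro h
      by_contra hap
      have hu : IsUnit (algebraMap A κ a) := by
        rw [isUnit_iff_ne_zero]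
        intro h0
        exact hap (Ideal.algebraMap_residueField_eq_zero.1 h0)
      exact q'.isPrime.ne_top (Ideal.eq_top_of_isUnit_mem _ h (hu.map _))
    · intro hap
      rw [Ideal.algebraMap_residueField_eq_zero.2 hap, map_zero]
      exact Ideal.zero_mem _
  refine ⟨m, hm, hmp, ?_⟩
  -- the tower of residue fields
  let φ : κ →ₐ[A] m.ResidueField := Ideal.ResidueField.mapₐ p m (Algebra.ofId A B) (by rw [← hmp]; rfl)
  let ψ : m.ResidueField →ₐ[A] q'.asIdeal.ResidueField := Ideal.ResidueField.mapₐ m q'.asIdeal ι rfl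
  letI instκL : Algebra κ q'.asIdeal.ResidueField :=
    IsLocalRing.ResidueField.algebra (Localization.AtPrime q'.asIdeal)
  have hsep2 : Algebra.IsSeparable κ q'.asIdeal.ResidueField := hsep
  letI : Algebra κ m.ResidueField := φ.toRingHom.toAlgebra
  letI : Algebra m.ResidueField q'.asIdeal.ResidueField := ψ.toRingHom.toAlgebra
  have t1 : IsScalarTower A κ m.ResidueField :=
    IsScalarTower.of_algebraMap_eq fun a => (φ.commutes a).symm
  have t2 : IsScalarTower κ m.ResidueField q'.asIdeal.ResidueField := by
    refine IsScalarTower.of_algebraMap_eq' ?_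
    apply Ideal.ResidueField.ringHom_ext
    ext a
    simp only [RingHom.comp_apply]
    change _ = ψ (φ (algebraMap A κ a))
    rw [φ.commutes, ψ.commutes, ← IsScalarTower.algebraMap_apply]
  have hsep' : Algebra.IsSeparable κ m.ResidueField :=
    Algebra.isSeparable_tower_bot_of_isSeparable (h := hsep2) κ m.ResidueField
      q'.asIdeal.ResidueField
  have fu1 : Algebra.FormallyUnramified A κ := formallyUnramified_residueField_self p
  have fu2 : Algebra.FormallyUnramified κ m.ResidueField :=
    Algebra.FormallyUnramified.of_isSeparable κ m.ResidueField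
  exact Algebra.FormallyUnramified.comp A κ m.ResidueField

/-- **Smooth morphisms have sections etale locally**: through the fibre of a smooth morphism over
any point of its image passes a locally closed subscheme which is etale over the base. -/
theorem exists_etale_slice_of_smooth {W U : Scheme.{u}} (s : W ⟶ U) [Smooth s] (w : W) :
    ∃ (Z : Scheme.{u}) (i : Z ⟶ W) (z : Z), IsImmersion i ∧ Etale (i ≫ s) ∧ s (i z) = s w := by
  obtain ⟨_, ⟨V, hV, rfl⟩, hxV, -⟩ := U.isBasis_affineOpens.exists_subset_of_mem_open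
    (Set.mem_univ (s w)) isOpen_univ
  obtain ⟨_, ⟨U₀, hU, rfl⟩, hxU, hUV : U₀ ≤ s ⁻¹ᵁ V⟩ :=
    W.isBasis_affineOpens.exists_subset_of_mem_open hxV (s ⁻¹ᵁ V).2
  have hsm : (s.appLE V U₀ hUV).hom.Smooth := Smooth.smooth_appLE s hV hU hUV
  algebraize [(s.appLE V U₀ hUV).hom]
  -- the prime below
  have hcomm : Spec.map (s.appLE V U₀ hUV) ≫ hV.fromSpec = hU.fromSpec ≫ s :=
    IsAffineOpen.SpecMap_appLE_fromSpec s hV hU hUV
  have hinj : Function.Injective hV.fromSpec := hV.fromSpec.isOpenEmbedding.injective
  have hP : Spec.map (s.appLE V U₀ hUV) (hU.primeIdealOf ⟨w, hxU⟩) = hV.primeIdealOf ⟨s w, hxV⟩ := by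
    apply hinj
    rw [← Scheme.Hom.comp_apply, hcomm, Scheme.Hom.comp_apply, hU.fromSpec_primeIdealOf ⟨w, hxU⟩,
      hV.fromSpec_primeIdealOf ⟨s w, hxV⟩]
  obtain ⟨m, hm, hmp, hfu⟩ := exists_prime_over_formallyUnramified (A := Γ(U, V)) (B := Γ(W, U₀))
    (hV.primeIdealOf ⟨s w, hxV⟩).asIdeal
    ⟨(hU.primeIdealOf ⟨w, hxU⟩).asIdeal, inferInstance, congrArg PrimeSpectrum.asIdeal hP⟩
  obtain ⟨g, J, hg, hJ, hE⟩ := Groth.Agent.Lib.Helper7.SmoothSlice.exists_slice Γ(U, V) Γ(W, U₀) m
  obtain ⟨q, hq, hqm⟩ := Groth.Agent.Lib.Helper7.SmoothSlice.exists_prime_quotient m g hg J hJ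
  let φA : Γ(U, V) ⟶ .of (Localization.Away g ⧸ J) :=
    CommRingCat.ofHom (algebraMap Γ(U, V) (Localization.Away g ⧸ J))
  let φR : Γ(W, U₀) ⟶ .of (Localization.Away g ⧸ J) :=
    CommRingCat.ofHom (algebraMap Γ(W, U₀) (Localization.Away g ⧸ J))
  have hφ : φA.hom.Etale := RingHom.etale_algebraMap.mpr hE
  have : Etale (Spec.map φA) := HasRingHomProperty.Spec_iff.mpr hφ
  have hcomp : φA = s.appLE V U₀ hUV ≫ φR := by
    ext a
    exact IsScalarTower.algebraMap_apply Γ(U, V) Γ(W, U₀) (Localization.Away g ⧸ J) a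
  have hφR : φR = CommRingCat.ofHom (algebraMap Γ(W, U₀) (Localization.Away g)) ≫
      CommRingCat.ofHom (Ideal.Quotient.mk J) := by
    ext a
    exact IsScalarTower.algebraMap_apply Γ(W, U₀) (Localization.Away g) (Localization.Away g ⧸ J) a
  have hcl : IsClosedImmersion (Spec.map (CommRingCat.ofHom (Ideal.Quotient.mk J))) :=
    IsClosedImmersion.spec_of_surjective _ Ideal.Quotient.mk_surjective
  have himm : IsImmersion (Spec.map φR ≫ hU.fromSpec) := by
    rw [hφR, Spec.map_comp]
    infer_instance
  have hif : (Spec.map φR ≫ hU.fromSpec) ≫ s = Spec.map φA ≫ hV.fromSpec := by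
    rw [Category.assoc, ← hcomm, ← Category.assoc, ← Spec.map_comp, hcomp]
  have het : Etale ((Spec.map φR ≫ hU.fromSpec) ≫ s) := by
    rw [hif]
    infer_instance
  refine ⟨_, Spec.map φR ≫ hU.fromSpec, ⟨q, hq⟩, himm, het, ?_⟩
  have h1 : Spec.map φR ⟨q, hq⟩ = ⟨m, hm⟩ := PrimeSpectrum.ext hqm
  have h2 : Spec.map (s.appLE V U₀ hUV) ⟨m, hm⟩ = hV.primeIdealOf ⟨s w, hxV⟩ :=
    PrimeSpectrum.ext hmp
  rw [← Scheme.Hom.comp_apply, hif, Scheme.Hom.comp_apply, hcomp, Spec.map_comp,
    Scheme.Hom.comp_apply, h1, h2, hV.fromSpec_primeIdealOf ⟨s w, hxV⟩]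

end Groth.Agent.H52
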