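/-
Helper library (helper52): etale slices of smooth morphisms which are locally of finite
presentation as immersions, and cancellation of smooth surjective families on the source for
"locally of finite presentation" and "smooth".
-/
import Groth.Agent.H52.SmoothSection
import Groth.Agent.H52.LocPInst
import Groth.Agent.S2805

set_option autoImplicit false
universe u

open TensorProduct AlgebraicGeometry CategoryTheory Limits

namespace Groth.Agent.H52

/-- Variant of `exists_etale_slice_of_smooth`: the slice is moreover locally of finite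
presentation over the source. -/
theorem exists_etale_slice_of_smooth' {W U : Scheme.{u}} (s : W ⟶ U) [Smooth s] (w : W) :
    ∃ (Z : Scheme.{u}) (i : Z ⟶ W) (z : Z), LocallyOfFinitePresentation i ∧ Etale (i ≫ s) ∧
      s (i z) = s w := by
  obtain ⟨_, ⟨V, hV, rfl⟩, hxV, -⟩ := U.isBasis_affineOpens.exists_subset_of_mem_open
    (Set.mem_univ (s w)) isOpen_univ
  obtain ⟨_, ⟨U₀, hU, rfl⟩, hxU, hUV : U₀ ≤ s ⁻¹ᵁ V⟩ :=
    W.isBasis_affineOpens.exists_subset_of_mem_open hxV (s ⁻¹ᵁ V).2
  have hsm : (s.appLE V U₀ hUV).hom.Smooth := Smooth.smooth_appLE s hV hU hUV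
  algebraize [(s.appLE V U₀ hUV).hom]
  have hcomm : Spec.map (s.appLE V U₀ hUV) ≫ hV.fromSpec = hU.fromSpec ≫ s :=
    IsAffineOpen.SpecMap_appLE_fromSpec s hV hU hUV
  have hinj : Function.Injective hV.fromSpec := hV.fromSpec.isOpenEmbedding.injective
  have hP : Spec.map (s.appLE V U₀ hUV) (hU.primeIdealOf ⟨w, hxU⟩) = hV.primeIdealOf ⟨s w, hxV⟩ := by
    apply hinj
    rw [← Scheme.Hom.comp_apply, hcomm, Scheme.Hom.comp_apply, hU.fromSpec_primeIdealOf ⟨w, hxU⟩,
      hV.fromSpec_primeIdealOf ⟨s w, hxV⟩]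
  obtain ⟨m, hm, hmp, hfu⟩ := exists_prime_over_formallyUnramified (A := Γ(U, V)) (B := Γ(W, U₀))
    (hV.primeIdealOf ⟨s w, hxV⟩).asIdeal
    ⟨(hU.primeIdealOf ⟨w, hxU⟩).asIdeal, inferInstance, congrArg PrimeSpectrum.asIdeal hP⟩
  obtain ⟨g, J, hg, hJ, hE⟩ := Groth.Agent.Lib.Helper7.SmoothSlice.exists_slice Γ(U, V) Γ(W, U₀) m
  obtain ⟨q, hq, hqm⟩ := Groth.Agent.Lib.Helper7.SmoothSlice.exists_prime_quotient m g hg J hJ
  let φA : Γ(U, V) ⟶ .of (Localization.Away g ⧸ J) :=
    CommRingCat.ofHom (algebraMap Γ(U, V) (Localization.Away g ⧸ J))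
  let φR : Γ(W, U₀) ⟶ .of (Localization.Away g ⧸ J) :=
    CommRingCat.ofHom (algebraMap Γ(W, U₀) (Localization.Away g ⧸ J))
  have hφ : φA.hom.Etale := RingHom.etale_algebraMap.mpr hE
  have : Etale (Spec.map φA) := HasRingHomProperty.Spec_iff.mpr hφ
  have hcomp : φA = s.appLE V U₀ hUV ≫ φR := by
    ext a
    exact IsScalarTower.algebraMap_apply Γ(U, V) Γ(W, U₀) (Localization.Away g ⧸ J) a
  have hfp : φR.hom.FinitePresentation := by
    have h1 : (φR.hom.comp (s.appLE V U₀ hUV).hom).FinitePresentation := by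
      have : φR.hom.comp (s.appLE V U₀ hUV).hom = φA.hom := by
        rw [hcomp]; rfl
      rw [this]
      exact hφ.finitePresentation
    exact RingHom.FinitePresentation.of_comp_finiteType _ h1
      (RingHom.FiniteType.of_finitePresentation hsm.finitePresentation)
  have hlfp : LocallyOfFinitePresentation (Spec.map φR) :=
    (LocallyOfFinitePresentation.SpecMap_iff φR).2 hfp
  have hif : (Spec.map φR ≫ hU.fromSpec) ≫ s = Spec.map φA ≫ hV.fromSpec := by
    rw [Category.assoc, ← hcomm, ← Category.assoc, ← Spec.map_comp, hcomp]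
  have het : Etale ((Spec.map φR ≫ hU.fromSpec) ≫ s) := by
    rw [hif]
    infer_instance
  refine ⟨_, Spec.map φR ≫ hU.fromSpec, ⟨q, hq⟩, inferInstance, het, ?_⟩
  have h1 : Spec.map φR ⟨q, hq⟩ = ⟨m, hm⟩ := PrimeSpectrum.ext hqm
  have h2 : Spec.map (s.appLE V U₀ hUV) ⟨m, hm⟩ = hV.primeIdealOf ⟨s w, hxV⟩ :=
    PrimeSpectrum.ext hmp
  rw [← Scheme.Hom.comp_apply, hif, Scheme.Hom.comp_apply, hcomp, Spec.map_comp,
    Scheme.Hom.comp_apply, h1, h2, hV.fromSpec_primeIdealOf ⟨s w, hxV⟩]

/-- "Locally of finite presentation" can be checked after precomposition with a jointly surjective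
family of smooth morphisms. -/
theorem locallyOfFinitePresentation_of_smooth_cover {U V : Scheme.{u}} (h : U ⟶ V) {ι : Type*}
    (W : ι → Scheme.{u}) (s : ∀ i, W i ⟶ U) (hs : ∀ i, Smooth (s i))
    (hcov : ∀ x : U, ∃ i, x ∈ Set.range (s i))
    (hsh : ∀ i, LocallyOfFinitePresentation (s i ≫ h)) : LocallyOfFinitePresentation h := by
  have key : ∀ x : U, ∃ (Z : Scheme.{u}) (e : Z ⟶ U), Etale e ∧ x ∈ Set.range e ∧
      LocallyOfFinitePresentation (e ≫ h) := by
    intro x
    obtain ⟨i, w, rfl⟩ := hcov x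
    have := hs i
    obtain ⟨Z, j, z, hj, he, hz⟩ := exists_etale_slice_of_smooth' (s i) w
    refine ⟨Z, j ≫ s i, he, ⟨z, ?_⟩, ?_⟩
    · rw [Scheme.Hom.comp_apply]; exact hz
    · have := hsh i
      rw [Category.assoc]
      infer_instance
  choose Z e hee hxe hlfp using key
  have h1 : LocallyOfFinitePresentation (Sigma.desc e ≫ h) := by
    have : Sigma.desc e ≫ h = Sigma.desc (fun x => e x ≫ h) := by
      apply Sigma.hom_ext
      intro x
      simp
    rw [this]
    exact IsZariskiLocalAtSource.sigmaDesc hlfp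
  have h2 : Etale (Sigma.desc e) := IsZariskiLocalAtSource.sigmaDesc hee
  have h3 : Surjective (Sigma.desc e) := by
    refine ⟨fun x => ?_⟩
    obtain ⟨z, hz⟩ := hxe x
    refine ⟨Sigma.ι Z x z, ?_⟩
    rw [← Scheme.Hom.comp_apply, Sigma.ι_desc]
    exact hz
  exact isEtLocal_lfp.source (Sigma.desc e) h h2 h3 h1

/-- "Smooth" can be checked after precomposition with a jointly surjective family of smooth
morphisms. -/
theorem smooth_of_smooth_cover {U V : Scheme.{u}} (h : U ⟶ V) {ι : Type*}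
    (W : ι → Scheme.{u}) (s : ∀ i, W i ⟶ U) (hs : ∀ i, Smooth (s i))
    (hcov : ∀ x : U, ∃ i, x ∈ Set.range (s i))
    (hsh : ∀ i, Smooth (s i ≫ h)) : Smooth h := by
  have hlfp : LocallyOfFinitePresentation h :=
    locallyOfFinitePresentation_of_smooth_cover h W s hs hcov (fun i => by
      have := hsh i; infer_instance)
  have key : ∀ x : U, ∃ O : U.Opens, x ∈ O ∧ Smooth (O.ι ≫ h) := by
    intro x
    obtain ⟨i, w, rfl⟩ := hcov x
    have := hs i
    have := hsh i
    have hflat : ((s i).stalkMap w).hom.Flat := Flat.stalkMap (s i) w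
    exact Groth.Agent.S2805.result h (s i ≫ h) (s i) rfl w hflat
      ⟨⊤, trivial, by infer_instance⟩
  choose O hxO hO using key
  refine IsZariskiLocalAtSource.of_iSup_eq_top O ?_ hO
  rw [eq_top_iff]
  intro x _
  exact TopologicalSpace.Opens.mem_iSup.2 ⟨x, hxO x⟩

end Groth.Agent.H52
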