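import Groth.Agent.H52.FormalEtMor

set_option autoImplicit false
universe u
open CategoryTheory CategoryTheory.Limits AlgebraicGeometry Opposite

namespace Groth.Agent.H52

open AlgSp

variable {S : Scheme.{u}}

/-- A closed immersion `t : W₀ ⟶ V` over `S` with affine target and square-zero ideal is
isomorphic over `S` to a standard one `Spec (A ⧸ I) ⟶ Spec A`. -/
theorem exists_standard_model {V W₀ : Over S} (t : W₀ ⟶ V) [IsAffine V.left]
    [IsClosedImmersion t.left] (hsq : sqZero t.left) :
    ∃ (A : Type u) (_ : CommRing A) (I : Ideal A) (_ : I ^ 2 = ⊥) (str : Spec (.of A) ⟶ S)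
      (eV : ptA str ≅ V) (e₀ : ptQ I str ≅ W₀), e₀.hom ≫ t = jQ I str ≫ eV.hom := by
  obtain ⟨hW, hsurj⟩ := IsClosedImmersion.isAffine_surjective_of_isAffine t.left
  let A : Type u := Γ(V.left, ⊤)
  let φ : Γ(V.left, ⊤) ⟶ Γ(W₀.left, ⊤) := t.left.appTop
  have hsurj' : Function.Surjective φ.hom := hsurj
  let I : Ideal A := RingHom.ker φ.hom
  have hI : I ^ 2 = ⊥ :=
    Groth.Agent.Lib.Helper7.ker_app_sq_eq_bot t.left hsq (isAffineOpen_top V.left)
  let str : Spec (.of A) ⟶ S := V.left.isoSpec.inv ≫ V.hom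
  let ē := RingHom.quotientKerEquivOfSurjective hsurj'
  have hmk : CommRingCat.ofHom (Ideal.Quotient.mk I) =
      φ ≫ CommRingCat.ofHom (ē.symm : Γ(W₀.left, ⊤) →+* A ⧸ I) := by
    ext x
    change Ideal.Quotient.mk I x = ē.symm (φ.hom x)
    rw [RingEquiv.eq_symm_apply]
    rfl
  let eV : ptA str ≅ V := Over.isoMk V.left.isoSpec.symm (by
    change V.left.isoSpec.inv ≫ V.hom = str
    rfl)
  let e₀l : Spec (.of (A ⧸ I)) ≅ W₀.left :=
    (Scheme.Spec.mapIso ē.toCommRingCatIso.op).symm ≪≫ W₀.left.isoSpec.symm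
  have he₀l : e₀l.hom = Spec.map (CommRingCat.ofHom (ē.symm : Γ(W₀.left, ⊤) →+* A ⧸ I)) ≫
      W₀.left.isoSpec.inv := rfl
  have key : e₀l.hom ≫ t.left =
      Spec.map (CommRingCat.ofHom (Ideal.Quotient.mk I)) ≫ V.left.isoSpec.inv := by
    rw [he₀l, Category.assoc, ← Scheme.isoSpec_inv_naturality, ← Category.assoc,
      ← Spec.map_comp, hmk]
  let e₀ : ptQ I str ≅ W₀ := Over.isoMk e₀l (by
    change e₀l.hom ≫ W₀.hom = Spec.map (CommRingCat.ofHom (Ideal.Quotient.mk I)) ≫ str
    rw [← Over.w t, ← Category.assoc, key, Category.assoc])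
  refine ⟨A, inferInstance, I, hI, str, eV, e₀, ?_⟩
  ext
  exact key

/-- Uniqueness of lifts against a square-zero closed immersion into an affine scheme, for a
formally unramified morphism of sheaves. -/
theorem uniq_lift_of_affine_thick {X Y : Sp S} (f : X ⟶ Y) (hf : IsFormallyUnramifiedMor f)
    {V W₀ : Over S} (t : W₀ ⟶ V) [IsAffine V.left] [IsClosedImmersion t.left]
    (hsq : sqZero t.left) (l l' : (yon S).obj V ⟶ X)
    (h1 : (yon S).map t ≫ l = (yon S).map t ≫ l') (h2 : l ≫ f = l' ≫ f) : l = l' := by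
  obtain ⟨A, _, I, hI, str, eV, e₀, he⟩ := exists_standard_model t hsq
  let sq : InfSq f :=
    { A := A
      I := I
      sq_zero := hI
      str := str
      top := (yon S).map (jQ I str ≫ eV.hom) ≫ l
      bot := (yon S).map eV.hom ≫ l ≫ f
      comm := by
        simp only [Functor.map_comp, Category.assoc] }
  have key : (yon S).map eV.hom ≫ l = (yon S).map eV.hom ≫ l' := by
    refine hf sq _ _ ?_ ?_ ?_ ?_
    · change (yon S).map (jQ I str) ≫ (yon S).map eV.hom ≫ l = (yon S).map (jQ I str ≫ eV.hom) ≫ l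
      rw [Functor.map_comp, Category.assoc]
    · change ((yon S).map eV.hom ≫ l) ≫ f = (yon S).map eV.hom ≫ l ≫ f
      rw [Category.assoc]
    · change (yon S).map (jQ I str) ≫ (yon S).map eV.hom ≫ l' =
        (yon S).map (jQ I str ≫ eV.hom) ≫ l
      rw [← Category.assoc, ← Functor.map_comp, ← he, Functor.map_comp, Category.assoc,
        Category.assoc, h1]
    · change ((yon S).map eV.hom ≫ l') ≫ f = (yon S).map eV.hom ≫ l ≫ f
      rw [Category.assoc, h2]
  exact (cancel_epi ((yon S).map eV.hom)).1 key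

/-- Existence of lifts against a square-zero closed immersion into an affine scheme, for a
formally smooth morphism of sheaves. -/
theorem exists_lift_of_affine_thick {X Y : Sp S} (f : X ⟶ Y) (hf : IsFormallySmoothMor f)
    {V W₀ : Over S} (t : W₀ ⟶ V) [IsAffine V.left] [IsClosedImmersion t.left]
    (hsq : sqZero t.left) (top : (yon S).obj W₀ ⟶ X) (bot : (yon S).obj V ⟶ Y)
    (w : top ≫ f = (yon S).map t ≫ bot) :
    ∃ l : (yon S).obj V ⟶ X, (yon S).map t ≫ l = top ∧ l ≫ f = bot := by
  obtain ⟨A, _, I, hI, str, eV, e₀, he⟩ := exists_standard_model t hsq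
  let sq : InfSq f :=
    { A := A
      I := I
      sq_zero := hI
      str := str
      top := (yon S).map e₀.hom ≫ top
      bot := (yon S).map eV.hom ≫ bot
      comm := by
        have e1 := congrArg (fun k => (yon S).map k ≫ bot) he
        simp only [Functor.map_comp, Category.assoc] at e1
        rw [Category.assoc, w]
        exact e1 }
  obtain ⟨m, hm1, hm2⟩ := hf sq
  have hm1' : (yon S).map (jQ I str) ≫ m = (yon S).map e₀.hom ≫ top := hm1
  have hm2' : m ≫ f = (yon S).map eV.hom ≫ bot := hm2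
  have he' : t ≫ eV.inv = e₀.inv ≫ jQ I str := by
    rw [Iso.eq_inv_comp, ← Category.assoc, he, Category.assoc, Iso.hom_inv_id, Category.comp_id]
  refine ⟨(yon S).map eV.inv ≫ m, ?_, ?_⟩
  · rw [← Category.assoc, ← Functor.map_comp, he', Functor.map_comp, Category.assoc, hm1',
      ← Category.assoc, ← Functor.map_comp, Iso.inv_hom_id, CategoryTheory.Functor.map_id,
      Category.id_comp]
  · rw [Category.assoc, hm2', ← Category.assoc, ← Functor.map_comp, Iso.inv_hom_id,
      CategoryTheory.Functor.map_id, Category.id_comp]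

end Groth.Agent.H52
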