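/-
Helper library (helper52): locally of finite type across a cartesian morphism of thickenings whose
SOURCE thickening has (locally) nilpotent ideal.
-/
import Groth.Agent.Lib.Helper18.ThickProper

set_option autoImplicit false
universe u
open CategoryTheory CategoryTheory.Limits AlgebraicGeometry

namespace Groth.Agent.H52

section Ring

theorem submodule_eq_top_of_sup_smul_top' {A M : Type*} [CommRing A] [AddCommGroup M] [Module A M]
    (K : Ideal A) (m : ℕ) (hK : (K ^ m) • (⊤ : Submodule A M) = ⊥) (E : Submodule A M)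
    (h : ⊤ ≤ E ⊔ K • (⊤ : Submodule A M)) : E = ⊤ := by
  have key : ∀ j : ℕ, ⊤ ≤ E ⊔ (K ^ j) • (⊤ : Submodule A M) := by
    intro j
    induction j with
    | zero => simp
    | succ j ih =>
      calc ⊤ ≤ E ⊔ K • (⊤ : Submodule A M) := h
        _ ≤ E ⊔ K • (E ⊔ (K ^ j) • (⊤ : Submodule A M)) :=
          sup_le_sup le_rfl (Submodule.smul_mono le_rfl ih)
        _ = E ⊔ (K • E ⊔ K • (K ^ j) • (⊤ : Submodule A M)) := by rw [Submodule.smul_sup]
        _ ≤ E ⊔ (K ^ (j + 1)) • (⊤ : Submodule A M) := by
          refine sup_le le_sup_left (sup_le (Submodule.smul_le_right.trans le_sup_left) ?_)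
          rw [← Submodule.mul_smul, ← pow_succ']
          exact le_sup_right
  have := key m
  rw [hK, sup_bot_eq] at this
  exact top_le_iff.mp this

/-- Finite type can be checked modulo an ideal whose extension is nilpotent. -/
theorem finiteType_of_map_nilpotent {A B B₀ : Type*} [CommRing A] [CommRing B] [CommRing B₀]
    (f : A →+* B) (K : Ideal A) (m : ℕ) (hK : (K.map f) ^ m = ⊥) (p : B →+* B₀)
    (hp : Function.Surjective p) (hker : RingHom.ker p = K.map f)
    (h : (p.comp f).FiniteType) : f.FiniteType := by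
  classical
  algebraize [f, p.comp f]
  let pA : B →ₐ[A] B₀ := { p with commutes' := fun a => rfl }
  obtain ⟨s₀, hs₀⟩ := (h : Algebra.FiniteType A B₀).out
  choose g hg using hp
  let s : Finset B := s₀.image g
  have hmap : (Algebra.adjoin A (s : Set B)).map pA = ⊤ := by
    rw [AlgHom.map_adjoin, ← hs₀]
    congr 1
    ext x
    simp only [s, Finset.coe_image, Set.mem_image, Finset.mem_coe]
    constructor
    · rintro ⟨_, ⟨y, hy, rfl⟩, rfl⟩
      rw [show pA (g y) = p (g y) from rfl, hg]; exact hy
    · intro hx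
      exact ⟨g x, ⟨x, hx, rfl⟩, hg x⟩
  have hsup : (⊤ : Submodule A B) ≤
      Subalgebra.toSubmodule (Algebra.adjoin A (s : Set B)) ⊔ K • (⊤ : Submodule A B) := by
    intro b _
    have : pA b ∈ (Algebra.adjoin A (s : Set B)).map pA := by rw [hmap]; trivial
    obtain ⟨b', hb', hbb'⟩ := this
    have hk : b - b' ∈ RingHom.ker p := by
      rw [RingHom.mem_ker, map_sub, sub_eq_zero]
      exact hbb'.symm
    rw [hker] at hk
    refine Submodule.mem_sup.mpr ⟨b', hb', b - b', ?_, by ring⟩
    rw [Ideal.smul_top_eq_map]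
    exact hk
  have hK' : (K ^ m) • (⊤ : Submodule A B) = ⊥ := by
    rw [Ideal.smul_top_eq_map, Ideal.map_pow]
    change Submodule.restrictScalars A (Ideal.map f K ^ m) = _
    rw [hK]
    exact Submodule.restrictScalars_bot _ _ _
  have htop := submodule_eq_top_of_sup_smul_top' K m hK' _ hsup
  refine ⟨⟨s, ?_⟩⟩
  exact Subalgebra.toSubmodule_injective (by rw [htop]; rfl)

end Ring

section Scheme

open Groth.Agent.Lib.Helper18

variable {X₀ X Y₀ Y : Scheme.{u}} {i : X₀ ⟶ X} {f₀ : X₀ ⟶ Y₀} {f : X ⟶ Y} {j : Y₀ ⟶ Y}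

/-- In a cartesian square over a closed immersion `j`, if the ideal of the base change `i` of `j`
is locally nilpotent and `f₀` is locally of finite type, then so is `f`. -/
theorem locallyOfFiniteType_of_thickening_source (hsq : IsPullback i f₀ f j) [IsClosedImmersion j]
    (hnil : ∀ V : X.affineOpens, ∃ m : ℕ, (i.ker.ideal V) ^ m = ⊥) [LocallyOfFiniteType f₀] :
    LocallyOfFiniteType f := by
  have hi : IsClosedImmersion i := MorphismProperty.of_isPullback hsq.flip ‹_›
  rw [HasRingHomProperty.iff_appLE (P := @LocallyOfFiniteType)]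
  intro U V e
  obtain ⟨e₀, hV₀, hU₀, hsurj, hker, hcomp⟩ := thickening_affine_setup hsq U V e
  obtain ⟨m, hm⟩ := hnil V
  rw [Scheme.Hom.ker_apply, hker] at hm
  refine finiteType_of_map_nilpotent _ (j.ker.ideal U) m hm _ hsurj hker ?_
  rw [hcomp]
  refine RingHom.FiniteType.comp ?_
    (RingHom.FiniteType.of_surjective _ (j.app_surjective U.1 U.2))
  exact HasRingHomProperty.appLE (P := @LocallyOfFiniteType) _ inferInstance ⟨_, hU₀⟩ ⟨_, hV₀⟩ e₀

end Scheme

end Groth.Agent.H52
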