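import Groth.Agent.Lib.Helper78.UnivClosedAffineSpace

/-!
# Closedness of a base change from closedness of its finite type approximations

An abstract (topological) form of the limit argument of `Helper78.isClosedMap_snd_affine`, with
charts which are only open surjections (etale charts of an algebraic space) rather than open
embeddings.
-/

set_option autoImplicit false
universe u v

namespace Groth.Agent.H52

open TensorProduct Groth.Agent.Lib.Helper78

theorem isClosedMap_of_fg_approx {R B T : Type u} [CommRing R] [CommRing B] [CommRing T]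
    [Algebra R B] [Algebra R T] {PT : Type v} [TopologicalSpace PT]
    (sndT : PT → PrimeSpectrum T) (chartT : PrimeSpectrum (B ⊗[R] T) → PT)
    (hcT : Continuous chartT)
    (hsT : ∀ v, sndT (chartT v) = PrimeSpectrum.comap
      (Algebra.TensorProduct.includeRight : T →ₐ[R] B ⊗[R] T).toRingHom v)
    (H : ∀ A : Subalgebra R T, A.FG → ∃ (PA : Type v) (_ : TopologicalSpace PA)
      (sndA : PA → PrimeSpectrum A) (chartA : PrimeSpectrum (B ⊗[R] A) → PA) (trans : PT → PA),
      IsClosedMap sndA ∧ Continuous chartA ∧ IsOpenMap chartA ∧ Function.Surjective chartA ∧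
      (∀ w, sndA (chartA w) = PrimeSpectrum.comap
        (Algebra.TensorProduct.includeRight : A →ₐ[R] B ⊗[R] A).toRingHom w) ∧
      (∀ z, sndA (trans z) = PrimeSpectrum.comap A.val.toRingHom (sndT z)) ∧
      (∀ w z, chartA w = trans z →
        ∃ v, PrimeSpectrum.comap (Th R B T A).toRingHom v = w ∧ chartT v = z)) :
    IsClosedMap sndT := by
  intro Z hZ
  rw [← isOpen_compl_iff, isOpen_iff_forall_mem_open]
  intro t ht
  haveI : t.asIdeal.IsPrime := t.isPrime
  have hZc : IsClosed (chartT ⁻¹' Z) := hZ.preimage hcT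
  have hI : ∀ 𝔮 : Ideal (B ⊗[R] T), 𝔮.IsPrime →
      PrimeSpectrum.vanishingIdeal (chartT ⁻¹' Z) ≤ 𝔮 →
      Ideal.comap (Algebra.TensorProduct.includeRight : T →ₐ[R] B ⊗[R] T) 𝔮 ≠ t.asIdeal := by
    intro 𝔮 h𝔮 hle heq
    apply ht
    have hcl : PrimeSpectrum.zeroLocus (PrimeSpectrum.vanishingIdeal (chartT ⁻¹' Z) :
        Set (B ⊗[R] T)) = chartT ⁻¹' Z :=
      (PrimeSpectrum.zeroLocus_vanishingIdeal_eq_closure _).trans hZc.closure_eq
    let pt : PrimeSpectrum (B ⊗[R] T) := ⟨𝔮, h𝔮⟩
    have hmem : pt ∈ chartT ⁻¹' Z := by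
      rw [← hcl]
      exact (PrimeSpectrum.mem_zeroLocus _ _).mpr hle
    refine ⟨chartT pt, hmem, ?_⟩
    rw [hsT]
    exact PrimeSpectrum.ext heq
  obtain ⟨A, hAfg, hA⟩ := exists_fg_noprime
    (PrimeSpectrum.vanishingIdeal (chartT ⁻¹' Z)) t.asIdeal hI
  obtain ⟨PA, _, sndA, chartA, trans, hclosed, hcA, hoA, hsurjA, hsA, htr, hcart⟩ := H A hAfg
  have hpZ'' : IsClosed (sndA '' closure (trans '' Z)) := hclosed _ isClosed_closure
  refine ⟨PrimeSpectrum.comap A.val.toRingHom ⁻¹' (sndA '' closure (trans '' Z))ᶜ, ?_,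
    hpZ''.isOpen_compl.preimage (PrimeSpectrum.continuous_comap A.val.toRingHom), ?_⟩
  · rintro s hs ⟨z, hz, rfl⟩
    apply hs
    exact ⟨trans z, subset_closure ⟨z, hz, rfl⟩, htr z⟩
  · rintro ⟨y'', hy'', hy''t⟩
    obtain ⟨z'', rfl⟩ := hsurjA y''
    refine hA A le_rfl z''.asIdeal z''.isPrime ?_ ?_
    · have h1 : z'' ∈ closure (chartA ⁻¹' (trans '' Z)) := by
        rw [← hoA.preimage_closure_eq_closure_preimage hcA]
        exact hy''
      have h2 : chartA ⁻¹' (trans '' Z) ⊆
          PrimeSpectrum.zeroLocus (Ideal.comap (Th R B T A)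
            (PrimeSpectrum.vanishingIdeal (chartT ⁻¹' Z)) : Set (B ⊗[R] A)) := by
        rintro w ⟨z, hz, hzw⟩
        obtain ⟨v, rfl, rfl⟩ := hcart w z hzw.symm
        refine (PrimeSpectrum.mem_zeroLocus _ _).mpr ?_
        intro x hx
        exact (PrimeSpectrum.mem_vanishingIdeal _ _).mp hx v hz
      exact (PrimeSpectrum.mem_zeroLocus _ _).mp
        (closure_minimal h2 (PrimeSpectrum.isClosed_zeroLocus _) h1)
    · rw [hsA] at hy''t
      exact congrArg PrimeSpectrum.asIdeal hy''t

end Groth.Agent.H52
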