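import Groth.Agent.H52.UCApprox
import Groth.Agent.H52.Top2
import Groth.Agent.H52.FieldPoints
import Groth.Agent.Lib.Helper54.Points
import Groth.Agent.H53.FibrePts

/-!
# Affine schemes over an affine base as objects over `S`, and charts of base changes

For a ring `R` with `sR : Spec R ⟶ S`, an `R`-algebra `A` gives the object `ZA sR A` of `Over S`
(`Spec A` over `S`) with its morphism `gA sR A` to `Spec R`.  Given `q : X₀ ⟶ h_{Spec R}` and an
affine chart `c : h_{Spec B} ⟶ X₀`, the base change `X_A` of `X₀` to `Spec A` has the affine chart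
`h_{Spec (B ⊗ A)} ⟶ X_A`.
-/

set_option autoImplicit false
universe u
open CategoryTheory CategoryTheory.Limits AlgebraicGeometry TensorProduct
open AlgSp

namespace Groth.Agent.H52.UC

variable {S : Scheme.{u}} {R : Type u} [CommRing R] (sR : Spec (CommRingCat.of R) ⟶ S)

/-- `Spec A` as a scheme over `S`, for an `R`-algebra `A`. -/
noncomputable abbrev ZA (A : Type u) [CommRing A] [Algebra R A] : Over S :=
  Over.mk (Spec.map (CommRingCat.ofHom (algebraMap R A)) ≫ sR)

/-- The structure morphism `Spec A ⟶ Spec R` over `S`. -/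
noncomputable abbrev gA (A : Type u) [CommRing A] [Algebra R A] : ZA sR A ⟶ Over.mk sR :=
  Over.homMk (Spec.map (CommRingCat.ofHom (algebraMap R A))) rfl

theorem zMap_w {A A' : Type u} [CommRing A] [Algebra R A] [CommRing A'] [Algebra R A']
    (φ : A →ₐ[R] A') :
    Spec.map (CommRingCat.ofHom φ.toRingHom) ≫ (ZA sR A).hom = (ZA sR A').hom := by
  change Spec.map (CommRingCat.ofHom φ.toRingHom) ≫
    Spec.map (CommRingCat.ofHom (algebraMap R A)) ≫ sR =
    Spec.map (CommRingCat.ofHom (algebraMap R A')) ≫ sR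
  rw [← Category.assoc, ← Spec.map_comp, ← CommRingCat.ofHom_comp]
  congr 3
  exact φ.comp_algebraMap

/-- The morphism `Spec A' ⟶ Spec A` over `S` induced by an `R`-algebra map `A → A'`. -/
noncomputable abbrev zMap {A A' : Type u} [CommRing A] [Algebra R A] [CommRing A'] [Algebra R A']
    (φ : A →ₐ[R] A') : ZA sR A' ⟶ ZA sR A :=
  Over.homMk (Spec.map (CommRingCat.ofHom φ.toRingHom)) (zMap_w sR φ)

theorem zMap_gA {A A' : Type u} [CommRing A] [Algebra R A] [CommRing A'] [Algebra R A']
    (φ : A →ₐ[R] A') : zMap sR φ ≫ gA sR A = gA sR A' := by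
  apply Over.OverMorphism.ext
  change Spec.map (CommRingCat.ofHom φ.toRingHom) ≫
    Spec.map (CommRingCat.ofHom (algebraMap R A)) = Spec.map (CommRingCat.ofHom (algebraMap R A'))
  rw [← Spec.map_comp, ← CommRingCat.ofHom_comp]
  congr 2
  exact φ.comp_algebraMap

theorem zMap_comp {A A' A'' : Type u} [CommRing A] [Algebra R A] [CommRing A'] [Algebra R A']
    [CommRing A''] [Algebra R A''] (φ : A →ₐ[R] A') (ψ : A' →ₐ[R] A'') :
    zMap sR (ψ.comp φ) = zMap sR ψ ≫ zMap sR φ := by
  apply Over.OverMorphism.ext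
  change Spec.map (CommRingCat.ofHom (ψ.comp φ).toRingHom) =
    Spec.map (CommRingCat.ofHom ψ.toRingHom) ≫ Spec.map (CommRingCat.ofHom φ.toRingHom)
  rw [← Spec.map_comp, ← CommRingCat.ofHom_comp]
  rfl

/-- The spectrum of a tensor product is the fibre product, over `S`. -/
theorem isPullback_tensor (B A : Type u) [CommRing B] [Algebra R B] [CommRing A] [Algebra R A] :
    IsPullback (zMap sR (Algebra.TensorProduct.includeLeft : B →ₐ[R] B ⊗[R] A))
      (zMap sR (Algebra.TensorProduct.includeRight : A →ₐ[R] B ⊗[R] A)) (gA sR B) (gA sR A) := by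
  have hpb := isPullback_SpecMap_of_isPushout _ _ _ _ (CommRingCat.isPushout_tensorProduct R B A)
  refine IsPullback.of_map (Over.forget S) ?_ hpb
  rw [zMap_gA, zMap_gA]

end Groth.Agent.H52.UC

namespace Groth.Agent.H52.UC

variable {S : Scheme.{u}} {R : Type u} [CommRing R] (sR : Spec (CommRingCat.of R) ⟶ S)
  {X₀ : Sp S} (q : X₀ ⟶ (yon S).obj (Over.mk sR))
  {B : Type u} [CommRing B] [Algebra R B] (c : (yon S).obj (ZA sR B) ⟶ X₀)
  (hc : c ≫ q = (yon S).map (gA sR B))

section Chart

variable {A : Type u} [CommRing A] [Algebra R A] {XA : Sp S} {fstA : XA ⟶ X₀}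
  {sndA : XA ⟶ (yon S).obj (ZA sR A)} (sqA : IsPullback fstA sndA q ((yon S).map (gA sR A)))

/-- The affine chart `h_{Spec (B ⊗ A)} ⟶ X_A` of the base change of `X₀` to `Spec A`. -/
noncomputable def chart : (yon S).obj (ZA sR (B ⊗[R] A)) ⟶ XA :=
  sqA.lift ((yon S).map (zMap sR (Algebra.TensorProduct.includeLeft : B →ₐ[R] B ⊗[R] A)) ≫ c)
    ((yon S).map (zMap sR (Algebra.TensorProduct.includeRight : A →ₐ[R] B ⊗[R] A))) (by
      rw [Category.assoc, hc, ← Functor.map_comp, ← Functor.map_comp, zMap_gA, zMap_gA])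

theorem chart_fst : chart sR q c hc sqA ≫ fstA =
    (yon S).map (zMap sR (Algebra.TensorProduct.includeLeft : B →ₐ[R] B ⊗[R] A)) ≫ c :=
  sqA.lift_fst _ _ _

theorem chart_snd : chart sR q c hc sqA ≫ sndA =
    (yon S).map (zMap sR (Algebra.TensorProduct.includeRight : A →ₐ[R] B ⊗[R] A)) :=
  sqA.lift_snd _ _ _

theorem isPullback_chart : IsPullback (chart sR q c hc sqA)
    ((yon S).map (zMap sR (Algebra.TensorProduct.includeLeft : B →ₐ[R] B ⊗[R] A))) fstA c := by
  refine IsPullback.of_right ?_ (chart_fst sR q c hc sqA) sqA.flip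
  rw [chart_snd, hc]
  exact ((isPullback_tensor sR B A).map (yon S)).flip

theorem repWith_etale_chart (hce : RepWith @Etale c) : RepWith @Etale (chart sR q c hc sqA) :=
  MorphismProperty.of_isPullback (isPullback_chart sR q c hc sqA).flip hce

theorem repWith_surjective_chart (hcs : RepWith @Surjective c) :
    RepWith @Surjective (chart sR q c hc sqA) :=
  MorphismProperty.of_isPullback (isPullback_chart sR q c hc sqA).flip hcs

end Chart

section Trans

variable {A : Type u} [CommRing A] [Algebra R A] {XA : Sp S} {fstA : XA ⟶ X₀}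
  {sndA : XA ⟶ (yon S).obj (ZA sR A)} (sqA : IsPullback fstA sndA q ((yon S).map (gA sR A)))
  {T : Type u} [CommRing T] [Algebra R T] {XT : Sp S} {fstT : XT ⟶ X₀}
  {sndT : XT ⟶ (yon S).obj (ZA sR T)} (sqT : IsPullback fstT sndT q ((yon S).map (gA sR T)))
  (φ : A →ₐ[R] T)

/-- The transition morphism `X_T ⟶ X_A` induced by `A → T`. -/
noncomputable def trans : XT ⟶ XA :=
  sqA.lift fstT (sndT ≫ (yon S).map (zMap sR φ)) (by
    rw [sqT.w, Category.assoc, ← Functor.map_comp, zMap_gA])

theorem trans_fst : trans sR q sqA sqT φ ≫ fstA = fstT := sqA.lift_fst _ _ _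

theorem trans_snd : trans sR q sqA sqT φ ≫ sndA = sndT ≫ (yon S).map (zMap sR φ) :=
  sqA.lift_snd _ _ _

theorem chart_trans : chart sR q c hc sqT ≫ trans sR q sqA sqT φ =
    (yon S).map (zMap sR (Algebra.TensorProduct.map (AlgHom.id R B) φ)) ≫ chart sR q c hc sqA := by
  apply sqA.hom_ext
  · rw [Category.assoc, trans_fst, chart_fst, Category.assoc, chart_fst, ← Category.assoc,
      ← Functor.map_comp, ← zMap_comp]
    congr 3
    ext b
    simp
  · rw [Category.assoc, trans_snd, ← Category.assoc, chart_snd, Category.assoc, chart_snd,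
      ← Functor.map_comp, ← Functor.map_comp, ← zMap_comp, ← zMap_comp]
    congr 2

theorem isPullback_chart_trans :
    IsPullback ((yon S).map (zMap sR (Algebra.TensorProduct.map (AlgHom.id R B) φ)))
      (chart sR q c hc sqT) (chart sR q c hc sqA) (trans sR q sqA sqT φ) := by
  refine IsPullback.of_right ?_ (chart_trans sR q c hc sqA sqT φ).symm
    (isPullback_chart sR q c hc sqA).flip
  rw [trans_fst]
  have h1 : (yon S).map (zMap sR (Algebra.TensorProduct.map (AlgHom.id R B) φ)) ≫
      (yon S).map (zMap sR (Algebra.TensorProduct.includeLeft : B →ₐ[R] B ⊗[R] A)) =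
      (yon S).map (zMap sR (Algebra.TensorProduct.includeLeft : B →ₐ[R] B ⊗[R] T)) := by
    rw [← Functor.map_comp, ← zMap_comp]
    congr 2
    ext b
    simp
  rw [h1]
  exact (isPullback_chart sR q c hc sqT).flip

end Trans

end Groth.Agent.H52.UC

namespace Groth.Agent.H52.UC

variable {S : Scheme.{u}} {R : Type u} [CommRing R] (sR : Spec (CommRingCat.of R) ⟶ S)
  {X₀ : Sp S} (q : X₀ ⟶ (yon S).obj (Over.mk sR))
  {B : Type u} [CommRing B] [Algebra R B] (c : (yon S).obj (ZA sR B) ⟶ X₀)
  (hc : c ≫ q = (yon S).map (gA sR B))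

/-- The map on points of `X_A ⟶ h_{Spec A}`, with values in the prime spectrum. -/
noncomputable def sndPt {A : Type u} [CommRing A] [Algebra R A] {XA : Sp S}
    (sndA : XA ⟶ (yon S).obj (ZA sR A)) : Points XA → PrimeSpectrum A :=
  fun z => Points.toScheme (ZA sR A) (Points.map sndA z)

theorem isClosedMap_points_map_of_sndPt {A : Type u} [CommRing A] [Algebra R A] {XA : Sp S}
    (sndA : XA ⟶ (yon S).obj (ZA sR A)) (h : IsClosedMap (sndPt sR sndA)) :
    IsClosedMap (Points.map sndA) := by
  have : Points.map sndA = (Points.schemeHomeo (ZA sR A)) ∘ sndPt sR sndA := by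
    funext z
    exact (Points.ofScheme_toScheme (ZA sR A) (Points.map sndA z)).symm
  rw [this]
  exact (Points.schemeHomeo (ZA sR A)).isClosedMap.comp h

theorem isClosedMap_sndPt_of_points_map {A : Type u} [CommRing A] [Algebra R A] {XA : Sp S}
    (sndA : XA ⟶ (yon S).obj (ZA sR A)) (h : IsClosedMap (Points.map sndA)) :
    IsClosedMap (sndPt sR sndA) :=
  (Points.schemeHomeo (ZA sR A)).symm.isClosedMap.comp h

end Groth.Agent.H52.UC

namespace Groth.Agent.H52.UC

variable {S : Scheme.{u}} {R : Type u} [CommRing R] (sR : Spec (CommRingCat.of R) ⟶ S)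
  {X₀ : Sp S} (q : X₀ ⟶ (yon S).obj (Over.mk sR))
  {B : Type u} [CommRing B] [Algebra R B] (c : (yon S).obj (ZA sR B) ⟶ X₀)
  (hc : c ≫ q = (yon S).map (gA sR B))

theorem toScheme_map_yon_map_zMap {A A' : Type u} [CommRing A] [Algebra R A] [CommRing A']
    [Algebra R A'] (φ : A →ₐ[R] A') (x : Points ((yon S).obj (ZA sR A'))) :
    (Points.toScheme (ZA sR A) (Points.map ((yon S).map (zMap sR φ)) x) : PrimeSpectrum A) =
      PrimeSpectrum.comap φ.toRingHom (Points.toScheme (ZA sR A') x) := by
  obtain ⟨t, rfl⟩ := Groth.Agent.Lib.Helper54.exists_ofScheme_eq _ x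
  rw [← Points.ofPt_eq_map_ofScheme, Groth.Agent.H53.FibrePts.ofPt_yon_map,
    Points.toScheme_ofScheme, Points.toScheme_ofScheme]
  rfl

theorem sndPt_ofPt_chart {A : Type u} [CommRing A] [Algebra R A] {XA : Sp S} {fstA : XA ⟶ X₀}
    {sndA : XA ⟶ (yon S).obj (ZA sR A)} (sqA : IsPullback fstA sndA q ((yon S).map (gA sR A)))
    (v : PrimeSpectrum (B ⊗[R] A)) :
    sndPt sR sndA (Points.ofPt (chart sR q c hc sqA) v) = PrimeSpectrum.comap
      (Algebra.TensorProduct.includeRight : A →ₐ[R] B ⊗[R] A).toRingHom v := by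
  unfold sndPt
  rw [Points.map_ofPt, chart_snd, Groth.Agent.H53.FibrePts.ofPt_yon_map, Points.toScheme_ofScheme]
  rfl

end Groth.Agent.H52.UC

namespace Groth.Agent.H52.UC

variable {S : Scheme.{u}} {R : Type u} [CommRing R] (sR : Spec (CommRingCat.of R) ⟶ S)
  {X₀ : Sp S} (q : X₀ ⟶ (yon S).obj (Over.mk sR))
  {B : Type u} [CommRing B] [Algebra R B] (c : (yon S).obj (ZA sR B) ⟶ X₀)
  (hc : c ≫ q = (yon S).map (gA sR B))

include hc in
/-- The limit argument: if all base changes of `q` to spectra of finite type `R`-algebras are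
closed, then so are the base changes to spectra of arbitrary `R`-algebras. -/
theorem isClosedMap_points_snd_of_finiteType (hce : RepWith @Etale c)
    (hcs : RepWith @Surjective c)
    (Hft : ∀ (A : Type u) [CommRing A] [Algebra R A] [Algebra.FiniteType R A] (XA : Sp S)
      (fstA : XA ⟶ X₀) (sndA : XA ⟶ (yon S).obj (ZA sR A)),
      IsPullback fstA sndA q ((yon S).map (gA sR A)) → IsClosedMap (Points.map sndA))
    {T : Type u} [CommRing T] [Algebra R T] {XT : Sp S} {fstT : XT ⟶ X₀}
    {sndT : XT ⟶ (yon S).obj (ZA sR T)} (sqT : IsPullback fstT sndT q ((yon S).map (gA sR T))) :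
    IsClosedMap (Points.map sndT) := by
  apply isClosedMap_points_map_of_sndPt
  refine isClosedMap_of_fg_approx (R := R) (B := B) (T := T) (sndPt sR sndT)
    (Points.ofPt (chart sR q c hc sqT)) (Points.continuous_ofPt _)
    (sndPt_ofPt_chart sR q c hc sqT) ?_
  intro A hAfg
  haveI : Algebra.FiniteType R A := (Subalgebra.fg_iff_finiteType A).mp hAfg
  have sqA := IsPullback.of_hasPullback q ((yon S).map (gA sR A))
  refine ⟨Points (pullback q ((yon S).map (gA sR A))), inferInstance,
    sndPt sR (pullback.snd q ((yon S).map (gA sR A))), Points.ofPt (chart sR q c hc sqA),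
    Points.map (trans sR q sqA sqT A.val), ?_, Points.continuous_ofPt _,
    isOpenMap_ofPt_of_etale _ (repWith_etale_chart sR q c hc sqA hce), ?_,
    sndPt_ofPt_chart sR q c hc sqA, ?_, ?_⟩
  · exact isClosedMap_sndPt_of_points_map sR _ (Hft A _ _ _ sqA)
  · intro y
    obtain ⟨w, hw⟩ := surjective_points_of_repWith_surjective _
      (repWith_surjective_chart sR q c hc sqA hcs) y
    obtain ⟨v, rfl⟩ := Groth.Agent.Lib.Helper54.exists_ofScheme_eq _ w
    exact ⟨v, by rw [Points.ofPt_eq_map_ofScheme]; exact hw⟩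
  · intro z
    unfold sndPt
    rw [← Points.map_comp, trans_snd, Points.map_comp]
    exact toScheme_map_yon_map_zMap sR A.val _
  · intro w z hwz
    obtain ⟨p, hp1, hp2⟩ := exists_point_of_isPullback
      (isPullback_chart_trans sR q c hc sqA sqT A.val) (Points.ofScheme _ w) z
      (by rw [← Points.ofPt_eq_map_ofScheme]; exact hwz)
    obtain ⟨v, rfl⟩ := Groth.Agent.Lib.Helper54.exists_ofScheme_eq _ p
    refine ⟨v, ?_, by rw [Points.ofPt_eq_map_ofScheme]; exact hp2⟩
    have h1 := toScheme_map_yon_map_zMap sR (Algebra.TensorProduct.map (AlgHom.id R B) A.val)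
      (Points.ofScheme _ v)
    rw [hp1, Points.toScheme_ofScheme, Points.toScheme_ofScheme] at h1
    exact h1.symm

end Groth.Agent.H52.UC
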